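import Cfsg.Agent.H893.EP.GeoL_m3
import Cfsg.Prelude.Def_GeometricClasses
import Cfsg.Agent.H571.EP.OmC3Q_m3
import Cfsg.Agent.H180.LElSpFinal
import Cfsg.Agent.H419.EP.Targets_m3
import Cfsg.Agent.H528.EP.UB3_m3
import Cfsg.Agent.H412.AltIndex
import Cfsg.Agent.H737.EPO.RelOne_m3
import Mathlib
import Cfsg.Agent.KFacts.ChevTwoSysInst
import Cfsg.Agent.KFacts.RgdFiltChev
import Cfsg.Agent.KFacts.RgdSyl
import Cfsg.Agent.Involutions.BaerSuzuki
import Cfsg.Agent.Lib.Cores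
import Cfsg.Agent.H209.EPX.Defs_m3
import Cfsg.Agent.H286.CS.PTor
import Cfsg.Agent.H803.RowOmega
import Cfsg.Agent.S0293
import Cfsg.Agent.S1082
import Cfsg.Agent.H286.CS.PCo
import Cfsg.Agent.H957.Bridge
import Cfsg.Agent.S0296
import Cfsg.Agent.OddHalf.MM.Main_m3
import Cfsg.Agent.H957.EP.RowSixUB_m3
import Cfsg.Agent.H882.Del.M11Grp
import Cfsg.Agent.H887.DS.SixFive
import Cfsg.Agent.KFacts.RgdFixU
import Cfsg.Agent.S0249
import Cfsg.Agent.Lib.FinFast
import Cfsg.Agent.H876.D3.Main5_m3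
import Cfsg.Agent.KFacts.RgdEx
import Cfsg.Agent.S0827
import Cfsg.Agent.S0277
import Cfsg.Agent.LieClassical.GUOrder
import Cfsg.Prelude.Def_LieClassical
import Cfsg.Agent.H18.USix
import Cfsg.Agent.ClassicalGeometry.PSUAutBasic
import Cfsg.Agent.Nodes.CardWitt
import Cfsg.Agent.KFacts.RgdFiltClass
import Cfsg.Agent.H769.Kaw.Main
import Cfsg.Agent.S0280
import Cfsg.Agent.S0283
import Cfsg.Agent.LieClassical.FieldTransfer
import Cfsg.Agent.H59.EP.Count
import Cfsg.Agent.Schreier.ChevIso_m3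
import Cfsg.Agent.H59.EP.UBGen
import Cfsg.Agent.H680.Cov.SU6.Res_m3
import Cfsg.Agent.H852.NCPsl11_m3
import Cfsg.Agent.H243.EP.OwnNum_m3
import Cfsg.Agent.DS.Cl.Grp
import Cfsg.Agent.FastGrp
import Cfsg.Agent.Prune
set_option linter.all false

section
prune_inst 0x7ffcacf8abb829dedfff7e77a6d0cffc19901fffa4dff94b7fe061ff0bdf030009c5238d09e010fe0ed6401410a87803f97eca3fe06bdc7ffffd5ff41ffbee0fa5e6b508519488340fb40ff603f0778e7f3fffffffffffffffffffffffffffbeffbdffffffff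

-- part: H84/EP/RowSp6_mg
section
prune_inst 0x110031040540120000008580f1001e00a60004b00008080080000040048084200d802060b00001020a00000540390028024c00a00000000000000000011901801000000081480100800098000000000000000000000000000000000000000000000000000
set_option linter.all false
open scoped Cfsg.Agent.FastGrp

-- part: H84/EP/Frame
section
/-!
# S3499, `Sp₆(2)` : the frame (helper84)

`exists_frame` : a faithful representation of `Sp₆(2)` of degree 7 in characteristic `≠ 2` has a frame `v 0, …, v 6`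
with `tr (pt j) v i = ± v i`, the sign is `+` iff `i = j`.
-/

set_option autoImplicit false

namespace Cfsg.Agent.H84.EP

open Cfsg Matrix Cfsg.Agent.SporRec.TwoSp6.Sp
open scoped MatrixGroups

theorem tr_inj {u w : V} (hu : u ≠ 0) (h : tr u = tr w) : u = w := by
  obtain ⟨x, hx⟩ := exists_om_one hu
  rw [om_symm] at hx
  have h1 := congrArg (fun g => act g x) h
  simp only [act_tr] at h1
  rw [hx, one_smul] at h1
  have h2 : u = om x w • w := add_left_cancel h1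
  rcases om_cases x w with h3 | h3
  · rw [h3, zero_smul] at h2
    exact absurd h2 hu
  · rwa [h3, one_smul] at h2

theorem tr_line : tr (pt 0) * (tr (pt 1) * tr (pt 2)) ≠ 1 := by
  intro h
  have h1 : ∀ x, act (tr (pt 0)) (act (tr (pt 1)) (act (tr (pt 2)) x)) = x := by
    intro x
    rw [← act_mul, ← act_mul, mul_assoc, h, act_one]
  simp only [act_tr] at h1
  revert h1
  decide +kernel

theorem tr_ne (i : Fin 7) : tr (pt i) ≠ 1 := by
  intro h
  obtain ⟨x, hx⟩ := exists_om_one (pt_ne i)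
  rw [om_symm] at hx
  have h1 := congrArg (fun g => act g x) h
  simp only [act_tr, act_one] at h1
  rw [hx, one_smul] at h1
  exact pt_ne i (add_eq_left.1 h1)

theorem tr_mul_of {g : S} {i j : Fin 7} (h : act g (pt i) = pt j) : tr (pt j) * g = g * tr (pt i) := by
  rw [← h, ← conj_tr, inv_mul_cancel_right]

/-- signs -/
def sg (F : Type*) [Field F] (b : Bool) : F := if b then -1 else 1

section frame

variable {F : Type*} [Field F] {ι : Type} [Fintype ι] [DecidableEq ι]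

theorem sg_xor (a b : Bool) : sg F (xor a b) = sg F a * sg F b := by
  cases a <;> cases b <;> simp [sg]

theorem sg_mul_self (a : Bool) : sg F a * sg F a = 1 := by
  cases a <;> simp [sg]

theorem neg_one_ne (h2 : (2 : F) ≠ 0) : (-1 : F) ≠ 1 := by
  intro h
  apply h2
  linear_combination -h

theorem sg_inj (h2 : (2 : F) ≠ 0) {a b : Bool} (h : sg F a = sg F b) : a = b := by
  cases a <;> cases b
  · rfl
  · exact absurd h.symm (neg_one_ne h2)
  · exact absurd h (neg_one_ne h2)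
  · rfl

theorem sg_mul_ne {a b : Bool} (h : a ≠ b) : sg F a * sg F b = -1 := by
  cases a <;> cases b <;> simp [sg] at h ⊢

/-- the action on vectors -/
def av (g : GL ι F) (v : ι → F) : ι → F := (g : Matrix ι ι F) *ᵥ v

theorem av_mul (g h : GL ι F) (v : ι → F) : av (g * h) v = av g (av h v) := by
  unfold av
  rw [Units.val_mul, Matrix.mulVec_mulVec]

theorem av_one (v : ι → F) : av (1 : GL ι F) v = v := by
  unfold av
  rw [Units.val_one, Matrix.one_mulVec]

theorem av_add (g : GL ι F) (u v : ι → F) : av g (u + v) = av g u + av g v := Matrix.mulVec_add _ _ _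

theorem av_sub (g : GL ι F) (u v : ι → F) : av g (u - v) = av g u - av g v := Matrix.mulVec_sub _ _ _

theorem av_smul (g : GL ι F) (c : F) (v : ι → F) : av g (c • v) = c • av g v := Matrix.mulVec_smul _ _ _

theorem av_zero (g : GL ι F) : av g 0 = 0 := Matrix.mulVec_zero _

theorem av_inv_av (g : GL ι F) (v : ι → F) : av g⁻¹ (av g v) = v := by
  rw [← av_mul, inv_mul_cancel, av_one]

theorem av_inj (g : GL ι F) {u v : ι → F} (h : av g u = av g v) : u = v := by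
  rw [← av_inv_av g u, h, av_inv_av]

theorem av_ne (g : GL ι F) {v : ι → F} (h : v ≠ 0) : av g v ≠ 0 := by
  intro h0
  apply h
  apply av_inj g
  rw [h0, av_zero]

theorem av_ext {g h : GL ι F} (H : ∀ v, av g v = av h v) : g = h := by
  apply Units.ext
  exact Matrix.ext_of_mulVec_single fun i => H _

variable (ρ : S →* GL ι F)

/-- `v` has weight `ε` -/
def Wt (ε : Fin 7 → Bool) (v : ι → F) : Prop := ∀ i, av (ρ (tr (pt i))) v = sg F (ε i) • v

variable {ρ}

theorem wt_ya {ε : Fin 7 → Bool} {v : ι → F} (h : Wt ρ ε v) : Wt ρ (ε ∘ yp) (av (ρ ya⁻¹) v) := by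
  intro i
  have h1 : act ya⁻¹ (pt (yp i)) = pt i := by rw [← act_ya, ← act_mul, inv_mul_cancel, act_one]
  rw [← av_mul, ← map_mul, tr_mul_of h1, map_mul, av_mul, h, av_smul]
  rfl

theorem wt_iter {ε : Fin 7 → Bool} {v : ι → F} (h : Wt ρ ε v) (n : ℕ) : Wt ρ (ε ∘ yp^[n]) (av (ρ (ya⁻¹ ^ n)) v) := by
  induction n with
  | zero =>
    rw [pow_zero, map_one, av_one]
    exact h
  | succ n ih =>
    have h1 := wt_ya ih
    rw [← av_mul, ← map_mul, ← pow_succ'] at h1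
    exact h1

theorem wt_ga {ε : Fin 7 → Bool} {v : ι → F} (h : Wt ρ ε v) (k : Fin 3) : Wt ρ (ε ∘ gp k) (av (ρ (ga k)) v) := by
  intro i
  have h1 : act (ga k) (pt (gp k i)) = pt i := by rw [act_ga, gp_inv]
  rw [← av_mul, ← map_mul, tr_mul_of h1, map_mul, av_mul, h, av_smul]
  rfl

theorem tt_sq (i : Fin 7) (v : ι → F) : av (ρ (tr (pt i))) (av (ρ (tr (pt i))) v) = v := by
  rw [← av_mul, ← map_mul, tr_sq, map_one, av_one]

theorem tt_comm (i j : Fin 7) (v : ι → F) :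
    av (ρ (tr (pt i))) (av (ρ (tr (pt j))) v) = av (ρ (tr (pt j))) (av (ρ (tr (pt i))) v) := by
  rw [← av_mul, ← av_mul, ← map_mul, ← map_mul, tr_comm (om_pt i j)]

/-- a weight vector -/
theorem exists_wt (hρ : Function.Injective ρ) : ∃ v : ι → F, v ≠ 0 ∧ ∃ ε : Fin 7 → Bool, ε 0 = true ∧ Wt ρ ε v := by
  have key : ∀ n : ℕ, ∃ w : ι → F, w ≠ 0 ∧ av (ρ (tr (pt 0))) w = -w ∧
      ∀ i : Fin 7, i.val < n → ∃ b, av (ρ (tr (pt i))) w = sg F b • w := by
    intro n
    induction n with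
    | zero =>
      have h1 : ρ (tr (pt 0)) ≠ 1 := by
        intro h
        exact tr_ne 0 (hρ (by rw [h, map_one]))
      obtain ⟨u, hu⟩ : ∃ u, av (ρ (tr (pt 0))) u ≠ u := by
        by_contra hcon
        push Not at hcon
        exact h1 (av_ext fun v => by rw [hcon, av_one])
      refine ⟨u - av (ρ (tr (pt 0))) u, sub_ne_zero.2 hu.symm, ?_, fun i hi => absurd hi (Nat.not_lt_zero _)⟩
      rw [av_sub, tt_sq, neg_sub]
    | succ n ih =>
      obtain ⟨w, hw, h0, hi⟩ := ih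
      by_cases hn : n < 7
      · by_cases h1 : av (ρ (tr (pt ⟨n, hn⟩))) w = -w
        · refine ⟨w, hw, h0, fun i hin => ?_⟩
          rcases Nat.lt_succ_iff_lt_or_eq.1 hin with h2 | h2
          · exact hi i h2
          · have h3 : i = ⟨n, hn⟩ := Fin.ext h2
            rw [h3]
            exact ⟨true, by rw [h1]; simp [sg]⟩
        · refine ⟨w + av (ρ (tr (pt ⟨n, hn⟩))) w, ?_, ?_, fun i hin => ?_⟩
          · intro h2
            exact h1 (eq_neg_of_add_eq_zero_right h2)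
          · rw [av_add, tt_comm, h0, neg_add]
            congr 1
            rw [← neg_one_smul F w, av_smul, neg_one_smul]
          · rcases Nat.lt_succ_iff_lt_or_eq.1 hin with h2 | h2
            · obtain ⟨b, hb⟩ := hi i h2
              refine ⟨b, ?_⟩
              rw [av_add, tt_comm, hb, av_smul, smul_add]
            · have h3 : i = ⟨n, hn⟩ := Fin.ext h2
              rw [h3]
              refine ⟨false, ?_⟩
              rw [av_add, tt_sq, add_comm]
              simp [sg]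
      · exact ⟨w, hw, h0, fun i _ => hi i (by omega)⟩
  obtain ⟨w, hw, h0, hi⟩ := key 7
  choose ε hε using fun i : Fin 7 => hi i i.2
  refine ⟨w, hw, fun i => if i = 0 then true else ε i, by simp, fun i => ?_⟩
  by_cases h : i = 0
  · rw [h, h0]
    simp [sg]
  · simp only [if_neg h]
    exact hε i

/-- the parity of a weight -/
theorem wt_par (h2 : (2 : F) ≠ 0) {ε : Fin 7 → Bool} {v : ι → F} (hv : v ≠ 0) (h : Wt ρ ε v) : par ε = false := by
  have h1 := congrArg (fun g => av (ρ g) v) fano_prod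
  have h3 : av (ρ ((fano.map fun c => tr (enc c)).prod)) v = sg F (par ε) • v := by
    have e : (fano.map fun c => tr (enc c)).prod =
        tr (pt 6) * (tr (pt 2) * (tr (pt 4) * (tr (pt 5) * (tr (pt 0) * (tr (pt 1) * tr (pt 3)))))) := by
      simp [fano, pt]
    rw [e]
    simp only [map_mul, av_mul, h _, av_smul, smul_smul]
    congr 1
    unfold par
    simp only [sg_xor]
    ring
  simp only [h3, map_one, av_one] at h1
  have h4 : sg F (par ε) = 1 := by
    have : (sg F (par ε) - 1) • v = 0 := by rw [sub_smul, h1, one_smul, sub_self]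
    rcases smul_eq_zero.1 this with h5 | h5
    · exact sub_eq_zero.1 h5
    · exact absurd h5 hv
  exact sg_inj h2 (b := false) (by rw [h4]; simp [sg])

variable (ρ) in
/-- the projections -/
def prj (ε : Fin 7 → Bool) : Matrix ι ι F :=
  ((List.finRange 7).map fun i => 1 + sg F (ε i) • ((ρ (tr (pt i)) : GL ι F) : Matrix ι ι F)).prod

theorem prj_wt (ε : Fin 7 → Bool) {μ : Fin 7 → Bool} {u : ι → F} (h : Wt ρ μ u) :
    prj ρ ε *ᵥ u = ((List.finRange 7).map fun i => 1 + sg F (ε i) * sg F (μ i)).prod • u := by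
  unfold prj
  generalize List.finRange 7 = l
  induction l with
  | nil => simp
  | cons a l ih =>
    rw [List.map_cons, List.prod_cons, List.map_cons, List.prod_cons, ← Matrix.mulVec_mulVec, ih, Matrix.mulVec_smul,
      Matrix.add_mulVec, Matrix.one_mulVec, Matrix.smul_mulVec]
    have h1 : ((ρ (tr (pt a)) : GL ι F) : Matrix ι ι F) *ᵥ u = sg F (μ a) • u := h a
    rw [h1]
    module

theorem prj_self {ε : Fin 7 → Bool} {u : ι → F} (h : Wt ρ ε u) : prj ρ ε *ᵥ u = (2 ^ 7 : F) • u := by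
  rw [prj_wt ε h]
  congr 1
  have : (fun i : Fin 7 => 1 + sg F (ε i) * sg F (ε i)) = fun _ => (2 : F) := by
    funext i
    rw [sg_mul_self]
    norm_num
  rw [this]
  simp
  ring

theorem prj_ne {ε μ : Fin 7 → Bool} {u : ι → F} (h : Wt ρ μ u) (hne : ε ≠ μ) : prj ρ ε *ᵥ u = 0 := by
  rw [prj_wt ε h]
  obtain ⟨i, hi⟩ := Function.ne_iff.1 hne
  have h1 : ((List.finRange 7).map fun i => 1 + sg F (ε i) * sg F (μ i)).prod = 0 := by
    rw [List.prod_eq_zero_iff, List.mem_map]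
    exact ⟨i, List.mem_finRange i, by rw [sg_mul_ne hi, add_neg_cancel]⟩
  rw [h1, zero_smul]

/-- vectors of distinct weights are independent -/
theorem li_of_wt (h2 : (2 : F) ≠ 0) {u : Fin 7 → (ι → F)} {μ : Fin 7 → Fin 7 → Bool} (hu : ∀ j, u j ≠ 0)
    (hw : ∀ j, Wt ρ (μ j) (u j)) (hμ : Function.Injective μ) : LinearIndependent F u := by
  rw [Fintype.linearIndependent_iff]
  intro c hc j
  have h1 := congrArg (fun w => prj ρ (μ j) *ᵥ w) hc
  simp only [Matrix.mulVec_zero] at h1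
  rw [Matrix.mulVec_sum, Finset.sum_eq_single j] at h1
  · rw [Matrix.mulVec_smul, prj_self (hw j), smul_smul] at h1
    rcases smul_eq_zero.1 h1 with h3 | h3
    · rcases mul_eq_zero.1 h3 with h4 | h4
      · exact h4
      · exact absurd h4 (pow_ne_zero _ h2)
    · exact absurd h3 (hu j)
  · intro k _ hk
    rw [Matrix.mulVec_smul, prj_ne (hw k) (fun h => hk (hμ h).symm), smul_zero]
  · intro h
    exact absurd (Finset.mem_univ j) h

omit [DecidableEq ι] in
/-- the span of 7 independent vectors -/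
theorem span_of_li (hι : Fintype.card ι = 7) {u : Fin 7 → (ι → F)} (hu : LinearIndependent F u) :
    Submodule.span F (Set.range u) = ⊤ := by
  apply hu.span_eq_top_of_card_eq_finrank'
  rw [Fintype.card_fin, Module.finrank_fintype_fun_eq_card, hι]

/-- **the frame** -/
theorem exists_frame (h2 : (2 : F) ≠ 0) (hρ : Function.Injective ρ) (hι : Fintype.card ι = 7) :
    ∃ v : Fin 7 → (ι → F), LinearIndependent F v ∧ (∀ i, Wt ρ (fun j => !decide (j = i)) (v i)) ∧
      ∃ (w : ι → F) (h : Fin 7 → S), ∀ i, v i = av (ρ (h i)) w := by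
  obtain ⟨v0, hv0, ε, hε0, hε⟩ := exists_wt hρ
  have hpar := wt_par h2 hv0 hε
  let W : Fin 7 → (ι → F) := fun j => av (ρ (ya⁻¹ ^ j.val)) v0
  have hW0 : ∀ j, W j ≠ 0 := fun j => av_ne _ hv0
  have hWw : ∀ j : Fin 7, Wt ρ (ε ∘ yp^[j.val]) (W j) := fun j => wt_iter hε j.val
  have hWli : LinearIndependent F W := li_of_wt h2 hW0 hWw (by
    intro j j' hj
    exact comb1 ε hε0 hpar j j' fun i => congrFun hj i)
  have hspan := span_of_li hι hWli
  -- every weight occurs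
  have hall : ∀ (μ : Fin 7 → Bool) (u : ι → F), u ≠ 0 → Wt ρ μ u → ∃ j : Fin 7, μ = ε ∘ yp^[j.val] := by
    intro μ u hu hμ
    by_contra hcon
    push Not at hcon
    have h1 : ∀ w : ι → F, prj ρ μ *ᵥ w = 0 := by
      intro w
      have hw : w ∈ Submodule.span F (Set.range W) := by rw [hspan]; trivial
      induction hw using Submodule.span_induction with
      | mem x hx =>
        obtain ⟨j, rfl⟩ := hx
        exact prj_ne (hWw j) (hcon j)
      | zero => exact Matrix.mulVec_zero _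
      | add x y _ _ hx hy => rw [Matrix.mulVec_add, hx, hy, add_zero]
      | smul c x _ hx => rw [Matrix.mulVec_smul, hx, smul_zero]
    have h3 := h1 u
    rw [prj_self hμ] at h3
    rcases smul_eq_zero.1 h3 with h4 | h4
    · exact absurd h4 (pow_ne_zero _ h2)
    · exact hu h4
  rcases comb2 ε hε0 hpar (by
    intro k j
    obtain ⟨j', hj'⟩ := hall _ _ (av_ne _ (hW0 j)) (wt_ga (hWw j) k)
    exact ⟨j', fun i => congrFun hj' i⟩) with ⟨i0, hi0⟩ | hline
  · choose n hn using comb3 i0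
    have hvw : ∀ i, Wt ρ (fun j => !decide (j = i)) (W (n i)) := by
      intro i
      have h1 : (fun j => !decide (j = i)) = ε ∘ yp^[(n i).val] := by
        funext j
        show _ = ε (yp^[(n i).val] j)
        rw [hi0]
        congr 1
        rw [decide_eq_decide]
        constructor
        · rintro rfl
          exact hn j
        · intro h
          exact yp_iter_inj _ (h.trans (hn i).symm)
      rw [h1]
      exact hWw (n i)
    refine ⟨fun i => W (n i), li_of_wt h2 (fun i => hW0 _) hvw ?_, hvw, v0, fun i => ya⁻¹ ^ (n i).val, fun i => rfl⟩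
    intro i j hij
    have h1 := congrFun hij i
    simp at h1
    exact h1
  · exfalso
    apply tr_line
    apply hρ
    rw [map_one]
    have key : ∀ w : ι → F, av (ρ (tr (pt 0) * (tr (pt 1) * tr (pt 2)))) w = w := by
      intro w
      have hw : w ∈ Submodule.span F (Set.range W) := by rw [hspan]; trivial
      induction hw using Submodule.span_induction with
      | mem x hx =>
        obtain ⟨j, rfl⟩ := hx
        simp only [map_mul, av_mul, hWw j _, av_smul, smul_smul]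
        have h3 := hline j
        have h4 : sg F ((ε ∘ yp^[j.val]) 2) * sg F ((ε ∘ yp^[j.val]) 1) * sg F ((ε ∘ yp^[j.val]) 0) = 1 := by
          have h5 := congrArg (sg F) h3
          rw [sg_xor, sg_xor] at h5
          have h6 : sg F false = 1 := by simp [sg]
          rw [h6] at h5
          rw [← h5]
          show sg F (ε (yp^[j.val] 2)) * sg F (ε (yp^[j.val] 1)) * sg F (ε (yp^[j.val] 0)) = _
          ring
        rw [h4, one_smul]
      | zero => exact av_zero _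
      | add x y _ _ hx hy => rw [av_add, hx, hy]
      | smul c x _ hx => rw [av_smul, hx]
    exact av_ext fun w => by rw [key, av_one]

end frame

end Cfsg.Agent.H84.EP
end

-- part: H84/EP/Form
section
/-!
# S3499, `Sp₆(2) < Ω₇(q)` : the element `x` (helper84)

`exists_x` : `x` permutes the frame as a 3-cycle, `x ∈ Ω`, `x ∉ Sp₆(2)`, `x` normalises `D`, and none of the three involutions
`ga k` is in `Sp₆(2)ˣ`.
-/

set_option autoImplicit false

namespace Cfsg.Agent.H84.EP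

open Cfsg Cfsg.Geo Matrix Cfsg.Agent.SporRec.TwoSp6.Sp
open scoped MatrixGroups commutatorElement

section form

variable {F : Type*} [Field F] {ι : Type} [Fintype ι] [DecidableEq ι] {Q : (ι → F) → F} {ρ : S →* GL ι F}

theorem mem_iso {g : GL ι F} : g ∈ isometryGroup F Q ↔ ∀ v, Q (av g v) = Q v := by
  constructor
  · intro h v
    exact h v 0
  · intro h u v
    exact h u

theorem polar_av {g : GL ι F} (hg : g ∈ isometryGroup F Q) (u w : ι → F) :
    QuadraticMap.polar Q (av g u) (av g w) = QuadraticMap.polar Q u w := by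
  unfold QuadraticMap.polar
  rw [← av_add, mem_iso.1 hg, mem_iso.1 hg, mem_iso.1 hg]

omit [Fintype ι] [DecidableEq ι] in
theorem polar_self (hQ : IsNondegenerateQuadraticForm Q) (v : ι → F) : QuadraticMap.polar Q v v = 2 * Q v := by
  unfold QuadraticMap.polar
  have h : v + v = (2 : F) • v := by rw [two_smul]
  rw [h, hQ.smul]
  ring

/-- existence of the permutation matrices in a frame -/
theorem exists_R {v : Fin 7 → (ι → F)} (hli : LinearIndependent F v) (hspan : Submodule.span F (Set.range v) = ⊤)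
    (σ : Equiv.Perm (Fin 7)) : ∃ g : GL ι F, ∀ i, av g (v i) = v (σ i) := by
  let b : Module.Basis (Fin 7) F (ι → F) := Module.Basis.mk hli (by rw [hspan])
  have hb : ∀ i, b i = v i := fun i => Module.Basis.mk_apply _ _ _
  let L : (ι → F) ≃ₗ[F] (ι → F) := b.equiv b σ
  have hL : ∀ i, L (v i) = v (σ i) := by
    intro i
    rw [← hb, ← hb]
    exact Module.Basis.equiv_apply _ _ _ _
  have h1 : LinearMap.toMatrix' L.toLinearMap * LinearMap.toMatrix' L.symm.toLinearMap = 1 := by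
    rw [← LinearMap.toMatrix'_comp, LinearEquiv.comp_coe, L.symm_trans_self]
    exact LinearMap.toMatrix'_id
  have h2 : LinearMap.toMatrix' L.symm.toLinearMap * LinearMap.toMatrix' L.toLinearMap = 1 := by
    rw [← LinearMap.toMatrix'_comp, LinearEquiv.comp_coe, L.self_trans_symm]
    exact LinearMap.toMatrix'_id
  refine ⟨⟨LinearMap.toMatrix' L.toLinearMap, LinearMap.toMatrix' L.symm.toLinearMap, h1, h2⟩, fun i => ?_⟩
  show LinearMap.toMatrix' L.toLinearMap *ᵥ v i = _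
  rw [LinearMap.toMatrix'_mulVec]
  exact hL i

theorem frame_ext {v : Fin 7 → (ι → F)} (hspan : Submodule.span F (Set.range v) = ⊤) {g h : GL ι F}
    (H : ∀ i, av g (v i) = av h (v i)) : g = h := by
  refine av_ext fun w => ?_
  have hw : w ∈ Submodule.span F (Set.range v) := by rw [hspan]; trivial
  induction hw using Submodule.span_induction with
  | mem x hx =>
    obtain ⟨j, rfl⟩ := hx
    exact H j
  | zero => rw [av_zero, av_zero]
  | add x y _ _ hx hy => rw [av_add, av_add, hx, hy]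
  | smul c x _ hx => rw [av_smul, av_smul, hx]

/-- permutation matrices in an orthogonal frame with equal norms are isometries -/
theorem iso_of_perm (h2 : (2 : F) ≠ 0) (hQ : IsNondegenerateQuadraticForm Q) {v : Fin 7 → (ι → F)}
    (hspan : Submodule.span F (Set.range v) = ⊤) (horth : ∀ i j, i ≠ j → QuadraticMap.polar Q (v i) (v j) = 0)
    (hnorm : ∀ i j, Q (v i) = Q (v j)) {g : GL ι F} {σ : Fin 7 → Fin 7} (hσ : Function.Injective σ)
    (hg : ∀ i, av g (v i) = v (σ i)) : g ∈ isometryGroup F Q := by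
  have hB := hQ.polar_bilinear
  have hz : ∀ u, QuadraticMap.polar Q u 0 = 0 := by
    intro u
    have := hB.smul_right 0 u 0
    rwa [zero_smul, zero_mul] at this
  have hz' : ∀ u, QuadraticMap.polar Q 0 u = 0 := by
    intro u
    have := hB.smul_left 0 0 u
    rwa [zero_smul, zero_mul] at this
  have h1 : ∀ i j, QuadraticMap.polar Q (v (σ i)) (v (σ j)) = QuadraticMap.polar Q (v i) (v j) := by
    intro i j
    by_cases hij : i = j
    · rw [hij, polar_self hQ, polar_self hQ, hnorm (σ j) j]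
    · rw [horth i j hij, horth _ _ (fun h => hij (hσ h))]
  have h3 : ∀ i w, QuadraticMap.polar Q (av g (v i)) (av g w) = QuadraticMap.polar Q (v i) w := by
    intro i w
    have hw : w ∈ Submodule.span F (Set.range v) := by rw [hspan]; trivial
    induction hw using Submodule.span_induction with
    | mem x hx =>
      obtain ⟨j, rfl⟩ := hx
      rw [hg, hg, h1]
    | zero => rw [av_zero, hz, hz]
    | add x y _ _ hx hy => rw [av_add, hB.add_right, hB.add_right, hx, hy]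
    | smul c x _ hx => rw [av_smul, hB.smul_right, hB.smul_right, hx]
  have h4 : ∀ u w, QuadraticMap.polar Q (av g u) (av g w) = QuadraticMap.polar Q u w := by
    intro u w
    have hu : u ∈ Submodule.span F (Set.range v) := by rw [hspan]; trivial
    induction hu using Submodule.span_induction with
    | mem x hx =>
      obtain ⟨j, rfl⟩ := hx
      exact h3 j w
    | zero => rw [av_zero, hz', hz']
    | add x y _ _ hx hy => rw [av_add, hB.add_left, hB.add_left, hx, hy]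
    | smul c x _ hx => rw [av_smul, hB.smul_left, hB.smul_left, hx]
  rw [mem_iso]
  intro w
  have h5 := h4 w w
  rw [polar_self hQ, polar_self hQ] at h5
  exact mul_left_cancel₀ h2 h5

/-- permutation matrices permute the `T i` -/
theorem perm_T {v : Fin 7 → (ι → F)} (hspan : Submodule.span F (Set.range v) = ⊤)
    (hw : ∀ i, Wt ρ (fun j => !decide (j = i)) (v i)) {g : GL ι F} {σ : Fin 7 → Fin 7} (hσ : Function.Injective σ)
    (hg : ∀ i, av g (v i) = v (σ i)) (i : Fin 7) : g * ρ (tr (pt i)) = ρ (tr (pt (σ i))) * g := by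
  apply frame_ext hspan
  intro j
  rw [av_mul, av_mul, hw j i, av_smul, hg, hw (σ j) (σ i)]
  congr 2
  simp only [hσ.eq_iff]

theorem lin_of_range {v : Fin 7 → (ι → F)} (hρ : Function.Injective ρ) (hspan : Submodule.span F (Set.range v) = ⊤)
    (hw : ∀ i, Wt ρ (fun j => !decide (j = i)) (v i)) {g : GL ι F} {σ : Fin 7 → Fin 7} (hσ : Function.Injective σ)
    (hg : ∀ i, av g (v i) = v (σ i)) (hr : g ∈ ρ.range) : Lin σ := by
  obtain ⟨s, rfl⟩ := hr
  have h1 : ∀ i, act s (pt i) = pt (σ i) := by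
    intro i
    have h2 := perm_T hspan hw hσ hg i
    rw [← map_mul, ← map_mul] at h2
    have h3 := hρ h2
    have h4 : tr (pt (σ i)) = tr (act s (pt i)) := by
      rw [← conj_tr, h3, mul_inv_cancel_right]
    exact (tr_inj (pt_ne _) h4).symm
  intro i j k hijk
  apply add_pt
  rw [← h1, ← h1, ← h1, ← act_add, pt_add hijk]

/-- monomial elements -/
theorem mono (h2 : (2 : F) ≠ 0) {v : Fin 7 → (ι → F)} (hspan : Submodule.span F (Set.range v) = ⊤)
    (hw : ∀ i, Wt ρ (fun j => !decide (j = i)) (v i)) (hQ : IsNondegenerateQuadraticForm Q)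
    (hiso : ∀ s, ρ s ∈ isometryGroup F Q) (hnorm : ∀ i j, Q (v i) = Q (v j)) (hn0 : ∀ i, Q (v i) ≠ 0) {s : S}
    {σ : Fin 7 → Fin 7} (hs : ∀ i, act s (pt i) = pt (σ i)) :
    ∃ δ : Fin 7 → Bool, ∀ i, av (ρ s) (v i) = sg F (δ i) • v (σ i) := by
  have key : ∀ (i : Fin 7) (u : ι → F), ∃ c : F, u + av (ρ (tr (pt i))) u = c • v i := by
    intro i u
    have hu : u ∈ Submodule.span F (Set.range v) := by rw [hspan]; trivial
    induction hu using Submodule.span_induction with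
    | mem x hx =>
      obtain ⟨j, rfl⟩ := hx
      rw [hw j i]
      by_cases hij : i = j
      · refine ⟨2, ?_⟩
        rw [hij]
        simp [sg, two_smul]
      · refine ⟨0, ?_⟩
        simp [sg, hij]
    | zero => exact ⟨0, by rw [av_zero]; simp⟩
    | add x y _ _ hx hy =>
      obtain ⟨c, hc⟩ := hx
      obtain ⟨d, hd⟩ := hy
      refine ⟨c + d, ?_⟩
      rw [av_add, add_smul, ← hc, ← hd]
      abel
    | smul c x _ hx =>
      obtain ⟨d, hd⟩ := hx
      refine ⟨c * d, ?_⟩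
      rw [av_smul, ← smul_add, hd, smul_smul]
  have h1 : ∀ i, ∃ b : Bool, av (ρ s) (v i) = sg F b • v (σ i) := by
    intro i
    have h3 : av (ρ (tr (pt (σ i)))) (av (ρ s) (v i)) = av (ρ s) (v i) := by
      rw [← av_mul, ← map_mul, tr_mul_of (hs i), map_mul, av_mul, hw i i]
      simp [sg]
    obtain ⟨c, hc⟩ := key (σ i) (av (ρ s) (v i))
    rw [h3] at hc
    have h4 : av (ρ s) (v i) = (c / 2) • v (σ i) := by
      have h5 : (2 : F) • av (ρ s) (v i) = c • v (σ i) := by rw [two_smul, hc]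
      rw [div_eq_inv_mul, ← smul_smul, ← h5, smul_smul, inv_mul_cancel₀ h2, one_smul]
    have h6 : (c / 2) ^ 2 = 1 := by
      have h7 := mem_iso.1 (hiso s) (v i)
      rw [h4, hQ.smul, hnorm (σ i) i] at h7
      have h8 : ((c / 2) ^ 2 - 1) * Q (v i) = 0 := by rw [sub_mul, h7, one_mul, sub_self]
      exact sub_eq_zero.1 ((mul_eq_zero.1 h8).resolve_right (hn0 i))
    rcases mul_self_eq_one_iff.1 ((sq _).symm.trans h6) with h9 | h9
    · exact ⟨false, by rw [h4, h9]; simp [sg]⟩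
    · exact ⟨true, by rw [h4, h9]; simp [sg]⟩
  choose δ hδ using h1
  exact ⟨δ, hδ⟩

theorem prod_finRange {M : Type*} [Monoid M] (f : Fin 7 → M) :
    ((List.finRange 7).map f).prod = f 0 * (f 1 * (f 2 * (f 3 * (f 4 * (f 5 * f 6))))) := by
  show (List.map f [0, 1, 2, 3, 4, 5, 6]).prod = _
  simp

/-- the elements of `D` -/
theorem dd_av {v : Fin 7 → (ι → F)} (hw : ∀ i, Wt ρ (fun j => !decide (j = i)) (v i)) {μ : Fin 7 → Bool}
    (hμ : par μ = false) (j : Fin 7) : av (ρ (dd μ)) (v j) = sg F (μ j) • v j := by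
  have h1 : ∀ l : List (Fin 7), av (ρ (l.map fun i => if μ i then tr (pt i) else 1).prod) (v j) =
      (l.map fun i => sg F (μ i && !decide (i = j))).prod • v j := by
    intro l
    induction l with
    | nil => simp [av_one]
    | cons a l ih =>
      rw [List.map_cons, List.prod_cons, List.map_cons, List.prod_cons, map_mul, av_mul, ih, av_smul]
      cases h : μ a
      · simp only [sg, av_one, _root_.Bool.and_eq_true, _root_.Bool.not_eq_eq_eq_not, _root_.Bool.not_true, _root_.decide_eq_false_iff_not, _root_.Bool.false_eq_true, ↓ _root_.reduceIte, _root_.map_one, _root_.Bool.false_and, _root_.one_mul]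
      · simp only [if_true, Bool.true_and]
        rw [hw j a, smul_smul, mul_comm]
  unfold dd
  rw [h1, prod_finRange]
  congr 1
  rw [← comb5 μ hμ j]
  unfold par
  simp only [sg_xor]

theorem dd_mem {H : Subgroup S} (h : ∀ i, tr (pt i) ∈ H) (μ : Fin 7 → Bool) : dd μ ∈ H := by
  unfold dd
  apply Subgroup.list_prod_mem
  intro x hx
  obtain ⟨i, -, rfl⟩ := List.mem_map.1 hx
  split_ifs
  · exact h i
  · exact H.one_mem

/-- **the element `x`** -/
theorem exists_x (h2 : (2 : F) ≠ 0) (hρ : Function.Injective ρ) (hι : Fintype.card ι = 7)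
    (hQ : IsNondegenerateQuadraticForm Q) (hiso : ∀ s, ρ s ∈ isometryGroup F Q) :
    ∃ x ∈ omegaGL Q, x ∉ ρ.range ∧ (∀ i, x⁻¹ * ρ (tr (pt i)) * x ∈ ρ.range) ∧ ∀ k, x⁻¹ * ρ (ga k) * x ∉ ρ.range := by
  obtain ⟨v, hli, hw, w, h, hvw⟩ := exists_frame h2 hρ hι
  have hspan := span_of_li hι hli
  have hB := hQ.polar_bilinear
  have hnorm : ∀ i j, Q (v i) = Q (v j) := by
    intro i j
    rw [hvw, hvw, mem_iso.1 (hiso _), mem_iso.1 (hiso _)]
  have horth : ∀ i j, i ≠ j → QuadraticMap.polar Q (v i) (v j) = 0 := by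
    intro i j hij
    have h3 := polar_av (hiso (tr (pt i))) (v i) (v j)
    rw [hw i i, hw j i, hB.smul_left, hB.smul_right] at h3
    have h4 : sg F (!decide (i = i)) = 1 := by simp [sg]
    have h5 : sg F (!decide (i = j)) = -1 := by simp [sg, hij]
    rw [h4, h5] at h3
    have h6 : (2 : F) * QuadraticMap.polar Q (v i) (v j) = 0 := by linear_combination -h3
    exact (mul_eq_zero.1 h6).resolve_left h2
  have hn0 : ∀ i, Q (v i) ≠ 0 := by
    intro i h0
    obtain ⟨-, u, hu⟩ := hQ.nondegenerate (v i) (hli.ne_zero i)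
    apply hu
    have hu' : u ∈ Submodule.span F (Set.range v) := by rw [hspan]; trivial
    induction hu' using Submodule.span_induction with
    | mem x hx =>
      obtain ⟨j, rfl⟩ := hx
      by_cases hij : i = j
      · rw [← hij, polar_self hQ, h0, mul_zero]
      · exact horth i j hij
    | zero =>
      have := hB.smul_right 0 (v i) 0
      rwa [zero_smul, zero_mul] at this
    | add x y _ _ hx hy =>
      have h1 : QuadraticMap.polar Q (v i) x = 0 := by
        by_contra hcon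
        exact hcon (hx hcon)
      have h3 : QuadraticMap.polar Q (v i) y = 0 := by
        by_contra hcon
        exact hcon (hy hcon)
      rw [hB.add_right, h1, h3, add_zero]
    | smul c x _ hx =>
      have h1 : QuadraticMap.polar Q (v i) x = 0 := by
        by_contra hcon
        exact hcon (hx hcon)
      rw [hB.smul_right, h1, mul_zero]
  -- the 3-cycle
  obtain ⟨R, hR⟩ := exists_R hli hspan (Equiv.swap 2 4)
  obtain ⟨R', hR'⟩ := exists_R hli hspan (Equiv.swap 2 5)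
  have hRi : R ∈ isometryGroup F Q := iso_of_perm h2 hQ hspan horth hnorm (Equiv.injective _) hR
  have hRi' : R' ∈ isometryGroup F Q := iso_of_perm h2 hQ hspan horth hnorm (Equiv.injective _) hR'
  have hinv : ∀ {g : GL ι F} {σ τ : Fin 7 → Fin 7}, (∀ i, av g (v i) = v (σ i)) → (∀ i, σ (τ i) = i) →
      ∀ i, av g⁻¹ (v i) = v (τ i) := by
    intro g σ τ hg hst i
    apply av_inj g
    rw [← av_mul, mul_inv_cancel, av_one, hg, hst]
  have hRn : ∀ i, av R⁻¹ (v i) = v (Equiv.swap 2 4 i) := hinv hR (by simp)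
  have hRn' : ∀ i, av R'⁻¹ (v i) = v (Equiv.swap 2 5 i) := hinv hR' (by simp)
  set x : GL ι F := ⁅R, R'⁆ with hx
  have hxv : ∀ i, av x (v i) = v (cyc i) := by
    intro i
    rw [hx, commutatorElement_def, av_mul, av_mul, av_mul, hRn', hRn, hR', hR]
    congr 1
    revert i
    decide +kernel
  have hcycinj : Function.Injective cyc := fun a b hab => by
    rw [← cyc_inv.2 a, hab, cyc_inv.2]
  have hcycinj' : Function.Injective cyc' := fun a b hab => by
    rw [← cyc_inv.1 a, hab, cyc_inv.1]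
  have hxv' : ∀ i, av x⁻¹ (v i) = v (cyc' i) := hinv hxv cyc_inv.1
  have hxO : x ∈ omegaGL Q := by
    refine ⟨⁅(⟨R, hRi⟩ : isometryGroup F Q), ⟨R', hRi'⟩⁆, ?_, rfl⟩
    exact Subgroup.commutator_mem_commutator (Subgroup.mem_top _) (Subgroup.mem_top _)
  have hT : ∀ i, x⁻¹ * ρ (tr (pt i)) * x ∈ ρ.range := by
    intro i
    have h3 := perm_T hspan hw hcycinj' hxv' i
    rw [h3, inv_mul_cancel_right]
    exact ⟨_, rfl⟩
  refine ⟨x, hxO, fun hr => not_lin_cyc (lin_of_range hρ hspan hw hcycinj hxv hr), hT, fun k hk => ?_⟩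
  -- the three involutions
  obtain ⟨δ, hδ⟩ := mono h2 hspan hw hQ hiso hnorm hn0 (act_sa k)
  have hpar := comb4 k δ
  set μ : Fin 7 → Bool := fun i => xor (δ i) (δ (sp k i)) with hμ
  have h1 : ∀ i, av (ρ (ga k)) (v i) = sg F (μ i) • v (gp k i) := by
    intro i
    rw [← sa_sq, map_mul, av_mul, hδ, av_smul, hδ, smul_smul, sp_sp, hμ, sg_xor]
  have h3 : ∀ i, av (ρ (dd μ)) (v i) = sg F (μ i) • v i := dd_av hw hpar
  have h4 : x⁻¹ * ρ (dd μ) * x ∈ ρ.range := by
    let K : Subgroup S := (ρ.range.comap (MulAut.conj x⁻¹).toMonoidHom).comap ρ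
    have h5 : ∀ i, tr (pt i) ∈ K := by
      intro i
      show x⁻¹ * ρ (tr (pt i)) * x⁻¹⁻¹ ∈ ρ.range
      rw [inv_inv]
      exact hT i
    have h6 : x⁻¹ * ρ (dd μ) * x⁻¹⁻¹ ∈ ρ.range := dd_mem h5 μ
    rwa [inv_inv] at h6
  have h5 : x⁻¹ * ρ (ga k * dd μ) * x ∈ ρ.range := by
    have h6 : x⁻¹ * ρ (ga k * dd μ) * x = (x⁻¹ * ρ (ga k) * x) * (x⁻¹ * ρ (dd μ) * x) := by
      rw [map_mul]
      group
    rw [h6]
    exact mul_mem hk h4
  have hgpinj : Function.Injective (gp k) := fun a b hab => by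
    rw [← gp_inv k a, hab, gp_inv]
  refine not_lin_conj k (lin_of_range hρ hspan hw (hcycinj'.comp (hgpinj.comp hcycinj)) (fun i => ?_) h5)
  rw [av_mul, av_mul, hxv, map_mul, av_mul, h3, av_smul, h1, smul_smul, sg_mul_self, one_smul, hxv']

end form

end Cfsg.Agent.H84.EP
end

-- part: H84/EP/RowSp6
section
/-!
# S3499, `Ω₇(q)` with stabiliser `Sp₆(2)` (helper84)
-/

set_option autoImplicit false

namespace Cfsg.Agent.H84.EP

open Cfsg Cfsg.Geo Matrix Subgroup Cfsg.Agent.SporRec.TwoSp6.Sp Cfsg.Agent.H284 Cfsg.Agent.H419.EP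
open Cfsg.Agent.H876 (spToGL)
open scoped MatrixGroups commutatorElement

/-- the elements of `Ω` have determinant 1 -/
theorem det_omega {F : Type*} [Field F] {ι : Type} [Fintype ι] [DecidableEq ι] {Q : (ι → F) → F} {g : GL ι F}
    (hg : g ∈ omegaGL Q) : (g : Matrix ι ι F).det = 1 := by
  obtain ⟨g, hg, rfl⟩ := hg
  have h1 := Abelianization.commutator_subset_ker
    ((Matrix.GeneralLinearGroup.det : GL ι F →* Fˣ).comp (isometryGroup F Q).subtype) hg
  exact congrArg Units.val (MonoidHom.mem_ker.1 h1)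

theorem iso_of_omega {F : Type*} [Field F] {ι : Type} [Fintype ι] [DecidableEq ι] {Q : (ι → F) → F} {g : GL ι F}
    (hg : g ∈ omegaGL Q) : g ∈ isometryGroup F Q := by
  obtain ⟨g, -, rfl⟩ := hg
  exact g.2

/-- in odd dimension `Ω` has no scalars -/
theorem scal_omega {F : Type*} [Field F] {ι : Type} [Fintype ι] [DecidableEq ι] {Q : (ι → F) → F}
    (hQ : IsNondegenerateQuadraticForm Q) (hι : Fintype.card ι = 7) {g : GL ι F} (hg : g ∈ omegaGL Q)
    (hs : g ∈ scalars ι F) : g = 1 := by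
  rw [mem_scalars_iff] at hs
  obtain ⟨c, hc⟩ := hs
  have h1 := det_omega hg
  rw [hc, Matrix.det_smul, Matrix.det_one, mul_one, hι] at h1
  have h2 : ∃ v, Q v ≠ 0 := by
    by_contra hcon
    push Not at hcon
    have : Nonempty ι := Fintype.card_pos_iff.1 (by omega)
    obtain ⟨i⟩ := this
    obtain ⟨⟨x, hx⟩, -⟩ := hQ.nondegenerate (Pi.single i 1) (by simp)
    apply hx
    unfold QuadraticMap.polar
    rw [hcon, hcon, hcon]
    simp
  obtain ⟨v, hv⟩ := h2
  have h3 := mem_iso.1 (iso_of_omega hg) v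
  have h4 : av g v = (c : F) • v := by
    unfold av
    rw [hc, Matrix.smul_mulVec, Matrix.one_mulVec]
  rw [h4, hQ.smul] at h3
  have h5 : ((c : F) ^ 2 - 1) * Q v = 0 := by rw [sub_mul, h3, one_mul, sub_self]
  have h6 : (c : F) ^ 2 = 1 := sub_eq_zero.1 ((mul_eq_zero.1 h5).resolve_right hv)
  have h7 : (c : F) = 1 := by
    calc (c : F) = (c : F) ^ 7 := by
          calc (c : F) = ((c : F) ^ 2) ^ 3 * c := by rw [h6]; ring
            _ = (c : F) ^ 7 := by ring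
      _ = 1 := h1
  apply Units.ext
  rw [hc, h7, one_smul]
  rfl

/-- `A` itself is `Sp₆(2)` -/
theorem exists_equiv {Q : Type*} [Group Q] {A : Subgroup Q} (hA : HasSoc A (PSp 3 (ZMod 2))) : Nonempty (S ≃* A) := by
  obtain ⟨N, hNA, hn, hc, ⟨e0⟩⟩ := hA
  have hF : Fintype.card (ZMod 2) = 2 := ZMod.card 2
  let e : N ≃* S := e0.trans (Cfsg.Agent.H180.LEl.pspEquiv hF (m := 3) (by norm_num)).symm
  have hAN : A = N := by
    refine le_antisymm (fun a ha => ?_) hNA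
    have hn' : (N.subgroupOf A).Normal := ⟨by
      rintro ⟨n, hn'⟩ hn1 ⟨a, ha⟩
      exact hn a ha n hn1⟩
    let E : (N.subgroupOf A) ≃* S := (Subgroup.subgroupOfEquivOfLe hNA).trans e
    let φ : MulAut (N.subgroupOf A) := MulAut.conjNormal (⟨a, ha⟩ : A)
    obtain ⟨g, hg⟩ := Cfsg.Agent.H180.LEl.sp_inner hF (m := 3) le_rfl ((E.symm.trans φ).trans E)
    let n : N.subgroupOf A := E.symm g
    have h1 : ∀ y : N.subgroupOf A, φ y = n * y * n⁻¹ := by
      intro y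
      apply E.injective
      have h2 := hg (E y)
      have h3 : E (φ (E.symm (E y))) = g * E y * g⁻¹ := h2
      rw [E.symm_apply_apply] at h3
      rw [h3, map_mul, map_mul, map_inv, E.apply_symm_apply]
    have h2 : (n : A).1⁻¹ * a = 1 := by
      refine hc _ (A.mul_mem (A.inv_mem (n : A).2) ha) fun y hy => ?_
      have h3 := h1 ⟨⟨y, hNA hy⟩, hy⟩
      have h4 : a * y * a⁻¹ = (n : A).1 * y * (n : A).1⁻¹ := by
        have h5 := congrArg (fun z : (N.subgroupOf A) => ((z : A) : Q)) h3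
        simpa only [φ, MulAut.conjNormal_apply, _root_.MulMemClass.mk_mul_mk, _root_.Subgroup.coe_mul, _root_.InvMemClass.coe_inv] using h5
      calc (n : A).1⁻¹ * a * y = (n : A).1⁻¹ * (a * y * a⁻¹) * a := by group
        _ = (n : A).1⁻¹ * ((n : A).1 * y * (n : A).1⁻¹) * a := by rw [h4]
        _ = y * ((n : A).1⁻¹ * a) := by group
    have h3 : a = (n : A).1 := (inv_mul_eq_one.1 h2).symm
    rw [h3]
    exact n.2
  subst hAN
  exact ⟨e.symm⟩

/-- the group `Γ` consists of the inner automorphisms of `A` -/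
theorem exists_conj {Q : Type*} [Group Q] {A : Subgroup Q} {Γ : Subgroup (MulAut Q)} (h : EPT A Γ) (e : S ≃* A)
    {σ : MulAut Q} (hσ : σ ∈ Γ) : ∃ a ∈ A, σ = MulAut.conj a := by
  have hF : Fintype.card (ZMod 2) = 2 := ZMod.card 2
  let φ : A ≃* A :=
    { toFun := fun a => ⟨σ a, (h.inv σ hσ a).2 a.2⟩
      invFun := fun a => ⟨σ⁻¹ a, (h.inv σ⁻¹ (Γ.inv_mem hσ) a).2 a.2⟩
      left_inv := fun a => Subtype.ext (MulAut.inv_apply_self Q σ a)
      right_inv := fun a => Subtype.ext (MulAut.apply_inv_self Q σ a)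
      map_mul' := fun a b => Subtype.ext (map_mul σ _ _) }
  obtain ⟨g, hg⟩ := Cfsg.Agent.H180.LEl.sp_inner hF (m := 3) le_rfl ((e.trans φ).trans e.symm)
  refine ⟨e g, (e g).2, ?_⟩
  have h1 : ∀ a ∈ A, σ a = (e g : Q) * a * (e g : Q)⁻¹ := by
    intro a ha
    have h2 := hg (e.symm ⟨a, ha⟩)
    have h3 : e.symm (φ (e (e.symm ⟨a, ha⟩))) = g * e.symm ⟨a, ha⟩ * g⁻¹ := h2
    rw [e.apply_symm_apply, MulEquiv.symm_apply_eq, map_mul, map_mul, map_inv, e.apply_symm_apply] at h3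
    exact congrArg Subtype.val h3
  have h2 : (MulAut.conj (e g : Q))⁻¹ * σ = 1 := by
    refine h.cent _ (Γ.mul_mem (Γ.inv_mem ((h.conj _).2 (e g).2)) hσ) fun a ha => ?_
    rw [MulAut.mul_apply, h1 a ha, ← MulAut.conj_apply, MulAut.inv_apply_self]
  exact (inv_mul_eq_one.1 h2).symm

theorem sp_inj {s t : S} (h : spToGL 3 (ZMod 2) s = spToGL 3 (ZMod 2) t) : s = t :=
  Subtype.ext (congrArg Units.val h)

/-- the two point stabiliser in `Sp₆(2)` -/
noncomputable def pre {Q : Type*} [Group Q] {A : Subgroup Q} (e : S ≃* A) (x : Q) : Subgroup (GL (Fin 3 ⊕ Fin 3) (ZMod 2)) :=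
  (((cj x A).comap A.subtype).comap e.toMonoidHom).map (spToGL 3 (ZMod 2))

theorem mem_pre {Q : Type*} [Group Q] {A : Subgroup Q} {e : S ≃* A} {x : Q} {s : S} :
    spToGL 3 (ZMod 2) s ∈ pre e x ↔ x⁻¹ * (e s : Q) * x ∈ A := by
  constructor
  · rintro ⟨t, ht, hts⟩
    rw [← sp_inj hts]
    exact mem_cj.1 ht
  · intro hs
    exact ⟨s, mem_cj.2 hs, rfl⟩

/-- the two point stabiliser is maximal in `Sp₆(2)` -/
theorem isMax {Q : Type*} [Group Q] {A : Subgroup Q} {Γ : Subgroup (MulAut Q)} (h : EPT A Γ)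
    (hc : ∀ a ∈ A, (∀ b ∈ A, a * b = b * a) → a = 1) (e : S ≃* A) {x : Q} (hx : x ∉ A) :
    IsMaximalIn (spGL 3 (ZMod 2)) (pre e x) := by
  have hmem : ∀ s : S, spToGL 3 (ZMod 2) s ∈ pre e x ↔ x⁻¹ * (e s : Q) * x ∈ A := fun s => mem_pre
  refine ⟨lt_of_le_of_ne ?_ ?_, ?_⟩
  · rintro _ ⟨s, -, rfl⟩
    exact Cfsg.Agent.H931.spToGL_mem s
  · intro heq
    apply hx
    rw [← inv_inv x]
    apply A.inv_mem
    refine h.selfnorm _ fun a ha => ?_
    rw [inv_inv]
    have h1 : spToGL 3 (ZMod 2) (e.symm ⟨a, ha⟩) ∈ spGL 3 (ZMod 2) := Cfsg.Agent.H931.spToGL_mem _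
    rw [← heq, hmem, e.apply_symm_apply] at h1
    exact h1
  · intro M h1 h2
    let L : Subgroup (MulAut Q) :=
      ((((M.comap (spToGL 3 (ZMod 2))).comap e.symm.toMonoidHom).map A.subtype).map (MulAut.conj : Q →* MulAut Q))
    have hL : ∀ a (ha : a ∈ A), MulAut.conj a ∈ L ↔ spToGL 3 (ZMod 2) (e.symm ⟨a, ha⟩) ∈ M := by
      intro a ha
      constructor
      · rintro ⟨_, ⟨b, hb, rfl⟩, hab⟩
        have h3 : a = b := by
          have h4 : a⁻¹ * b = 1 := by
            refine hc _ (A.mul_mem (A.inv_mem ha) b.2) fun y hy => ?_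
            have h5 : (b : Q) * y * (b : Q)⁻¹ = a * y * a⁻¹ := DFunLike.congr_fun hab y
            calc a⁻¹ * b * y = a⁻¹ * (b * y * (b : Q)⁻¹) * b := by group
              _ = a⁻¹ * (a * y * a⁻¹) * b := by rw [h5]
              _ = y * (a⁻¹ * b) := by group
          exact inv_mul_eq_one.1 h4
        subst h3
        exact hb
      · intro hM
        exact ⟨a, ⟨⟨a, ha⟩, hM, rfl⟩, rfl⟩
    have hLΓ : L ≤ Γ := by
      rintro _ ⟨_, ⟨b, -, rfl⟩, rfl⟩
      exact (h.conj _).2 b.2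
    have hst : ∀ σ ∈ Γ, x⁻¹ * σ x ∈ A → σ ∈ L := by
      intro σ hσ hσx
      obtain ⟨a, ha, rfl⟩ := exists_conj h e hσ
      rw [hL a ha]
      apply h1
      rw [hmem, e.apply_symm_apply]
      have h3 : x⁻¹ * a * x = x⁻¹ * (MulAut.conj a) x * a := by
        rw [MulAut.conj_apply]
        group
      show x⁻¹ * a * x ∈ A
      rw [h3]
      exact A.mul_mem hσx ha
    rcases h.two x hx L hLΓ hst with h3 | h3
    · right
      refine le_antisymm h2 fun g hg => ?_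
      obtain ⟨s, rfl⟩ := Cfsg.Agent.H931.exists_spToGL hg
      have h4 : MulAut.conj (e s : Q) ∈ L := by
        rw [h3]
        exact (h.conj _).2 (e s).2
      have h5 := (hL _ (e s).2).1 h4
      have h6 : e.symm ⟨(e s : Q), (e s).2⟩ = s := e.symm_apply_apply s
      rwa [h6] at h5
    · left
      refine le_antisymm (fun g hg => ?_) h1
      obtain ⟨s, rfl⟩ := Cfsg.Agent.H931.exists_spToGL (h2 hg)
      rw [hmem]
      have h4 : MulAut.conj (e s : Q) ∈ L := by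
        rw [hL _ (e s).2]
        have h6 : e.symm ⟨(e s : Q), (e s).2⟩ = s := e.symm_apply_apply s
        rw [h6]
        exact hg
      have h5 := h3 _ h4
      rw [MulAut.conj_apply] at h5
      have h7 : x⁻¹ * (e s : Q) * x = x⁻¹ * ((e s : Q) * x * (e s : Q)⁻¹) * (e s : Q) := by group
      rw [h7]
      exact A.mul_mem h5 (e s).2

/-- **`Ω₇(q)` has no extremely primitive action with stabiliser `Sp₆(2)`** -/
theorem no_sp6 (h56 : Res56) {Q : Type*} [Group Q] {A : Subgroup Q} {Γ : Subgroup (MulAut Q)} (h : EPT A Γ)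
    {F : Type*} [Field F] (h2 : (2 : F) ≠ 0) {ι : Type} [Fintype ι] [DecidableEq ι] (hι : Fintype.card ι = 7)
    {Qf : (ι → F) → F} (hQ : IsNondegenerateQuadraticForm Qf) (m : Model Q (omegaGL Qf))
    (hA : HasSoc A (PSp 3 (ZMod 2))) : False := by
  obtain ⟨e⟩ := exists_equiv hA
  have hc : ∀ a ∈ A, (∀ b ∈ A, a * b = b * a) → a = 1 := by
    obtain ⟨N, hNA, hn, hc, -⟩ := hA
    exact fun a ha hab => hc a ha fun n hn' => hab n (hNA hn')
  have hinj : Function.Injective m.π := by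
    rw [injective_iff_map_eq_one]
    intro s hs
    exact Subtype.ext (scal_omega hQ hι s.2 ((m.ker s).1 hs))
  let E : omegaGL Qf ≃* Q := MulEquiv.ofBijective m.π ⟨hinj, m.surj⟩
  let ρ : S →* GL ι F := (omegaGL Qf).subtype.comp ((E.symm.toMonoidHom.comp A.subtype).comp e.toMonoidHom)
  have hρ : Function.Injective ρ := by
    intro s t hst
    exact e.injective (Subtype.ext (E.symm.injective (Subtype.ext hst)))
  have hρm : ∀ s, ρ s ∈ omegaGL Qf := fun s => (E.symm (e s)).2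
  obtain ⟨x, hxO, hxA, hxD, hxg⟩ := exists_x h2 hρ hι hQ fun s => iso_of_omega (hρm s)
  set x' : Q := E ⟨x, hxO⟩ with hx'
  have hxx : E.symm x' = ⟨x, hxO⟩ := E.symm_apply_apply _
  have hrange : ∀ a (ha : a ∈ A), ((E.symm a : omegaGL Qf) : GL ι F) ∈ ρ.range := by
    intro a ha
    refine ⟨e.symm ⟨a, ha⟩, ?_⟩
    show ((E.symm (e (e.symm ⟨a, ha⟩) : Q) : omegaGL Qf) : GL ι F) = _
    rw [e.apply_symm_apply]
  have hx'A : x' ∉ A := by
    intro hx'A
    apply hxA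
    have h1 := hrange x' hx'A
    rwa [hxx] at h1
  have hmem : ∀ s : S, x'⁻¹ * (e s : Q) * x' ∈ A ↔ x⁻¹ * ρ s * x ∈ ρ.range := by
    intro s
    have h1 : ((E.symm (x'⁻¹ * (e s : Q) * x') : omegaGL Qf) : GL ι F) = x⁻¹ * ρ s * x := by
      rw [map_mul, map_mul, map_inv, hxx]
      rfl
    constructor
    · intro h3
      rw [← h1]
      exact hrange _ h3
    · rintro ⟨t, ht⟩
      have h3 : E.symm (x'⁻¹ * (e s : Q) * x') = E.symm (e t) := Subtype.ext (h1.trans ht.symm)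
      rw [E.symm.injective h3]
      exact (e t).2
  have hmax := isMax h hc e hx'A
  obtain ⟨k, hk⟩ := exists_ga h56 hmax (fun i => mem_pre.2 ((hmem _).2 (hxD i)))
  exact hxg k ((hmem _).1 (mem_pre.1 hk))

/-- **the row `Ω₇(q)`, `q` odd, in the form of helper12's `row_s5815`** -/
theorem row_sp6 (h56 : Res56) {Q : Type*} [Group Q] {A : Subgroup Q} {Γ : Subgroup (MulAut Q)} (h : EPT A Γ)
    {F : Type*} [Field F] [Fintype F] (ho : Odd (Fintype.card F)) (m : Model Q (omegaGL (quadFormOdd 3 F)))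
    (hA : HasSoc A (PSp 3 (ZMod 2))) : False :=
  no_sp6 h56 h (Cfsg.Agent.H775.EP.two_ne_zero_of_odd ho)
    (by rw [Cfsg.Agent.H775.EP.card_odd]) (Cfsg.Agent.H775.EP.nd_odd 3 F (Cfsg.Agent.H775.EP.two_ne_zero_of_odd ho)) m hA

end Cfsg.Agent.H84.EP
end

-- part: H814/EP/Perm
section
/-!
# Subgroups of `S_9` with a large subgroup (helper814, S3499-IV-L, socle `A_9`)

* `p1` : a subgroup which contains the Sylow 2-subgroup of `A_8` and not `A_9` fixes `8`;
* `p2` : a subgroup which contains `A_7` and not `A_9` fixes one of the two points or the pair;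
* `p3` : a subgroup which contains `C_3 wr C_3` and not `A_9` preserves the three triples.
-/

set_option autoImplicit false

namespace Cfsg.Agent.H814.EP9

open Equiv Equiv.Perm MulAction Subgroup
open scoped Pointwise

/-- primitivity by blocks through one point -/
theorem prim_of {M : Subgroup (Perm (Fin 9))} (x₀ : Fin 9) (htr : ∀ y, ∃ m ∈ M, m x₀ = y)
    (hB : ∀ B : Set (Fin 9), x₀ ∈ B → (∀ m ∈ M, ∀ b ∈ B, m b ∈ B → ∀ c ∈ B, m c ∈ B) → B.ncard ∣ 9 →
      B.ncard ≤ 1 ∨ 5 ≤ B.ncard) : IsPreprimitive M (Fin 9) := by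
  have hM : IsPretransitive M (Fin 9) := (isPretransitive_iff_base x₀).2 (fun y => by
    obtain ⟨m, hm, e⟩ := htr y
    exact ⟨⟨m, hm⟩, e⟩)
  apply IsPreprimitive.of_isTrivialBlock_base x₀
  intro B hx hBl
  rcases hB B hx (by
    intro m hm b hb hmb c hc
    have h1 : (⟨m, hm⟩ : M) • B = B := hBl.smul_eq_of_mem hb hmb
    rw [← h1]
    exact Set.smul_mem_smul_set hc) (by
    have := hBl.ncard_dvd_card ⟨x₀, hx⟩
    rwa [Nat.card_eq_fintype_card, Fintype.card_fin] at this) with h1 | h1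
  · left
    exact (Set.ncard_le_one (Set.toFinite _)).1 h1
  · right
    apply hBl.eq_univ_of_card_lt
    rw [Nat.card_eq_fintype_card, Fintype.card_fin]
    omega

theorem exists_ne4 (x y i j : Fin 9) : ∃ z, z ≠ x ∧ z ≠ y ∧ z ≠ i ∧ z ≠ j := by
  by_contra hcon
  push Not at hcon
  have h1 : (Finset.univ : Finset (Fin 9)) ⊆ {x, y, i, j} := by
    intro z _
    rw [Finset.mem_insert, Finset.mem_insert, Finset.mem_insert, Finset.mem_singleton]
    by_cases h1 : z = x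
    · exact Or.inl h1
    by_cases h2 : z = y
    · exact Or.inr (Or.inl h2)
    by_cases h3 : z = i
    · exact Or.inr (Or.inr (Or.inl h3))
    exact Or.inr (Or.inr (Or.inr (hcon z h1 h2 h3)))
  have h2 := Finset.card_le_card h1
  have h3 : ({x, y, i, j} : Finset (Fin 9)).card ≤ 4 := Finset.card_le_four
  rw [Finset.card_univ, Fintype.card_fin] at h2
  omega

theorem exists_three {i j : Fin 9} {x y : Fin 9} (hxy : x ≠ y) (hxi : x ≠ i) (hxj : x ≠ j) (hyi : y ≠ i) (hyj : y ≠ j) :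
    ∃ σ : Perm (Fin 9), σ.IsThreeCycle ∧ σ x = y ∧ σ i = i ∧ σ j = j := by
  obtain ⟨z, h1, h2, h3, h4⟩ := exists_ne4 x y i j
  refine ⟨swap x z * swap x y, isThreeCycle_swap_mul_swap_same h1.symm hxy h2, ?_, ?_, ?_⟩
  · rw [Perm.mul_apply, swap_apply_left, swap_apply_of_ne_of_ne hxy.symm h2.symm]
  · rw [Perm.mul_apply, swap_apply_of_ne_of_ne hxi.symm hyi.symm, swap_apply_of_ne_of_ne hxi.symm h3.symm]
  · rw [Perm.mul_apply, swap_apply_of_ne_of_ne hxj.symm hyj.symm, swap_apply_of_ne_of_ne hxj.symm h4.symm]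

theorem p2 {M : Subgroup (Perm (Fin 9))} {i j : Fin 9} (hij : i ≠ j)
    (hM : ∀ σ : Perm (Fin 9), σ ∈ alternatingGroup (Fin 9) → σ i = i → σ j = j → σ ∈ M)
    (hn : ¬ alternatingGroup (Fin 9) ≤ M) :
    (∀ m ∈ M, m i = i) ∨ (∀ m ∈ M, m j = j) ∨ ∀ m ∈ M, (m i = i ∧ m j = j) ∨ (m i = j ∧ m j = i) := by
  by_contra hcon
  push Not at hcon
  obtain ⟨⟨m₁, hm₁, e₁⟩, ⟨m₂, hm₂, e₂⟩, m₃, hm₃, e₃, e₄⟩ := hcon
  have hO : ∀ x y : Fin 9, x ≠ i → x ≠ j → y ≠ i → y ≠ j → ∃ m ∈ M, m x = y ∧ m i = i := by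
    intro x y hxi hxj hyi hyj
    by_cases hxy : x = y
    · exact ⟨1, one_mem _, hxy, rfl⟩
    obtain ⟨σ, h1, h2, h3, h4⟩ := exists_three hxy hxi hxj hyi hyj
    exact ⟨σ, hM σ h1.mem_alternatingGroup h3 h4, h2, h3⟩
  have hO' : ∀ x y : Fin 9, x ≠ i → x ≠ j → y ≠ i → y ≠ j → ∃ m ∈ M, m x = y := fun x y h1 h2 h3 h4 => by
    obtain ⟨m, hm, e, _⟩ := hO x y h1 h2 h3 h4
    exact ⟨m, hm, e⟩
  have hs : ∀ {x y : Fin 9}, (∃ m ∈ M, m x = y) → ∃ m ∈ M, m y = x := by
    rintro x _ ⟨m, hm, rfl⟩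
    exact ⟨m⁻¹, inv_mem hm, by simp⟩
  have ht : ∀ {x y z : Fin 9}, (∃ m ∈ M, m x = y) → (∃ m ∈ M, m y = z) → ∃ m ∈ M, m x = z := by
    rintro x _ _ ⟨m, hm, rfl⟩ ⟨m', hm', rfl⟩
    exact ⟨m' * m, mul_mem hm' hm, rfl⟩
  have htr : ∀ y, ∃ m ∈ M, m i = y := by
    have key : (∃ m ∈ M, m i = j) ∧ ∀ x, x ≠ i → x ≠ j → ∃ m ∈ M, m i = x := by
      by_cases h3 : m₃ i ≠ i ∧ m₃ i ≠ j
      · have h4 : ∀ x, x ≠ i → x ≠ j → ∃ m ∈ M, m i = x := fun x hx hx' =>
          ht ⟨m₃, hm₃, rfl⟩ (hO' _ _ h3.1 h3.2 hx hx')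
        refine ⟨?_, h4⟩
        by_cases h5 : m₂ j = i
        · exact hs ⟨m₂, hm₂, h5⟩
        · exact ht (h4 _ h5 e₂) (hs ⟨m₂, hm₂, rfl⟩)
      · have h3' : m₃ j ≠ i ∧ m₃ j ≠ j := by
          constructor
          · intro h5
            have h6 : m₃ i ≠ i := fun h => hij (m₃.injective (h.trans h5.symm))
            have h7 : m₃ i = j := by
              by_contra h7
              exact h3 ⟨h6, h7⟩
            exact e₄ h7 h5
          · intro h5
            have h6 : m₃ i ≠ j := fun h => hij (m₃.injective (h.trans h5.symm))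
            have h7 : m₃ i = i := by
              by_contra h7
              exact h3 ⟨h7, h6⟩
            exact e₃ h7 h5
        have h4 : ∀ x, x ≠ i → x ≠ j → ∃ m ∈ M, m j = x := fun x hx hx' =>
          ht ⟨m₃, hm₃, rfl⟩ (hO' _ _ h3'.1 h3'.2 hx hx')
        have h5 : ∃ m ∈ M, m i = j := by
          by_cases h5 : m₁ i = j
          · exact ⟨m₁, hm₁, h5⟩
          · exact hs (ht (h4 _ e₁ h5) (hs ⟨m₁, hm₁, rfl⟩))
        exact ⟨h5, fun x hx hx' => ht h5 (h4 x hx hx')⟩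
    intro y
    by_cases h1 : y = i
    · exact ⟨1, one_mem _, h1.symm⟩
    by_cases h2 : y = j
    · rw [h2]; exact key.1
    · exact key.2 y h1 h2
  have hprim : IsPreprimitive M (Fin 9) := by
    apply prim_of i htr
    intro B hi hB hd
    by_cases hb : ∃ b ∈ B, b ≠ i ∧ b ≠ j
    · right
      obtain ⟨b, hbB, hbi, hbj⟩ := hb
      have h1 : ({j}ᶜ : Set (Fin 9)) ⊆ B := by
        intro y hy
        by_cases hyi : y = i
        · rw [hyi]; exact hi
        obtain ⟨m, hm, e, e'⟩ := hO b y hbi hbj hyi hy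
        rw [← e]
        exact hB m hm i hi (by rw [e']; exact hi) b hbB
      have h2 := Set.ncard_le_ncard h1 (Set.toFinite _)
      have h3 := Set.ncard_add_ncard_compl ({j} : Set (Fin 9))
      rw [Set.ncard_singleton, Nat.card_eq_fintype_card, Fintype.card_fin] at h3
      omega
    · left
      push Not at hb
      have h1 : B ⊆ {i, j} := by
        intro b hbB
        by_cases h : b = i
        · exact Or.inl h
        · exact Or.inr (hb b hbB h)
      have h2 := Set.ncard_le_ncard h1 (Set.toFinite _)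
      have h3 : ({i, j} : Set (Fin 9)).ncard ≤ 2 := Set.ncard_insert_le _ _ |>.trans (by rw [Set.ncard_singleton])
      by_contra h4
      have h5 : B.ncard = 2 := by omega
      rw [h5] at hd
      omega
  apply hn
  obtain ⟨x, hx1, hx2, -, -⟩ := exists_ne4 i j i j
  obtain ⟨y, hy1, hy2, hy3, -⟩ := exists_ne4 i j x x
  obtain ⟨σ, h1, h2, h3, h4⟩ := exists_three hy3.symm hx1 hx2 hy1 hy2
  exact alternatingGroup_le_of_isPreprimitive_of_isThreeCycle_mem hprim h1 (hM σ h1.mem_alternatingGroup h3 h4)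

theorem alt_of_three {M : Subgroup (Perm (Fin 9))} (hp : IsPreprimitive M (Fin 9)) {g : Perm (Fin 9)} (hg : g ∈ M)
    (h3 : g.support.card = 3) : alternatingGroup (Fin 9) ≤ M :=
  alternatingGroup_le_of_isPreprimitive_of_isThreeCycle_mem hp (card_support_eq_three_iff.1 h3) hg

theorem alt_of_five {M : Subgroup (Perm (Fin 9))} (hp : IsPreprimitive M (Fin 9)) {g : Perm (Fin 9)} (hg : g ∈ M)
    (h5 : g ^ 5 = 1) (hs : g.support.card = 5) : alternatingGroup (Fin 9) ≤ M := by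
  have h1 : g ≠ 1 := by
    rintro rfl
    rw [Equiv.Perm.support_one] at hs
    simp at hs
  have : Fact (Nat.Prime 5) := ⟨by norm_num⟩
  have ho : orderOf g = 5 := orderOf_eq_prime h5 h1
  have hc : g.IsCycle := by
    apply isCycle_of_prime_order'
    · rw [ho]; norm_num
    · rw [ho, Fintype.card_fin]; norm_num
  exact Cfsg.Agent.S0713.result M hp (p := 5) (by norm_num) (by simp) (by simp) hc hs hg

end Cfsg.Agent.H814.EP9
end

-- part: H814/EP/PermB
section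
/-!
# The Sylow 2-subgroup of `A_8` and `C_3 wr C_3` in `S_9` (helper814, S3499-IV-L, socle `A_9`)
-/

set_option autoImplicit false

namespace Cfsg.Agent.H814.EP9

open Equiv Equiv.Perm MulAction Subgroup
open scoped Pointwise

theorem pg_zpowers {G : Type*} [Group G] {p : ℕ} {g : G} {m : ℕ} (hgp : g ^ p ^ m = 1) : IsPGroup p (zpowers g) := by
  rintro ⟨y, hy⟩
  obtain ⟨j, rfl⟩ := Subgroup.mem_zpowers_iff.1 hy
  refine ⟨m, ?_⟩
  ext
  simp only [SubmonoidClass.mk_pow, Subgroup.coe_one]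
  rw [← zpow_natCast, ← zpow_mul, mul_comm, zpow_mul, zpow_natCast, hgp, one_zpow]

theorem pg_step {G : Type*} [Group G] [Finite G] {p : ℕ} {K : Subgroup G} (hK : IsPGroup p K) {g : G}
    (hg : K ≤ K.comap (MulAut.conj g).toMonoidHom) {m : ℕ} (hgp : g ^ p ^ m = 1) :
    IsPGroup p (K ⊔ zpowers g : Subgroup G) := by
  apply hK.to_sup_of_normal_left' (pg_zpowers hgp)
  rw [zpowers_le, mem_normalizer_iff_map_conj_eq]
  apply Subgroup.eq_of_le_of_card_ge (map_le_iff_le_comap.2 hg)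
  exact (Nat.card_congr (K.equivMapOfInjective _ (MulAut.conj g).injective).toEquiv).le

def a1 : Perm (Fin 9) := swap (0 : Fin 9) 1 * swap (2 : Fin 9) 3
def a2 : Perm (Fin 9) := swap (0 : Fin 9) 2 * swap (1 : Fin 9) 3
def a3 : Perm (Fin 9) := swap (4 : Fin 9) 5 * swap (6 : Fin 9) 7
def a4 : Perm (Fin 9) := swap (4 : Fin 9) 6 * swap (5 : Fin 9) 7
def a5 : Perm (Fin 9) := swap (0 : Fin 9) 1 * swap (4 : Fin 9) 5
def a6 : Perm (Fin 9) := swap (0 : Fin 9) 4 * swap (1 : Fin 9) 5 * swap (2 : Fin 9) 6 * swap (3 : Fin 9) 7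

def D1 : Subgroup (Perm (Fin 9)) := zpowers a1
def D2 : Subgroup (Perm (Fin 9)) := D1 ⊔ zpowers a2
def D3 : Subgroup (Perm (Fin 9)) := D2 ⊔ zpowers a3
def D4 : Subgroup (Perm (Fin 9)) := D3 ⊔ zpowers a4
def D5 : Subgroup (Perm (Fin 9)) := D4 ⊔ zpowers a5
/-- a Sylow 2-subgroup of the alternating group on `0, …, 7` -/
def D6 : Subgroup (Perm (Fin 9)) := D5 ⊔ zpowers a6

theorem h12 : D1 ≤ D2 := le_sup_left
theorem h23 : D2 ≤ D3 := le_sup_left
theorem h34 : D3 ≤ D4 := le_sup_left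
theorem h45 : D4 ≤ D5 := le_sup_left
theorem h56 : D5 ≤ D6 := le_sup_left

theorem m1 : a1 ∈ D1 := mem_zpowers _
theorem m2 : a2 ∈ D2 := (le_sup_right : zpowers a2 ≤ D2) (mem_zpowers _)
theorem m3 : a3 ∈ D3 := (le_sup_right : zpowers a3 ≤ D3) (mem_zpowers _)
theorem m4 : a4 ∈ D4 := (le_sup_right : zpowers a4 ≤ D4) (mem_zpowers _)
theorem m5 : a5 ∈ D5 := (le_sup_right : zpowers a5 ≤ D5) (mem_zpowers _)
theorem m6 : a6 ∈ D6 := (le_sup_right : zpowers a6 ≤ D6) (mem_zpowers _)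

theorem conj_le {K L : Subgroup (Perm (Fin 9))} {g k k' : Perm (Fin 9)} (e : g * k * g⁻¹ = k') (h : k' ∈ L)
    (hK : K ≤ L.comap (MulAut.conj g).toMonoidHom) : K ⊔ zpowers k ≤ L.comap (MulAut.conj g).toMonoidHom := by
  refine sup_le hK (zpowers_le.2 ?_)
  show g * k * g⁻¹ ∈ L
  rw [e]
  exact h

theorem conj_le' {L : Subgroup (Perm (Fin 9))} {g k k' : Perm (Fin 9)} (e : g * k * g⁻¹ = k') (h : k' ∈ L) :
    zpowers k ≤ L.comap (MulAut.conj g).toMonoidHom := by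
  refine zpowers_le.2 ?_
  show g * k * g⁻¹ ∈ L
  rw [e]
  exact h

theorem isPGroup_D6 : IsPGroup 2 D6 := by
  have e1 : IsPGroup 2 D1 := pg_zpowers (m := 1) (by decide)
  have e2 : IsPGroup 2 D2 := pg_step e1 (conj_le' (k' := a1) (by decide) m1) (m := 1) (by decide)
  have e3 : IsPGroup 2 D3 := pg_step e2 (conj_le (k' := a2) (by decide) m2
    (conj_le' (k' := a1) (by decide) (h12 m1))) (m := 1) (by decide)
  have e4 : IsPGroup 2 D4 := pg_step e3 (conj_le (k' := a3) (by decide) m3 (conj_le (k' := a2) (by decide) (h23 m2)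
    (conj_le' (k' := a1) (by decide) (h23 (h12 m1))))) (m := 1) (by decide)
  have e5 : IsPGroup 2 D5 := pg_step e4 (conj_le (k' := a3 * a4) (by decide) (mul_mem (h34 m3) m4)
    (conj_le (k' := a3) (by decide) (h34 m3)
    (conj_le (k' := a1 * a2) (by decide) (mul_mem (h34 (h23 (h12 m1))) (h34 (h23 m2)))
    (conj_le' (k' := a1) (by decide) (h34 (h23 (h12 m1))))))) (m := 1) (by decide)
  exact pg_step e5 (conj_le (k' := a5) (by decide) m5 (conj_le (k' := a2) (by decide) (h45 (h34 (h23 m2)))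
    (conj_le (k' := a1) (by decide) (h45 (h34 (h23 (h12 m1))))
    (conj_le (k' := a4) (by decide) (h45 m4)
    (conj_le' (k' := a3) (by decide) (h45 (h34 m3))))))) (m := 1) (by decide)

theorem D6_le {L : Subgroup (Perm (Fin 9))} (h1 : a1 ∈ L) (h2 : a2 ∈ L) (h3 : a3 ∈ L) (h4 : a4 ∈ L) (h5 : a5 ∈ L)
    (h6 : a6 ∈ L) : D6 ≤ L :=
  sup_le (sup_le (sup_le (sup_le (sup_le (zpowers_le.2 h1) (zpowers_le.2 h2)) (zpowers_le.2 h3)) (zpowers_le.2 h4))
    (zpowers_le.2 h5)) (zpowers_le.2 h6)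

theorem D6_le_alt : D6 ≤ alternatingGroup (Fin 9) := by
  apply D6_le <;> (rw [mem_alternatingGroup]; decide)

theorem D6_fix {d : Perm (Fin 9)} (hd : d ∈ D6) : d 8 = 8 := by
  have : D6 ≤ stabilizer (Perm (Fin 9)) (8 : Fin 9) := by
    apply D6_le <;> (rw [mem_stabilizer_iff]; decide)
  exact this hd

def dts : List (Perm (Fin 9)) := [swap (0 : Fin 9) 1 * swap (2 : Fin 9) 3, swap (0 : Fin 9) 2 * swap (1 : Fin 9) 3, swap (0 : Fin 9) 3 * swap (1 : Fin 9) 2, swap (4 : Fin 9) 5 * swap (6 : Fin 9) 7,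
  swap (4 : Fin 9) 6 * swap (5 : Fin 9) 7, swap (4 : Fin 9) 7 * swap (5 : Fin 9) 6, swap (0 : Fin 9) 1 * swap (4 : Fin 9) 5, swap (2 : Fin 9) 3 * swap (6 : Fin 9) 7, swap (0 : Fin 9) 1 * swap (6 : Fin 9) 7,
  swap (2 : Fin 9) 3 * swap (4 : Fin 9) 5]

theorem dts_mem {d : Perm (Fin 9)} (hd : d ∈ dts) : d ∈ D6 := by
  have k1 : a1 ∈ D6 := h56 (h45 (h34 (h23 (h12 m1))))
  have k2 : a2 ∈ D6 := h56 (h45 (h34 (h23 m2)))
  have k3 : a3 ∈ D6 := h56 (h45 (h34 m3))
  have k4 : a4 ∈ D6 := h56 (h45 m4)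
  have k5 : a5 ∈ D6 := h56 m5
  simp only [dts, List.mem_cons, List.not_mem_nil, or_false] at hd
  rcases hd with rfl | rfl | rfl | rfl | rfl | rfl | rfl | rfl | rfl | rfl
  · exact k1
  · exact k2
  · have e : (swap (0 : Fin 9) 3 * swap (1 : Fin 9) 2 : Perm (Fin 9)) = a1 * a2 := by decide
    rw [e]; exact mul_mem k1 k2
  · exact k3
  · exact k4
  · have e : (swap (4 : Fin 9) 7 * swap (5 : Fin 9) 6 : Perm (Fin 9)) = a3 * a4 := by decide
    rw [e]; exact mul_mem k3 k4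
  · exact k5
  · have e : (swap (2 : Fin 9) 3 * swap (6 : Fin 9) 7 : Perm (Fin 9)) = a5 * a1 * a3 := by decide
    rw [e]; exact mul_mem (mul_mem k5 k1) k3
  · have e : (swap (0 : Fin 9) 1 * swap (6 : Fin 9) 7 : Perm (Fin 9)) = a5 * a3 := by decide
    rw [e]; exact mul_mem k5 k3
  · have e : (swap (2 : Fin 9) 3 * swap (4 : Fin 9) 5 : Perm (Fin 9)) = a1 * a5 := by decide
    rw [e]; exact mul_mem k1 k5

def good (y : Perm (Fin 9)) : Bool :=
  decide (y.support.card = 3) || decide ((y * y).support.card = 3) ||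
    (decide (y.support.card = 5) && decide (∀ x, y (y (y (y (y x)))) = x))

def chk (p q r : Fin 9) : Bool :=
  decide (p = 8) || decide (q = 8) || decide (r = 8) || decide (p = q) || decide (p = r) || decide (q = r) ||
    dts.any (fun d => good (swap 8 p * swap q r * d))

/-- the number of a suitable element of `dts` -/
private def wit (p q r : Fin 9) : ℕ :=
  Nat.land (Nat.shiftRight 0x540000005030000004300000000000733000007033000003308000003380000000000000450000000000000040030000050300000000000733000007033000003308000003380000000000003050000030040000000000000054000000000000933000009033000003306000003360000000000003400000030500000045000000000000000000000933000009033000003306000003360000000000007000333070000333000090333000900333000000000033330021033330200033330100000000000007003033070003033000093033000903033033330012000000000033331000033332000000000000008003303080003303000063303000603303033330002033330001000000000033332100000000000008003330080003330000063330000603330033330010033330020033331200000000000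 (Nat.mul 4 (Nat.add (Nat.add (Nat.mul 81 p.val) (Nat.mul 9 q.val)) r.val))) 15

private theorem chk_wit : ∀ p q r : Fin 9, (decide (p = 8) || decide (q = 8) || decide (r = 8) || decide (p = q) ||
    decide (p = r) || decide (q = r) || (dts[wit p q r]?).any (fun d => good (swap 8 p * swap q r * d))) = true := by
  decide +kernel

theorem chk_true : ∀ p q r : Fin 9, chk p q r = true := by
  intro p q r
  have h := chk_wit p q r
  unfold chk
  rw [Bool.or_eq_true] at h ⊢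
  refine h.imp id fun h1 => ?_
  cases hd : dts[wit p q r]? with
  | none => rw [hd] at h1; exact absurd h1 Bool.false_ne_true
  | some d => rw [hd] at h1; exact List.any_eq_true.2 ⟨d, List.mem_of_getElem? hd, h1⟩

theorem exists_d {p q r : Fin 9} (h1 : p ≠ 8) (h2 : q ≠ 8) (h3 : r ≠ 8) (h4 : p ≠ q) (h5 : p ≠ r) (h6 : q ≠ r) :
    ∃ d ∈ dts, good (swap 8 p * swap q r * d) = true := by
  have h := chk_true p q r
  unfold chk at h
  simp only [h1, h2, h3, h4, h5, h6, decide_false, Bool.false_or, List.any_eq_true] at h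
  exact h

theorem alt_of_good {M : Subgroup (Perm (Fin 9))} (hp : IsPreprimitive M (Fin 9)) {g : Perm (Fin 9)} (hg : g ∈ M)
    (h : good g = true) : alternatingGroup (Fin 9) ≤ M := by
  unfold good at h
  simp only [Bool.or_eq_true, Bool.and_eq_true, decide_eq_true_eq] at h
  rcases h with (h | h) | ⟨h, h'⟩
  · exact alt_of_three hp hg h
  · exact alt_of_three hp (mul_mem hg hg) h
  · refine alt_of_five hp hg ?_ h
    ext x
    have := h' x
    simp only [pow_succ, pow_zero, one_mul, Perm.mul_apply, Perm.one_apply]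
    rw [this]

theorem D6_trans : ∀ u : Fin 9, u ≠ 8 → ∃ d ∈ D6, d 0 = u := by
  intro u hu
  have k1 : a1 ∈ D6 := h56 (h45 (h34 (h23 (h12 m1))))
  have k2 : a2 ∈ D6 := h56 (h45 (h34 (h23 m2)))
  fin_cases u
  · exact ⟨1, one_mem _, rfl⟩
  · exact ⟨a1, k1, by decide⟩
  · exact ⟨a2, k2, by decide⟩
  · exact ⟨a1 * a2, mul_mem k1 k2, by decide⟩
  · exact ⟨a6, m6, by decide⟩
  · exact ⟨a6 * a1, mul_mem m6 k1, by decide⟩
  · exact ⟨a6 * a2, mul_mem m6 k2, by decide⟩
  · exact ⟨a6 * (a1 * a2), mul_mem m6 (mul_mem k1 k2), by decide⟩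
  · exact absurd rfl hu

theorem D6_trans' (u v : Fin 9) (hu : u ≠ 8) (hv : v ≠ 8) : ∃ d ∈ D6, d u = v := by
  obtain ⟨d, hd, rfl⟩ := D6_trans u hu
  obtain ⟨e, he, rfl⟩ := D6_trans v hv
  exact ⟨e * d⁻¹, mul_mem he (inv_mem hd), by simp only [_root_.Fin.isValue, _root_.Equiv.Perm.coe_mul, _root_.Equiv.Perm.coe_inv, _root_.Function.comp_apply, _root_.Equiv.symm_apply_apply]⟩

theorem p1 {M : Subgroup (Perm (Fin 9))} (hD : D6 ≤ M) (hn : ¬ alternatingGroup (Fin 9) ≤ M) : ∀ m ∈ M, m 8 = 8 := by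
  by_contra hcon
  push Not at hcon
  obtain ⟨m, hm, h8⟩ := hcon
  apply hn
  have hprim : IsPreprimitive M (Fin 9) := by
    apply prim_of 8
    · intro y
      by_cases hy : y = 8
      · exact ⟨1, one_mem _, hy.symm⟩
      obtain ⟨d, hd, e⟩ := D6_trans' _ y h8 hy
      exact ⟨d * m, mul_mem (hD hd) hm, e⟩
    · intro B h8B hB _
      by_cases hb : ∃ b ∈ B, b ≠ 8
      · right
        obtain ⟨b, hbB, hb8⟩ := hb
        have h1 : B = Set.univ := by
          rw [Set.eq_univ_iff_forall]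
          intro y
          by_cases hy : y = 8
          · rw [hy]; exact h8B
          obtain ⟨d, hd, e⟩ := D6_trans' b y hb8 hy
          rw [← e]
          exact hB d (hD hd) 8 h8B (by rw [D6_fix hd]; exact h8B) b hbB
        rw [h1, Set.ncard_univ, Nat.card_eq_fintype_card, Fintype.card_fin]
        norm_num
      · left
        push Not at hb
        have h1 : B ⊆ {8} := fun b hbB => hb b hbB
        have h2 := Set.ncard_le_ncard h1 (Set.toFinite _)
        rwa [Set.ncard_singleton] at h2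
  -- a double transposition moving `8`
  have key : ∃ p q r : Fin 9, p ≠ 8 ∧ q ≠ 8 ∧ r ≠ 8 ∧ p ≠ q ∧ p ≠ r ∧ q ≠ r ∧ swap 8 p * swap q r ∈ M := by
    have hsw : ∀ a b c d : Fin 9, a ≠ b → c ≠ d → a ≠ c → a ≠ d → b ≠ c → b ≠ d → swap a b * swap c d ∈ M →
        m a = 8 ∨ m b = 8 ∨ m c = 8 ∨ m d = 8 →
        ∃ p q r : Fin 9, p ≠ 8 ∧ q ≠ 8 ∧ r ≠ 8 ∧ p ≠ q ∧ p ≠ r ∧ q ≠ r ∧ swap 8 p * swap q r ∈ M := by
      intro a b c d hab hcd hac had hbc hbd hx hmx
      have h1 : swap (m a) (m b) * swap (m c) (m d) ∈ M := by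
        have e1 : m * (swap a b * swap c d) * m⁻¹ = swap (m a) (m b) * swap (m c) (m d) := by
          rw [swap_apply_apply, swap_apply_apply]
          group
        rw [← e1]
        exact mul_mem (mul_mem hm hx) (inv_mem hm)
      have inj : ∀ {x y : Fin 9}, x ≠ y → m x ≠ m y := fun h e => h (m.injective e)
      have hcomm : swap (m a) (m b) * swap (m c) (m d) = swap (m c) (m d) * swap (m a) (m b) := by
        have e1 : _root_.Equiv.Perm.Disjoint (swap (m a) (m b)) (swap (m c) (m d)) := by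
          rw [disjoint_iff_disjoint_support, support_swap (inj hab), support_swap (inj hcd)]
          rw [Finset.disjoint_left]
          intro x hx hx'
          rw [Finset.mem_insert, Finset.mem_singleton] at hx hx'
          rcases hx with rfl | rfl
          · rcases hx' with e | e
            · exact inj hac e
            · exact inj had e
          · rcases hx' with e | e
            · exact inj hbc e
            · exact inj hbd e
        exact e1.commute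
      rcases hmx with e | e | e | e
      · rw [e] at h1
        exact ⟨m b, m c, m d, e ▸ inj hab.symm, e ▸ inj hac.symm, e ▸ inj had.symm, inj hbc, inj hbd, inj hcd, h1⟩
      · rw [e, swap_comm (m a) 8] at h1
        exact ⟨m a, m c, m d, e ▸ inj hab, e ▸ inj hbc.symm, e ▸ inj hbd.symm, inj hac, inj had, inj hcd, h1⟩
      · rw [hcomm, e] at h1
        exact ⟨m d, m a, m b, e ▸ inj hcd.symm, e ▸ inj hac, e ▸ inj hbc, inj had.symm, inj hbd.symm, inj hab, h1⟩
      · rw [hcomm, e, swap_comm (m c) 8] at h1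
        exact ⟨m c, m a, m b, e ▸ inj hcd, e ▸ inj had, e ▸ inj hbd, inj hac.symm, inj hbc.symm, inj hab, h1⟩
    obtain ⟨u, hu⟩ := m.surjective 8
    have hu8 : u ≠ 8 := by
      rintro rfl
      exact h8 hu
    have k1 : a1 ∈ M := hD (h56 (h45 (h34 (h23 (h12 m1)))))
    have k3 : a3 ∈ M := hD (h56 (h45 (h34 m3)))
    by_cases h4 : u.1 < 4
    · apply hsw 0 1 2 3 (by decide) (by decide) (by decide) (by decide) (by decide) (by decide) k1
      have : ∀ u : Fin 9, u.1 < 4 → u = 0 ∨ u = 1 ∨ u = 2 ∨ u = 3 := by decide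
      rcases this u h4 with rfl | rfl | rfl | rfl
      · exact Or.inl hu
      · exact Or.inr (Or.inl hu)
      · exact Or.inr (Or.inr (Or.inl hu))
      · exact Or.inr (Or.inr (Or.inr hu))
    · apply hsw 4 5 6 7 (by decide) (by decide) (by decide) (by decide) (by decide) (by decide) k3
      have : ∀ u : Fin 9, ¬ u.1 < 4 → u ≠ 8 → u = 4 ∨ u = 5 ∨ u = 6 ∨ u = 7 := by decide
      rcases this u h4 hu8 with rfl | rfl | rfl | rfl
      · exact Or.inl hu
      · exact Or.inr (Or.inl hu)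
      · exact Or.inr (Or.inr (Or.inl hu))
      · exact Or.inr (Or.inr (Or.inr hu))
  obtain ⟨p, q, r, e1, e2, e3, e4, e5, e6, hM⟩ := key
  obtain ⟨d, hd, hgood⟩ := exists_d e1 e2 e3 e4 e5 e6
  exact alt_of_good hprim (mul_mem hM (hD (dts_mem hd))) hgood

/-! ### `C_3 wr C_3` -/

def c0 : Perm (Fin 9) := swap (0 : Fin 9) 1 * swap (1 : Fin 9) 2
def c1 : Perm (Fin 9) := swap (3 : Fin 9) 4 * swap (4 : Fin 9) 5
def c2 : Perm (Fin 9) := swap (6 : Fin 9) 7 * swap (7 : Fin 9) 8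
def t3 : Perm (Fin 9) := Equiv.addRight 3

def E1 : Subgroup (Perm (Fin 9)) := zpowers c0
def E2 : Subgroup (Perm (Fin 9)) := E1 ⊔ zpowers c1
def E3 : Subgroup (Perm (Fin 9)) := E2 ⊔ zpowers c2
/-- a subgroup of order 81 -/
def E4 : Subgroup (Perm (Fin 9)) := E3 ⊔ zpowers t3

theorem g12 : E1 ≤ E2 := le_sup_left
theorem g23 : E2 ≤ E3 := le_sup_left
theorem g34 : E3 ≤ E4 := le_sup_left

theorem n1 : c0 ∈ E1 := mem_zpowers _
theorem n2 : c1 ∈ E2 := (le_sup_right : zpowers c1 ≤ E2) (mem_zpowers _)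
theorem n3 : c2 ∈ E3 := (le_sup_right : zpowers c2 ≤ E3) (mem_zpowers _)
theorem n4 : t3 ∈ E4 := (le_sup_right : zpowers t3 ≤ E4) (mem_zpowers _)

theorem isPGroup_E4 : IsPGroup 3 E4 := by
  have e1 : IsPGroup 3 E1 := pg_zpowers (m := 1) (by decide)
  have e2 : IsPGroup 3 E2 := pg_step e1 (conj_le' (k' := c0) (by decide) n1) (m := 1) (by decide)
  have e3 : IsPGroup 3 E3 := pg_step e2 (conj_le (k' := c1) (by decide) n2
    (conj_le' (k' := c0) (by decide) (g12 n1))) (m := 1) (by decide)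
  exact pg_step e3 (conj_le (k' := c0) (by decide) (g23 (g12 n1)) (conj_le (k' := c2) (by decide) n3
    (conj_le' (k' := c1) (by decide) (g23 n2)))) (m := 1) (by decide)

theorem E4_le_alt : E4 ≤ alternatingGroup (Fin 9) := by
  refine sup_le (sup_le (sup_le (zpowers_le.2 ?_) (zpowers_le.2 ?_)) (zpowers_le.2 ?_)) (zpowers_le.2 ?_) <;>
  (rw [mem_alternatingGroup]; decide)

theorem p3 {M : Subgroup (Perm (Fin 9))} (hE : E4 ≤ M) (hn : ¬ alternatingGroup (Fin 9) ≤ M) :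
    ∀ m ∈ M, ∀ x y : Fin 9, x.1 / 3 = y.1 / 3 → (m x).1 / 3 = (m y).1 / 3 := by
  have hc0 : c0 ∈ M := hE (g34 (g23 (g12 n1)))
  have hc1 : c1 ∈ M := hE (g34 (g23 n2))
  have hc2 : c2 ∈ M := hE (g34 n3)
  have ht : t3 ∈ M := hE n4
  have htr : ∀ y : Fin 9, ∃ m ∈ M, m 0 = y := by
    intro y
    fin_cases y
    · exact ⟨1, one_mem _, rfl⟩
    · exact ⟨c0, hc0, by decide⟩
    · exact ⟨c0 * c0, mul_mem hc0 hc0, by decide⟩
    · exact ⟨t3, ht, by decide⟩
    · exact ⟨c1 * t3, mul_mem hc1 ht, by decide⟩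
    · exact ⟨c1 * c1 * t3, mul_mem (mul_mem hc1 hc1) ht, by decide⟩
    · exact ⟨t3 * t3, mul_mem ht ht, by decide⟩
    · exact ⟨c2 * (t3 * t3), mul_mem hc2 (mul_mem ht ht), by decide⟩
    · exact ⟨c2 * c2 * (t3 * t3), mul_mem (mul_mem hc2 hc2) (mul_mem ht ht), by decide⟩
  -- the block `{0, 1, 2}`
  have key : ∃ B : Set (Fin 9), B = {0, 1, 2} ∧ ∀ m ∈ M, ∀ b ∈ B, m b ∈ B → ∀ c ∈ B, m c ∈ B := by
    by_contra hcon
    push Not at hcon
    apply hn
    apply alt_of_three (g := c0) _ hc0 (by decide)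
    apply prim_of 0 htr
    intro B h0 hB hd
    by_contra hB2
    push Not at hB2
    have hB3 : B.ncard = 3 := by
      have h1 : B.ncard ≤ 4 := by omega
      have h2 : 2 ≤ B.ncard := by omega
      interval_cases h : B.ncard
      · omega
      · rfl
      · omega
    have hsub : B ⊆ {0, 1, 2} := by
      intro b hb
      by_contra hb'
      have hfix : c0 b = b := by
        have : ∀ b : Fin 9, b ≠ 0 → b ≠ 1 → b ≠ 2 → c0 b = b := by decide
        simp only [Set.mem_insert_iff, Set.mem_singleton_iff, not_or] at hb'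
        exact this b hb'.1 hb'.2.1 hb'.2.2
      have hst := hB c0 hc0 b hb (by rw [hfix]; exact hb)
      have h1 : (1 : Fin 9) ∈ B := by
        have := hst 0 h0
        have e : c0 0 = 1 := by decide
        rwa [e] at this
      have h2 : (2 : Fin 9) ∈ B := by
        have := hst 1 h1
        have e : c0 1 = 2 := by decide
        rwa [e] at this
      have h3 : ({0, 1, 2, b} : Set (Fin 9)) ⊆ B := by
        intro x hx
        simp only [Set.mem_insert_iff, Set.mem_singleton_iff] at hx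
        rcases hx with rfl | rfl | rfl | rfl
        · exact h0
        · exact h1
        · exact h2
        · exact hb
      have h4 := Set.ncard_le_ncard h3 (Set.toFinite _)
      have h5 : ({0, 1, 2, b} : Set (Fin 9)).ncard = 4 := by
        simp only [Set.mem_insert_iff, Set.mem_singleton_iff, not_or] at hb'
        rw [Set.ncard_insert_of_notMem, Set.ncard_insert_of_notMem, Set.ncard_insert_of_notMem, Set.ncard_singleton]
        · rw [Set.mem_singleton_iff]; exact fun h => hb'.2.2 h.symm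
        · simp only [Set.mem_insert_iff, Set.mem_singleton_iff, not_or]
          exact ⟨by decide, fun h => hb'.2.1 h.symm⟩
        · simp only [Set.mem_insert_iff, Set.mem_singleton_iff, not_or]
          exact ⟨by decide, by decide, fun h => hb'.1 h.symm⟩
      omega
    have heq : B = {0, 1, 2} := by
      apply Set.eq_of_subset_of_ncard_le hsub
      rw [hB3]
      refine (Set.ncard_insert_le _ _).trans ?_
      have : ({1, 2} : Set (Fin 9)).ncard ≤ 2 := (Set.ncard_insert_le _ _).trans (by rw [Set.ncard_singleton])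
      omega
    obtain ⟨m, hm, b, hb, hmb, c, hc, hmc⟩ := hcon B heq
    exact hmc (hB m hm b hb hmb c hc)
  obtain ⟨B, rfl, hB⟩ := key
  -- reduction to the block
  intro m hm x y hxy
  have hred : ∀ x : Fin 9, ∃ k ∈ M, (∀ z : Fin 9, z.1 / 3 = x.1 / 3 ↔ k z ∈ ({0, 1, 2} : Set (Fin 9))) := by
    intro x
    simp only [Set.mem_insert_iff, Set.mem_singleton_iff]
    have h3 : x.1 / 3 = 0 ∨ x.1 / 3 = 1 ∨ x.1 / 3 = 2 := by
      have := x.2
      omega
    rcases h3 with h | h | h <;> rw [h]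
    · exact ⟨1, one_mem _, by decide⟩
    · exact ⟨t3 * t3, mul_mem ht ht, by decide⟩
    · exact ⟨t3, ht, by decide⟩
  obtain ⟨k, hk, hkx⟩ := hred x
  obtain ⟨l, hl, hlx⟩ := hred (m x)
  have h1 : k x ∈ ({0, 1, 2} : Set (Fin 9)) := (hkx x).1 rfl
  have h2 : k y ∈ ({0, 1, 2} : Set (Fin 9)) := (hkx y).1 hxy.symm
  have h3 : l (m x) ∈ ({0, 1, 2} : Set (Fin 9)) := (hlx (m x)).1 rfl
  have h4 := hB (l * m * k⁻¹) (mul_mem (mul_mem hl hm) (inv_mem hk)) (k x) h1 (by simpa only [_root_.Fin.isValue, _root_.Equiv.Perm.coe_mul, _root_.Equiv.Perm.coe_inv, _root_.Function.comp_apply, _root_.Equiv.symm_apply_apply, _root_.Set.mem_insert_iff, _root_.Set.mem_singleton_iff] using h3) (k y) h2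
  have h5 : (l * m * k⁻¹) (k y) = l (m y) := by simp
  rw [h5] at h4
  exact ((hlx (m y)).2 h4).symm

end Cfsg.Agent.H814.EP9
end

-- part: H814/EP/PermC
section
/-!
# Subgroups of index 9 and 8 in `A_9`, `S_9` and their point stabilisers (helper814, S3499-IV-L, socle `A_9`)
-/

set_option autoImplicit false

namespace Cfsg.Agent.H814.EP9

open Equiv Equiv.Perm MulAction Subgroup Cfsg.Agent.H412.AltIndex
open scoped Pointwise

section idx

variable {α : Type*} [Fintype α] [DecidableEq α]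

theorem exists_ne_three (h8 : 8 ≤ Nat.card α) (x y : α) : ∃ z, z ≠ x ∧ z ≠ y := by
  by_contra hcon
  push Not at hcon
  have h1 : (Finset.univ : Finset α) ⊆ {x, y} := by
    intro z _
    rw [Finset.mem_insert, Finset.mem_singleton]
    by_cases h1 : z = x
    · exact Or.inl h1
    · exact Or.inr (hcon z h1)
  have h2 := Finset.card_le_card h1
  have h3 : ({x, y} : Finset α).card ≤ 2 := Finset.card_le_two
  rw [Finset.card_univ, ← Nat.card_eq_fintype_card] at h2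
  omega

theorem relIndex_stab (h8 : 8 ≤ Nat.card α) {R : Subgroup (Perm α)} (hR : alternatingGroup α ≤ R) (x : α) :
    (stabilizer (Perm α) x).relIndex R = Nat.card α := by
  have h0 : IsPretransitive (alternatingGroup α) α :=
    alternatingGroup.isPretransitive_of_three_le_card α (by omega)
  have h1 : IsPretransitive R α := by
    constructor
    intro a b
    obtain ⟨g, hg⟩ := h0.exists_smul_eq a b
    exact ⟨⟨g, hR g.2⟩, hg⟩
  have h2 : (stabilizer R x).index = Nat.card α := index_stabilizer_of_transitive _ _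
  exact h2

theorem exists_cycle_fix (h8 : 8 ≤ Nat.card α) (x y : α) (hxy : x ≠ y) :
    ∃ σ ∈ alternatingGroup α, σ x = x ∧ σ y ≠ y := by
  obtain ⟨z, h1, h2⟩ := exists_ne_three h8 x y
  obtain ⟨w, h3, h4, h5⟩ : ∃ w, w ≠ x ∧ w ≠ y ∧ w ≠ z := by
    by_contra hcon
    push Not at hcon
    have h1 : (Finset.univ : Finset α) ⊆ {x, y, z} := by
      intro w _
      rw [Finset.mem_insert, Finset.mem_insert, Finset.mem_singleton]
      by_cases h1 : w = x
      · exact Or.inl h1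
      by_cases h2 : w = y
      · exact Or.inr (Or.inl h2)
      · exact Or.inr (Or.inr (hcon w h1 h2))
    have h2 := Finset.card_le_card h1
    have h3 : ({x, y, z} : Finset α).card ≤ 3 := Finset.card_le_three
    rw [Finset.card_univ, ← Nat.card_eq_fintype_card] at h2
    omega
  refine ⟨swap y z * swap y w, (isThreeCycle_swap_mul_swap_same h2.symm h4.symm h5.symm).mem_alternatingGroup, ?_, ?_⟩
  · rw [Perm.mul_apply, swap_apply_of_ne_of_ne hxy h3.symm, swap_apply_of_ne_of_ne hxy h1.symm]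
  · rw [Perm.mul_apply, swap_apply_left, swap_apply_of_ne_of_ne h4 h5]
    exact h4

theorem eq_stab {p k : ℕ} (hp : p.Prime) (hα : Nat.card α = p ^ k) (h8 : 8 ≤ Nat.card α) (h9 : Nat.card α ≤ 9)
    {R K : Subgroup (Perm α)} (hR : alternatingGroup α ≤ R) (hK : K ≤ R) (hi : K.relIndex R = Nat.card α) :
    ∃ i : α, K = R ⊓ stabilizer (Perm α) i := by
  classical
  have hnt : Nontrivial α := Finite.one_lt_card_iff_nontrivial.1 (by omega)
  set K' : Subgroup (alternatingGroup α) := K.subgroupOf (alternatingGroup α) with hK'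
  have hne : K' ≠ ⊤ := by
    intro h
    rw [hK', subgroupOf_eq_top] at h
    have h1 : K.relIndex R ≤ (alternatingGroup α).relIndex R := by
      apply relIndex_le_of_le_left h
      exact index_ne_zero_of_finite (H := (alternatingGroup α).subgroupOf R)
    have h2 : (alternatingGroup α).relIndex R ≤ (alternatingGroup α).index := by
      rw [← relIndex_top_right]
      exact relIndex_le_of_le_right le_top (by rw [relIndex_top_right]; exact index_ne_zero_of_finite)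
    rw [alternatingGroup.index_eq_two] at h2
    omega
  have h1 := card_le_index (by omega : 5 ≤ Nat.card α) K' hne
  have h2 : K'.index ≤ Nat.card α := by
    rw [← hi]
    exact relIndex_le_of_le_right hR (by rw [hi]; omega)
  have hidx : K'.index = p ^ k := by omega
  -- a fixed point
  obtain ⟨x, hx⟩ : ∃ x : α, K' ≤ MulAction.stabilizer (alternatingGroup α) x := by
    by_cases ht : IsPretransitive K' α
    · exfalso
      apply hne
      have hp7 : ¬ 7 ∣ K'.index := by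
        rw [hidx, ← hα]
        intro h
        have h3 : Nat.card α = 8 ∨ Nat.card α = 9 := by omega
        rcases h3 with h3 | h3 <;> rw [h3] at h <;> omega
      obtain ⟨g, hgc, hgs⟩ := exists_cycle (α := α) (r := 7) (by norm_num) (by decide)
        (by rw [← Nat.card_eq_fintype_card]; omega)
      have hg7 : g ^ 7 ^ 1 = 1 := by
        rw [pow_one]
        apply Subtype.ext
        rw [Subgroup.coe_pow, Subgroup.coe_one, ← hgs, ← hgc.orderOf]
        exact pow_orderOf_eq_one _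
      obtain ⟨y, hy⟩ := exists_conj_mem K' (by norm_num : Nat.Prime 7) hp7 g hg7
      have hprim : IsPreprimitive K' α := by
        have hcyc : ((y⁻¹ * g * y : alternatingGroup α) : Equiv.Perm α).IsCycle := by
          have := hgc.conj (g := ((y : Equiv.Perm α))⁻¹)
          simpa only [_root_.Subgroup.coe_mul, _root_.InvMemClass.coe_inv, _root_.inv_inv] using this
        obtain ⟨z, hz⟩ : ∃ z : α, ((y⁻¹ * g * y : alternatingGroup α) : Equiv.Perm α) z ≠ z := by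
          obtain ⟨z, hz, _⟩ := hcyc
          exact ⟨z, hz⟩
        refine isPreprimitive_of_prime (by norm_num : Nat.Prime 7) (⟨y⁻¹ * g * y, hy⟩ : K') (fun w => ?_) (x := z) hz (by omega)
        have : (⟨y⁻¹ * g * y, hy⟩ : K') ^ 7 = 1 := by
          apply Subtype.ext
          rw [Subgroup.coe_pow, Subgroup.coe_one]
          have e : (y⁻¹ * g * y) ^ 7 = y⁻¹ * g ^ 7 * y := by
            have := conj_pow (a := y⁻¹) (b := g) (i := 7)
            rwa [inv_inv] at this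
          have e2 : g ^ 7 = 1 := by rw [pow_one] at hg7; exact hg7
          show (y⁻¹ * g * y) ^ 7 = 1
          rw [e, e2]
          group
        rw [this, one_smul]
      have hp5 : 5 ≠ p := by
        rintro rfl
        have h3 : Nat.card α = 8 ∨ Nat.card α = 9 := by omega
        have hk : k ≠ 0 := by
          rintro rfl
          rw [pow_zero] at hα
          omega
        have h4 : 5 ∣ Nat.card α := by rw [hα]; exact dvd_pow_self 5 hk
        omega
      exact eq_top_of_prim K' hp hidx hprim (by norm_num : Nat.Prime 5) (by norm_num) hp5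
        (by rw [← Nat.card_eq_fintype_card]; omega)
    · exact exists_fixed (by omega) K' hp hidx ht
  have h0 : IsPretransitive (alternatingGroup α) α :=
    alternatingGroup.isPretransitive_of_three_le_card α (by omega)
  have hst : (stabilizer (alternatingGroup α) x).index = Nat.card α := index_stabilizer_of_transitive _ _
  have hKst : K' = stabilizer (alternatingGroup α) x := by
    apply Subgroup.eq_of_le_of_card_ge hx
    have e1 := K'.card_mul_index
    have e2 := (stabilizer (alternatingGroup α) x).card_mul_index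
    rw [hst] at e2
    rw [hidx, ← hα, ← e2] at e1
    exact (Nat.eq_of_mul_eq_mul_right (by omega : 0 < Nat.card α) e1).ge
  have hfix : ∀ k ∈ K, k x = x := by
    intro k hk
    by_contra hkx
    have hkx' : k⁻¹ x ≠ x := by
      intro e
      apply hkx
      rw [Perm.inv_eq_iff_eq] at e
      exact e.symm
    obtain ⟨σ, hσ, e1, e2⟩ := exists_cycle_fix h8 x (k⁻¹ x) (Ne.symm hkx')
    have h3 : (⟨σ, hσ⟩ : alternatingGroup α) ∈ K' := by
      rw [hKst]
      exact e1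
    have h4 : σ ∈ K := h3
    have h5 : k * σ * k⁻¹ ∈ K := mul_mem (mul_mem hk h4) (inv_mem hk)
    have h6 : k * σ * k⁻¹ ∈ alternatingGroup α := (inferInstance : (alternatingGroup α).Normal).conj_mem σ hσ k
    have h7 : (⟨k * σ * k⁻¹, h6⟩ : alternatingGroup α) ∈ K' := h5
    rw [hKst] at h7
    have h8 : (k * σ * k⁻¹) x = x := h7
    apply e2
    rw [Perm.mul_apply, Perm.mul_apply] at h8
    rw [Perm.eq_inv_iff_eq]
    exact h8
  refine ⟨x, ?_⟩
  have hle : K ≤ R ⊓ stabilizer (Perm α) x := le_inf hK hfix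
  apply Subgroup.eq_of_le_of_card_ge hle
  have e1 : K.relIndex R = Nat.card α := hi
  have e2 : (R ⊓ stabilizer (Perm α) x).relIndex R = Nat.card α := by
    rw [inf_relIndex_left]
    exact relIndex_stab h8 hR x
  have e3 := relIndex_mul_relIndex K (R ⊓ stabilizer (Perm α) x) R hle inf_le_left
  rw [e1, e2] at e3
  have e4 : K.relIndex (R ⊓ stabilizer (Perm α) x) = 1 := by
    have : K.relIndex (R ⊓ stabilizer (Perm α) x) * Nat.card α = 1 * Nat.card α := by rw [e3, one_mul]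
    exact Nat.eq_of_mul_eq_mul_right (by (clear * - h8; omega)) this
  rw [relIndex_eq_one] at e4
  exact Subgroup.card_le_of_le e4

end idx

/-- the stabiliser of a point -/
abbrev S (i : Fin 9) : Subgroup (Perm (Fin 9)) := stabilizer (Perm (Fin 9)) i

theorem mem_S {i : Fin 9} {σ : Perm (Fin 9)} : σ ∈ S i ↔ σ i = i := Iff.rfl

variable {R : Subgroup (Perm (Fin 9))} (hR : alternatingGroup (Fin 9) ≤ R)

include hR

theorem i9 {K : Subgroup (Perm (Fin 9))} (hK : K ≤ R) (hi : K.relIndex R = 9) : ∃ i, K = R ⊓ S i :=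
  eq_stab (p := 3) (k := 2) (by norm_num) (by simp) (by simp) (by simp) hR hK (by simpa using hi)

theorem relS (i : Fin 9) : (R ⊓ S i).relIndex R = 9 := by
  rw [inf_relIndex_left, relIndex_stab (by simp) hR i]
  simp

theorem cardS (i : Fin 9) : Nat.card (R ⊓ S i : Subgroup (Perm (Fin 9))) * 9 = Nat.card R := by
  have e := card_mul_index ((R ⊓ S i).subgroupOf R)
  have e1 : ((R ⊓ S i).subgroupOf R).index = 9 := relS hR i
  have e2 : Nat.card ((R ⊓ S i).subgroupOf R) = Nat.card (R ⊓ S i : Subgroup (Perm (Fin 9))) :=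
    Nat.card_congr (subgroupOfEquivOfLe inf_le_left).toEquiv
  rw [e1, e2] at e
  exact e

theorem i9' {K : Subgroup (Perm (Fin 9))} (hK : K ≤ R) (hi : Nat.card K * 9 = Nat.card R) : ∃ i, K = R ⊓ S i := by
  apply i9 hR hK
  have h1 := card_mul_index (K.subgroupOf R)
  have h2 : Nat.card (K.subgroupOf R) = Nat.card K := Nat.card_congr (subgroupOfEquivOfLe hK).toEquiv
  rw [h2, ← hi] at h1
  exact Nat.eq_of_mul_eq_mul_left Nat.card_pos h1

omit hR in
/-- the embedding of the symmetric group on the other points -/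
theorem ofSub_range (j : Fin 9) :
    (Equiv.Perm.ofSubtype (p := fun y : Fin 9 => y ≠ j)).range = S j := by
  ext g
  constructor
  · rintro ⟨y, rfl⟩
    exact Equiv.Perm.ofSubtype_apply_of_not_mem _ (by simp)
  · intro hg
    have hg1 : g j = j := hg
    have hg2 : ∀ y, g y ≠ j ↔ y ≠ j := by
      intro y
      constructor
      · rintro h rfl
        exact h hg1
      · intro h h'
        apply h
        exact g.injective (h'.trans hg1.symm)
    refine ⟨Equiv.Perm.subtypePerm (p := fun y => y ≠ j) g hg2, ?_⟩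
    apply Equiv.Perm.ofSubtype_subtypePerm
    intro y hy hyx
    subst hyx
    exact hy hg1

theorem i8_core (j : Fin 9) : alternatingGroup {y : Fin 9 // y ≠ j} ≤
    R.comap (Equiv.Perm.ofSubtype (p := fun y : Fin 9 => y ≠ j)) := by
  intro g hg
  rw [mem_comap]
  apply hR
  rw [mem_alternatingGroup] at hg ⊢
  rw [Equiv.Perm.sign_ofSubtype]
  exact hg

omit hR in
theorem card_sub (j : Fin 9) : Nat.card {y : Fin 9 // y ≠ j} = 8 := by
  rw [Nat.card_eq_fintype_card, Fintype.card_subtype_compl, Fintype.card_subtype_eq, Fintype.card_fin]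

theorem i8 {j : Fin 9} {K : Subgroup (Perm (Fin 9))} (hK : K ≤ R ⊓ S j) (hi : K.relIndex (R ⊓ S j) = 8) :
    ∃ i, i ≠ j ∧ K = R ⊓ S j ⊓ S i := by
  set φ := Equiv.Perm.ofSubtype (p := fun y : Fin 9 => y ≠ j) with hφ
  have hφr : φ.range = S j := ofSub_range j
  have h1 : (K.comap φ).relIndex (R.comap φ) = 8 := by
    rw [relIndex_comap, Subgroup.map_comap_eq, hφr, inf_comm]
    exact hi
  obtain ⟨i, hi'⟩ := eq_stab (p := 2) (k := 3) (by norm_num) (by rw [card_sub]; norm_num) (by rw [card_sub])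
    (by rw [card_sub]; norm_num) (i8_core hR j) (Subgroup.comap_mono (hK.trans inf_le_left)) (by rw [h1, card_sub])
  refine ⟨i, i.2, ?_⟩
  have key : ∀ g' : Perm {y : Fin 9 // y ≠ j}, φ g' ∈ S i ↔ g' ∈ stabilizer (Perm {y : Fin 9 // y ≠ j}) i := by
    intro g'
    rw [mem_S, hφ, Equiv.Perm.ofSubtype_apply_coe, mem_stabilizer_iff]
    constructor
    · intro h
      exact Subtype.ext h
    · intro h
      exact congrArg Subtype.val h
  ext g
  constructor
  · intro hg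
    refine ⟨hK hg, ?_⟩
    obtain ⟨g', rfl⟩ : g ∈ φ.range := by rw [hφr]; exact (hK hg).2
    have h2 : g' ∈ K.comap φ := hg
    rw [hi'] at h2
    exact (key g').2 h2.2
  · rintro ⟨⟨h2, h3⟩, h4⟩
    obtain ⟨g', rfl⟩ : g ∈ φ.range := by rw [hφr]; exact h3
    have h5 : g' ∈ R.comap φ ⊓ stabilizer (Perm {y : Fin 9 // y ≠ j}) i := ⟨h2, (key g').1 h4⟩
    rw [← hi'] at h5
    exact h5

theorem relS2 {i j : Fin 9} (hij : i ≠ j) : (R ⊓ S j ⊓ S i).relIndex (R ⊓ S j) = 8 := by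
  set φ := Equiv.Perm.ofSubtype (p := fun y : Fin 9 => y ≠ j) with hφ
  have hφr : φ.range = S j := ofSub_range j
  rw [inf_relIndex_left]
  have h1 := relIndex_stab (by rw [card_sub]) (i8_core hR j) (⟨i, hij⟩ : {y : Fin 9 // y ≠ j})
  rw [card_sub] at h1
  have h2 : stabilizer (Perm {y : Fin 9 // y ≠ j}) (⟨i, hij⟩ : {y : Fin 9 // y ≠ j}) = (S i).comap φ := by
    ext g'
    rw [mem_comap, mem_S, mem_stabilizer_iff]
    have e : φ g' i = (g' ⟨i, hij⟩ : Fin 9) := Equiv.Perm.ofSubtype_apply_coe g' ⟨i, hij⟩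
    rw [e]
    constructor
    · intro h
      exact congrArg Subtype.val h
    · intro h
      exact Subtype.ext h
  rw [h2, relIndex_comap, Subgroup.map_comap_eq, hφr, inf_comm] at h1
  exact h1

theorem cardS2 {i j : Fin 9} (hij : i ≠ j) : Nat.card (R ⊓ S j ⊓ S i : Subgroup (Perm (Fin 9))) * 8 =
    Nat.card (R ⊓ S j : Subgroup (Perm (Fin 9))) := by
  have e := card_mul_index ((R ⊓ S j ⊓ S i).subgroupOf (R ⊓ S j))
  have e1 : ((R ⊓ S j ⊓ S i).subgroupOf (R ⊓ S j)).index = 8 := relS2 hR hij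
  have e2 : Nat.card ((R ⊓ S j ⊓ S i).subgroupOf (R ⊓ S j)) = Nat.card (R ⊓ S j ⊓ S i : Subgroup (Perm (Fin 9))) :=
    Nat.card_congr (subgroupOfEquivOfLe inf_le_left).toEquiv
  rw [e1, e2] at e
  exact e

theorem i8' {j : Fin 9} {K : Subgroup (Perm (Fin 9))} (hK : K ≤ R ⊓ S j)
    (hi : Nat.card K * 8 = Nat.card (R ⊓ S j : Subgroup (Perm (Fin 9)))) :
    ∃ i, i ≠ j ∧ K = R ⊓ S j ⊓ S i := by
  apply i8 hR hK
  have h1 := card_mul_index (K.subgroupOf (R ⊓ S j))
  have h2 : Nat.card (K.subgroupOf (R ⊓ S j)) = Nat.card K := Nat.card_congr (subgroupOfEquivOfLe hK).toEquiv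
  rw [h2, ← hi] at h1
  exact Nat.eq_of_mul_eq_mul_left Nat.card_pos h1

/-! ### small facts -/

theorem exists_map {i j k l : Fin 9} (hij : i ≠ j) (hkl : k ≠ l) : ∃ r ∈ R, r i = k ∧ r j = l := by
  have h4 : IsMultiplyPretransitive (alternatingGroup (Fin 9)) (Fin 9) (Nat.card (Fin 9) - 2) :=
    alternatingGroup.isMultiplyPretransitive (Fin 9)
  have h5 : IsMultiplyPretransitive (alternatingGroup (Fin 9)) (Fin 9) 2 :=
    isMultiplyPretransitive_of_le (n := Nat.card (Fin 9) - 2) (by simp) (Nat.sub_le _ _)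
  rw [is_two_pretransitive_iff] at h5
  obtain ⟨g, hg1, hg2⟩ := h5 hij hkl
  exact ⟨g, hR g.2, hg1, hg2⟩

/-- an even permutation fixing `i`, `j` and moving `k` to a point different from `i`, `j`, `l` -/
theorem exists_mv {i j k l : Fin 9} (hki : k ≠ i) (hkj : k ≠ j) : ∃ r ∈ R, r i = i ∧ r j = j ∧ r k ≠ k ∧ r k ≠ l := by
  obtain ⟨y, h1, h2, h3, h4⟩ := exists_ne4 k l i j
  obtain ⟨σ, e1, e2, e3, e4⟩ := exists_three h1.symm hki hkj h3 h4
  exact ⟨σ, hR e1.mem_alternatingGroup, e3, e4, by rw [e2]; exact h1, by rw [e2]; exact h2⟩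

theorem S_inj {i j : Fin 9} (h : R ⊓ S i ≤ S j) : i = j := by
  by_contra hij
  obtain ⟨r, hr, e1, -, e2, -⟩ := exists_mv hR (i := i) (j := i) (k := j) (l := j) (Ne.symm hij) (Ne.symm hij)
  exact e2 (h ⟨hr, e1⟩)

theorem S2_inj {i j k : Fin 9} (h : R ⊓ S i ⊓ S j ≤ S k) : k = i ∨ k = j := by
  by_contra hcon
  push Not at hcon
  obtain ⟨r, hr, e1, e1', e2, -⟩ := exists_mv hR (i := i) (j := j) (k := k) (l := k) hcon.1 hcon.2
  exact e2 (h ⟨⟨hr, e1⟩, e1'⟩)

omit hR in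
/-- the stabiliser of a pair -/
def U (i j : Fin 9) : Subgroup (Perm (Fin 9)) where
  carrier := {σ | (σ i = i ∧ σ j = j) ∨ (σ i = j ∧ σ j = i)}
  one_mem' := Or.inl ⟨rfl, rfl⟩
  mul_mem' := by
    rintro σ τ (⟨h1, h2⟩ | ⟨h1, h2⟩) (⟨h3, h4⟩ | ⟨h3, h4⟩)
    · left; exact ⟨by rw [Perm.mul_apply, h3, h1], by rw [Perm.mul_apply, h4, h2]⟩
    · right; exact ⟨by rw [Perm.mul_apply, h3, h2], by rw [Perm.mul_apply, h4, h1]⟩
    · right; exact ⟨by rw [Perm.mul_apply, h3, h1], by rw [Perm.mul_apply, h4, h2]⟩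
    · left; exact ⟨by rw [Perm.mul_apply, h3, h2], by rw [Perm.mul_apply, h4, h1]⟩
  inv_mem' := by
    rintro σ (⟨h1, h2⟩ | ⟨h1, h2⟩)
    · left; exact ⟨by rw [Perm.inv_eq_iff_eq, h1], by rw [Perm.inv_eq_iff_eq, h2]⟩
    · right; exact ⟨by rw [Perm.inv_eq_iff_eq, h2], by rw [Perm.inv_eq_iff_eq, h1]⟩

theorem U_inj {i j k l : Fin 9} (hkl : k ≠ l) (h : R ⊓ U i j ≤ U k l) : (k = i ∧ l = j) ∨ (k = j ∧ l = i) := by
  have key : ∀ k l : Fin 9, R ⊓ U i j ≤ U k l → k = i ∨ k = j := by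
    intro k l h
    by_contra hcon
    push Not at hcon
    obtain ⟨r, hr, e1, e1', e2, e3⟩ := exists_mv hR (i := i) (j := j) (k := k) (l := l) hcon.1 hcon.2
    have h1 : r ∈ R ⊓ U i j := ⟨hr, Or.inl ⟨e1, e1'⟩⟩
    rcases h h1 with h2 | h2
    · exact e2 h2.1
    · exact e3 h2.1
  have hsymm : U k l = U l k := by
    ext σ
    constructor
    · rintro (⟨h1, h2⟩ | ⟨h1, h2⟩)
      · exact Or.inl ⟨h2, h1⟩
      · exact Or.inr ⟨h2, h1⟩
    · rintro (⟨h1, h2⟩ | ⟨h1, h2⟩)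
      · exact Or.inl ⟨h2, h1⟩
      · exact Or.inr ⟨h2, h1⟩
  have h1 := key k l h
  have h2 := key l k (by rw [← hsymm]; exact h)
  rcases h1 with rfl | rfl
  · rcases h2 with rfl | rfl
    · exact absurd rfl hkl
    · exact Or.inl ⟨rfl, rfl⟩
  · rcases h2 with rfl | rfl
    · exact Or.inr ⟨rfl, rfl⟩
    · exact absurd rfl hkl

end Cfsg.Agent.H814.EP9
end

-- part: H814/EP/Frame
section
/-!
# Extremely primitive actions with point stabiliser `A_9` or `S_9`: frames (helper814, S3499-IV-L, socle `A_9`)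
-/

set_option autoImplicit false

namespace Cfsg.Agent.H814.EP9

open Equiv Equiv.Perm MulAction Subgroup Cfsg.Agent.H284 Cfsg.Agent.H839.EP
open scoped Pointwise

/-- a frame at the point `p`: a faithful permutation representation of the stabiliser with image `R` -/
structure Fr (R : Subgroup (Perm (Fin 9))) (G : Type*) {Ω : Type*} [Group G] [MulAction G Ω] (p : Ω) where
  ρ : stabilizer G p →* Perm (Fin 9)
  inj : Function.Injective ρ
  ran : ρ.range = R

variable {G Ω : Type*} [Group G] [MulAction G Ω] {R : Subgroup (Perm (Fin 9))} {p : Ω}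

/-- translate -/
noncomputable def Fr.tr (F : Fr R G p) {q : Ω} {g : G} (hg : q = g • p) : Fr R G q where
  ρ := F.ρ.comp (MulAction.stabilizerEquivStabilizer hg).symm.toMonoidHom
  inj := F.inj.comp (MulAction.stabilizerEquivStabilizer hg).symm.injective
  ran := by
    refine Eq.trans ?_ F.ran
    ext σ
    constructor
    · rintro ⟨x, rfl⟩
      exact ⟨_, rfl⟩
    · rintro ⟨x, rfl⟩
      refine ⟨MulAction.stabilizerEquivStabilizer hg x, ?_⟩
      show F.ρ ((MulAction.stabilizerEquivStabilizer hg).symm (MulAction.stabilizerEquivStabilizer hg x)) = F.ρ x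
      rw [MulEquiv.symm_apply_apply]

namespace Fr

variable (F : Fr R G p)

def co (L : Subgroup (Perm (Fin 9))) : Subgroup G := (L.comap F.ρ).map (stabilizer G p).subtype

def im (M : Subgroup G) : Subgroup (Perm (Fin 9)) := (M.subgroupOf (stabilizer G p)).map F.ρ

theorem mem_co {L : Subgroup (Perm (Fin 9))} {x : G} : x ∈ F.co L ↔ ∃ hx : x ∈ stabilizer G p, F.ρ ⟨x, hx⟩ ∈ L := by
  constructor
  · rintro ⟨y, hy, rfl⟩
    exact ⟨y.2, hy⟩
  · rintro ⟨hx, h⟩
    exact ⟨⟨x, hx⟩, h, rfl⟩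

theorem mem_im {M : Subgroup G} {x : G} (hx : x ∈ stabilizer G p) : F.ρ ⟨x, hx⟩ ∈ F.im M ↔ x ∈ M := by
  constructor
  · rintro ⟨y, hy, e⟩
    have h1 := F.inj e
    have h2 : (y : G) ∈ M := hy
    rw [h1] at h2
    exact h2
  · intro h
    exact ⟨⟨x, hx⟩, h, rfl⟩

theorem exists_rho {σ : Perm (Fin 9)} (hσ : σ ∈ R) : ∃ x, ∃ hx : x ∈ stabilizer G p, F.ρ ⟨x, hx⟩ = σ := by
  rw [← F.ran] at hσ
  obtain ⟨y, rfl⟩ := hσ
  exact ⟨y, y.2, rfl⟩

theorem rho_mem (x : stabilizer G p) : F.ρ x ∈ R := (SetLike.ext_iff.1 F.ran _).1 ⟨x, rfl⟩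

theorem im_le_R (M : Subgroup G) : F.im M ≤ R := by
  rintro _ ⟨y, _, rfl⟩
  exact F.rho_mem y

theorem co_le (L : Subgroup (Perm (Fin 9))) : F.co L ≤ stabilizer G p := by
  intro x hx
  exact (F.mem_co.1 hx).1

theorem co_im {M : Subgroup G} (hM : M ≤ stabilizer G p) : F.co (F.im M) = M := by
  ext x
  rw [mem_co]
  constructor
  · rintro ⟨hx, h⟩
    exact (F.mem_im hx).1 h
  · intro h
    exact ⟨hM h, (F.mem_im (hM h)).2 h⟩

theorem im_co {L : Subgroup (Perm (Fin 9))} (hL : L ≤ R) : F.im (F.co L) = L := by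
  ext σ
  constructor
  · rintro ⟨y, hy, rfl⟩
    obtain ⟨_, h⟩ := F.mem_co.1 hy
    exact h
  · intro h
    obtain ⟨x, hx, rfl⟩ := F.exists_rho (hL h)
    exact (F.mem_im hx).2 (F.mem_co.2 ⟨hx, h⟩)

theorem co_mono {L L' : Subgroup (Perm (Fin 9))} (h : L ≤ L') : F.co L ≤ F.co L' := by
  intro x hx
  obtain ⟨h1, h2⟩ := F.mem_co.1 hx
  exact F.mem_co.2 ⟨h1, h h2⟩

theorem im_mono {M M' : Subgroup G} (h : M ≤ M') : F.im M ≤ F.im M' := by
  rintro _ ⟨y, hy, rfl⟩
  exact ⟨y, h hy, rfl⟩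

theorem co_inf (L L' : Subgroup (Perm (Fin 9))) : F.co (L ⊓ L') = F.co L ⊓ F.co L' := by
  ext x
  rw [mem_inf, mem_co, mem_co, mem_co]
  constructor
  · rintro ⟨hx, h1, h2⟩
    exact ⟨⟨hx, h1⟩, ⟨hx, h2⟩⟩
  · rintro ⟨⟨hx, h1⟩, ⟨_, h2⟩⟩
    exact ⟨hx, h1, h2⟩

theorem co_R : F.co R = stabilizer G p := by
  apply le_antisymm (F.co_le R)
  intro x hx
  exact F.mem_co.2 ⟨hx, F.rho_mem _⟩

theorem co_R_inf (L : Subgroup (Perm (Fin 9))) : F.co (R ⊓ L) = F.co L := by
  rw [co_inf, co_R, inf_eq_right]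
  exact F.co_le L

theorem le_of_co_le {L L' : Subgroup (Perm (Fin 9))} (h : F.co L ≤ F.co L') : R ⊓ L ≤ L' := by
  rintro σ ⟨h1, h2⟩
  obtain ⟨x, hx, rfl⟩ := F.exists_rho h1
  obtain ⟨_, h3⟩ := F.mem_co.1 (h (F.mem_co.2 ⟨hx, h2⟩))
  exact h3

theorem card_im {M : Subgroup G} (hM : M ≤ stabilizer G p) : Nat.card (F.im M) = Nat.card M := by
  rw [← Nat.card_congr (subgroupOfEquivOfLe hM).toEquiv]
  exact (Nat.card_congr ((M.subgroupOf (stabilizer G p)).equivMapOfInjective _ F.inj).toEquiv).symm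

theorem card_co (L : Subgroup (Perm (Fin 9))) : Nat.card (F.co L) = Nat.card (R ⊓ L : Subgroup (Perm (Fin 9))) := by
  rw [← F.card_im (F.co_le L), ← F.co_R_inf, F.im_co inf_le_left]

include F in
theorem card_stab : Nat.card (stabilizer G p) = Nat.card R := by
  rw [← F.co_R, card_co, inf_idem]

theorem isPGroup {q : ℕ} {L : Subgroup (Perm (Fin 9))} (hL : IsPGroup q L) : IsPGroup q (F.co L) := by
  have h1 : IsPGroup q (L.comap F.ρ) := hL.comap_of_injective F.ρ F.inj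
  exact h1.map _

/-- conjugation in the stabiliser -/
theorem cj_co {L L' : Subgroup (Perm (Fin 9))} {g : G} (hg : g ∈ stabilizer G p)
    (h : ∀ σ, σ ∈ L' ↔ (F.ρ ⟨g, hg⟩)⁻¹ * σ * F.ρ ⟨g, hg⟩ ∈ L) : cj g (F.co L) = F.co L' := by
  ext x
  rw [mem_cj, mem_co, mem_co]
  have e : ∀ (h1 : g⁻¹ * x * g ∈ stabilizer G p) (h2 : x ∈ stabilizer G p),
      F.ρ ⟨g⁻¹ * x * g, h1⟩ = (F.ρ ⟨g, hg⟩)⁻¹ * F.ρ ⟨x, h2⟩ * F.ρ ⟨g, hg⟩ := by
    intro h1 h2
    rw [← map_inv, ← map_mul, ← map_mul]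
    rfl
  constructor
  · rintro ⟨h1, h2⟩
    have h3 : x ∈ stabilizer G p := by
      have := mul_mem (mul_mem hg h1) (inv_mem hg)
      have e : g * (g⁻¹ * x * g) * g⁻¹ = x := by group
      rwa [e] at this
    refine ⟨h3, (h _).2 ?_⟩
    rw [← e h1 h3]
    exact h2
  · rintro ⟨h1, h2⟩
    have h3 : g⁻¹ * x * g ∈ stabilizer G p := mul_mem (mul_mem (inv_mem hg) h1) hg
    refine ⟨h3, ?_⟩
    rw [e h3 h1]
    exact (h _).1 h2

theorem cj_co_S {g : G} (hg : g ∈ stabilizer G p) (i : Fin 9) :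
    cj g (F.co (S i)) = F.co (S (F.ρ ⟨g, hg⟩ i)) := by
  apply F.cj_co hg
  intro σ
  rw [mem_S, mem_S, Perm.mul_apply, Perm.mul_apply, Perm.inv_eq_iff_eq]

/-! ### lines -/

variable (h : EPA G Ω)

include F h in
theorem exists_fr (q : Ω) : Nonempty (Fr R G q) := by
  obtain ⟨g, hg⟩ := h.exists_smul p q
  exact ⟨F.tr hg.symm⟩

variable (hR : alternatingGroup (Fin 9) ≤ R)

include h hR

theorem maxNot [Finite Ω] [FaithfulSMul G Ω] {c : Ω} (hc : c ≠ p) :
    MaxNot R (F.im (stabilizer G p ⊓ stabilizer G c)) := by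
  refine ⟨F.im_le_R _, ?_, ?_⟩
  · intro hle
    have h1 : F.co (alternatingGroup (Fin 9)) = ⊥ := by
      apply h.F1' hc (F.co_le _)
      · intro g hg k hk
        obtain ⟨h2, h3⟩ := F.mem_co.1 hk
        refine F.mem_co.2 ⟨mul_mem (mul_mem hg h2) (inv_mem hg), ?_⟩
        have e : F.ρ ⟨g * k * g⁻¹, mul_mem (mul_mem hg h2) (inv_mem hg)⟩ = F.ρ ⟨g, hg⟩ * F.ρ ⟨k, h2⟩ * (F.ρ ⟨g, hg⟩)⁻¹ := by
          rw [← map_inv, ← map_mul, ← map_mul]
          rfl
        rw [e]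
        exact (inferInstance : (alternatingGroup (Fin 9)).Normal).conj_mem _ h3 _
      · have h2 := F.co_mono hle
        rw [F.co_im inf_le_left] at h2
        exact h2.trans inf_le_right
    have h2 := F.card_co (alternatingGroup (Fin 9))
    rw [h1, Subgroup.card_bot, inf_eq_right.2 hR] at h2
    have h3 := two_mul_nat_card_alternatingGroup (α := Fin 9)
    rw [Nat.card_perm, ← h2] at h3
    simp [Nat.factorial] at h3
  · intro K h1 h2
    rcases h.two p c hc (F.co K) (by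
      have := F.co_mono h1
      rwa [F.co_im inf_le_left] at this) (F.co_le K) with h3 | h3
    · left
      rw [← F.im_co h2, h3]
    · right
      rw [← F.im_co h2, h3, ← F.co_R, F.im_co le_rfl]

/-- the workhorse -/
theorem line_eq_co [Finite Ω] [FaithfulSMul G Ω] {c : Ω} (hc : c ≠ p) {K : Subgroup (Perm (Fin 9))}
    (hK : F.im (stabilizer G p ⊓ stabilizer G c) ≤ K) (hn : ¬ alternatingGroup (Fin 9) ≤ K) :
    stabilizer G p ⊓ stabilizer G c = F.co K := by
  have h1 := (F.maxNot h hR hc).eq_inf hR hK hn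
  rw [← F.co_im (M := stabilizer G p ⊓ stabilizer G c) inf_le_left, h1, F.co_R_inf]

omit h hR in
theorem le_im {L : Subgroup (Perm (Fin 9))} (hL : L ≤ R) {c : Ω} (h1 : F.co L ≤ stabilizer G c) :
    L ≤ F.im (stabilizer G p ⊓ stabilizer G c) := by
  rw [← F.im_co hL]
  exact F.im_mono (le_inf (F.co_le L) h1)

omit F h hR in
theorem not_alt_S (i : Fin 9) : ¬ alternatingGroup (Fin 9) ≤ S i := by
  intro hle
  obtain ⟨y, h1, -⟩ := exists_ne_three (α := Fin 9) (by simp) i i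
  obtain ⟨σ, hσ, e1, e2⟩ := exists_cycle_fix (α := Fin 9) (by simp) y i h1
  exact e2 (hle hσ)

omit F h hR in
theorem not_alt_U {i j : Fin 9} (hij : i ≠ j) : ¬ alternatingGroup (Fin 9) ≤ U i j := by
  intro hle
  obtain ⟨k, h1, h2⟩ := exists_ne_three (α := Fin 9) (by simp) i j
  obtain ⟨r, hr, e1, e2⟩ := exists_map (R := alternatingGroup (Fin 9)) le_rfl hij (Ne.symm h1 : i ≠ k)
  rcases hle hr with ⟨_, h3⟩ | ⟨h3, _⟩
  · exact h2 (e2.symm.trans h3)
  · exact hij (e1.symm.trans h3)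

theorem line_D6 [Finite Ω] [FaithfulSMul G Ω] {c : Ω} (hc : c ≠ p) (hD : F.co D6 ≤ stabilizer G c) :
    stabilizer G p ⊓ stabilizer G c = F.co (S 8) :=
  F.line_eq_co h hR hc (p1 (F.le_im (D6_le_alt.trans hR) hD) (F.maxNot h hR hc).nalt) (not_alt_S 8)

theorem line_S2 [Finite Ω] [FaithfulSMul G Ω] {c : Ω} (hc : c ≠ p) {i j : Fin 9} (hij : i ≠ j)
    (hD : F.co (S i ⊓ S j) ≤ stabilizer G c) : stabilizer G p ⊓ stabilizer G c = F.co (S i) ∨
      stabilizer G p ⊓ stabilizer G c = F.co (S j) ∨ stabilizer G p ⊓ stabilizer G c = F.co (U i j) := by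
  rw [← F.co_R_inf (S i ⊓ S j)] at hD
  have h1 := F.le_im inf_le_left hD
  rcases p2 hij (fun σ h2 h3 h4 => h1 ⟨hR h2, h3, h4⟩) (F.maxNot h hR hc).nalt with h2 | h2 | h2
  · left
    exact F.line_eq_co h hR hc h2 (not_alt_S i)
  · right; left
    exact F.line_eq_co h hR hc h2 (not_alt_S j)
  · right; right
    exact F.line_eq_co h hR hc h2 (not_alt_U hij)

omit h in
/-- subgroups of index 9 -/
theorem t4 [Finite G] {M : Subgroup G} (hM : M ≤ stabilizer G p) (hc : Nat.card M * 9 = Nat.card (stabilizer G p)) :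
    ∃ i, M = F.co (S i) := by
  obtain ⟨i, hi⟩ := i9' hR (F.im_le_R M) (by rw [F.card_im hM, hc, F.card_stab])
  refine ⟨i, ?_⟩
  rw [← F.co_im hM, hi, F.co_R_inf]

omit h in
theorem card_S [Finite G] (i : Fin 9) : Nat.card (F.co (S i)) * 9 = Nat.card (stabilizer G p) := by
  rw [F.card_co, F.card_stab, cardS hR]

omit h in
theorem card_S2 [Finite G] {i j : Fin 9} (hij : i ≠ j) :
    Nat.card (F.co (S j ⊓ S i)) * 8 = Nat.card (F.co (S j)) := by
  rw [F.card_co, F.card_co, ← inf_assoc, cardS2 hR hij]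

omit h in
/-- subgroups of index 8 -/
theorem t5 [Finite G] {j : Fin 9} {M : Subgroup G} (hM : M ≤ F.co (S j))
    (hc : Nat.card M * 8 = Nat.card (F.co (S j))) : ∃ i, i ≠ j ∧ M = F.co (S j ⊓ S i) := by
  have hM' := hM.trans (F.co_le _)
  obtain ⟨i, hij, hi⟩ := i8' hR (j := j) (K := F.im M) (by
    have := F.im_mono hM
    rwa [← F.co_R_inf (S j), F.im_co inf_le_left] at this) (by rw [F.card_im hM', hc, F.card_co])
  refine ⟨i, hij, ?_⟩
  rw [← F.co_im hM', hi, inf_assoc, F.co_R_inf]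

end Fr

/-! ### fixed points of `p`-groups -/

theorem fix_modEq [Finite Ω] {q : ℕ} [hq : Fact q.Prime] {P : Subgroup G} (hP : IsPGroup q P) :
    Nat.card Ω ≡ (fixPts Ω P).ncard [MOD q] := by
  have h1 := hP.card_modEq_card_fixedPoints (α := Ω)
  have h2 : (fixPts Ω P) = fixedPoints P Ω := by
    ext c
    constructor
    · rintro h ⟨x, hx⟩
      exact h hx
    · intro h x hx
      exact h ⟨x, hx⟩
  rw [h2]
  exact h1

theorem ncard_fix_cj [Finite Ω] (M : Subgroup G) (g : G) : (fixPts Ω (cj g M)).ncard = (fixPts Ω M).ncard := by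
  symm
  refine Set.ncard_congr (fun (x : Ω) _ => g • x) ?_ ?_ ?_
  · intro x hx
    exact smul_mem_fixPts.2 hx
  · intro x y _ _ e
    exact smul_left_cancel g e
  · intro x hx
    refine ⟨g⁻¹ • x, ?_, smul_inv_smul _ _⟩
    rw [← smul_inv_smul g x] at hx
    exact smul_mem_fixPts.1 hx

end Cfsg.Agent.H814.EP9
end

-- part: H814/EP/Rect
section
/-!
# A connected rectagraph of valency at most 9 has at most 512 vertices (helper814, S3499-IV-L, socle `A_9`)
-/

set_option autoImplicit false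

namespace Cfsg.Agent.H814.EP9

/-- the balls around `a` -/
def ball {V : Type*} (adj : V → V → Prop) (a : V) : ℕ → Set V
  | 0 => {a}
  | n + 1 => {y | y ∈ ball adj a n ∨ ∃ x ∈ ball adj a n, adj x y}

theorem rect_card {V : Type*} [Finite V] (adj : V → V → Prop) (hs : ∀ x y, adj x y → adj y x) (a : V)
    (hdeg : ∀ x, {y | adj x y}.ncard ≤ 9)
    (hex : ∀ b u v, adj b u → adj b v → u ≠ v → ∃ w, w ≠ b ∧ adj u w ∧ adj v w)
    (huniq : ∀ b u v w w', adj b u → adj b v → u ≠ v → w ≠ b → adj u w → adj v w → w' ≠ b → adj u w' → adj v w' →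
      w = w')
    (hconn : ∀ S : Set V, a ∈ S → (∀ x ∈ S, ∀ y, adj x y → y ∈ S) → ∀ y, y ∈ S) : Nat.card V ≤ 512 := by
  classical
  have : Fintype V := Fintype.ofFinite V
  have hall : ∀ y, ∃ n, y ∈ ball adj a n := by
    apply hconn {y | ∃ n, y ∈ ball adj a n}
    · exact ⟨0, rfl⟩
    · rintro x ⟨n, hn⟩ y hxy
      exact ⟨n + 1, Or.inr ⟨x, hn, hxy⟩⟩
  let d : V → ℕ := fun y => Nat.find (hall y)
  have d1 : ∀ y, y ∈ ball adj a (d y) := fun y => Nat.find_spec (hall y)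
  have d2 : ∀ y n, y ∈ ball adj a n → d y ≤ n := fun y n h => Nat.find_min' (hall y) h
  have d3 : ∀ x y, adj x y → d y ≤ d x + 1 := by
    intro x y h
    exact d2 y _ (Or.inr ⟨x, d1 x, h⟩)
  have d4 : ∀ y n, d y = n + 1 → ∃ x, adj x y ∧ d x = n := by
    intro y n h
    have h1 := d1 y
    rw [h] at h1
    rcases h1 with h1 | ⟨x, hx, hxy⟩
    · have := d2 y n h1
      omega
    · refine ⟨x, hxy, ?_⟩
      have h2 := d2 x n hx
      have h3 := d3 x y hxy
      omega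
  have d5 : ∀ y, d y = 0 → y = a := by
    intro y h
    have h1 := d1 y
    rw [h] at h1
    exact h1
  clear_value d
  -- the number of neighbours in the previous layer
  have hc : ∀ n y, d y = n → n ≤ (Finset.univ.filter fun x => adj y x ∧ d x + 1 = n).card := by
    intro n
    induction n with
    | zero => intro y _; exact Nat.zero_le _
    | succ m ih =>
      intro y hy
      obtain ⟨z, hzy, hz⟩ := d4 y m hy
      have h1 := ih z hz
      have hf : ∀ w, adj z w → d w + 1 = m → ∃ v, v ≠ z ∧ adj y v ∧ adj w v := fun w hw hdw =>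
        hex z y w hzy hw (by rintro rfl; omega)
      choose! f hf1 hf2 hf3 using hf
      have hdf : ∀ w, adj z w → d w + 1 = m → d (f w) = m := by
        intro w hw hdw
        have e1 := d3 w (f w) (hf3 w hw hdw)
        have e2 := d3 (f w) y (hs _ _ (hf2 w hw hdw))
        omega
      have hinj : Set.InjOn f (Finset.univ.filter fun x => adj z x ∧ d x + 1 = m : Finset V) := by
        intro w hw w' hw' e
        rw [Finset.mem_coe, Finset.mem_filter] at hw hw'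
        by_contra hne
        have k1 := hf1 w hw.2.1 hw.2.2
        have k2 := hf2 w hw.2.1 hw.2.2
        have k3 := hf3 w hw.2.1 hw.2.2
        have k4 := hf3 w' hw'.2.1 hw'.2.2
        rw [← e] at k4
        have h3 : y = w' := huniq w z (f w) y w' (hs _ _ hw.2.1) k3 (Ne.symm k1) (by
            rintro rfl
            have := hw.2.2
            omega) hzy (hs _ _ k2) (Ne.symm hne) hw'.2.1 (hs _ _ k4)
        have := hw'.2.2
        rw [← h3] at this
        omega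
      have h2 : insert z ((Finset.univ.filter fun x => adj z x ∧ d x + 1 = m).image f) ⊆
          Finset.univ.filter fun x => adj y x ∧ d x + 1 = m + 1 := by
        intro x hx
        rw [Finset.mem_insert, Finset.mem_image] at hx
        rw [Finset.mem_filter]
        rcases hx with rfl | ⟨w, hw, rfl⟩
        · exact ⟨Finset.mem_univ _, hs _ _ hzy, by omega⟩
        · rw [Finset.mem_filter] at hw
          exact ⟨Finset.mem_univ _, hf2 w hw.2.1 hw.2.2, by rw [hdf w hw.2.1 hw.2.2]⟩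
      have h3 := Finset.card_le_card h2
      rw [Finset.card_insert_of_notMem, Finset.card_image_of_injOn hinj] at h3
      · omega
      · intro hz'
        rw [Finset.mem_image] at hz'
        obtain ⟨w, hw, e⟩ := hz'
        rw [Finset.mem_filter] at hw
        exact hf1 w hw.2.1 hw.2.2 e
  let k : ℕ → ℕ := fun n => (Finset.univ.filter fun x => d x = n).card
  have hk : ∀ n, k (n + 1) * (n + 1) ≤ k n * (9 - n) := by
    intro n
    apply Finset.card_mul_le_card_mul (fun y x => adj y x)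
    · intro y hy
      rw [Finset.mem_filter] at hy
      refine (hc (n + 1) y hy.2).trans (Finset.card_le_card ?_)
      intro x hx
      rw [Finset.mem_filter] at hx
      rw [Finset.mem_bipartiteAbove, Finset.mem_filter]
      exact ⟨⟨Finset.mem_univ _, by omega⟩, hx.2.1⟩
    · intro x hx
      rw [Finset.mem_filter] at hx
      have h1 := hc n x hx.2
      have h2 : (Finset.bipartiteBelow (fun y x => adj y x) (Finset.univ.filter fun x => d x = n + 1) x).card +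
          (Finset.univ.filter fun y => adj x y ∧ d y + 1 = n).card ≤ {y | adj x y}.ncard := by
        rw [← Finset.card_union_of_disjoint]
        · rw [Set.ncard_eq_toFinset_card']
          apply Finset.card_le_card
          intro y hy
          simp only [Finset.mem_union, Finset.mem_bipartiteBelow, Finset.mem_filter] at hy
          rw [Set.mem_toFinset]
          rcases hy with hy | hy
          · exact hs _ _ hy.2
          · exact hy.2.1
        · rw [Finset.disjoint_left]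
          intro y hy hy'
          rw [Finset.mem_bipartiteBelow, Finset.mem_filter] at hy
          rw [Finset.mem_filter] at hy'
          have e1 := hy.1.2
          have e2 := hy'.2.2
          omega
      have h3 := hdeg x
      omega
  have hk0 : k 0 ≤ 1 := by
    have : (Finset.univ.filter fun x => d x = 0) ⊆ {a} := by
      intro x hx
      rw [Finset.mem_filter] at hx
      rw [Finset.mem_singleton]
      exact d5 x hx.2
    exact (Finset.card_le_card this).trans (by rw [Finset.card_singleton])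
  have k0 := hk 0
  have k1 := hk 1
  have k2 := hk 2
  have k3 := hk 3
  have k4 := hk 4
  have k5 := hk 5
  have k6 := hk 6
  have k7 := hk 7
  have k8 := hk 8
  have k9 := hk 9
  norm_num only [_root_.mul_one, _root_.mul_le_mul_iff_left₀, _root_.MulZeroClass.mul_zero, _root_.nonpos_iff_eq_zero, _root_.mul_eq_zero, _root_.or_false] at k0 k1 k2 k3 k4 k5 k6 k7 k8 k9
  have hbig : ∀ n, k (n + 10) = 0 := by
    intro n
    induction n with
    | zero => exact k9
    | succ n ih =>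
      have := hk (n + 10)
      rw [ih, zero_mul] at this
      have h2 : k (n + 10 + 1) * (n + 10 + 1) = 0 := by omega
      rcases Nat.mul_eq_zero.1 h2 with h3 | h3
      · have e : n + 1 + 10 = n + 10 + 1 := by omega
        rw [e]
        exact h3
      · omega
  have hle9 : ∀ y, d y < 10 := by
    intro y
    by_contra h
    have h1 := hbig (d y - 10)
    have e : d y - 10 + 10 = d y := by omega
    rw [e] at h1
    have h2 : y ∈ Finset.univ.filter fun x => d x = d y := by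
      rw [Finset.mem_filter]
      exact ⟨Finset.mem_univ _, rfl⟩
    rw [Finset.card_eq_zero.1 h1] at h2
    exact absurd h2 (Finset.notMem_empty _)
  have hsum : (Finset.univ : Finset V).card ≤ ∑ n ∈ Finset.range 10, k n := by
    refine le_trans (Finset.card_le_card ?_) Finset.card_biUnion_le
    intro y _
    rw [Finset.mem_biUnion]
    refine ⟨d y, Finset.mem_range.2 (hle9 y), ?_⟩
    rw [Finset.mem_filter]
    exact ⟨Finset.mem_univ _, rfl⟩
  simp only [Finset.sum_range_succ, Finset.sum_range_zero, zero_add] at hsum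
  rw [Nat.card_eq_fintype_card, ← Finset.card_univ]
  clear_value k
  omega

end Cfsg.Agent.H814.EP9
end

-- part: H814/EP/Core
section
/-!
# Extremely primitive actions with point stabiliser `A_9` or `S_9`, even degree: the degree is at most 512
(helper814, S3499-IV-L, socle `A_9`)

The two point stabilisers `A_8` (`S_8`) give a graph of valency 9, which is a clique or a rectagraph.
-/

set_option autoImplicit false

namespace Cfsg.Agent.H814.EP9

open Equiv Equiv.Perm MulAction Subgroup Cfsg.Agent.H284 Cfsg.Agent.H839.EP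
open scoped Pointwise

variable {G Ω : Type*} [Group G] [MulAction G Ω] {R : Subgroup (Perm (Fin 9))} {p : Ω}

/-- adjacency -/
def adj (G : Type*) {Ω : Type*} [Group G] [MulAction G Ω] (p q : Ω) : Prop :=
  q ≠ p ∧ Nat.card (stabilizer G p ⊓ stabilizer G q : Subgroup G) * 9 = Nat.card (stabilizer G p)

theorem adj_smul {p q : Ω} (g : G) (hpq : adj G p q) : adj G (g • p) (g • q) := by
  refine ⟨fun e => hpq.1 (smul_left_cancel g e), ?_⟩
  rw [stab_smul, stab_smul, ← cj_inf, card_cj, card_cj]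
  exact hpq.2

/-- the neighbours of `p` -/
structure Nb (F : Fr R G p) (x : Fin 9 → Ω) : Prop where
  ne : ∀ i, x i ≠ p
  eq : ∀ i, stabilizer G p ⊓ stabilizer G (x i) = F.co (S i)
  uniq : ∀ i c, c ≠ p → F.co (S i) ≤ stabilizer G c → c = x i

theorem exists_ne_fin (i : Fin 9) : ∃ j, j ≠ i := by
  obtain ⟨j, h, -⟩ := exists_ne_three (α := Fin 9) (by simp) i i
  exact ⟨j, h⟩

variable [Finite G] [Finite Ω] [FaithfulSMul G Ω] (h : EPA G Ω) (hR : alternatingGroup (Fin 9) ≤ R)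

include h hR

namespace Fr

variable (F : Fr R G p)

theorem line_S {c : Ω} (hc : c ≠ p) {i : Fin 9} (hS : F.co (S i) ≤ stabilizer G c) :
    stabilizer G p ⊓ stabilizer G c = F.co (S i) := by
  obtain ⟨j, hj⟩ := exists_ne_fin i
  have h1 : F.co (S i) ≤ stabilizer G p ⊓ stabilizer G c := le_inf (F.co_le _) hS
  rcases F.line_S2 h hR hc (Ne.symm hj) ((F.co_mono inf_le_left).trans hS) with h2 | h2 | h2
  · exact h2
  · rw [h2] at h1
    exact absurd (S_inj hR (F.le_of_co_le h1)) (Ne.symm hj)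
  · rw [h2] at h1
    exfalso
    have h3 := F.le_of_co_le h1
    obtain ⟨r, hr, e1, _, e2, _⟩ := exists_mv hR (i := i) (j := i) (k := j) (l := j) hj hj
    rcases h3 ⟨hr, e1⟩ with h4 | h4
    · exact e2 h4.2
    · exact hj (h4.1.symm.trans e1)

theorem fix_D6 : fixPts Ω (F.co D6) = fixPts Ω (F.co (S 8)) := by
  ext c
  constructor
  · intro hc
    by_cases hcp : c = p
    · rw [hcp]
      exact F.co_le _
    · rw [mem_fixPts, ← F.line_D6 h hR hcp hc]
      exact inf_le_right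
  · intro hc
    exact (F.co_mono (fun d hd => D6_fix hd)).trans hc

variable (he : Even (Nat.card Ω))

include he

theorem even_fix (i : Fin 9) : Even (fixPts Ω (F.co (S i))).ncard := by
  have h8 : Even (fixPts Ω (F.co (S 8))).ncard := by
    rw [← F.fix_D6 h hR]
    have : Fact (Nat.Prime 2) := ⟨Nat.prime_two⟩
    have h1 : Nat.card Ω ≡ (fixPts Ω (F.co D6)).ncard [MOD 2] := fix_modEq (F.isPGroup isPGroup_D6)
    rw [Nat.even_iff] at he ⊢
    rw [← he]
    exact h1.symm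
  obtain ⟨j, hj⟩ := exists_ne_fin i
  obtain ⟨r, hr, e1, e2⟩ := exists_map hR (i := 8) (j := 7) (k := i) (l := j) (by decide) (Ne.symm hj)
  obtain ⟨g, hg, e⟩ := F.exists_rho hr
  have h1 := F.cj_co_S hg 8
  rw [e, e1] at h1
  rw [← h1, ncard_fix_cj]
  exact h8

theorem exists_nb (i : Fin 9) : ∃ c, c ≠ p ∧ stabilizer G p ⊓ stabilizer G c = F.co (S i) := by
  by_contra hcon
  push Not at hcon
  have h1 := F.even_fix h hR he i
  have h2 : fixPts Ω (F.co (S i)) = {p} := by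
    ext c
    constructor
    · intro hc
      by_contra hcp
      exact hcon c hcp (F.line_S h hR hcp hc)
    · intro hc
      rw [Set.mem_singleton_iff] at hc
      rw [hc]
      exact F.co_le _
  rw [h2, Set.ncard_singleton] at h1
  revert h1
  decide

theorem fix_le_three (i : Fin 9) : (fixPts Ω (F.co (S i))).ncard ≤ 3 := by
  obtain ⟨c0, hc0, e0⟩ := F.exists_nb h hR he i
  obtain ⟨j, hj⟩ := exists_ne_fin i
  obtain ⟨c, hc, ec⟩ := F.exists_nb h hR he j
  have hcle : F.co (S j) ≤ stabilizer G c := by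
    rw [← ec]
    exact inf_le_right
  have hlb := h.line_bound (a := p) (M := F.co (S i)) (D := F.co (S j ⊓ S i)) ⟨c0, hc0, e0.symm⟩
    (F.co_mono inf_le_right) (c := c) ((F.co_mono inf_le_left).trans hcle) (by
      intro hh
      have h1 : F.co (S i) ≤ F.co (S j) := by
        rw [← ec]
        exact le_inf (F.co_le _) hh
      exact hj (S_inj hR (F.le_of_co_le h1)).symm)
  refine hlb.trans ?_
  obtain ⟨F'⟩ := F.exists_fr h c
  obtain ⟨k, hk⟩ := F'.t4 hR (M := F.co (S j)) hcle (by rw [F.card_S hR, F.card_stab, F'.card_stab])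
  obtain ⟨l, hl, hl'⟩ := F'.t5 hR (j := k) (M := F.co (S j ⊓ S i)) (by
    rw [← hk]
    exact F.co_mono inf_le_left) (by
    rw [← hk]
    exact F.card_S2 hR (Ne.symm hj))
  have hsub : EPA.linesD (F.co (S j ⊓ S i)) c ⊆ {F'.co (S k), F'.co (S l), F'.co (U k l)} := by
    rintro _ ⟨⟨d, hd, rfl⟩, hD⟩
    rw [hl'] at hD
    rcases F'.line_S2 h hR hd (Ne.symm hl) (hD.trans inf_le_right) with e | e | e <;> rw [e] <;> simp
  refine (Set.ncard_le_ncard hsub (Set.toFinite _)).trans ?_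
  refine (Set.ncard_insert_le _ _).trans ?_
  have : ({F'.co (S l), F'.co (U k l)} : Set (Subgroup G)).ncard ≤ 2 :=
    (Set.ncard_insert_le _ _).trans (by rw [Set.ncard_singleton])
  omega

theorem exists_Nb : ∃ x : Fin 9 → Ω, Nb F x := by
  choose x hx1 hx2 using F.exists_nb h hR he
  refine ⟨x, hx1, hx2, ?_⟩
  intro i c hc hle
  by_contra hcx
  have h1 := F.even_fix h hR he i
  have h2 := F.fix_le_three h hR he i
  have h3 : ({p, x i, c} : Set Ω) ⊆ fixPts Ω (F.co (S i)) := by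
    intro y hy
    simp only [Set.mem_insert_iff, Set.mem_singleton_iff] at hy
    rcases hy with rfl | rfl | rfl
    · exact F.co_le _
    · rw [mem_fixPts, ← hx2]
      exact inf_le_right
    · exact hle
  have h4 := Set.ncard_le_ncard h3 (Set.toFinite _)
  have h5 : ({p, x i, c} : Set Ω).ncard = 3 := by
    rw [Set.ncard_insert_of_notMem, Set.ncard_insert_of_notMem, Set.ncard_singleton]
    · rw [Set.mem_singleton_iff]; exact fun e => hcx e.symm
    · simp only [Set.mem_insert_iff, Set.mem_singleton_iff, not_or]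
      exact ⟨fun e => hx1 i e.symm, fun e => hc e.symm⟩
  have h6 : (fixPts Ω (F.co (S i))).ncard = 3 := by omega
  rw [h6] at h1
  revert h1
  decide

end Fr

omit h [Finite Ω] [FaithfulSMul G Ω] in
theorem Nb.adj {F : Fr R G p} {x : Fin 9 → Ω} (hx : Nb F x) (i : Fin 9) : adj G p (x i) := by
  refine ⟨hx.ne i, ?_⟩
  rw [hx.eq]
  exact F.card_S hR i

omit h [Finite Ω] [FaithfulSMul G Ω] in
theorem Nb.of_adj {F : Fr R G p} {x : Fin 9 → Ω} (hx : Nb F x) {q : Ω} (hq : EP9.adj G p q) : ∃ i, q = x i := by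
  obtain ⟨i, hi⟩ := F.t4 hR (M := stabilizer G p ⊓ stabilizer G q) inf_le_left hq.2
  refine ⟨i, hx.uniq i q hq.1 ?_⟩
  rw [← hi]
  exact inf_le_right

omit h hR [Finite G] [Finite Ω] [FaithfulSMul G Ω] in
theorem Nb.smul {F : Fr R G p} {x : Fin 9 → Ω} (hx : Nb F x) {g : G} (hg : g ∈ stabilizer G p) (i : Fin 9) :
    g • x i = x (F.ρ ⟨g, hg⟩ i) := by
  apply hx.uniq
  · intro e
    apply hx.ne i
    have : g • x i = g • p := e.trans (mem_stabilizer_iff.1 hg).symm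
    exact smul_left_cancel g this
  · rw [← F.cj_co_S hg, stab_smul, ← hx.eq]
    exact cj_mono inf_le_right

omit hR [Finite G] [Finite Ω] [FaithfulSMul G Ω] in
theorem adj_symm {p q : Ω} (hpq : adj G p q) : adj G q p := by
  refine ⟨hpq.1.symm, ?_⟩
  obtain ⟨g, rfl⟩ := h.exists_smul p q
  rw [inf_comm, hpq.2, stab_smul, card_cj]

variable (he : Even (Nat.card Ω))

include he

theorem exists_second {F : Fr R G p} {x : Fin 9 → Ω} (hx : Nb F x) (i : Fin 9) :
    ∃ (F' : Fr R G (x i)) (x' : Fin 9 → Ω) (k : Fin 9), Nb F' x' ∧ p = x' k ∧ F'.co (S k) = F.co (S i) := by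
  obtain ⟨F'⟩ := F.exists_fr h (x i)
  obtain ⟨x', hx'⟩ := F'.exists_Nb h hR he
  obtain ⟨k, hk⟩ := hx'.of_adj hR (adj_symm h (hx.adj hR i))
  refine ⟨F', x', k, hx', hk, ?_⟩
  rw [← hx'.eq, ← hk, ← hx.eq, inf_comm]

theorem Nb.second {F : Fr R G p} {x : Fin 9 → Ω} (hx : Nb F x) {i : Fin 9} {y : Ω} (hy : EP9.adj G (x i) y)
    (hyp : y ≠ p) : ∃ j, j ≠ i ∧ stabilizer G p ⊓ stabilizer G (x i) ⊓ stabilizer G y = F.co (S i ⊓ S j) ∧
      (y = x j ∨ stabilizer G p ⊓ stabilizer G y = F.co (U i j)) := by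
  obtain ⟨F', x', k, hx', hk, ek⟩ := exists_second h hR he hx i
  obtain ⟨m, rfl⟩ := hx'.of_adj hR hy
  have hmk : m ≠ k := by
    rintro rfl
    exact hyp hk.symm
  have e1 : stabilizer G p ⊓ stabilizer G (x i) ⊓ stabilizer G (x' m) = F'.co (S k ⊓ S m) := by
    rw [F'.co_inf, ek, ← hx.eq, ← hx'.eq]
    apply le_antisymm
    · exact le_inf inf_le_left (le_inf (inf_le_left.trans inf_le_right) inf_le_right)
    · exact le_inf inf_le_left (inf_le_right.trans inf_le_right)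
  obtain ⟨j, hj, ej⟩ := F.t5 hR (j := i) (M := stabilizer G p ⊓ stabilizer G (x i) ⊓ stabilizer G (x' m))
    (by rw [← hx.eq]; exact inf_le_left) (by rw [e1, F'.card_S2 hR hmk, ek])
  refine ⟨j, hj, ej, ?_⟩
  rcases F.line_S2 h hR hyp (Ne.symm hj) (by rw [← ej]; exact inf_le_right) with e2 | e2 | e2
  · exfalso
    have := hx.uniq i _ hyp (by rw [← e2]; exact inf_le_right)
    exact hy.1 this
  · left
    exact hx.uniq j _ hyp (by rw [← e2]; exact inf_le_right)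
  · right
    exact e2

theorem Nb.exists_second {F : Fr R G p} {x : Fin 9 → Ω} (hx : Nb F x) {i j : Fin 9} (hij : i ≠ j) :
    ∃ y, y ≠ p ∧ EP9.adj G (x i) y ∧ stabilizer G p ⊓ stabilizer G (x i) ⊓ stabilizer G y = F.co (S i ⊓ S j) := by
  obtain ⟨F', x', k, hx', hk, ek⟩ := EP9.exists_second h hR he hx i
  obtain ⟨m, hm, em⟩ := F'.t5 hR (j := k) (M := F.co (S i ⊓ S j)) (by
    rw [ek]
    exact F.co_mono inf_le_left) (by rw [F.card_S2 hR (Ne.symm hij), ek])
  refine ⟨x' m, ?_, hx'.adj hR m, ?_⟩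
  · intro e
    apply hm
    have e1 : F'.co (S m) = F'.co (S k) := by rw [← hx'.eq, ← hx'.eq, e, ← hk]
    exact S_inj hR (F'.le_of_co_le e1.le)
  · rw [em, F'.co_inf, ek, ← hx.eq, ← hx'.eq]
    apply le_antisymm
    · exact le_inf inf_le_left (le_inf (inf_le_left.trans inf_le_right) inf_le_right)
    · exact le_inf inf_le_left (inf_le_right.trans inf_le_right)

theorem Nb.inj {F : Fr R G p} {x : Fin 9 → Ω} (hx : Nb F x) {i : Fin 9} {y y' : Ω} (hy : EP9.adj G (x i) y)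
    (hyp : y ≠ p) (hy' : EP9.adj G (x i) y') (hyp' : y' ≠ p)
    (hle : stabilizer G p ⊓ stabilizer G (x i) ⊓ stabilizer G y ≤ stabilizer G y') : y = y' := by
  obtain ⟨F', x', k, hx', hk, ek⟩ := EP9.exists_second h hR he hx i
  obtain ⟨m, rfl⟩ := hx'.of_adj hR hy
  obtain ⟨m', rfl⟩ := hx'.of_adj hR hy'
  have e1 : F'.co (S k ⊓ S m) ≤ F'.co (S m') := by
    rw [F'.co_inf, ek, ← hx.eq, ← hx'.eq, ← hx'.eq]
    refine le_inf (inf_le_left.trans inf_le_right) (le_trans ?_ hle)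
    exact le_inf inf_le_left (inf_le_right.trans inf_le_right)
  have e2 := F'.le_of_co_le e1
  rw [← inf_assoc] at e2
  rcases S2_inj hR e2 with rfl | rfl
  · exact absurd hk.symm hyp'
  · rfl

/-- **The degree is at most 512.** -/
theorem card_le (F : Fr R G p) : Nat.card Ω ≤ 512 := by
  by_cases hA : ∃ (q : Ω) (F : Fr R G q) (x : Fin 9 → Ω), Nb F x ∧ ∃ i j, i ≠ j ∧ adj G (x i) (x j)
  · obtain ⟨q, F, x, hx, i, j, hij, ha⟩ := hA
    have hall : ∀ k l, k ≠ l → adj G (x k) (x l) := by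
      intro k l hkl
      obtain ⟨r, hr, e1, e2⟩ := exists_map hR hij hkl
      obtain ⟨g, hg, e⟩ := F.exists_rho hr
      have := adj_smul g ha
      rw [hx.smul hg, hx.smul hg, e, e1, e2] at this
      exact this
    have hS : ∀ y, y ∈ insert q (Set.range x) ↔ y = x 0 ∨ adj G (x 0) y := by
      intro y
      constructor
      · rintro (rfl | ⟨l, rfl⟩)
        · right
          exact adj_symm h (hx.adj hR 0)
        · by_cases hl : l = 0
          · left; rw [hl]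
          · right; exact hall 0 l (Ne.symm hl)
      · rintro (rfl | hy)
        · right; exact ⟨0, rfl⟩
        · by_cases hyq : y = q
          · left; exact hyq
          · right
            obtain ⟨l, hl, e, -⟩ := hx.second h hR he hy hyq
            refine ⟨l, ?_⟩
            symm
            refine hx.inj h hR he hy hyq (hall 0 l (Ne.symm hl)) (hx.ne l) ?_
            rw [e, F.co_inf]
            refine inf_le_right.trans ?_
            rw [← hx.eq]
            exact inf_le_right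
    have huniv : ∀ y, y ∈ insert q (Set.range x) := by
      apply h.eq_univ_of_two (a := q) (b := x 0) (hx.ne 0).symm
      · rintro g hg y (rfl | ⟨l, rfl⟩)
        · left; exact hg
        · right; exact ⟨_, (hx.smul hg l).symm⟩
      · intro g hg y hy
        rw [hS] at hy ⊢
        rcases hy with rfl | hy
        · left; exact hg
        · right
          have := adj_smul g hy
          rwa [mem_stabilizer_iff.1 hg] at this
      · exact ⟨q, Or.inl rfl⟩
    have h1 : (insert q (Set.range x)).ncard = Nat.card Ω := by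
      rw [← Set.ncard_univ]
      congr 1
      exact Set.eq_univ_of_forall huniv
    have h2 : (insert q (Set.range x)).ncard ≤ 10 := by
      refine (Set.ncard_insert_le _ _).trans ?_
      have h3 : (Set.range x).ncard ≤ 9 := by
        rw [← Set.image_univ]
        refine (Set.ncard_image_le (Set.toFinite _)).trans ?_
        rw [Set.ncard_univ, Nat.card_eq_fintype_card, Fintype.card_fin]
      omega
    omega
  · push Not at hA
    -- a rectagraph
    have hfr : ∀ q : Ω, ∃ (F' : Fr R G q) (x : Fin 9 → Ω), Nb F' x := by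
      intro q
      obtain ⟨F'⟩ := F.exists_fr h q
      obtain ⟨x, hx⟩ := F'.exists_Nb h hR he
      exact ⟨F', x, hx⟩
    apply rect_card (adj G) (fun _ _ => adj_symm h) p
    · intro q
      obtain ⟨F', x, hx⟩ := hfr q
      have h1 : {y | adj G q y} ⊆ Set.range x := by
        intro y hy
        obtain ⟨i, rfl⟩ := hx.of_adj hR hy
        exact ⟨i, rfl⟩
      refine (Set.ncard_le_ncard h1 (Set.toFinite _)).trans ?_
      rw [← Set.image_univ]
      refine (Set.ncard_image_le (Set.toFinite _)).trans ?_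
      rw [Set.ncard_univ, Nat.card_eq_fintype_card, Fintype.card_fin]
    · intro b u v hu hv huv
      obtain ⟨F', x, hx⟩ := hfr b
      obtain ⟨i, rfl⟩ := hx.of_adj hR hu
      obtain ⟨j, rfl⟩ := hx.of_adj hR hv
      have hij : i ≠ j := fun e => huv (by rw [e])
      obtain ⟨y, hyp, hy, e⟩ := hx.exists_second h hR he hij
      refine ⟨y, hyp, hy, ?_⟩
      obtain ⟨l, hl, e1, e2⟩ := hx.second h hR he hy hyp
      have hlj : l = j := by
        have h1 : F'.co (S i ⊓ S j) ≤ F'.co (S l) := by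
          rw [← e, e1]
          exact F'.co_mono inf_le_right
        have h2 := F'.le_of_co_le h1
        rw [← inf_assoc] at h2
        rcases S2_inj hR h2 with h3 | h3
        · exact absurd h3 hl
        · exact h3
      subst hlj
      rcases e2 with e2 | e2
      · rw [e2] at hy
        exact absurd hy (hA b F' x hx i l hij)
      · obtain ⟨r, hr, e3, e4⟩ := exists_map hR hij (Ne.symm hij)
        obtain ⟨g, hg, e5⟩ := F'.exists_rho hr
        have hgy : g ∈ stabilizer G y := by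
          have : g ∈ F'.co (U i l) := F'.mem_co.2 ⟨hg, by rw [e5]; exact Or.inr ⟨e3, e4⟩⟩
          rw [← e2] at this
          exact this.2
        have h3 := adj_smul g hy
        rw [hx.smul hg, e5, e3, mem_stabilizer_iff.1 hgy] at h3
        exact h3
    · intro b u v w w' hu hv huv hwb huw hvw hwb' huw' hvw'
      obtain ⟨F', x, hx⟩ := hfr b
      obtain ⟨i, rfl⟩ := hx.of_adj hR hu
      obtain ⟨j, rfl⟩ := hx.of_adj hR hv
      have hij : i ≠ j := fun e => huv (by rw [e])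
      have key : ∀ w, w ≠ b → adj G (x i) w → adj G (x j) w →
          stabilizer G b ⊓ stabilizer G (x i) ⊓ stabilizer G w = F'.co (S i ⊓ S j) := by
        intro w hwb huw hvw
        obtain ⟨k, hk, e1, e2⟩ := hx.second h hR he huw hwb
        obtain ⟨l, hl, e3, e4⟩ := hx.second h hR he hvw hwb
        rcases e2 with e2 | e2
        · rw [e2] at huw
          exact absurd huw (hA b F' x hx i k (Ne.symm hk))
        rcases e4 with e4 | e4
        · rw [e4] at hvw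
          exact absurd hvw (hA b F' x hx j l (Ne.symm hl))
        rw [e2] at e4
        have h1 := F'.le_of_co_le e4.le
        rcases U_inj hR (Ne.symm hl) h1 with ⟨h2, h3⟩ | ⟨h2, h3⟩
        · exact absurd h2.symm hij
        · rw [e1, h2]
      refine hx.inj h hR he huw hwb huw' hwb' ?_
      rw [key w hwb huw hvw, ← key w' hwb' huw' hvw']
      exact inf_le_right
    · intro T hpT hT
      obtain ⟨x, hx⟩ := F.exists_Nb h hR he
      have hsub : ∀ y, Relation.ReflTransGen (adj G) p y → y ∈ T := by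
        intro y hy
        induction hy with
        | refl => exact hpT
        | tail _ hyz ih => exact hT _ ih _ hyz
      have hmap : ∀ (g : G) {u v : Ω}, Relation.ReflTransGen (adj G) u v →
          Relation.ReflTransGen (adj G) (g • u) (g • v) := by
        intro g u v huv
        exact huv.lift (fun w => g • w) (fun a b hab => adj_smul g hab)
      have huniv : ∀ y, y ∈ {y | Relation.ReflTransGen (adj G) p y} := by
        apply h.eq_univ_of_two (a := p) (b := x 0) (hx.ne 0).symm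
        · intro g hg y hy
          have := hmap g hy
          rw [mem_stabilizer_iff.1 hg] at this
          exact this
        · intro g hg y hy
          have h1 : Relation.ReflTransGen (adj G) (x 0) y := Relation.ReflTransGen.head (adj_symm h (hx.adj hR 0)) hy
          have h2 := hmap g h1
          rw [mem_stabilizer_iff.1 hg] at h2
          exact Relation.ReflTransGen.head (hx.adj hR 0) h2
        · exact ⟨p, Relation.ReflTransGen.refl⟩
      intro y
      exact hsub y (huniv y)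

end Cfsg.Agent.H814.EP9
end

-- part: H814/EP/Three
section
/-!
# Extremely primitive actions with point stabiliser `S_9` and degree divisible by 3: the degree is at least 561
(helper814, S3499-IV-L, socle `A_9`)
-/

set_option autoImplicit false

namespace Cfsg.Agent.H814.EP9

open Equiv Equiv.Perm MulAction Subgroup Cfsg.Agent.H284 Cfsg.Agent.H839.EP
open scoped Pointwise

/-- the stabiliser of the partition in three triples -/
def W : Subgroup (Perm (Fin 9)) where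
  carrier := {σ | ∀ x y : Fin 9, (x.1 / 3 = y.1 / 3 ↔ (σ x).1 / 3 = (σ y).1 / 3)}
  one_mem' := fun _ _ => Iff.rfl
  mul_mem' := by
    intro σ τ hσ hτ x y
    rw [Perm.mul_apply, Perm.mul_apply, ← hσ, ← hτ]
  inv_mem' := by
    intro σ hσ x y
    have := hσ (σ⁻¹ x) (σ⁻¹ y)
    simp only [← Perm.mul_apply, mul_inv_cancel, Perm.one_apply] at this
    exact this.symm

theorem mem_W {σ : Perm (Fin 9)} : σ ∈ W ↔ ∀ x y : Fin 9, (x.1 / 3 = y.1 / 3 ↔ (σ x).1 / 3 = (σ y).1 / 3) := Iff.rfl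

theorem le_W {M : Subgroup (Perm (Fin 9))} (hM : ∀ m ∈ M, ∀ x y : Fin 9, x.1 / 3 = y.1 / 3 → (m x).1 / 3 = (m y).1 / 3) :
    M ≤ W := by
  intro m hm
  rw [mem_W]
  intro x y
  refine ⟨hM m hm x y, fun e => ?_⟩
  have := hM m⁻¹ (inv_mem hm) _ _ e
  simp only [← Perm.mul_apply, inv_mul_cancel, Perm.one_apply] at this
  exact this

theorem not_alt_W : ¬ alternatingGroup (Fin 9) ≤ W := by
  intro h
  have h1 : swap (0 : Fin 9) 3 * swap (3 : Fin 9) 6 ∈ alternatingGroup (Fin 9) := by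
    rw [mem_alternatingGroup]
    decide
  have h2 := (mem_W.1 (h h1) 0 1).1 (by decide)
  revert h2
  decide

theorem E4_ne : E4 ≠ ⊥ := by
  intro h
  have h1 : c0 ∈ E4 := g34 (g23 (g12 n1))
  rw [h, mem_bot] at h1
  revert h1
  decide

/-- coordinates -/
def mk3 (a b : Fin 3) : Fin 9 := ⟨3 * a.1 + b.1, by have := a.2; have := b.2; omega⟩

theorem card_W : Nat.card W ≤ 1296 := by
  have hq : ∀ x : Fin 9, x.1 / 3 < 3 := fun x => by have := x.2; omega
  have hr : ∀ x : Fin 9, x.1 % 3 < 3 := fun x => Nat.mod_lt _ (by norm_num)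
  let f1 : Perm (Fin 9) → Fin 3 → Fin 3 := fun σ a => ⟨(σ (mk3 a 0)).1 / 3, hq _⟩
  let f2 : Perm (Fin 9) → Fin 3 → Fin 3 → Fin 3 := fun σ a b => ⟨(σ (mk3 a b)).1 % 3, hr _⟩
  have hmk : ∀ (a b : Fin 3), (mk3 a b).1 / 3 = a.1 := by decide
  have hmk' : ∀ (a b : Fin 3), (mk3 a b).1 % 3 = b.1 := by decide
  have h1 : ∀ σ ∈ W, Function.Bijective (f1 σ) := by
    intro σ hσ
    rw [← Finite.injective_iff_bijective]
    intro a a' e
    have e1 : (σ (mk3 a 0)).1 / 3 = (σ (mk3 a' 0)).1 / 3 := congrArg Fin.val e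
    have e2 := (mem_W.1 hσ _ _).2 e1
    rw [hmk, hmk] at e2
    exact Fin.ext e2
  have h2 : ∀ σ ∈ W, ∀ a, Function.Bijective (f2 σ a) := by
    intro σ hσ a
    rw [← Finite.injective_iff_bijective]
    intro b b' e
    have e1 : (σ (mk3 a b)).1 % 3 = (σ (mk3 a b')).1 % 3 := congrArg Fin.val e
    have e2 := (mem_W.1 hσ (mk3 a b) (mk3 a b')).1 (by rw [hmk, hmk])
    have e3 : σ (mk3 a b) = σ (mk3 a b') := Fin.ext (by omega)
    have e4 := congrArg Fin.val (σ.injective e3)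
    have e5 : (mk3 a b).1 % 3 = (mk3 a b').1 % 3 := by rw [e4]
    rw [hmk', hmk'] at e5
    exact Fin.ext e5
  let f : W → Perm (Fin 3) × (Fin 3 → Perm (Fin 3)) := fun σ =>
    (Equiv.ofBijective (f1 σ) (h1 σ σ.2), fun a => Equiv.ofBijective (f2 σ a) (h2 σ σ.2 a))
  have hf : Function.Injective f := by
    intro σ τ e
    have e1 : f1 σ = f1 τ := by
      have := congrArg (fun z => (z.1 : Fin 3 → Fin 3)) e
      exact this
    have e2 : ∀ a, f2 σ a = f2 τ a := by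
      intro a
      have := congrArg (fun z => (z.2 a : Fin 3 → Fin 3)) e
      exact this
    apply Subtype.ext
    ext x
    obtain ⟨a, b, rfl⟩ : ∃ a b : Fin 3, mk3 a b = x :=
      ⟨⟨x.1 / 3, hq x⟩, ⟨x.1 % 3, hr x⟩, Fin.ext (by
        show 3 * (x.1 / 3) + x.1 % 3 = x.1
        omega)⟩
    have e3 : (σ.1 (mk3 a 0)).1 / 3 = (τ.1 (mk3 a 0)).1 / 3 := congrArg Fin.val (congrFun e1 a)
    have e4 : (σ.1 (mk3 a b)).1 % 3 = (τ.1 (mk3 a b)).1 % 3 := congrArg Fin.val (congrFun (e2 a) b)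
    have e5 := (mem_W.1 σ.2 (mk3 a b) (mk3 a 0)).1 (by rw [hmk, hmk])
    have e6 := (mem_W.1 τ.2 (mk3 a b) (mk3 a 0)).1 (by rw [hmk, hmk])
    omega
  have h3 := Nat.card_le_card_of_injective f hf
  refine h3.trans ?_
  rw [Nat.card_prod, Nat.card_pi, Nat.card_perm]
  simp [Nat.factorial]

variable {G Ω : Type*} [Group G] [MulAction G Ω] {R : Subgroup (Perm (Fin 9))} {p : Ω}

variable [Finite G] [Finite Ω] [FaithfulSMul G Ω] (h : EPA G Ω) (hR : alternatingGroup (Fin 9) ≤ R)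

include h hR

theorem Fr.line_E4 (F : Fr R G p) {c : Ω} (hc : c ≠ p) (hD : F.co E4 ≤ stabilizer G c) :
    stabilizer G p ⊓ stabilizer G c = F.co W :=
  F.line_eq_co h hR hc (le_W (p3 (F.le_im (E4_le_alt.trans hR) hD) (F.maxNot h hR hc).nalt)) not_alt_W

omit hR [Finite G] in
/-- two points with the same two point stabiliser are not conjugate -/
theorem eq_of_same {c : Ω} (hc : c ≠ p) (hne : stabilizer G p ⊓ stabilizer G c ≠ ⊥) {g : G}
    (hg : g ∈ stabilizer G p) (e : stabilizer G p ⊓ stabilizer G (g • c) = stabilizer G p ⊓ stabilizer G c) :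
    g • c = c := by
  set M := stabilizer G p ⊓ stabilizer G c with hM
  have hcj : cj g M = M := by
    rw [hM, cj_inf, cj_eq_self hg, ← stab_smul, e]
  let L : Subgroup G := stabilizer G p ⊓ Subgroup.normalizer (M : Set G)
  have hML : M ≤ L := le_inf inf_le_left le_normalizer
  have hgL : g ∈ L := by
    refine ⟨hg, ?_⟩
    show g ∈ Subgroup.normalizer (M : Set G)
    rw [mem_normalizer_iff]
    intro x
    constructor
    · intro hx
      rw [← hcj]
      exact conj_mem_cj hx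
    · intro hx
      rw [← hcj, mem_cj] at hx
      have e' : g⁻¹ * (g * x * g⁻¹) * g = x := by group
      rwa [e'] at hx
  rcases h.two p c hc L hML inf_le_left with h1 | h1
  · rw [h1] at hgL
    exact hgL.2
  · exfalso
    apply hne
    refine h.F1' hc inf_le_left ?_ inf_le_right
    intro x hx k hk
    have h2 : x ∈ L := by rw [h1]; exact hx
    exact (mem_normalizer_iff.1 h2.2 k).1 hk

theorem bound_three (F : Fr R G p) (h3 : 3 ∣ Nat.card Ω) (hc : Nat.card R = 362880) : 561 ≤ Nat.card Ω := by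
  have : Fact (Nat.Prime 3) := ⟨Nat.prime_three⟩
  have h1 : Nat.card Ω ≡ (fixPts Ω (F.co E4)).ncard [MOD 3] := fix_modEq (F.isPGroup isPGroup_E4)
  have hp : p ∈ fixPts Ω (F.co E4) := F.co_le _
  have h2 : 3 ≤ (fixPts Ω (F.co E4)).ncard := by
    have h4 : 0 < (fixPts Ω (F.co E4)).ncard := (Set.ncard_pos (Set.toFinite _)).2 ⟨p, hp⟩
    unfold Nat.ModEq at h1
    omega
  have h5 : 2 ≤ (fixPts Ω (F.co E4) \ {p}).ncard := by
    rw [Set.ncard_sdiff_singleton_of_mem hp]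
    omega
  obtain ⟨c, hc1, c', hc2, hne⟩ := (Set.one_lt_ncard (Set.toFinite _)).1 (by omega : 1 < (fixPts Ω (F.co E4) \ {p}).ncard)
  have e1 := F.line_E4 h hR (c := c) hc1.2 hc1.1
  have e2 := F.line_E4 h hR (c := c') hc2.2 hc2.1
  have hWne : F.co W ≠ ⊥ := by
    intro h6
    have h7 := F.card_co E4
    have h8 : F.co E4 = ⊥ := by
      rw [eq_bot_iff, ← h6, ← e1]
      exact le_inf (F.co_le _) hc1.1
    rw [h8, Subgroup.card_bot, inf_eq_right.2 (E4_le_alt.trans hR)] at h7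
    exact E4_ne ((Subgroup.card_eq_one).1 h7.symm)
  have horb : ∀ c : Ω, stabilizer G p ⊓ stabilizer G c = F.co W → 280 ≤ (orbit (stabilizer G p) c).ncard := by
    intro c e
    rw [← index_stabilizer]
    have h6 := card_mul_index (stabilizer (stabilizer G p) c)
    have h7 : Nat.card (stabilizer (stabilizer G p) c) = Nat.card (F.co W) := by
      rw [← e]
      have h8 : stabilizer (stabilizer G p) c = (stabilizer G p ⊓ stabilizer G c).subgroupOf (stabilizer G p) := by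
        ext x
        constructor
        · intro hx
          exact ⟨x.2, hx⟩
        · rintro ⟨_, hx⟩
          exact hx
      rw [h8]
      exact Nat.card_congr (subgroupOfEquivOfLe inf_le_left).toEquiv
    rw [h7, F.card_stab, hc] at h6
    have h9 : Nat.card (F.co W) ≤ 1296 := by
      rw [F.card_co]
      exact (Subgroup.card_le_of_le inf_le_right).trans card_W
    by_contra hlt
    have h10 : (stabilizer (stabilizer G p) c).index ≤ 279 := by omega
    have h11 := Nat.mul_le_mul h9 h10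
    rw [h6] at h11
    omega
  have hpo : ∀ c : Ω, c ≠ p → p ∉ orbit (stabilizer G p) c := by
    rintro c hcp ⟨g, hg⟩
    apply hcp
    have h6 : (g : G) • c = p := hg
    have h7 : (g : G) • c = (g : G) • p := h6.trans (mem_stabilizer_iff.1 g.2).symm
    exact smul_left_cancel _ h7
  have hdis : _root_.Disjoint (orbit (stabilizer G p) c) (orbit (stabilizer G p) c') := by
    rw [Set.disjoint_left]
    intro y hy hy'
    have h6 : c' ∈ orbit (stabilizer G p) c := by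
      rw [← orbit_eq_iff.2 hy, orbit_eq_iff.2 hy']
      exact mem_orbit_self _
    obtain ⟨g, hg⟩ := h6
    have h7 : (g : G) • c = c' := hg
    apply hne
    rw [← h7]
    symm
    apply eq_of_same h (p := p) hc1.2 (by rw [e1]; exact hWne) g.2
    rw [h7, e1, e2]
  have h6 : (insert p (orbit (stabilizer G p) c ∪ orbit (stabilizer G p) c')).ncard ≤ Nat.card Ω := by
    rw [← Set.ncard_univ]
    exact Set.ncard_le_ncard (Set.subset_univ _) (Set.toFinite _)
  rw [Set.ncard_insert_of_notMem (by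
    rintro (h7 | h7)
    · exact hpo c hc1.2 h7
    · exact hpo c' hc2.2 h7), Set.ncard_union_eq hdis] at h6
  have h7 := horb c e1
  have h8 := horb c' e2
  omega

end Cfsg.Agent.H814.EP9
end

-- part: H814/EP/RowA9
section
/-!
# S3499 (IV-L): the socle `A_9` (helper814)

* `index_le` : `EPT A Γ`, the socle of `A` is `A_9`, `|Q : A|` even: then `|Q : A| ≤ 512`;
* `index_ge` : if moreover `A ≅ S_9` and `3 ∣ |Q : A|`, then `561 ≤ |Q : A|`;
* `row_A9`, `row_hasSoc` : not in groups of order `|Ω₇(3)|`, `|Ω₈⁺(2)|`.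
-/

set_option autoImplicit false

namespace Cfsg.Agent.H814.EP9

open Equiv Equiv.Perm MulAction Subgroup Cfsg.Agent.H284 Cfsg.Agent.H839.EP
open scoped Pointwise

section

variable {Q : Type*} [Group Q] {A N : Subgroup Q} {Γ : Subgroup (MulAut Q)} (h : EPT A Γ)

include h

/-- the index of `Γ` in `Γ Inn(Q)` -/
theorem index_HH : (EPT.HH Γ).index = A.index := by
  let f : Q ⧸ A → EPT.GG Γ ⧸ EPT.HH Γ := Quotient.map' (EPT.jj Γ) (by
    intro x y hxy
    rw [QuotientGroup.leftRel_apply] at hxy ⊢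
    rw [← map_inv, ← map_mul]
    exact (EPT.jj_mem h).2 hxy)
  have hf : ∀ x : Q, f (x : Q ⧸ A) = (EPT.jj Γ x : EPT.GG Γ ⧸ EPT.HH Γ) := fun x => rfl
  have hinj : Function.Injective f := by
    intro x y hxy
    induction x using QuotientGroup.induction_on with
    | H x =>
      induction y using QuotientGroup.induction_on with
      | H y =>
        rw [hf, hf, QuotientGroup.eq, ← map_inv, ← map_mul, EPT.jj_mem h] at hxy
        exact QuotientGroup.eq.2 hxy
  have hsurj : Function.Surjective f := by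
    intro y
    induction y using QuotientGroup.induction_on with
    | H y =>
      obtain ⟨q, a, ha, rfl⟩ := EPT.exists_jj y
      refine ⟨(q : Q ⧸ A), ?_⟩
      rw [hf, QuotientGroup.eq]
      have e : (EPT.jj Γ q)⁻¹ * (EPT.jj Γ q * a) = a := by group
      rw [e]
      exact ha
  exact (Nat.card_congr (Equiv.ofBijective f ⟨hinj, hsurj⟩)).symm

omit h in
/-- the frame at the point `A` -/
noncomputable def frame {ρ : Γ →* Perm (Fin 9)} (hρ : Function.Injective ρ) :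
    Fr ρ.range (EPT.GG Γ) ((1 : EPT.GG Γ) : EPT.GG Γ ⧸ EPT.HH Γ) where
  ρ := ρ.comp (((EPT.GG Γ).subtype.comp (stabilizer (EPT.GG Γ) ((1 : EPT.GG Γ) : EPT.GG Γ ⧸ EPT.HH Γ)).subtype).codRestrict Γ
    (fun x => (SetLike.ext_iff.1 (MulAction.stabilizer_quotient (EPT.HH Γ)) (x : EPT.GG Γ)).1 x.2))
  inj := by
    refine hρ.comp ?_
    intro x y e
    apply Subtype.ext
    apply Subtype.ext
    exact congrArg (fun z : Γ => (z : MulAut Q)) e
  ran := by
    ext σ
    constructor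
    · rintro ⟨x, rfl⟩
      exact ⟨_, rfl⟩
    · rintro ⟨x, rfl⟩
      refine ⟨⟨⟨x, (le_sup_left : Γ ≤ EPT.GG Γ) x.2⟩, ?_⟩, rfl⟩
      rw [MulAction.stabilizer_quotient]
      exact x.2

variable [Finite Q] (hS : Soc A N) (e : N ≃* alternatingGroup (Fin 9))

include hS e

theorem index_le (he : Even A.index) : A.index ≤ 512 := by
  obtain ⟨ρ, hR⟩ := exists_rho hS h (by norm_num) e
  have hfin := EPT.finite_GG h
  have hEP := EPT.toEP h
  have hfa := hEP.faithful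
  have h1 := card_le hEP.toEPA (hR.alt_le hS h) (p := ((1 : EPT.GG Γ) : EPT.GG Γ ⧸ EPT.HH Γ)) (by
    show Even (EPT.HH Γ).index
    rw [index_HH h]
    exact he) (frame hR.inj)
  have h2 : Nat.card (EPT.GG Γ ⧸ EPT.HH Γ) = A.index := index_HH h
  rwa [h2] at h1

/-- the order of `A` -/
theorem card_A : Nat.card A = 362880 ∨ Nat.card A = 181440 := by
  obtain ⟨ρ, hR⟩ := exists_rho hS h (by norm_num) e
  let f : A →* Perm (Fin 9) := ρ.comp (conjA h)
  have hf : Function.Injective f := by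
    refine hR.inj.comp ?_
    rw [injective_iff_map_eq_one]
    intro a ha
    have h1 : EPT.jj Γ (a : Q) = 1 := by
      apply Subtype.ext
      exact congrArg (fun z : Γ => (z : MulAut Q)) ha
    exact Subtype.ext (EPT.jj_inj h (h1.trans (map_one _).symm))
  have halt : alternatingGroup (Fin 9) ≤ f.range := by
    intro p hp
    refine ⟨⟨((e.symm ⟨p, hp⟩ : N) : Q), hS.le (e.symm ⟨p, hp⟩).2⟩, ?_⟩
    have h1 := hR.con (conjA h ⟨((e.symm ⟨p, hp⟩ : N) : Q), hS.le (e.symm ⟨p, hp⟩).2⟩) (e.symm ⟨p, hp⟩) rfl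
    rw [e.apply_symm_apply] at h1
    exact h1
  have hc : Nat.card A = Nat.card f.range := Nat.card_congr (MonoidHom.ofInjective hf).toEquiv
  have h1 := index_dvd_of_le halt
  rw [alternatingGroup.index_eq_two] at h1
  have h2 := f.range.card_mul_index
  rw [← hc, Nat.card_perm, Nat.card_eq_fintype_card (α := Fin 9), Fintype.card_fin] at h2
  have h3 : Nat.factorial 9 = 362880 := by decide
  rw [h3] at h2
  rcases (Nat.dvd_prime Nat.prime_two).1 h1 with h4 | h4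
  · rw [h4] at h2
    left; omega
  · rw [h4] at h2
    right; omega

theorem index_ge (h3 : 3 ∣ A.index) (hA : Nat.card A = 362880) : 561 ≤ A.index := by
  obtain ⟨ρ, hR⟩ := exists_rho hS h (by norm_num) e
  have hfin := EPT.finite_GG h
  have hEP := EPT.toEP h
  have hfa := hEP.faithful
  have h4 : Nat.card ρ.range = 362880 := by
    apply le_antisymm
    · have h5 := Subgroup.card_le_card_group ρ.range
      rw [Nat.card_perm, Nat.card_eq_fintype_card (α := Fin 9), Fintype.card_fin] at h5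
      have h3 : Nat.factorial 9 = 362880 := by decide
      omega
    · rw [← hA]
      have h5 : Nat.card ρ.range = Nat.card Γ := (Nat.card_congr (MonoidHom.ofInjective hR.inj).toEquiv).symm
      rw [h5]
      apply Nat.card_le_card_of_injective (conjA h)
      rw [injective_iff_map_eq_one]
      intro a ha
      have h1 : EPT.jj Γ (a : Q) = 1 := by
        apply Subtype.ext
        exact congrArg (fun z : Γ => (z : MulAut Q)) ha
      exact Subtype.ext (EPT.jj_inj h (h1.trans (map_one _).symm))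
  have h1 := bound_three hEP.toEPA (hR.alt_le hS h) (frame hR.inj) (by
    show 3 ∣ (EPT.HH Γ).index
    rw [index_HH h]
    exact h3) h4
  have h2 : Nat.card (EPT.GG Γ ⧸ EPT.HH Γ) = A.index := index_HH h
  rwa [h2] at h1

/-- **The socle `A_9` in `Ω₇(3)`, `Ω₈⁺(2)`.** -/
theorem row_soc (hQ : Nat.card Q = 4585351680 ∨ Nat.card Q = 174182400) : False := by
  have h1 := A.card_mul_index
  have hcA := card_A h hS e
  have hev : Even A.index := by
    rcases hQ with hQ | hQ <;> rcases hcA with hA | hA <;> rw [hQ, hA] at h1 <;>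
    · rw [Nat.even_iff]
      (clear * - h1; omega)
  have h2 := index_le h hS e hev
  rcases hQ with hQ | hQ
  · rcases hcA with hA | hA <;> rw [hQ, hA] at h1 <;> omega
  · rcases hcA with hA | hA
    · have h4 : A.index = 480 := by
        rw [hQ, hA] at h1
        omega
      have h3 := index_ge h hS e (by rw [h4]; norm_num) hA
      omega
    · rw [hQ, hA] at h1
      omega

end

theorem row_hasSoc {Q : Type*} [Group Q] [Finite Q] {A : Subgroup Q} {Γ : Subgroup (MulAut Q)}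
    (h : EPT A Γ) (hS : Cfsg.Agent.H419.EP.HasSoc A (alternatingGroup (Fin 9)))
    (hQ : Nat.card Q = 4585351680 ∨ Nat.card Q = 174182400) : False := by
  obtain ⟨N, h1, h2, h3, ⟨e⟩⟩ := hS
  exact row_soc h ⟨h1, h2, h3⟩ e hQ

/-- the general bound -/
theorem index_le_of_hasSoc {Q : Type*} [Group Q] [Finite Q] {A : Subgroup Q} {Γ : Subgroup (MulAut Q)}
    (h : EPT A Γ) (hS : Cfsg.Agent.H419.EP.HasSoc A (alternatingGroup (Fin 9))) (he : Even A.index) : A.index ≤ 512 := by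
  obtain ⟨N, h1, h2, h3, ⟨e⟩⟩ := hS
  exact index_le h ⟨h1, h2, h3⟩ e he

end Cfsg.Agent.H814.EP9
end

private theorem dce_159cf0e54fcd : _root_.True := by
  try have : _root_.True := by simp only [_root_.Cfsg.Agent.H84.EP.pt.eq_1]
  try have : _root_.True := by simp only [_root_.Cfsg.Agent.H814.EP9.dts.eq_1]
  try have : _root_.True := by simp only [_root_.Cfsg.Agent.H84.EP.sg.eq_1]
  exact _root_.True.intro
end

-- part: H286/EP/CycSeven
section
prune_inst 0x11030440900020000000082d1001e428a00042000080800c0200b0006806c220d822820380001000a280005003c0068124c00800000000000000400011d05a19080000001000004860089800080000000000000000000000000000000000004200000000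
set_option linter.all false
open scoped Cfsg.Agent.FastGrp

-- part: H286/EP/PSeven
section
/-!
# The prime Sylow criterion for `A` with a `Γ`-invariant normal subgroup `N` (after helper284, helper67)

`ps_norm` : `Y ≤ N` of prime order `s`, self-centralising in `N`, not self-normalising in `N`, contained in `A^c`,
`c ∉ A`. If no Sylow `l`-subgroup of `N` is normalised by `Y` (`l ≠ s`), some `u ∈ A ∩ A^c ∩ N` normalises `Y`, `u ∉ Y`.
-/

set_option autoImplicit false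
set_option linter.unusedSectionVars false

namespace Cfsg.Agent.H286.EP

open Cfsg.Agent.H284 Subgroup

section

variable {Q : Type*} [Group Q] [Finite Q] {A N : Subgroup Q} {Γ : Subgroup (MulAut Q)}

/-- the socle of `A` is `Γ`-invariant -/
theorem soc_inv (h : EPT A Γ) (hNA : N ≤ A) (hN : ∀ a ∈ A, ∀ n ∈ N, a * n * a⁻¹ ∈ N)
    (hC : ∀ a ∈ A, (∀ n ∈ N, a * n = n * a) → a = 1) (hs : IsSimpleGroup ↥N) :
    ∀ σ ∈ Γ, ∀ n ∈ N, σ n ∈ N := by
  intro σ hσ
  set N' : Subgroup Q := N.map σ.toMonoidHom with hN'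
  have hmem : ∀ n ∈ N, σ n ∈ N' := fun n hn => ⟨n, hn, rfl⟩
  have hN'A : N' ≤ A := by
    rintro _ ⟨n, hn, rfl⟩
    exact (h.inv σ hσ n).2 (hNA hn)
  have hN'n : ∀ a ∈ A, ∀ n ∈ N', a * n * a⁻¹ ∈ N' := by
    rintro a ha _ ⟨n, hn, rfl⟩
    have h1 : σ⁻¹ a ∈ A := (h.inv _ (inv_mem hσ) a).2 ha
    have h2 := hmem _ (hN _ h1 n hn)
    have h3 : σ (σ⁻¹ a) = a := MulAut.apply_inv_self _ _ _
    rw [map_mul, map_mul, map_inv, h3] at h2
    exact h2
  have hn : ((N ⊓ N').subgroupOf N).Normal := ⟨by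
    rintro ⟨n, hn'⟩ hn ⟨a, ha⟩
    exact ⟨N.mul_mem (N.mul_mem ha hn') (N.inv_mem ha), hN'n a (hNA ha) n hn.2⟩⟩
  rcases hn.eq_bot_or_eq_top with h4 | h4
  · exfalso
    have hcomm : ∀ n' ∈ N', n' = 1 := by
      intro n' hn'
      apply hC n' (hN'A hn')
      intro n hn
      have h5 : n' * n * n'⁻¹ * n⁻¹ ∈ N ⊓ N' := by
        refine ⟨N.mul_mem (hN _ (hN'A hn') n hn) (N.inv_mem hn), ?_⟩
        have : n' * n * n'⁻¹ * n⁻¹ = n' * (n * n'⁻¹ * n⁻¹) := by group
        rw [this]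
        exact N'.mul_mem hn' (hN'n n (hNA hn) _ (N'.inv_mem hn'))
      have h6 : (⟨n' * n * n'⁻¹ * n⁻¹, h5.1⟩ : ↥N) ∈ (N ⊓ N').subgroupOf N := h5
      rw [h4, mem_bot] at h6
      have h7 : n' * n * n'⁻¹ * n⁻¹ = 1 := congrArg Subtype.val h6
      rw [mul_inv_eq_one, mul_inv_eq_iff_eq_mul] at h7
      exact h7
    obtain ⟨n, hn1⟩ := exists_ne (1 : ↥N)
    have h5 := hcomm _ (hmem n n.2)
    have h6 : (n : Q) = 1 := by
      apply σ.injective
      rw [h5, map_one]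
    exact hn1 (Subtype.ext h6)
  · have h5 : N ≤ N' := by
      intro x hx
      have h6 : (⟨x, hx⟩ : ↥N) ∈ (N ⊓ N').subgroupOf N := by rw [h4]; exact mem_top _
      exact (mem_inf.1 h6).2
    have h6 : Nat.card ↥N' = Nat.card ↥N :=
      (Nat.card_congr (N.equivMapOfInjective σ.toMonoidHom σ.injective).toEquiv).symm
    have h7 : N = N' := by
      apply SetLike.coe_injective
      exact Set.eq_of_subset_of_ncard_le h5 (by
        rw [← Nat.card_coe_set_eq, ← Nat.card_coe_set_eq]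
        exact h6.le) (Set.toFinite _)
    intro n hn
    rw [h7]
    exact hmem n hn

theorem inf_inv' (h : EPT A Γ) {x : Q} {σ : MulAut Q} (hσ : σ ∈ Γ) (hx : x⁻¹ * σ x ∈ A) {k : Q}
    (hk : k ∈ A ⊓ cj x A) : σ k ∈ A ⊓ cj x A := by
  refine mem_inf.2 ⟨(h.inv σ hσ k).2 hk.1, ?_⟩
  have h1 := mem_cj.1 hk.2
  rw [mem_cj]
  have e : x⁻¹ * σ k * x = x⁻¹ * σ x * σ (x⁻¹ * k * x) * (x⁻¹ * σ x)⁻¹ := by
    rw [map_mul, map_mul, map_inv]
    group
  rw [e]
  exact mul_mem (mul_mem hx ((h.inv σ hσ _).2 h1)) (inv_mem hx)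

/-- normalisers in `A` -/
theorem norm_mem (h : EPT A Γ) {x : Q} (hx : x ∉ A) {K : Subgroup Q} (hK : K ≤ A ⊓ cj x A)
    (hKn : ∀ σ ∈ Γ, x⁻¹ * σ x ∈ A → ∀ k ∈ K, σ k ∈ K) (hne : K ≠ ⊥) {a : Q} (ha : a ∈ A)
    (haK : ∀ k ∈ K, a * k * a⁻¹ ∈ K) : a ∈ cj x A := by
  have h1 := h.norm x hx K hK hKn hne (MulAut.conj a) ((h.conj a).2 ha) (fun k hk => by
    rw [MulAut.conj_apply]; exact haK k hk)
  rw [MulAut.conj_apply] at h1
  rw [mem_cj]
  have h2 : x⁻¹ * a * x = x⁻¹ * (a * x * a⁻¹) * a := by group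
  rw [h2]
  exact A.mul_mem h1 ha

/-- **(PS)** for a normal subgroup -/
theorem ps_norm (h : EPT A Γ) (hNA : N ≤ A) (hNΓ : ∀ σ ∈ Γ, ∀ n ∈ N, σ n ∈ N)
    {s : ℕ} (hs : s.Prime) {Y : Subgroup Q} (hYN : Y ≤ N) (hY : Nat.card Y = s)
    (hYc : ∀ a ∈ N, (∀ y ∈ Y, a * y = y * a) → a ∈ Y) {w : Q} (hwN : w ∈ N) (hwY : ∀ y ∈ Y, w * y * w⁻¹ ∈ Y)
    (hwn : w ∉ Y)
    (hfrob : ∀ l, l.Prime → l ∣ Nat.card N → l ≠ s → ∀ R : Subgroup Q, R ≤ N → IsPGroup l R →
      Nat.card R = l ^ (Nat.card N).factorization l → Nat.card R ≡ 1 [MOD s] →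
      (∀ P : Subgroup Q, P ≤ N → IsPGroup l P → R ≤ P → P = R) → (∀ y ∈ Y, ∀ r ∈ R, y * r * y⁻¹ ∈ R) → False)
    {c : Q} (hYc' : Y ≤ cj c A) (hcA : c ∉ A) :
    ∃ u ∈ A ⊓ cj c A, u ∈ N ∧ (∀ y ∈ Y, u * y * u⁻¹ ∈ Y) ∧ u ∉ Y := by
  have := Fact.mk hs
  by_contra hcon
  set M0 := A ⊓ cj c A ⊓ N with hM0
  have hno : ∀ u ∈ M0, (∀ y ∈ Y, u * y * u⁻¹ ∈ Y) → u ∈ Y := by
    intro u hu hun
    by_contra huY
    exact hcon ⟨u, (mem_inf.1 hu).1, (mem_inf.1 hu).2, hun, huY⟩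
  have hM0n : ∀ σ ∈ Γ, c⁻¹ * σ c ∈ A → ∀ k ∈ M0, σ k ∈ M0 := fun σ hσ hc k hk =>
    mem_inf.2 ⟨inf_inv' h hσ hc (mem_inf.1 hk).1, hNΓ σ hσ k (mem_inf.1 hk).2⟩
  have hYM : Y ≤ M0 := le_inf (le_inf (hYN.trans hNA) hYc') hYN
  have hYp : IsPGroup s Y := IsPGroup.of_card (n := 1) (by rw [hY, pow_one])
  have hYab : ∀ a ∈ Y, ∀ b ∈ Y, a * b = b * a := by
    have := isCyclic_of_prime_card hY
    have hc : ∀ a b : Y, a * b = b * a := fun a b => (IsCyclic.commGroup (α := Y)).mul_comm a b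
    exact fun a ha b hb => Subtype.ext_iff.1 (hc ⟨a, ha⟩ ⟨b, hb⟩)
  have hYM' : IsPGroup s (Y.subgroupOf M0) := hYp.of_equiv (Subgroup.subgroupOfEquivOfLe hYM).symm
  obtain ⟨P, hP⟩ := hYM'.exists_le_sylow
  have hPY : (P : Subgroup M0).map M0.subtype = Y := by
    by_contra hne
    obtain ⟨y, hy1, hy2, hy3⟩ := exists_norm_lt hs (P.isPGroup'.map M0.subtype) (R := Y) (by
      intro y hy
      exact ⟨⟨y, hYM hy⟩, hP hy, rfl⟩) hne
    apply hy2
    obtain ⟨z, _, rfl⟩ := hy1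
    exact hno _ z.2 hy3
  have hPmem : ∀ y : M0, y ∈ (P : Subgroup M0) ↔ (y : Q) ∈ Y := by
    intro y
    constructor
    · intro hy
      rw [← hPY]
      exact ⟨y, hy, rfl⟩
    · intro hy
      rw [← hPY] at hy
      obtain ⟨z, hz, e⟩ := hy
      have : z = y := Subtype.ext e
      rwa [← this]
  have hPc : Subgroup.normalizer ((P : Subgroup M0) : Set M0) ≤ Subgroup.centralizer ((P : Subgroup M0) : Set M0) := by
    intro y hy
    rw [Subgroup.mem_centralizer_iff]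
    rw [Subgroup.mem_normalizer_iff] at hy
    have h1 : (y : Q) ∈ Y := by
      apply hno _ y.2
      intro k hk
      exact (hPmem _).1 ((hy ⟨k, hYM hk⟩).1 ((hPmem _).2 hk))
    intro z hz
    apply Subtype.ext
    exact hYab _ ((hPmem z).1 hz) _ h1
  obtain ⟨L', hL'n, hcomp, hnd, hlL'⟩ : ∃ L' : Subgroup M0, L'.Normal ∧ Subgroup.IsComplement' L' (P : Subgroup M0) ∧
      ¬ s ∣ Nat.card L' ∧ ∀ x : M0, ∀ l : ℕ, l.Prime → l ≠ s → (∃ k : ℕ, x ^ (l ^ k) = 1) → x ∈ L' := by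
    refine ⟨(MonoidHom.transferSylow P hPc).ker, MonoidHom.normal_ker _,
      MonoidHom.ker_transferSylow_isComplement' P hPc, MonoidHom.not_dvd_card_ker_transferSylow P hPc, ?_⟩
    rintro x l hl hls ⟨k, hk⟩
    rw [MonoidHom.mem_ker]
    have h1 : orderOf (MonoidHom.transferSylow P hPc x) ∣ l ^ k := by
      apply orderOf_dvd_of_pow_eq_one
      rw [← map_pow, hk, map_one]
    obtain ⟨j, hj⟩ := P.isPGroup' (MonoidHom.transferSylow P hPc x)
    have h2 : orderOf (MonoidHom.transferSylow P hPc x) ∣ s ^ j := orderOf_dvd_of_pow_eq_one hj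
    have h3 : Nat.Coprime (l ^ k) (s ^ j) := Nat.Coprime.pow _ _ ((Nat.coprime_primes hl hs).2 hls)
    have h4 : orderOf (MonoidHom.transferSylow P hPc x) ∣ 1 := by
      rw [← h3]
      exact Nat.dvd_gcd h1 h2
    exact orderOf_eq_one_iff.1 (Nat.dvd_one.1 h4)
  by_cases hbot : L' = ⊥
  · -- `M0 = Y`
    rw [hbot, Subgroup.isComplement'_bot_left] at hcomp
    have hM0Y : M0 ≤ Y := by
      intro m hm
      have : (⟨m, hm⟩ : M0) ∈ (P : Subgroup M0) := by rw [hcomp]; exact mem_top _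
      exact (hPmem _).1 this
    have hM0Y' : M0 = Y := le_antisymm hM0Y hYM
    have h1 : w ∈ cj c A := by
      refine norm_mem h hcA (K := M0) inf_le_left hM0n ?_ (hNA hwN) ?_
      · rw [hM0Y']
        intro e
        rw [e, Subgroup.card_bot] at hY
        exact hs.one_lt.ne hY
      · rw [hM0Y']
        exact hwY
    apply hwn
    apply hM0Y
    exact mem_inf.2 ⟨mem_inf.2 ⟨hNA hwN, h1⟩, hwN⟩
  · set L := L'.map M0.subtype with hL
    have hLM : L ≤ M0 := by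
      rintro _ ⟨y, _, rfl⟩
      exact y.2
    have hLn : ∀ m ∈ M0, ∀ a ∈ L, m * a * m⁻¹ ∈ L := by
      rintro m hm _ ⟨a, ha, rfl⟩
      exact ⟨(⟨m, hm⟩ * a * ⟨m, hm⟩⁻¹ :), hL'n.conj_mem a ha _, rfl⟩
    have hLY : ∀ a ∈ L, a ∈ Y → a = 1 := by
      rintro _ ⟨a, ha, rfl⟩ haY
      have h1 : a ∈ (P : Subgroup M0) := (hPmem a).2 haY
      have h2 := hcomp.disjoint
      rw [Subgroup.disjoint_def] at h2
      rw [h2 ha h1, map_one]
    have hLne : L ≠ ⊥ := by
      rw [hL, Ne, Subgroup.map_eq_bot_iff_of_injective _ M0.subtype_injective]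
      exact hbot
    have hfixL : ∀ a ∈ L, (∀ y ∈ Y, y * a = a * y) → a = 1 := by
      intro a ha hya
      apply hLY a ha
      apply hYc a (mem_inf.1 (hLM ha)).2
      intro y hy
      exact (hya y hy).symm
    have hnil : Group.IsNilpotent L := (fpf_sub (L := L) hs hY (fun y hy => hLn y (hYM hy)) hfixL).1 hLne
    have hcardL : Nat.card L ≠ 1 := fun e => hLne (Subgroup.card_eq_one.1 e)
    obtain ⟨l, hl, hld⟩ := Nat.exists_prime_and_dvd hcardL
    have := Fact.mk hl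
    have hcLL' : Nat.card L = Nat.card L' := (Nat.card_congr (L'.equivMapOfInjective _ M0.subtype_injective).toEquiv).symm
    have hls : l ≠ s := by
      rintro rfl
      rw [hcLL'] at hld
      exact hnd hld
    -- `l`-elements of `M0` are in `L`
    have hlL : ∀ x ∈ M0, (∃ k : ℕ, x ^ (l ^ k) = 1) → x ∈ L := by
      rintro x hx ⟨k, hk⟩
      exact ⟨⟨x, hx⟩, hlL' _ l hl hls ⟨k, Subtype.ext hk⟩, rfl⟩
    obtain ⟨R, hR, hRp⟩ := exists_lpart hnil hl
    have hR' : ∀ x, x ∈ R ↔ x ∈ M0 ∧ ∃ k : ℕ, x ^ (l ^ k) = 1 := by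
      intro x
      rw [hR]
      exact ⟨fun hx => ⟨hLM hx.1, hx.2⟩, fun hx => ⟨hlL x hx.1 hx.2, hx.2⟩⟩
    have hRne : R ≠ ⊥ := by
      intro e
      obtain ⟨d, hd⟩ := exists_prime_orderOf_dvd_card' l hld
      have h2 : (d : Q) ∈ R := (hR _).2 ⟨d.2, 1, by
        rw [pow_one]
        have := pow_orderOf_eq_one d
        rw [hd] at this
        exact Subtype.ext_iff.1 this⟩
      rw [e, mem_bot] at h2
      have h3 : d = 1 := Subtype.ext h2
      rw [h3, orderOf_one] at hd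
      exact hl.one_lt.ne hd
    have hRN : R ≤ N := fun x hx => (mem_inf.1 ((hR' x).1 hx).1).2
    have hmax : ∀ P : Subgroup Q, P ≤ N → IsPGroup l P → R ≤ P → P = R := by
      intro P hPN hPp hRP
      by_contra hcon
      obtain ⟨y, hyP, hyR, hyn⟩ := exists_norm_lt hl hPp hRP hcon
      apply hyR
      have h1 : y ∈ cj c A := by
        refine norm_mem h hcA (K := R) (fun k hk => (mem_inf.1 ((hR' k).1 hk).1).1) ?_ hRne (hNA (hPN hyP)) hyn
        intro σ hσ hcσ k hk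
        obtain ⟨h1, l', hl'⟩ := (hR' k).1 hk
        exact (hR' _).2 ⟨hM0n σ hσ hcσ k h1, l', by rw [← map_pow, hl', map_one]⟩
      obtain ⟨k, hk⟩ := hPp ⟨y, hyP⟩
      exact (hR' y).2 ⟨mem_inf.2 ⟨mem_inf.2 ⟨hNA (hPN hyP), h1⟩, hPN hyP⟩, k, Subtype.ext_iff.1 hk⟩
    -- `R` is a Sylow subgroup of `N`
    have hRA' : IsPGroup l (R.subgroupOf N) := hRp.of_equiv (Subgroup.subgroupOfEquivOfLe hRN).symm
    obtain ⟨P', hP'⟩ := hRA'.exists_le_sylow
    have hPR : (P' : Subgroup N).map N.subtype = R := by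
      apply hmax
      · rintro _ ⟨y, _, rfl⟩
        exact y.2
      · exact P'.isPGroup'.map _
      · intro y hy
        exact ⟨⟨y, hRN hy⟩, hP' hy, rfl⟩
    have hcardR : Nat.card R = l ^ (Nat.card N).factorization l := by
      rw [← hPR, ← P'.card_eq_multiplicity]
      exact (Nat.card_congr ((P' : Subgroup N).equivMapOfInjective _ N.subtype_injective).toEquiv).symm
    have hRY : ∀ y ∈ Y, ∀ a ∈ R, y * a * y⁻¹ ∈ R := by
      intro y hy a ha
      rw [hR'] at ha ⊢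
      obtain ⟨ha1, k, hk⟩ := ha
      refine ⟨M0.mul_mem (M0.mul_mem (hYM hy) ha1) (M0.inv_mem (hYM hy)), k, ?_⟩
      rw [conj_pow, hk, mul_one, mul_inv_cancel]
    have hfix := (fpf_sub hs hY (L := R) hRY (by
      intro a ha hya
      apply hLY a ((hR a).1 ha).1
      apply hYc a (hRN ha)
      intro y hy
      exact (hya y hy).symm)).2
    refine hfrob l hl ?_ hls R hRN hRp hcardR hfix hmax hRY
    exact hld.trans (Subgroup.card_dvd_of_le (hLM.trans inf_le_right))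

end

end Cfsg.Agent.H286.EP
end

-- part: H286/EP/DFour
section
/-!
# Subgroups of `D₄(2)` containing `[U, U]`

`Y = chevD4.group K`, `K` the field with two elements, `U` the standard Sylow 2-subgroup.

* `top_of` : `⟨[U,U], x_{-h}⟩ = Y`;
* `core_ne` : a proper subgroup `M ≥ [U,U]` has `O_2(M) ≠ 1`;
* `sylow_le` : if `N(O_2(M)) ≤ M`, `O_2(M) ≠ 1`, then `M` contains a Sylow 2-subgroup.
-/

set_option autoImplicit false
set_option linter.unusedSectionVars false

namespace Cfsg.Agent.H286.EP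

open CoxeterSystem Cfsg.Agent.ChevalleyStructure.CoxeterGeom Cfsg.Agent.Tits.Roots Cfsg.Agent.Tits.Core
  Cfsg.Agent.Tits.RootComb Cfsg.Agent.Nodes.Comb Cfsg.Agent.Nodes.Reps Cfsg.Agent.Nodes.BNOf
  Cfsg.Agent.Nodes.StabComb Cfsg.Agent.Nodes.Bruhat Cfsg.Agent.Nodes.LeviDec
open Cfsg.Lie Cfsg.Agent.ChevalleyStructure Cfsg.Agent.ChevalleyStructure.Elts
  Cfsg.Agent.ChevalleyStructure.RootVec Cfsg.Agent.ChevalleyStructure.RootVecTab
  Cfsg.Agent.ChevalleyStructure.NPerm Cfsg.Agent.ChevalleyStructure.CoxeterGeomTypes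
open Cfsg.Agent.Nodes Cfsg.Agent.Nodes.RGDChev Cfsg.Agent.Nodes.Coroot Cfsg.Agent.KFacts.ChevTwo
  Cfsg.Agent.KFacts.ChevTwoInst Cfsg.Agent.KFacts.ChevTwoTab
open scoped commutatorElement

/-! ### the root table -/

theorem hp4 : IsType chevD4 4 coxeterD4 := by simp [IsType, typeList]

/-- `(r, s, v)` : `v = r + s`, the Cartan integers are `-1` -/
def relOK (r s v : ℕ) : Bool :=
  decide (r < 24 ∧ s < 24 ∧ v < 24 ∧ vec chevD4 4 v = vec chevD4 4 r + vec chevD4 4 s ∧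
    carB chevD4 s r = -1 ∧ carB chevD4 r s = -1)

theorem nroots4 : chevD4.nroots = 24 := by decide +kernel

/-- the chain generating all root elements from those of height `≥ 2` and the lowest one -/
theorem chain {P : ℕ → Prop} (hP : ∀ r s v, relOK r s v = true → P r → P s → P v)
    (h0 : ∀ r ∈ [15, 16, 17, 19, 20, 21, 22, 23, 0], P r) : ∀ r, r < 24 → P r := by
  have h15 : P 15 := h0 15 (by simp)
  have h16 : P 16 := h0 16 (by simp)
  have h17 : P 17 := h0 17 (by simp)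
  have h19 : P 19 := h0 19 (by simp)
  have h20 : P 20 := h0 20 (by simp)
  have h21 : P 21 := h0 21 (by simp)
  have h22 : P 22 := h0 22 (by simp)
  have h23 : P 23 := h0 23 (by simp)
  have h00 : P 0 := h0 0 (by simp)
  have h2 : P 2 := hP 15 0 2 (by decide +kernel) h15 h00
  have h3 : P 3 := hP 16 0 3 (by decide +kernel) h16 h00
  have h5 : P 5 := hP 15 3 5 (by decide +kernel) h15 h3
  have h4 : P 4 := hP 17 0 4 (by decide +kernel) h17 h00
  have h6 : P 6 := hP 19 0 6 (by decide +kernel) h19 h00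
  have h10 : P 10 := hP 15 6 10 (by decide +kernel) h15 h6
  have h11 : P 11 := hP 16 6 11 (by decide +kernel) h16 h6
  have h14 : P 14 := hP 15 11 14 (by decide +kernel) h15 h11
  have h7 : P 7 := hP 20 0 7 (by decide +kernel) h20 h00
  have h12 : P 12 := hP 17 7 12 (by decide +kernel) h17 h7
  have h8 : P 8 := hP 21 0 8 (by decide +kernel) h21 h00
  have h13 : P 13 := hP 17 8 13 (by decide +kernel) h17 h8
  have h18 : P 18 := hP 20 8 18 (by decide +kernel) h20 h8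
  have h9 : P 9 := hP 22 0 9 (by decide +kernel) h22 h00
  have h1 : P 1 := hP 0 14 1 (by decide +kernel) h00 h14
  intro r hr
  interval_cases r <;> assumption

/-- the roots of height `≥ 2` are sums of positive roots -/
theorem height_two : ∀ v ∈ [15, 16, 17, 19, 20, 21, 22, 23], ∃ r s, 12 ≤ r ∧ 12 ≤ s ∧ relOK r s v = true := by
  intro v hv
  simp only [List.mem_cons, List.not_mem_nil, or_false] at hv
  rcases hv with rfl | rfl | rfl | rfl | rfl | rfl | rfl | rfl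
  · exact ⟨12, 14, by norm_num, by norm_num, by decide +kernel⟩
  · exact ⟨13, 14, by norm_num, by norm_num, by decide +kernel⟩
  · exact ⟨12, 16, by norm_num, by norm_num, by decide +kernel⟩
  · exact ⟨14, 18, by norm_num, by norm_num, by decide +kernel⟩
  · exact ⟨12, 19, by norm_num, by norm_num, by decide +kernel⟩
  · exact ⟨13, 19, by norm_num, by norm_num, by decide +kernel⟩
  · exact ⟨12, 21, by norm_num, by norm_num, by decide +kernel⟩
  · exact ⟨14, 22, by norm_num, by norm_num, by decide +kernel⟩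

theorem pos_iff : ∀ r, r < 24 → (0 ≤ vec chevD4 4 r ↔ 12 ≤ r) := by
  have h : ∀ r ∈ List.range 24, ((∀ i, 0 ≤ vec chevD4 4 r i) ↔ 12 ≤ r) := by decide +kernel
  exact fun r hr => h r (List.mem_range.2 hr)

/-- Cartan integers with the highest root -/
theorem cpr_high : ∀ r, r < 24 → r = 0 ∨ (∃ v, relOK 23 r v = true) ∨ 0 ≤ carB chevD4 23 r := by
  have h : ∀ r ∈ List.range 24, r = 0 ∨ (∃ v ∈ List.range 24, relOK 23 r v = true) ∨
    0 ≤ carB chevD4 23 r := by decide +kernel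
  intro r hr
  rcases h r (List.mem_range.2 hr) with h1 | ⟨v, -, h1⟩ | h1
  · exact Or.inl h1
  · exact Or.inr (Or.inl ⟨v, h1⟩)
  · exact Or.inr (Or.inr h1)

theorem cpr_high_pos : ∀ r, r < 24 → 12 ≤ r → 0 ≤ carB chevD4 23 r := by
  have h : ∀ r ∈ List.range 24, 12 ≤ r → 0 ≤ carB chevD4 23 r := by decide +kernel
  exact fun r hr => h r (List.mem_range.2 hr)

/-! ### abstract lemmas -/

/-- If `O_2(M) ≤ V`, `N(O_2(M)) ≤ M ∩ P`, `V` a normal 2-subgroup of `P`, then `P ≤ M`. -/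
theorem le_of_core {G : Type*} [Group G] [Finite G] {M P V C : Subgroup G}
    (hC : C = (Cfsg.pCore 2 ↥M).map M.subtype) (hN : Subgroup.normalizer (C : Set G) ≤ M)
    (hVp : IsPGroup 2 ↥V) (hPV : ∀ a ∈ P, ∀ v ∈ V, a * v * a⁻¹ ∈ V) (h1 : C ≤ V)
    (h2 : Subgroup.normalizer (C : Set G) ≤ P) : P ≤ M := by
  have hMN : M ≤ Subgroup.normalizer (C : Set G) := by
    have h5 : (Cfsg.pCore 2 ↥M).Normal := Cfsg.Agent.Lib.Cores.pCore_normal 2
    have key : ∀ m ∈ M, ∀ c ∈ C, m * c * m⁻¹ ∈ C := by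
      rw [hC]
      rintro m hm _ ⟨c, hc, rfl⟩
      exact ⟨(⟨m, hm⟩ * c * ⟨m, hm⟩⁻¹ :), h5.conj_mem c hc _, rfl⟩
    intro m hm
    rw [Subgroup.mem_normalizer_iff]
    intro c
    refine ⟨key m hm c, fun hc => ?_⟩
    have h6 := key m⁻¹ (M.inv_mem hm) _ hc
    have h7 : m⁻¹ * (m * c * m⁻¹) * m⁻¹⁻¹ = c := by group
    rwa [h7] at h6
  have hinf : ∀ x ∈ M, x ∈ V → x ∈ C := by
    have h5 : ((M ⊓ V).subgroupOf M).Normal := ⟨by
      rintro ⟨x, hx⟩ hxV ⟨m, hm⟩
      rw [Subgroup.mem_subgroupOf] at hxV ⊢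
      exact ⟨M.mul_mem (M.mul_mem hm hx) (M.inv_mem hm), hPV m (h2 (hMN hm)) x hxV.2⟩⟩
    have h6 : IsPGroup 2 ↥((M ⊓ V).subgroupOf M) :=
      (IsPGroup.to_le hVp inf_le_right).comap_of_injective M.subtype Subtype.val_injective
    have h7 := Cfsg.Agent.Lib.Cores.le_pCore h5 h6
    intro x hx hxV
    rw [hC]
    exact ⟨⟨x, hx⟩, h7 (Subgroup.mem_subgroupOf.2 ⟨hx, hxV⟩), rfl⟩
  have hCV : C = V := by
    by_contra hcon
    obtain ⟨x, hx, hxC, hxN⟩ := Cfsg.Agent.Involutions.BaerSuzuki.exists_mem_normalizer_of_lt hVp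
      (lt_of_le_of_ne h1 hcon)
    exact hxC (hinf x (hN hxN) hx)
  intro x hxP
  apply hN
  rw [hCV, Subgroup.mem_normalizer_iff]
  intro v
  refine ⟨hPV x hxP v, fun hv => ?_⟩
  have h6 := hPV x⁻¹ (inv_mem hxP) _ hv
  have h7 : x⁻¹ * (x * v * x⁻¹) * x⁻¹⁻¹ = v := by group
  rwa [h7] at h6

/-- conjugation of a normal subgroup -/
theorem cj_normal {G : Type*} [Group G] {P V : Subgroup G} (h : P ≤ Subgroup.normalizer (V : Set G)) (g : G) :
    ∀ a ∈ Reps.cj g P, ∀ v ∈ Reps.cj g V, a * v * a⁻¹ ∈ Reps.cj g V := by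
  intro a ha v hv
  rw [mem_cj] at ha hv ⊢
  have h3 := (Subgroup.mem_normalizer_iff.1 (h ha) _).1 hv
  have h4 : g⁻¹ * (a * v * a⁻¹) * g = g⁻¹ * a * g * (g⁻¹ * v * g) * (g⁻¹ * a * g)⁻¹ := by group
  rw [h4]
  exact h3

/-! ### the group -/

variable (K : Type) [Field K] [Finite K] [CharP K 2]

/-- the root elements -/
noncomputable def z (r : ℕ) : ↥(chevD4.group K) := eg hp4 K (vec chevD4 4 r) 1

/-- the root groups -/
abbrev XX : (Fin 4 → ℤ) → Subgroup ↥(chevD4.group K) := fun x => (XV chevD4 4 K x).subgroupOf (chevD4.group K)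

/-- the torus -/
abbrev TT : Subgroup ↥(chevD4.group K) := (chevD4.diagonalSubgroup K).subgroupOf (chevD4.group K)

/-- the Coxeter system -/
abbrev c4 : CoxeterSystem coxeterD4 coxeterD4.Group := coxeterD4.toCoxeterSystem

/-- the standard Sylow 2-subgroup -/
def UU : Subgroup ↥(chevD4.group K) := RGD.Sup (XX K) (RGD.Pos c4 hp4.isCartan)

instance finite4 : Finite coxeterD4.Group := finite_W hp4 coxeterD4.toCoxeterSystem

theorem sys4 : _root_.Cfsg.Agent.KFacts.ChevTwo.Sys (rgd (K := K) hp4 c4 2) (eg hp4 K) := sys hp4 twoOK_D4 c4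

theorem root4 {r : ℕ} (hr : r < 24) : IsRoot c4 hp4.isCartan (vec chevD4 4 r) :=
  isRoot_vec hp4 c4 (by rw [nroots4]; exact hr)

theorem cpr4 {r s : ℕ} (hr : r < 24) (hs : s < 24) :
    cpr c4 hp4.isCartan (vec chevD4 4 s) (vec chevD4 4 r) = carB chevD4 r s := by
  rw [cpr_vec hp4 c4 (by rw [nroots4]; exact hr) s (by rw [nroots4]; exact hs), carB_eq]

theorem exists_vec {x : Fin 4 → ℤ} (hx : IsRoot c4 hp4.isCartan x) : ∃ r, r < 24 ∧ vec chevD4 4 r = x := by
  obtain ⟨r, hr, e⟩ := (isRoot_iff hp4 c4 x).1 hx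
  exact ⟨r, by rw [nroots4] at hr; exact hr, e⟩

theorem z_sq {r : ℕ} (hr : r < 24) : z K r * z K r = 1 := (sys4 K).data.sq (root4 hr) 1

theorem z_ne {r : ℕ} (hr : r < 24) : z K r ≠ 1 := (sys4 K).data.ne_one (root4 hr) one_ne_zero

theorem z_comm {r s v : ℕ} (h : relOK r s v = true) : ⁅z K r, z K s⁆ = z K v := by
  obtain ⟨hr, hs, hv, e, h1, h2⟩ := of_decide_eq_true h
  unfold z
  rw [(sys4 K).data.comm1 _ _ (root4 hr) (root4 hs) (by rw [cpr4 hs hr, h1]) (by rw [cpr4 hr hs, h2]), e, mul_one]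

theorem z_comm0 {r s : ℕ} (hr : r < 24) (hs : s < 24) (h : 0 ≤ carB chevD4 s r) : z K r * z K s = z K s * z K r :=
  (sys4 K).data.comm_of_nonneg (root4 hr) (root4 hs) (by rw [cpr4 hs hr]; exact h) 1 1

theorem z_mem_U {r : ℕ} (hr : r < 24) (h : 12 ≤ r) : z K r ∈ UU K :=
  RGD.le_Sup (S := RGD.Pos c4 hp4.isCartan) ⟨root4 hr, (pos_iff r hr).2 h⟩ ((sys4 K).mem (root4 hr) 1)

theorem z_mem_comm {r : ℕ} (hr : r ∈ [15, 16, 17, 19, 20, 21, 22, 23]) : z K r ∈ ⁅UU K, UU K⁆ := by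
  obtain ⟨a, b, ha, hb, h⟩ := height_two r hr
  have h' := of_decide_eq_true h
  rw [← z_comm K h]
  exact Subgroup.commutator_mem_commutator (z_mem_U K h'.1 ha) (z_mem_U K h'.2.1 hb)

variable {K} (hK : ∀ t : K, t = 0 ∨ t = 1)

include hK

theorem mem_X {r : ℕ} (hr : r < 24) {g : ↥(chevD4.group K)} (hg : g ∈ XX K (vec chevD4 4 r)) : g = 1 ∨ g = z K r := by
  obtain ⟨t, rfl⟩ := ((sys4 K).mem_X _ (root4 hr) g).1 hg
  rcases hK t with rfl | rfl
  · exact Or.inl ((sys4 K).data.zero (root4 hr))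
  · exact Or.inr rfl

theorem top_of_mem {M : Subgroup ↥(chevD4.group K)} (hM : ∀ r, r < 24 → z K r ∈ M) : M = ⊤ := by
  rw [eq_top_iff, ← G1_eq_top (K := K) hp4 c4]
  refine RGD.Sup_le fun x hx => ?_
  obtain ⟨r, hr, rfl⟩ := exists_vec hx
  intro g hg
  rcases mem_X hK hr hg with rfl | rfl
  · exact one_mem _
  · exact hM r hr

theorem top_of {M : Subgroup ↥(chevD4.group K)} (hM : ⁅UU K, UU K⁆ ≤ M) (h0 : z K 0 ∈ M) : M = ⊤ := by
  refine top_of_mem hK (chain (P := fun r => z K r ∈ M) ?_ ?_)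
  · intro r s v h hr hs
    show z K v ∈ M
    rw [← z_comm K h]
    exact mul_mem (mul_mem (mul_mem hr hs) (inv_mem hr)) (inv_mem hs)
  · intro r hr
    by_cases h : r = 0
    · rw [h]; exact h0
    · exact hM (z_mem_comm K (by simp at hr ⊢; omega))

/-- the torus is trivial -/
theorem torus_bot {t : ↥(chevD4.group K)} (ht : t ∈ TT K) : t = 1 := by
  obtain ⟨χ, hχ⟩ := HMatDiagAll.mem_torus.1 (HMatDiagAll.diagonalSubgroup_le_torus hp4.inList
    (Subgroup.mem_subgroupOf.1 ht))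
  have h1 : IsUnit (Matrix.diagonal (Sum.elim (fun _ => (1 : K)) χ) : Matrix chevD4.Idx chevD4.Idx K) := by
    rw [← hχ]; exact Units.isUnit _
  rw [Matrix.isUnit_diagonal, Pi.isUnit_iff] at h1
  have h2 : ∀ s, χ s = 1 := by
    intro s
    have h3 := (h1 (Sum.inr s)).ne_zero
    exact (hK (χ s)).resolve_left h3
  apply Subtype.ext
  apply Units.ext
  rw [hχ]
  show _ = (1 : Matrix chevD4.Idx chevD4.Idx K)
  rw [← Matrix.diagonal_one]
  congr 1
  funext i
  rcases i with i | i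
  · rfl
  · exact h2 i

theorem B_le_U : RGD.B c4 hp4.isCartan (TT K) (XX K) ≤ UU K := by
  refine sup_le (fun t ht => ?_) le_rfl
  rw [torus_bot hK ht]
  exact one_mem _

omit hK in
theorem U_pgroup : IsPGroup 2 ↥(UU K) := (rgd (K := K) hp4 c4 2).isPGroup_Upos

omit hK in
theorem U_index : ¬ 2 ∣ (UU K).index := by
  have h1 := Cfsg.Agent.KFacts.RgdSyl.not_dvd_relIndex (rgd (K := K) hp4 c4 2)
  rw [Cfsg.Agent.KFacts.RgdFilt.GG_eq_top (G1_eq_top hp4 c4), Subgroup.relIndex_top_right] at h1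
  exact h1

/-- `x_h` is central in `U` -/
theorem z_cent {u : ↥(chevD4.group K)} (hu : u ∈ UU K) : u * z K 23 = z K 23 * u := by
  have h1 : UU K ≤ Subgroup.centralizer ({z K 23} : Set ↥(chevD4.group K)) := by
    refine RGD.Sup_le fun x hx => ?_
    obtain ⟨r, hr, rfl⟩ := exists_vec hx.1
    intro g hg
    rw [Subgroup.mem_centralizer_singleton_iff]
    rcases mem_X hK hr hg with rfl | rfl
    · rw [one_mul, mul_one]
    · exact z_comm0 K hr (by norm_num) (cpr_high_pos r hr ((pos_iff r hr).1 hx.2))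
  exact Subgroup.mem_centralizer_singleton_iff.1 (h1 hu)

omit hK in
theorem normalizes {u : ↥(chevD4.group K)} (hu : u ∈ UU K) {c : ↥(chevD4.group K)} (hc : c ∈ ⁅UU K, UU K⁆) :
    u * c * u⁻¹ ∈ ⁅UU K, UU K⁆ := by
  have h1 : c ∈ UU K := Subgroup.commutator_le_self _ hc
  have h2 : u * c * u⁻¹ = ⁅u, c⁆ * c := by rw [commutatorElement_def]; group
  rw [h2]
  exact mul_mem (Subgroup.commutator_mem_commutator hu h1) hc

omit hK in
/-- two involutions whose product has 2-power order (copied from `H170.Fl.Ext`) -/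
theorem isPGroup_pair {G : Type*} [Group G] {a b : G} (ha : a * a = 1) (hb : b * b = 1) {k : ℕ}
    (h : (a * b) ^ 2 ^ k = 1) : IsPGroup 2 (Subgroup.closure {a, b} : Subgroup G) := by
  have hai : a⁻¹ = a := inv_eq_of_mul_eq_one_left ha
  have hbi : b⁻¹ = b := inv_eq_of_mul_eq_one_left hb
  have hconj : ∀ n : ℤ, a * (a * b) ^ n * a = (a * b) ^ (-n) := by
    intro n
    have h1 : a * (a * b) * a⁻¹ = (a * b)⁻¹ := by
      rw [mul_inv_rev, hai, hbi, ← mul_assoc, ha, one_mul]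
    have h2 : a * (a * b) ^ n * a⁻¹ = (a * (a * b) * a⁻¹) ^ n := (conj_zpow).symm
    rw [h1, inv_zpow', hai] at h2
    exact h2
  have key : ∀ g ∈ Subgroup.closure {a, b},
      (∃ n : ℤ, g = (a * b) ^ n) ∨ ∃ n : ℤ, g = a * (a * b) ^ n := by
    intro g hg
    induction hg using Subgroup.closure_induction with
    | mem x hx =>
      rcases hx with rfl | hx
      · exact Or.inr ⟨0, by rw [zpow_zero, mul_one]⟩
      · rw [Set.mem_singleton_iff] at hx
        subst hx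
        exact Or.inr ⟨1, by rw [zpow_one, ← mul_assoc, ha, one_mul]⟩
    | one => exact Or.inl ⟨0, (zpow_zero _).symm⟩
    | mul x y _ _ hx hy =>
      rcases hx with ⟨n, rfl⟩ | ⟨n, rfl⟩ <;> rcases hy with ⟨m, rfl⟩ | ⟨m, rfl⟩
      · exact Or.inl ⟨n + m, (zpow_add _ _ _).symm⟩
      · refine Or.inr ⟨-n + m, ?_⟩
        rw [zpow_add, ← hconj n, mul_assoc, mul_assoc, ← mul_assoc a a, ha, one_mul]
      · exact Or.inr ⟨n + m, by rw [zpow_add, mul_assoc]⟩
      · refine Or.inl ⟨-n + m, ?_⟩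
        rw [zpow_add, ← hconj n]
        simp only [mul_assoc]
    | inv x _ hx =>
      rcases hx with ⟨n, rfl⟩ | ⟨n, rfl⟩
      · exact Or.inl ⟨-n, (zpow_neg _ _).symm⟩
      · refine Or.inr ⟨n, ?_⟩
        rw [mul_inv_rev, ← zpow_neg, ← hconj n, hai, mul_assoc, ha, mul_one]
  intro ⟨g, hg⟩
  rcases key g hg with ⟨n, rfl⟩ | ⟨n, rfl⟩
  · refine ⟨k, Subtype.ext ?_⟩
    show ((a * b) ^ n) ^ 2 ^ k = 1
    rw [← zpow_natCast, ← zpow_mul, mul_comm, zpow_mul, zpow_natCast, h, one_zpow]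
  · refine ⟨1, Subtype.ext ?_⟩
    show (a * (a * b) ^ n) ^ 2 ^ 1 = 1
    rw [pow_one, pow_two]
    have h1 : a * (a * b) ^ n * (a * (a * b) ^ n) = (a * (a * b) ^ n * a) * (a * b) ^ n := by group
    rw [h1, hconj, ← zpow_add, neg_add_cancel, zpow_zero]

/-- the product of `x_h` and a root element `x_r`, `r ≠ -h`, has order dividing 4 -/
theorem pow_four {r : ℕ} (hr : r < 24) (h0 : r ≠ 0) : (z K 23 * z K r) ^ 4 = 1 := by
  have h23 := z_sq K (r := 23) (by norm_num)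
  have hrr := z_sq K hr
  rcases cpr_high r hr with h1 | ⟨v, h1⟩ | h1
  · exact absurd h1 h0
  · have h2 := z_comm K h1
    have hv := (of_decide_eq_true h1).2.2.1
    have i1 : (z K 23)⁻¹ = z K 23 := inv_eq_of_mul_eq_one_left h23
    have i2 : (z K r)⁻¹ = z K r := inv_eq_of_mul_eq_one_left hrr
    rw [commutatorElement_def, i1, i2] at h2
    have h3 : (z K 23 * z K r) ^ 4 = (z K 23 * z K r * z K 23 * z K r) * (z K 23 * z K r * z K 23 * z K r) := by
      simp only [pow_succ, pow_zero, one_mul, mul_assoc]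
    rw [h3, h2, z_sq K hv]
  · have h2 := z_comm0 K hr (by norm_num) h1
    have h3 : (z K 23 * z K r) ^ 4 = (z K 23 * (z K r * z K 23) * z K r) * (z K 23 * (z K r * z K 23) * z K r) := by
      simp only [pow_succ, pow_zero, one_mul, mul_assoc]
    have h4 : z K 23 * (z K 23 * z K r) * z K r = 1 := by
      calc z K 23 * (z K 23 * z K r) * z K r = (z K 23 * z K 23) * (z K r * z K r) := by group
        _ = 1 := by rw [h23, hrr, one_mul]
    rw [h3, h2, h4, one_mul]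

omit hK in
theorem cj_mem {G : Type*} [Group G] {H : Subgroup G} {g x : G} (h : x ∈ H) : g * x * g⁻¹ ∈ Reps.cj g H :=
  conj_mem_cj.2 h

/-- the conjugates of `x_h` -/
theorem conj_high (g : ↥(chevD4.group K)) : ∃ b ∈ UU K, ∃ r, r < 24 ∧ g * z K 23 * g⁻¹ = b * z K r * b⁻¹ := by
  have R := rgd (K := K) hp4 c4 2
  have hg : g ∈ GG c4 hp4.isCartan (TT K) (XX K) := by
    rw [Cfsg.Agent.KFacts.RgdFilt.GG_eq_top (G1_eq_top hp4 c4)]
    exact Subgroup.mem_top g
  obtain ⟨w, b₁, hb₁, k, hk, b₂, hb₂, rfl⟩ := (mem_GG R).1 hg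
  have h1 := z_cent hK (B_le_U hK hb₂)
  have h2 : b₁ * k * b₂ * z K 23 * (b₁ * k * b₂)⁻¹ = b₁ * (k * z K 23 * k⁻¹) * b₁⁻¹ := by
    calc b₁ * k * b₂ * z K 23 * (b₁ * k * b₂)⁻¹ = b₁ * k * (b₂ * z K 23) * b₂⁻¹ * k⁻¹ * b₁⁻¹ := by group
      _ = b₁ * (k * z K 23 * k⁻¹) * b₁⁻¹ := by rw [h1]; group
  have h3 := R.conj_mem hk (root4 (r := 23) (by norm_num)) ((sys4 K).mem (root4 (r := 23) (by norm_num)) 1)
  obtain ⟨r, hr, e⟩ := exists_vec ((root4 (r := 23) (by norm_num)).act w)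
  rw [← e] at h3
  refine ⟨b₁, B_le_U hK hb₁, r, hr, ?_⟩
  rw [h2]
  rcases mem_X hK hr h3 with h4 | h4
  · exfalso
    apply z_ne K (r := 23) (by norm_num)
    have h5 : k * z K 23 * k⁻¹ = 1 := h4
    rw [mul_inv_eq_one] at h5
    exact mul_eq_left.1 h5
  · have h5 : k * z K 23 * k⁻¹ = z K r := h4
    rw [h5]

/-- **(A)** a proper subgroup `M ≥ [U,U]` has `O_2(M) ≠ 1`. -/
theorem core_ne {M : Subgroup ↥(chevD4.group K)} (hM : ⁅UU K, UU K⁆ ≤ M) (hne : M ≠ ⊤) : Cfsg.pCore 2 ↥M ≠ ⊥ := by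
  intro hbot
  have h23 := z_sq K (r := 23) (by norm_num)
  have ht : z K 23 ∈ M := hM (z_mem_comm K (by simp))
  have hpair : ∀ g : ↥M, IsPGroup 2 (Subgroup.closure {(⟨z K 23, ht⟩ : ↥M), g * ⟨z K 23, ht⟩ * g⁻¹} : Subgroup ↥M) := by
    rintro ⟨g, hg⟩
    obtain ⟨b, hb, r, hr, e⟩ := conj_high hK g
    by_cases hr0 : r = 0
    · subst hr0
      exfalso
      apply hne
      have h1 : Reps.cj b⁻¹ M = ⊤ := by
        refine top_of hK (fun c hc => ?_) ?_
        · rw [mem_cj, inv_inv]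
          exact hM (normalizes hb hc)
        · rw [mem_cj, inv_inv, ← e]
          exact mul_mem (mul_mem hg ht) (inv_mem hg)
      rw [eq_top_iff]
      intro x _
      have h2 : b⁻¹ * x * b⁻¹⁻¹ ∈ Reps.cj b⁻¹ M := by rw [h1]; exact Subgroup.mem_top _
      exact conj_mem_cj.1 h2
    · have h4 : (z K 23 * (g * z K 23 * g⁻¹)) ^ 4 = 1 := by
        have h5 : z K 23 * (g * z K 23 * g⁻¹) = b * (z K 23 * z K r) * b⁻¹ := by
          rw [e]
          have h6 : z K 23 * b = b * z K 23 := (z_cent hK hb).symm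
          calc z K 23 * (b * z K r * b⁻¹) = (z K 23 * b) * z K r * b⁻¹ := by group
            _ = _ := by rw [h6]; group
        rw [h5, conj_pow, pow_four hK hr hr0, mul_one, mul_inv_cancel]
      refine isPGroup_pair (k := 2) (Subtype.ext h23) (Subtype.ext ?_) (Subtype.ext ?_)
      · show g * z K 23 * g⁻¹ * (g * z K 23 * g⁻¹) = 1
        calc g * z K 23 * g⁻¹ * (g * z K 23 * g⁻¹) = g * (z K 23 * z K 23) * g⁻¹ := by group
          _ = 1 := by rw [h23]; group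
      · exact h4
  have h1 := Cfsg.Agent.Involutions.BaerSuzuki.mem_pCore_of_conj_pairs (p := 2) (⟨z K 23, ht⟩ : ↥M) hpair
  rw [hbot, Subgroup.mem_bot] at h1
  exact z_ne K (r := 23) (by norm_num) (congrArg Subtype.val h1)

omit hK in
/-- **(B)** if `O_2(M) ≠ 1` and `N(O_2(M)) ≤ M` then `M` contains a conjugate of `U`. -/
theorem sylow_le {M : Subgroup ↥(chevD4.group K)} (hne : (Cfsg.pCore 2 ↥M).map M.subtype ≠ ⊥)
    (hN : Subgroup.normalizer (((Cfsg.pCore 2 ↥M).map M.subtype : Subgroup ↥(chevD4.group K)) :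
      Set ↥(chevD4.group K)) ≤ M) : ∃ g, Reps.cj g (UU K) ≤ M := by
  have hCp : IsPGroup 2 ↥((Cfsg.pCore 2 ↥M).map M.subtype) := (Cfsg.Agent.Lib.Cores.pCore_isPGroup 2).map _
  obtain ⟨g, J, -, h1, h2⟩ := Cfsg.Agent.KFacts.RgdBorelTits.borel_tits
    (Cfsg.Agent.KFacts.RgdFiltChev.filt (K := K) hp4 c4 2)
    (Cfsg.Agent.KFacts.RgdFilt.GG_eq_top (G1_eq_top hp4 c4)) hCp hne
  have R := rgd (K := K) hp4 c4 2
  have hVp : IsPGroup 2 ↥(Reps.cj g (VJ c4 hp4.isCartan (XX K) J)) := (IsPGroup.to_le U_pgroup (VJ_le_U J)).map _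
  have h3 := le_of_core rfl hN hVp (cj_normal (PJ_le_normalizer_VJ R J) g) h1 h2
  exact ⟨g, le_trans (Reps.cj_mono g (le_trans RGD.U_le_B B_le_PJ)) h3⟩

end Cfsg.Agent.H286.EP
end

-- part: H286/EP/Glob
section
/-!
# Extremely primitive groups with `A ≅ D₄(2)`, `|Q : A| ≡ 3 mod 4`

* `exists_two` : a 2-group `S ≤ A` fixing one point of `Q/A` only, `|Q : A| ≡ 3 (4)`: some `x ∉ A` with `[S,S] ≤ A^x`;
* `kill_of` : `EPT A Γ`, `A ≅ D₄(2)`, `|Q : A| ≡ 3 (4)`, Sylow 2-subgroups of `Q` self-normalising: contradiction.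
-/

set_option autoImplicit false
set_option linter.unusedSectionVars false

namespace Cfsg.Agent.H286.EP

open Cfsg.Agent.H284
open scoped commutatorElement

section

variable {Q : Type*} [Group Q]

/-- a subgroup of index at most two contains the commutators -/
theorem comm_mem_of_index {G : Type*} [Group G] {H : Subgroup G} (h : H.index = 1 ∨ H.index = 2) (a b : G) :
    ⁅a, b⁆ ∈ H := by
  rcases h with h | h
  · rw [Subgroup.index_eq_one.1 h]; exact Subgroup.mem_top _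
  · rw [commutatorElement_def, Subgroup.mul_mem_iff_of_index_two h, Subgroup.mul_mem_iff_of_index_two h,
      Subgroup.mul_mem_iff_of_index_two h, Subgroup.inv_mem_iff, Subgroup.inv_mem_iff]
    tauto

theorem exists_two [Finite Q] {A S : Subgroup Q} (hS : IsPGroup 2 ↥S) (hSA : S ≤ A) (hi : A.index % 4 = 3) :
    ∃ x, x ∉ A ∧ ⁅S, S⁆ ≤ cj x A := by
  classical
  by_contra hcon
  push Not at hcon
  -- the orbits of `S` on `Q/A`
  have hst : ∀ x : Q, ∀ s : ↥S, s ∈ MulAction.stabilizer ↥S (x : Q ⧸ A) ↔ (s : Q) ∈ cj x A := by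
    intro x s
    rw [MulAction.mem_stabilizer_iff, mem_cj]
    show ((s : Q) • (x : Q ⧸ A)) = _ ↔ _
    rw [MulAction.Quotient.smul_coe, smul_eq_mul, eq_comm, QuotientGroup.eq, mul_assoc]
  have hidx : ∀ c : Q ⧸ A, Nat.card (MulAction.orbit ↥S c) = (MulAction.stabilizer ↥S c).index := fun c =>
    (Nat.card_congr (MulAction.orbitEquivQuotientStabilizer ↥S c))
  have key : ∀ c : Q ⧸ A, c ≠ ((1 : Q) : Q ⧸ A) → 4 ∣ Nat.card (MulAction.orbit ↥S c) := by
    intro c hc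
    obtain ⟨x, rfl⟩ := QuotientGroup.mk_surjective c
    have hx : x ∉ A := by
      intro hx
      apply hc
      rw [eq_comm, QuotientGroup.eq, inv_one, one_mul]
      exact hx
    obtain ⟨k, hk⟩ := hS.index (MulAction.stabilizer ↥S (x : Q ⧸ A))
    rw [hidx, hk]
    have h2 : 2 ≤ k := by
      by_contra hk2
      apply hcon x hx
      rw [Subgroup.commutator_le]
      intro a ha b hb
      have h3 : (MulAction.stabilizer ↥S (x : Q ⧸ A)).index = 1 ∨ (MulAction.stabilizer ↥S (x : Q ⧸ A)).index = 2 := by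
        rw [hk]
        interval_cases k
        · left; rfl
        · right; rfl
      have h4 := comm_mem_of_index h3 ⟨a, ha⟩ ⟨b, hb⟩
      rw [hst] at h4
      exact h4
    exact pow_dvd_pow 2 h2
  have h1 : ∀ s : ↥S, s • ((1 : Q) : Q ⧸ A) = ((1 : Q) : Q ⧸ A) := by
    intro s
    have := (hst 1 s).2 (by rw [mem_cj, inv_one, one_mul, mul_one]; exact hSA s.2)
    exact MulAction.mem_stabilizer_iff.1 this
  have hone : Nat.card (MulAction.orbit ↥S ((1 : Q) : Q ⧸ A)) = 1 := by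
    rw [hidx, Subgroup.index_eq_one, Subgroup.eq_top_iff']
    intro s
    exact MulAction.mem_stabilizer_iff.2 (h1 s)
  let _ : Fintype (Quotient (MulAction.orbitRel ↥S (Q ⧸ A))) := Fintype.ofFinite _
  have hcard : A.index = ∑ ω : Quotient (MulAction.orbitRel ↥S (Q ⧸ A)), Nat.card (MulAction.orbit ↥S ω.out) := by
    have h2 : A.index = Nat.card (Σ ω : Quotient (MulAction.orbitRel ↥S (Q ⧸ A)), MulAction.orbit ↥S ω.out) :=
      Nat.card_congr (MulAction.selfEquivSigmaOrbits ↥S (Q ⧸ A))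
    rw [h2, Nat.card_sigma]
  set ω₀ : Quotient (MulAction.orbitRel ↥S (Q ⧸ A)) := Quotient.mk _ ((1 : Q) : Q ⧸ A) with hω₀
  have hout : ∀ ω : Quotient (MulAction.orbitRel ↥S (Q ⧸ A)), ω.out = ((1 : Q) : Q ⧸ A) ↔ ω = ω₀ := by
    intro ω
    constructor
    · intro h
      rw [hω₀, ← h, Quotient.out_eq]
    · rintro rfl
      have h2 : (MulAction.orbitRel ↥S (Q ⧸ A)).r (Quotient.out ω₀) ((1 : Q) : Q ⧸ A) :=
        Quotient.exact (Quotient.out_eq ω₀)
      obtain ⟨s, hs⟩ := h2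
      rw [← hs]
      exact h1 s
  rw [← Finset.add_sum_erase Finset.univ _ (Finset.mem_univ ω₀), (hout ω₀).2 rfl, hone] at hcard
  have h4 : 4 ∣ ∑ ω ∈ Finset.univ.erase ω₀, Nat.card (MulAction.orbit ↥S ω.out) := by
    refine Finset.dvd_sum fun ω hω => key _ ?_
    intro h
    exact (Finset.mem_erase.1 hω).1 ((hout ω).1 h)
  omega

/-- `O_p(M)` under an injective homomorphism -/
theorem core_map {G H : Type*} [Group G] [Group H] (p : ℕ) (f : G →* H) (hf : Function.Injective f) (M : Subgroup G) :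
    ((Cfsg.pCore p ↥M).map M.subtype).map f = (Cfsg.pCore p ↥(M.map f)).map (M.map f).subtype := by
  rw [← Cfsg.Agent.Lib.Cores.map_equiv_pCore (M.equivMapOfInjective f hf) p, Subgroup.map_map, Subgroup.map_map]
  rfl

theorem core_eq {G : Type*} [Group G] (p : ℕ) {M M' : Subgroup G} (h : M = M') :
    (Cfsg.pCore p ↥M).map M.subtype = (Cfsg.pCore p ↥M').map M'.subtype := by
  subst h; rfl

/-- the property used of `D₄(2)` -/
def Prop2 (G : Type*) [Group G] : Prop :=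
  ∃ S : Subgroup G, IsPGroup 2 ↥S ∧ ¬ 2 ∣ S.index ∧ ∀ M : Subgroup G, ⁅S, S⁆ ≤ M → M ≠ ⊤ →
    ((Cfsg.pCore 2 ↥M).map M.subtype ≠ ⊥ →
      ∀ g : G, (∀ k ∈ (Cfsg.pCore 2 ↥M).map M.subtype, g * k * g⁻¹ ∈ (Cfsg.pCore 2 ↥M).map M.subtype) → g ∈ M) →
    ∃ g, ∀ s ∈ S, g * s * g⁻¹ ∈ M

theorem prop2_D4 : Prop2 ↥(Cfsg.Lie.chevD4.group (ZMod 2)) := by
  have hK : ∀ t : ZMod 2, t = 0 ∨ t = 1 := by decide
  refine ⟨UU (ZMod 2), U_pgroup, U_index, fun M hM hne hN => ?_⟩
  have h1 := core_ne hK hM hne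
  have h2 : (Cfsg.pCore 2 ↥M).map M.subtype ≠ ⊥ := by
    rw [Ne, Subgroup.map_eq_bot_iff_of_injective _ (Subgroup.subtype_injective _)]
    exact h1
  obtain ⟨g, hg⟩ := sylow_le h2 (fun g hg => hN h2 g fun k hk => (Subgroup.mem_normalizer_iff.1 hg k).1 hk)
  exact ⟨g, fun s hs => hg (cj_mem hs)⟩

theorem Prop2.of_equiv {G H : Type*} [Group G] [Group H] (h : Prop2 H) (f : G ≃* H) : Prop2 G := by
  obtain ⟨S, h1, h2, h3⟩ := h
  have hmem : ∀ (M : Subgroup G) (x : H), x ∈ M.map f.toMonoidHom ↔ f.symm x ∈ M := fun M x => Subgroup.mem_map_equiv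
  refine ⟨S.comap f.toMonoidHom, h1.comap_of_injective _ f.injective, ?_, fun M hM hne hN => ?_⟩
  · rw [Subgroup.index_comap_of_surjective _ f.surjective]
    exact h2
  · have hA1 : ⁅S, S⁆ ≤ M.map f.toMonoidHom := by
      rw [Subgroup.commutator_le]
      intro a ha b hb
      rw [hmem]
      have h4 : ⁅f.symm a, f.symm b⁆ ∈ M := by
        refine hM (Subgroup.commutator_mem_commutator ?_ ?_)
        · rw [Subgroup.mem_comap]
          show f (f.symm a) ∈ S
          rw [MulEquiv.apply_symm_apply]; exact ha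
        · rw [Subgroup.mem_comap]
          show f (f.symm b) ∈ S
          rw [MulEquiv.apply_symm_apply]; exact hb
      rw [← map_commutatorElement] at h4
      exact h4
    have hA2 : M.map f.toMonoidHom ≠ ⊤ := by
      intro h4
      apply hne
      rw [Subgroup.eq_top_iff']
      intro x
      have h5 : f x ∈ M.map f.toMonoidHom := by rw [h4]; exact Subgroup.mem_top _
      rw [hmem, MulEquiv.symm_apply_apply] at h5
      exact h5
    obtain ⟨g, hg⟩ := h3 (M.map f.toMonoidHom) hA1 hA2 (by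
      rw [← core_map 2 f.toMonoidHom f.injective M]
      intro h4 g hg
      rw [hmem]
      refine hN (fun h5 => h4 (by rw [h5, Subgroup.map_bot])) _ fun k hk => ?_
      have h5 := hg (f k) ⟨k, hk, rfl⟩
      rw [hmem] at h5
      rw [map_mul, map_mul, map_inv, MulEquiv.symm_apply_apply] at h5
      exact h5)
    refine ⟨f.symm g, fun s hs => ?_⟩
    have h4 := hg (f s) hs
    rw [hmem, map_mul, map_mul, map_inv, MulEquiv.symm_apply_apply] at h4
    exact h4

/-- **The contradiction.** -/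
theorem kill_of [Finite Q] {A : Subgroup Q} {Γ : Subgroup (MulAut Q)} (h : EPT A Γ) (hi : A.index % 4 = 3)
    (hself : ∀ S : Sylow 2 Q, Subgroup.normalizer ((S : Subgroup Q) : Set Q) ≤ S) (hA : Prop2 ↥A) : False := by
  obtain ⟨S₀, hS₀, hS₀i, hP⟩ := hA
  set S : Subgroup Q := S₀.map A.subtype with hS
  have hSA : S ≤ A := Subgroup.map_subtype_le S₀
  have hSp : IsPGroup 2 ↥S := hS₀.map _
  have hSi : ¬ 2 ∣ S.index := by
    rw [hS, Subgroup.index_map_subtype]
    intro h2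
    rcases (Nat.prime_two.dvd_mul).1 h2 with h3 | h3
    · exact hS₀i h3
    · omega
  let P : Sylow 2 Q := hSp.toSylow hSi
  have hPS : (P : Subgroup Q) = S := rfl
  -- `S` is in one conjugate of `A` only
  have hone : ∀ x, S ≤ cj x A → x ∈ A := by
    intro x hx
    have hS' : (cj x⁻¹ S) ≤ A := by
      intro s hs
      rw [mem_cj, inv_inv] at hs
      have h1 := mem_cj.1 (hx hs)
      have h2 : x⁻¹ * (x * s * x⁻¹) * x = s := by group
      rwa [h2] at h1
    have hi' : ¬ 2 ∣ (S.subgroupOf A).index := by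
      intro h2
      apply hSi
      rw [← Subgroup.relIndex_mul_index hSA]
      exact h2.mul_right _
    have hi'' : ¬ 2 ∣ ((cj x⁻¹ S).subgroupOf A).index := by
      have hc : Nat.card ↥(cj x⁻¹ S) = Nat.card ↥S :=
        Nat.card_congr (S.equivMapOfInjective _ (MulAut.conj x⁻¹).injective).symm.toEquiv
      have e1 := Subgroup.card_mul_index ((cj x⁻¹ S).subgroupOf A)
      have e2 := Subgroup.card_mul_index (S.subgroupOf A)
      have e3 : Nat.card ↥((cj x⁻¹ S).subgroupOf A) = Nat.card ↥(cj x⁻¹ S) :=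
        Nat.card_congr (Subgroup.subgroupOfEquivOfLe hS').toEquiv
      have e4 : Nat.card ↥(S.subgroupOf A) = Nat.card ↥S := Nat.card_congr (Subgroup.subgroupOfEquivOfLe hSA).toEquiv
      rw [e3, hc] at e1
      rw [e4, ← e1] at e2
      have e5 : 0 < Nat.card ↥S := Nat.card_pos
      rw [← Nat.eq_of_mul_eq_mul_left e5 e2]
      exact hi'
    let P1 : Sylow 2 ↥A := IsPGroup.toSylow (P := S.subgroupOf A)
      (hSp.comap_of_injective A.subtype Subtype.val_injective) hi'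
    let P2 : Sylow 2 ↥A := IsPGroup.toSylow (P := (cj x⁻¹ S).subgroupOf A)
      ((hSp.map _).comap_of_injective A.subtype Subtype.val_injective) hi''
    obtain ⟨a, ha⟩ := MulAction.exists_smul_eq ↥A P2 P1
    have hn : (a : Q) * x⁻¹ ∈ Subgroup.normalizer ((P : Subgroup Q) : Set Q) := by
      have key : ∀ s ∈ S, (a : Q) * x⁻¹ * s * ((a : Q) * x⁻¹)⁻¹ ∈ S := by
        intro s hs
        have h1 : x⁻¹ * s * x ∈ cj x⁻¹ S := by
          rw [mem_cj]
          have : x⁻¹⁻¹ * (x⁻¹ * s * x) * x⁻¹ = s := by group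
          rw [this]; exact hs
        have h2 : a * ⟨x⁻¹ * s * x, hS' h1⟩ * a⁻¹ ∈ (P1 : Subgroup ↥A) := by
          rw [← ha, Sylow.coe_subgroup_smul]
          exact ⟨⟨x⁻¹ * s * x, hS' h1⟩, h1, rfl⟩
        have h3 : (a : Q) * (x⁻¹ * s * x) * (a : Q)⁻¹ ∈ S := h2
        have h4 : (a : Q) * x⁻¹ * s * ((a : Q) * x⁻¹)⁻¹ = (a : Q) * (x⁻¹ * s * x) * (a : Q)⁻¹ := by group
        rw [h4]; exact h3
      have h5 : cj ((a : Q) * x⁻¹) S = S := by
        refine Subgroup.eq_of_le_of_card_ge ?_ ?_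
        · rintro _ ⟨s, hs, rfl⟩
          exact key s hs
        · exact (Nat.card_congr (S.equivMapOfInjective _ (MulAut.conj _).injective).toEquiv).le
      rw [hPS, Subgroup.mem_normalizer_iff]
      intro s
      refine ⟨key s, fun hs => ?_⟩
      rw [← h5] at hs
      rw [mem_cj] at hs
      have h6 : ((a : Q) * x⁻¹)⁻¹ * ((a : Q) * x⁻¹ * s * ((a : Q) * x⁻¹)⁻¹) * ((a : Q) * x⁻¹) = s := by group
      rwa [h6] at hs
    have h7 : (a : Q) * x⁻¹ ∈ A := hSA (hself P hn)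
    have h8 : x⁻¹ ∈ A := (Subgroup.mul_mem_cancel_left A a.2).1 h7
    exact A.inv_mem_iff.1 h8
  obtain ⟨x, hx, hxc⟩ := exists_two hSp hSA hi
  set M : Subgroup ↥A := (A ⊓ cj x A).subgroupOf A with hM
  have hMm : M.map A.subtype = A ⊓ cj x A := by
    rw [hM, Subgroup.subgroupOf_map_subtype, inf_eq_left.2 inf_le_left]
  have hcore : ((Cfsg.pCore 2 ↥M).map M.subtype).map A.subtype =
      (Cfsg.pCore 2 ↥(A ⊓ cj x A : Subgroup Q)).map (A ⊓ cj x A : Subgroup Q).subtype := by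
    rw [core_map 2 A.subtype (Subgroup.subtype_injective _) M, core_eq 2 hMm]
  have hB1 : ⁅S₀, S₀⁆ ≤ M := by
    rw [Subgroup.commutator_le]
    intro a ha b hb
    rw [hM, Subgroup.mem_subgroupOf]
    refine ⟨SetLike.coe_mem _, hxc ?_⟩
    have h1 : ((⁅a, b⁆ : ↥A) : Q) = ⁅(a : Q), (b : Q)⁆ := rfl
    rw [h1]
    exact Subgroup.commutator_mem_commutator ⟨a, ha, rfl⟩ ⟨b, hb, rfl⟩
  have hB2 : M ≠ ⊤ := by
    intro h1
    apply hx
    apply hone
    intro s hs
    have h2 : (⟨s, hSA hs⟩ : ↥A) ∈ M := by rw [h1]; exact Subgroup.mem_top _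
    exact (Subgroup.mem_inf.1 (Subgroup.mem_subgroupOf.1 h2)).2
  obtain ⟨g, hg⟩ := hP M hB1 hB2 (by
    intro h1 g hg
    rw [hM, Subgroup.mem_subgroupOf]
    refine ⟨g.2, ?_⟩
    haveI := Cfsg.Agent.Lib.Cores.pCore_characteristic (G := ↥(A ⊓ cj x A : Subgroup Q)) 2
    refine h.norm_char hx (Cfsg.pCore 2 ↥(A ⊓ cj x A : Subgroup Q)) ?_ g.2 ?_
    · intro h2
      apply h1
      have h3 : ((Cfsg.pCore 2 ↥M).map M.subtype).map A.subtype = ⊥ := by
        rw [hcore, h2, Subgroup.map_bot]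
      rwa [Subgroup.map_eq_bot_iff_of_injective _ (Subgroup.subtype_injective _)] at h3
    · rw [← hcore]
      rintro _ ⟨k, hk, rfl⟩
      exact ⟨_, hg k hk, rfl⟩)
  -- `S ≤ A ∩ A^{g⁻¹x}`
  have h1 : S ≤ cj ((g : Q)⁻¹ * x) A := by
    rintro _ ⟨s, hs, rfl⟩
    have h2 : (g : Q) * s * (g : Q)⁻¹ ∈ A ⊓ cj x A := hg s hs
    have h3 := mem_cj.1 (Subgroup.mem_inf.1 h2).2
    rw [mem_cj]
    have h4 : ((g : Q)⁻¹ * x)⁻¹ * (A.subtype s) * ((g : Q)⁻¹ * x) = x⁻¹ * ((g : Q) * s * (g : Q)⁻¹) * x := by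
      show ((g : Q)⁻¹ * x)⁻¹ * (s : Q) * ((g : Q)⁻¹ * x) = _
      group
    rw [h4]; exact h3
  have h5 := hone _ h1
  exact hx ((Subgroup.mul_mem_cancel_left A (A.inv_mem g.2)).1 h5)

end

end Cfsg.Agent.H286.EP
end

-- part: H286/EP/Num
section
/-!
# Counting lemmas for `A = N`
-/

set_option autoImplicit false

namespace Cfsg.Agent.H286.EP

open Subgroup

theorem card_cent_congr {G H : Type*} [Group G] [Group H] (f : G ≃* H) (y : G) :
    Nat.card ↥(centralizer ({y} : Set G)) = Nat.card ↥(centralizer ({f y} : Set H)) := by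
  refine Nat.card_congr (f.toEquiv.subtypeEquiv fun g => ?_)
  rw [mem_centralizer_singleton_iff, mem_centralizer_singleton_iff]
  show g * y = y * g ↔ f g * f y = f y * f g
  rw [← map_mul, ← map_mul]
  exact f.injective.eq_iff.symm

end Cfsg.Agent.H286.EP
end

-- part: H286/EP/KillO8
section
/-!
# S3499-IV-L: the socle `Ω₈⁺(2)` in `PΩ₈⁺(3)` (task 5960)

`kill` : `EPT A Γ` with `soc A ≅ Ω₈⁺(2)` in `Q ≅ PΩ₈⁺(3)` is impossible: `A ≅ Ω₈⁺(2)` (the normaliser of a Sylow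
7-subgroup), `|Q : A| = 28431 ≡ 3 mod 4`, `H286.EP.Glob.kill_of`.
-/

set_option autoImplicit false
set_option linter.unusedSectionVars false

namespace Cfsg.Agent.H286.EP

open Cfsg.Agent.H284 Cfsg.Agent.H419.EP Subgroup

theorem card_L : Nat.card (Cfsg.POmega (ZMod 2) (Cfsg.quadFormPlus 4 (ZMod 2))) = 174182400 := by
  have h := Cfsg.Agent.S0293.result (F := ZMod 2) (q := 2) (ZMod.card 2) 4 (by norm_num)
  norm_num [Finset.prod_range_succ] at h
  exact h

theorem card_cent_L {y : Cfsg.POmega (ZMod 2) (Cfsg.quadFormPlus 4 (ZMod 2))} (hy : orderOf y = 7) :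
    Nat.card ↥(centralizer ({y} : Set (Cfsg.POmega (ZMod 2) (Cfsg.quadFormPlus 4 (ZMod 2))))) = 7 := by
  have h := Cfsg.Agent.H286.CS.ptor (F := ZMod 2) (n := 4) le_rfl (by decide) (r := 7) (by norm_num) (by
    rw [ZMod.card]
    have : Fact (Nat.Prime 3) := ⟨by norm_num⟩
    exact orderOf_eq_prime (by decide) (by decide)) hy
  rw [ZMod.card] at h
  norm_num only [_root_.one_mul] at h
  exact h

section

variable {Q : Type*} [Group Q] [Finite Q] {A N : Subgroup Q}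

end

end Cfsg.Agent.H286.EP
end

-- part: H286/EP/DSeven
section
/-!
# The elements of order 7 of `Ω₈⁺(2)` (helper286, S3499-IV)

* `no_norm_syl` : no element of order 7 normalises a Sylow 2-subgroup of `D₄(2)`;
* `exists_u` : the Sylow criterion for the prime 7.
-/

set_option autoImplicit false
set_option linter.unusedSectionVars false

namespace Cfsg.Agent.H286.EP

open Cfsg.Agent.H284 Cfsg.Agent.H419.EP Subgroup
open Cfsg.Lie
open scoped commutatorElement

/-- no root other than the highest one commutes with all positive roots -/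
theorem cent_root : ∀ r, r < 24 → r = 23 ∨ ∃ s v, s < 24 ∧ v < 24 ∧ 12 ≤ s ∧ relOK r s v = true := by
  have h : ∀ r ∈ List.range 24, r = 23 ∨ ∃ s ∈ List.range 24, ∃ v ∈ List.range 24, 12 ≤ s ∧ relOK r s v = true := by
    decide +kernel
  intro r hr
  rcases h r (List.mem_range.2 hr) with h1 | ⟨s, hs, v, hv, h1, h2⟩
  · exact Or.inl h1
  · exact Or.inr ⟨s, v, List.mem_range.1 hs, List.mem_range.1 hv, h1, h2⟩

theorem D4_norm {K : Type} [Field K] [Finite K] [CharP K 2] (hK : ∀ t : K, t = 0 ∨ t = 1)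
    {y : ↥(chevD4.group K)} (hy : y ∈ normalizer (UU K : Set ↥(chevD4.group K))) : y * z K 23 = z K 23 * y := by
  obtain ⟨b, hb, r, hr, e⟩ := conj_high hK y
  have hcen : ∀ u ∈ UU K, u * (y * z K 23 * y⁻¹) = (y * z K 23 * y⁻¹) * u := by
    intro u hu
    have h1 : y⁻¹ * u * y ∈ UU K := by
      have h2 := (mem_normalizer_iff.1 (inv_mem hy) u).1 hu
      rwa [inv_inv] at h2
    have h2 := z_cent hK h1
    calc u * (y * z K 23 * y⁻¹) = y * ((y⁻¹ * u * y) * z K 23) * y⁻¹ := by group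
      _ = y * (z K 23 * (y⁻¹ * u * y)) * y⁻¹ := by rw [h2]
      _ = _ := by group
  rw [e] at hcen
  rcases cent_root r hr with rfl | ⟨s, v, hs, hv, hs', h1⟩
  · have h2 : b * z K 23 * b⁻¹ = z K 23 := by
      rw [z_cent hK hb]; group
    rw [h2] at e
    exact mul_inv_eq_iff_eq_mul.1 e
  · exfalso
    have h2 := z_comm K h1
    have h3 := hcen _ (mul_mem (mul_mem hb (z_mem_U K hs hs')) (inv_mem hb))
    have h4 : z K r * z K s = z K s * z K r := by
      calc z K r * z K s = b⁻¹ * ((b * z K r * b⁻¹) * (b * z K s * b⁻¹)) * b := by group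
        _ = b⁻¹ * ((b * z K s * b⁻¹) * (b * z K r * b⁻¹)) * b := by rw [h3]
        _ = _ := by group
    apply z_ne K hv
    rw [← h2, commutatorElement_def, h4]
    group

/-- no element of order 7 normalises a Sylow 2-subgroup -/
theorem no_norm_syl {G : Type*} [Group G] [Finite G] (f : G ≃* ↥(chevD4.group (ZMod 2))) (P : Sylow 2 G) {y : G}
    (hy : Nat.card ↥(centralizer ({y} : Set G)) = 7) (hyn : y ∈ normalizer ((P : Subgroup G) : Set G)) : False := by
  have hK : ∀ t : ZMod 2, t = 0 ∨ t = 1 := by decide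
  have : Finite ↥(chevD4.group (ZMod 2)) := Finite.of_equiv G f.toEquiv
  set U : Sylow 2 ↥(chevD4.group (ZMod 2)) := (U_pgroup (K := ZMod 2)).toSylow U_index with hU
  -- the Sylow subgroup in `D₄`
  have hsurj : Function.Surjective f.toMonoidHom := f.surjective
  obtain ⟨P', hP'⟩ : ∃ P' : Sylow 2 ↥(chevD4.group (ZMod 2)),
      (P' : Subgroup ↥(chevD4.group (ZMod 2))) = (P : Subgroup G).map f.toMonoidHom :=
    ⟨P.mapSurjective hsurj, rfl⟩
  obtain ⟨g, hg⟩ := MulAction.exists_smul_eq ↥(chevD4.group (ZMod 2)) U P'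
  have h1 : f y ∈ normalizer ((P' : Subgroup ↥(chevD4.group (ZMod 2))) : Set _) := by
    rw [hP']
    exact Subgroup.le_normalizer_map _ ⟨y, hyn, rfl⟩
  have h2 : g⁻¹ * f y * g ∈ normalizer (UU (ZMod 2) : Set ↥(chevD4.group (ZMod 2))) := by
    rw [← hg, mem_normalizer_iff] at h1
    have hm : ∀ x, x ∈ ((g • U : Sylow 2 ↥(chevD4.group (ZMod 2))) : Subgroup ↥(chevD4.group (ZMod 2))) ↔
        g⁻¹ * x * g ∈ UU (ZMod 2) := by
      intro x
      rw [Sylow.coe_subgroup_smul, Subgroup.mem_pointwise_smul_iff_inv_smul_mem]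
      rw [← map_inv, MulAut.smul_def, MulAut.conj_apply, inv_inv]
      rfl
    rw [mem_normalizer_iff]
    intro x
    have h3 := h1 (g * x * g⁻¹)
    rw [hm, hm] at h3
    have e1 : g⁻¹ * (g * x * g⁻¹) * g = x := by group
    have e2 : g⁻¹ * (f y * (g * x * g⁻¹) * (f y)⁻¹) * g = g⁻¹ * f y * g * x * (g⁻¹ * f y * g)⁻¹ := by group
    rw [e1, e2] at h3
    exact h3
  have h3 := D4_norm hK h2
  -- an involution centralising `y`
  set t : G := f.symm (g * z (ZMod 2) 23 * g⁻¹) with ht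
  have ht2 : t * t = 1 := by
    rw [ht, ← map_mul]
    have : g * z (ZMod 2) 23 * g⁻¹ * (g * z (ZMod 2) 23 * g⁻¹) = g * (z (ZMod 2) 23 * z (ZMod 2) 23) * g⁻¹ := by group
    rw [this, z_sq _ (by norm_num), mul_one, mul_inv_cancel, map_one]
  have ht1 : t ≠ 1 := by
    intro e
    rw [ht, map_eq_one_iff f.symm f.symm.injective] at e
    apply z_ne (ZMod 2) (r := 23) (by norm_num)
    have : z (ZMod 2) 23 = g⁻¹ * (g * z (ZMod 2) 23 * g⁻¹) * g := by group
    rw [this, e]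
    group
  have htc : t ∈ centralizer ({y} : Set G) := by
    rw [mem_centralizer_singleton_iff]
    apply f.injective
    rw [map_mul, map_mul, ht, MulEquiv.apply_symm_apply]
    calc g * z (ZMod 2) 23 * g⁻¹ * f y = g * (z (ZMod 2) 23 * (g⁻¹ * f y * g)) * g⁻¹ := by group
      _ = g * ((g⁻¹ * f y * g) * z (ZMod 2) 23) * g⁻¹ := by rw [h3]
      _ = _ := by group
  have h4 : orderOf (⟨t, htc⟩ : ↥(centralizer ({y} : Set G))) ∣ 7 := by
    rw [← hy]
    exact _root_.orderOf_dvd_natCard _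
  have h5 : orderOf (⟨t, htc⟩ : ↥(centralizer ({y} : Set G))) ∣ 2 := by
    apply orderOf_dvd_of_pow_eq_one
    apply Subtype.ext
    rw [pow_two]
    exact ht2
  have h6 := Nat.dvd_gcd h4 h5
  have h7 : Nat.gcd 7 2 = 1 := by norm_num
  rw [h7, Nat.dvd_one, orderOf_eq_one_iff] at h6
  exact ht1 (congrArg Subtype.val h6)

section

variable {Q : Type*} [Group Q] [Finite Q] {A N : Subgroup Q} {Γ : Subgroup (MulAut Q)}

theorem pow_three (s : ℕ) (h0 : s % 7 ≠ 0) (h1 : s % 7 ≠ 1) : ∃ k, 1 ≤ k ∧ k ≤ 5 ∧ s % 7 = 3 ^ k % 7 := by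
  have : s % 7 < 7 := Nat.mod_lt _ (by norm_num)
  have h : s % 7 = 2 ∨ s % 7 = 3 ∨ s % 7 = 4 ∨ s % 7 = 5 ∨ s % 7 = 6 := by omega
  rcases h with h | h | h | h | h
  · exact ⟨2, by norm_num, by norm_num, by rw [h]; norm_num⟩
  · exact ⟨1, by norm_num, by norm_num, by rw [h]; norm_num⟩
  · exact ⟨4, by norm_num, by norm_num, by rw [h]; norm_num⟩
  · exact ⟨5, by norm_num, by norm_num, by rw [h]; norm_num⟩
  · exact ⟨3, by norm_num, by norm_num, by rw [h]; norm_num⟩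

theorem factorization_card : (174182400 : ℕ).factorization 2 = 12 ∧ (174182400 : ℕ).factorization 3 = 5 ∧
    (174182400 : ℕ).factorization 5 = 2 ∧ ∀ l, l.Prime → l ∣ 174182400 → l = 2 ∨ l = 3 ∨ l = 5 ∨ l = 7 := by
  refine ⟨?_, ?_, ?_, ?_⟩
  · rw [show (174182400 : ℕ) = 2 ^ 12 * 42525 by norm_num, Nat.factorization_mul (by norm_num) (by norm_num),
      Finsupp.add_apply, Nat.prime_two.factorization_pow, Finsupp.single_eq_same,
      Nat.factorization_eq_zero_of_not_dvd (by norm_num)]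
  · rw [show (174182400 : ℕ) = 3 ^ 5 * 716800 by norm_num, Nat.factorization_mul (by norm_num) (by norm_num),
      Finsupp.add_apply, Nat.prime_three.factorization_pow, Finsupp.single_eq_same,
      Nat.factorization_eq_zero_of_not_dvd (by norm_num)]
  · rw [show (174182400 : ℕ) = 5 ^ 2 * 6967296 by norm_num, Nat.factorization_mul (by norm_num) (by norm_num),
      Finsupp.add_apply, Nat.prime_five.factorization_pow, Finsupp.single_eq_same,
      Nat.factorization_eq_zero_of_not_dvd (by norm_num)]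
  · intro l hl hd
    rw [show (174182400 : ℕ) = 2 ^ 12 * (3 ^ 5 * (5 ^ 2 * 7)) by norm_num] at hd
    rcases hl.dvd_mul.1 hd with h | h
    · exact Or.inl ((Nat.prime_dvd_prime_iff_eq hl Nat.prime_two).1 (hl.dvd_of_dvd_pow h))
    rcases hl.dvd_mul.1 h with h | h
    · exact Or.inr (Or.inl ((Nat.prime_dvd_prime_iff_eq hl Nat.prime_three).1 (hl.dvd_of_dvd_pow h)))
    rcases hl.dvd_mul.1 h with h | h
    · exact Or.inr (Or.inr (Or.inl ((Nat.prime_dvd_prime_iff_eq hl Nat.prime_five).1 (hl.dvd_of_dvd_pow h))))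
    · exact Or.inr (Or.inr (Or.inr ((Nat.prime_dvd_prime_iff_eq hl (by norm_num)).1 h)))

/-- **the Sylow criterion for the prime 7**, `soc(A) ≅ Ω₈⁺(2)` -/
theorem exists_u (h : EPT A Γ) (hNA : N ≤ A) (hNΓ : ∀ σ ∈ Γ, ∀ n ∈ N, σ n ∈ N)
    (f : ↥N ≃* Cfsg.POmega (ZMod 2) (Cfsg.quadFormPlus 4 (ZMod 2))) {y c : Q} (hyN : y ∈ N) (hy : orderOf y = 7)
    (hcy : c * y = y * c) (hcA : c ∉ A) :
    ∃ u, u ∈ A ∧ c⁻¹ * u * c ∈ A ∧ ∃ k, 1 ≤ k ∧ k ≤ 5 ∧ u * y * u⁻¹ = y ^ (3 ^ k) := by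
  have h7 : Fact (Nat.Prime 7) := ⟨by norm_num⟩
  have hNc : Nat.card ↥N = 174182400 := by rw [Nat.card_congr f.toEquiv, card_L]
  obtain ⟨d⟩ := Cfsg.Agent.S1082.result (F := ZMod 2)
  have fd : ↥N ≃* ↥(chevD4.group (ZMod 2)) := f.trans d.symm
  set Y : Subgroup Q := zpowers y with hYd
  have hY : Nat.card Y = 7 := by rw [hYd, Nat.card_zpowers, hy]
  have hYN : Y ≤ N := by rw [hYd, zpowers_le]; exact hyN
  -- the centraliser in `N`
  have hyN7 : orderOf (⟨y, hyN⟩ : ↥N) = 7 := by rw [Subgroup.orderOf_mk]; exact hy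
  have hcent : Nat.card ↥(centralizer ({(⟨y, hyN⟩ : ↥N)} : Set ↥N)) = 7 := by
    rw [card_cent_congr f]
    exact card_cent_L (by rw [MulEquiv.orderOf_eq]; exact hyN7)
  have hYc : ∀ a ∈ N, (∀ y ∈ Y, a * y = y * a) → a ∈ Y := by
    intro a ha hay
    have h1 : zpowers (⟨y, hyN⟩ : ↥N) = centralizer ({(⟨y, hyN⟩ : ↥N)} : Set ↥N) := by
      have hle : zpowers (⟨y, hyN⟩ : ↥N) ≤ centralizer ({(⟨y, hyN⟩ : ↥N)} : Set ↥N) := by
        rw [zpowers_le, mem_centralizer_singleton_iff]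
      apply SetLike.coe_injective
      refine Set.eq_of_subset_of_ncard_le hle ?_ (Set.toFinite _)
      rw [← Nat.card_coe_set_eq, ← Nat.card_coe_set_eq]
      change Nat.card ↥(centralizer ({(⟨y, hyN⟩ : ↥N)} : Set ↥N)) ≤ Nat.card ↥(zpowers (⟨y, hyN⟩ : ↥N))
      rw [hcent, Nat.card_zpowers, hyN7]
    have h2 : (⟨a, ha⟩ : ↥N) ∈ centralizer ({(⟨y, hyN⟩ : ↥N)} : Set ↥N) := by
      rw [mem_centralizer_singleton_iff]
      exact Subtype.ext (hay y (mem_zpowers y))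
    rw [← h1] at h2
    obtain ⟨k, hk⟩ := mem_zpowers_iff.1 h2
    exact mem_zpowers_iff.2 ⟨k, Subtype.ext_iff.1 hk⟩
  -- `Y` is a Sylow 7-subgroup of `N`
  set Y' : Subgroup ↥N := zpowers (⟨y, hyN⟩ : ↥N) with hY'
  have hY'c : Nat.card Y' = 7 := by rw [hY', Nat.card_zpowers, hyN7]
  have hY'p : IsPGroup 7 Y' := IsPGroup.of_card (n := 1) (by rw [hY'c, pow_one])
  have hY'i : ¬ 7 ∣ Y'.index := by
    have h1 := Y'.card_mul_index
    rw [hY'c, hNc] at h1
    intro h2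
    omega
  set P : Sylow 7 ↥N := hY'p.toSylow hY'i with hP
  have hPY : (P : Subgroup ↥N) = Y' := rfl
  -- an element normalising `Y`
  obtain ⟨w, hw1, hw2⟩ : ∃ w ∈ normalizer (Y' : Set ↥N), w ∉ Y' := by
    by_contra hcon
    push Not at hcon
    have h1 : normalizer (Y' : Set ↥N) = Y' := le_antisymm hcon Subgroup.le_normalizer
    have h2 := card_sylow_modEq_one (p := 7) (G := ↥N)
    rw [P.card_eq_index_normalizer] at h2
    change (normalizer (Y' : Set ↥N)).index % 7 = 1 % 7 at h2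
    rw [h1] at h2
    have h3 := Y'.card_mul_index
    rw [hY'c, hNc] at h3
    omega
  have hwY : ∀ v ∈ Y, (w : Q) * v * (w : Q)⁻¹ ∈ Y := by
    intro v hv
    obtain ⟨k, rfl⟩ := mem_zpowers_iff.1 hv
    have h1 := (mem_normalizer_iff.1 hw1 ((⟨y, hyN⟩ : ↥N) ^ k)).1 (zpow_mem (mem_zpowers _) k)
    obtain ⟨j, hj⟩ := mem_zpowers_iff.1 h1
    refine mem_zpowers_iff.2 ⟨j, ?_⟩
    have := Subtype.ext_iff.1 hj
    simpa only [_root_.SubgroupClass.coe_zpow, _root_.Subgroup.coe_mul, _root_.InvMemClass.coe_inv] using this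
  have hwY' : (w : Q) ∉ Y := by
    intro h1
    apply hw2
    obtain ⟨k, hk⟩ := mem_zpowers_iff.1 h1
    exact mem_zpowers_iff.2 ⟨k, Subtype.ext hk⟩
  have hYc' : Y ≤ cj c A := by
    intro v hv
    obtain ⟨k, rfl⟩ := mem_zpowers_iff.1 hv
    have h1 : c⁻¹ * y ^ k * c = y ^ k := by
      rw [mul_assoc, ← (show Commute c y from hcy).zpow_right k, inv_mul_cancel_left]
    rw [mem_cj, h1]
    exact hNA (N.zpow_mem hyN k)
  obtain ⟨u, hu1, hu2, hu3, hu4⟩ := ps_norm h hNA hNΓ (s := 7) (by norm_num) hYN hY hYc w.2 hwY hwY' (by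
    intro l hl hld hls R hRN hRp hRc hRm hmax hRY
    obtain ⟨f2, f3, f5, fl⟩ := factorization_card
    rw [hNc] at hld hRc
    rcases fl l hl hld with rfl | rfl | rfl | rfl
    · -- `l = 2`
      have hRN' : IsPGroup 2 (R.subgroupOf N) := hRp.of_equiv (Subgroup.subgroupOfEquivOfLe hRN).symm
      obtain ⟨P2, hP2⟩ := hRN'.exists_le_sylow
      have hPR : (P2 : Subgroup N).map N.subtype = R := by
        apply hmax
        · rintro _ ⟨y, _, rfl⟩
          exact y.2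
        · exact P2.isPGroup'.map _
        · intro y hy
          exact ⟨⟨y, hRN hy⟩, hP2 hy, rfl⟩
      refine no_norm_syl fd P2 hcent ?_
      have hm : ∀ x : ↥N, x ∈ (P2 : Subgroup ↥N) ↔ (x : Q) ∈ R := by
        intro x
        rw [← hPR]
        constructor
        · intro hx
          exact ⟨x, hx, rfl⟩
        · rintro ⟨x', hx', e⟩
          have : x' = x := Subtype.ext e
          rwa [← this]
      have hyR : ∀ r ∈ R, y * r * y⁻¹ ∈ R := hRY y (mem_zpowers y)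
      have hyR' : ∀ r ∈ R, y⁻¹ * r * y⁻¹⁻¹ ∈ R := hRY y⁻¹ (inv_mem (mem_zpowers y))
      rw [mem_normalizer_iff]
      intro x
      rw [hm, hm]
      constructor
      · exact hyR x
      · intro h1
        have h2 := hyR' _ h1
        have h3 : y⁻¹ * (y * (x : Q) * y⁻¹) * y⁻¹⁻¹ = x := by group
        have h4 : y⁻¹ * ((((⟨y, hyN⟩ : ↥N) * x * (⟨y, hyN⟩ : ↥N)⁻¹ : ↥N)) : Q) * y⁻¹⁻¹ = x := h3
        rwa [h4] at h2
    · rw [hRc, f3, Nat.ModEq] at hRm
      norm_num at hRm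
    · rw [hRc, f5, Nat.ModEq] at hRm
      norm_num at hRm
    · exact hls rfl) hYc' hcA
  refine ⟨u, (mem_inf.1 hu1).1, mem_cj.1 (mem_inf.1 hu1).2, ?_⟩
  have h1 := hu3 y (mem_zpowers y)
  obtain ⟨s, hs⟩ : ∃ s : ℕ, y ^ s = u * y * u⁻¹ := by
    have h2 : u * y * u⁻¹ ∈ Submonoid.powers y := by
      rw [mem_powers_iff_mem_zpowers]
      exact h1
    exact h2
  have hs0 : s % 7 ≠ 0 := by
    intro h2
    have h3 : y ^ s = 1 := by
      rw [← orderOf_dvd_iff_pow_eq_one, hy]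
      exact Nat.dvd_of_mod_eq_zero h2
    rw [h3] at hs
    have h4 : y = 1 := by
      have : y = u⁻¹ * (u * y * u⁻¹) * u := by group
      rw [this, ← hs]
      group
    rw [h4, orderOf_one] at hy
    norm_num at hy
  have hs1 : s % 7 ≠ 1 := by
    intro h2
    apply hu4
    apply hYc u hu2
    have h3 : y ^ s = y := by
      conv_rhs => rw [← pow_one y]
      rw [pow_eq_pow_iff_modEq, hy]
      exact h2
    rw [h3] at hs
    have h4 : u * y = y * u := (mul_inv_eq_iff_eq_mul.1 hs.symm)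
    intro v hv
    obtain ⟨k, rfl⟩ := mem_zpowers_iff.1 hv
    exact (show Commute u y from h4).zpow_right k
  obtain ⟨k, hk1, hk2, hk3⟩ := pow_three s hs0 hs1
  refine ⟨k, hk1, hk2, ?_⟩
  rw [← hs, pow_eq_pow_iff_modEq, hy]
  exact hk3

end

end Cfsg.Agent.H286.EP
end

-- part: H286/EP/PolySeven
section
/-!
# Polynomials in an element of order 7: certificates (helper286, S3499-IV)

Elements `∑ a_i z^i` (`z ^ 7 = 1`) with coefficients `a + b θ`, `θ² = d`, over a field of characteristic `p`; the product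
is computed by `conv p d`.
-/

set_option autoImplicit false
set_option linter.unusedSectionVars false

namespace Cfsg.Agent.H286.EP

/-- `a + b θ` -/
def cf {F : Type*} [Field F] (θ : F) (a : ℕ × ℕ) : F := (a.1 : F) + (a.2 : F) * θ

/-- `∑ a_i z^i` -/
def ev {F M : Type*} [Field F] [Ring M] [Algebra F M] (θ : F) (z : M) (a : Fin 7 → ℕ × ℕ) : M :=
  ∑ i : Fin 7, cf θ (a i) • z ^ (i : ℕ)

/-- the product modulo `p`, `θ² = d`, `z⁷ = 1` -/
def conv (p d : ℕ) (a b : Fin 7 → ℕ × ℕ) : Fin 7 → ℕ × ℕ := fun k =>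
  ((∑ i : Fin 7, ((a i).1 * (b (k - i)).1 + d * ((a i).2 * (b (k - i)).2))) % p,
    (∑ i : Fin 7, ((a i).1 * (b (k - i)).2 + (a i).2 * (b (k - i)).1)) % p)

section

variable {F M : Type*} [Field F] [Ring M] [Algebra F M] {p d : ℕ} {θ : F} {z : M}

theorem cast_mod (hp : (p : F) = 0) (n : ℕ) : ((n % p : ℕ) : F) = n := by
  conv_rhs => rw [← Nat.div_add_mod n p]
  push_cast
  rw [hp, zero_mul, zero_add]

theorem pow_val (hz : z ^ 7 = 1) (i j : Fin 7) : z ^ ((i + j : Fin 7) : ℕ) = z ^ (i : ℕ) * z ^ (j : ℕ) := by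
  rw [← pow_add, Fin.val_add]
  conv_rhs => rw [← Nat.div_add_mod ((i : ℕ) + j) 7, pow_add, pow_mul, hz, one_pow, one_mul]

theorem ev_conv (hp : (p : F) = 0) (hθ : θ * θ = d) (hz : z ^ 7 = 1) (a b : Fin 7 → ℕ × ℕ) :
    ev θ z (conv p d a b) = ev θ z a * ev θ z b := by
  have h1 : ∀ k : Fin 7, cf θ (conv p d a b k) = ∑ i : Fin 7, cf θ (a i) * cf θ (b (k - i)) := by
    intro k
    simp only [cf, conv]
    rw [cast_mod hp, cast_mod hp]
    push_cast
    rw [Finset.sum_mul, ← Finset.sum_add_distrib]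
    refine Finset.sum_congr rfl fun i _ => ?_
    linear_combination (-((a i).2 : F) * (b (k - i)).2) * hθ
  simp only [ev, h1]
  rw [Finset.sum_mul_sum]
  simp only [Finset.sum_smul]
  rw [Finset.sum_comm]
  refine Finset.sum_congr rfl fun i _ => ?_
  rw [← Equiv.sum_comp (Equiv.addRight i)]
  refine Finset.sum_congr rfl fun k _ => ?_
  have e : (Equiv.addRight i) k = k + i := rfl
  rw [e, smul_mul_smul_comm, ← pow_val hz, add_sub_cancel_right, add_comm k i]

/-- `z ↦ z ^ m` permutes the coefficients -/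
theorem ev_pow (hz : z ^ 7 = 1) (m : ℕ) (n : Fin 7) (hmn : ∀ i : Fin 7, ((n * i : Fin 7) : ℕ) * m % 7 = i)
    (a : Fin 7 → ℕ × ℕ) : ev θ (z ^ m) a = ev θ z (fun i => a (n * i)) := by
  have hinj : Function.Injective fun i : Fin 7 => n * i := by
    intro i j hij
    have h1 := hmn i
    have h2 := hmn j
    have h3 : n * i = n * j := hij
    rw [h3, h2] at h1
    exact Fin.ext h1.symm
  have hb : Function.Bijective fun i : Fin 7 => n * i := hinj.bijective_of_finite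
  simp only [ev]
  rw [← Equiv.sum_comp (Equiv.ofBijective _ hb)]
  refine Finset.sum_congr rfl fun i _ => ?_
  rw [Equiv.ofBijective_apply, ← pow_mul, mul_comm m]
  congr 1
  conv_lhs => rw [← Nat.div_add_mod (((n * i : Fin 7) : ℕ) * m) 7, pow_add, pow_mul, hz, one_pow, one_mul, hmn]

theorem ev_one (θ : F) (z : M) : ev θ z ![(1, 0), (0, 0), (0, 0), (0, 0), (0, 0), (0, 0), (0, 0)] = 1 := by
  simp only [ev, cf, Fin.sum_univ_succ, _root_.Fin.isValue, _root_.Matrix.cons_val_zero, _root_.Nat.cast_one, _root_.Nat.cast_zero, _root_.MulZeroClass.zero_mul, _root_.add_zero, _root_.Fin.coe_ofNat_eq_mod, _root_.Nat.zero_mod, _root_.pow_zero, _root_.one_smul, _root_.Matrix.cons_val_succ, _root_.Fin.val_succ, _root_.zero_add, _root_.pow_one, _root_.zero_smul, _root_.Nat.reduceAdd, _root_.Finset.univ_unique, _root_.Fin.default_eq_zero, _root_.Matrix.cons_val_fin_one, _root_.Fin.val_eq_zero, _root_.Finset.sum_const_zero]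

/-- conjugation -/
theorem ev_conj {g h : M} (hg : g * h = 1) (hh : h * g = 1) (a : Fin 7 → ℕ × ℕ) :
    ev θ (g * z * h) a = g * ev θ z a * h := by
  have h1 : ∀ i : ℕ, (g * z * h) ^ i = g * z ^ i * h := by
    intro i
    induction i with
    | zero => rw [pow_zero, pow_zero, mul_one, hg]
    | succ i ih =>
      rw [pow_succ, ih, pow_succ]
      calc g * z ^ i * h * (g * z * h) = g * z ^ i * (h * g) * z * h := by simp only [mul_assoc]
        _ = _ := by rw [hh, mul_one, mul_assoc g]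
  simp only [ev, h1]
  rw [Finset.mul_sum, Finset.sum_mul]
  refine Finset.sum_congr rfl fun i _ => ?_
  rw [mul_smul_comm, smul_mul_assoc]

theorem ev_comm (a : Fin 7 → ℕ × ℕ) : ev θ z a * z = z * ev θ z a := by
  simp only [ev]
  rw [Finset.mul_sum, Finset.sum_mul]
  refine Finset.sum_congr rfl fun i _ => ?_
  rw [mul_smul_comm, smul_mul_assoc, ← pow_succ, ← pow_succ']

end

end Cfsg.Agent.H286.EP
end

-- part: H286/EP/CertSeven
section
/-!
# The certificates for `q = 7, 9, 17, 23, 25` (helper286, S3499-IV)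

`P(ζ) = ω` with `ω` of order `l = 7, 13, 13, 79, 31`, compatible with the action of `(Z/7)^*`.
-/

set_option autoImplicit false

namespace Cfsg.Agent.H286.EP

/-- the sum modulo `p` -/
def addc (p : ℕ) (a b : Fin 7 → ℕ × ℕ) : Fin 7 → ℕ × ℕ := fun i => (((a i).1 + (b i).1) % p, ((a i).2 + (b i).2) % p)

theorem ev_addc {F M : Type*} [Field F] [Ring M] [Algebra F M] {p : ℕ} {θ : F} {z : M} (hp : (p : F) = 0)
    (a b : Fin 7 → ℕ × ℕ) : ev θ z (addc p a b) = ev θ z a + ev θ z b := by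
  simp only [ev, addc, cf]
  rw [← Finset.sum_add_distrib]
  refine Finset.sum_congr rfl fun i _ => ?_
  rw [cast_mod hp, cast_mod hp, ← add_smul]
  congr 1
  push_cast
  ring

theorem ev_X {F M : Type*} [Field F] [Ring M] [Algebra F M] (θ : F) (z : M) :
    ev θ z ![(0, 0), (1, 0), (0, 0), (0, 0), (0, 0), (0, 0), (0, 0)] = z := by
  simp only [ev, cf, Fin.sum_univ_succ, _root_.Fin.isValue, _root_.Matrix.cons_val_zero, _root_.Nat.cast_zero, _root_.MulZeroClass.zero_mul, _root_.add_zero, _root_.Fin.coe_ofNat_eq_mod, _root_.Nat.zero_mod, _root_.pow_zero, _root_.zero_smul, _root_.Matrix.cons_val_succ, _root_.Fin.val_succ, _root_.Nat.cast_one, _root_.zero_add, _root_.pow_one, _root_.one_smul, _root_.Nat.reduceAdd, _root_.Finset.univ_unique, _root_.Fin.default_eq_zero, _root_.Matrix.cons_val_fin_one, _root_.Fin.val_eq_zero, _root_.Finset.sum_const_zero]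

theorem step {F M : Type*} [Field F] [Ring M] [Algebra F M] {p d : ℕ} {θ : F} {z : M} (hp : (p : F) = 0)
    (hθ : θ * θ = d) (hz : z ^ 7 = 1) {a b c : Fin 7 → ℕ × ℕ} {x : M} {m n : ℕ} (ea : x ^ m = ev θ z a)
    (eb : x ^ n = ev θ z b) (hc : conv p d a b = c) : x ^ (m + n) = ev θ z c := by
  rw [pow_add, ea, eb, ← ev_conv hp hθ hz, hc]

/-- the properties of a certificate -/
def CertM {F : Type*} [Field F] (M : Type*) [Ring M] [Algebra F M] (θ : F) (P : Fin 7 → ℕ × ℕ) (l t : ℕ) : Prop :=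
  ∀ z : M, z ^ 7 = 1 → ev θ z P ^ l = 1 ∧ ev θ z P * ev θ (z ^ 6) P = 1 ∧ ev θ (z ^ 3) P = ev θ z P ^ t

/-- the certificate for `p = 7`, `l = 7` -/
def PSeven : Fin 7 → ℕ × ℕ := ![(1, 0), (3, 0), (6, 0), (2, 0), (5, 0), (1, 0), (4, 0)]

theorem certSeven {F M : Type*} [Field F] [Ring M] [Algebra F M] (hp : ((7 : ℕ) : F) = 0) {θ : F}
    (hθ : θ * θ = ((0 : ℕ) : F)) : CertM M θ PSeven 7 5 := by
  intro z hz
  have e1 : ev θ z PSeven ^ 1 = ev θ z ![(1, 0), (3, 0), (6, 0), (2, 0), (5, 0), (1, 0), (4, 0)] := pow_one _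
  have c2 : conv 7 0 ![(1, 0), (3, 0), (6, 0), (2, 0), (5, 0), (1, 0), (4, 0)] ![(1, 0), (3, 0), (6, 0), (2, 0), (5, 0), (1, 0), (4, 0)] = ![(1, 0), (6, 0), (5, 0), (4, 0), (3, 0), (2, 0), (1, 0)] := by decide +kernel
  have e2 : ev θ z PSeven ^ 2 = ev θ z ![(1, 0), (6, 0), (5, 0), (4, 0), (3, 0), (2, 0), (1, 0)] := step hp hθ hz e1 e1 c2
  have c4 : conv 7 0 ![(1, 0), (6, 0), (5, 0), (4, 0), (3, 0), (2, 0), (1, 0)] ![(1, 0), (6, 0), (5, 0), (4, 0), (3, 0), (2, 0), (1, 0)] = ![(1, 0), (5, 0), (3, 0), (1, 0), (6, 0), (4, 0), (2, 0)] := by decide +kernel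
  have e4 : ev θ z PSeven ^ 4 = ev θ z ![(1, 0), (5, 0), (3, 0), (1, 0), (6, 0), (4, 0), (2, 0)] := step hp hθ hz e2 e2 c4
  have c5 : conv 7 0 ![(1, 0), (5, 0), (3, 0), (1, 0), (6, 0), (4, 0), (2, 0)] ![(1, 0), (3, 0), (6, 0), (2, 0), (5, 0), (1, 0), (4, 0)] = ![(1, 0), (1, 0), (2, 0), (3, 0), (4, 0), (5, 0), (6, 0)] := by decide +kernel
  have e5 : ev θ z PSeven ^ 5 = ev θ z ![(1, 0), (1, 0), (2, 0), (3, 0), (4, 0), (5, 0), (6, 0)] := step hp hθ hz e4 e1 c5
  have c3 : conv 7 0 ![(1, 0), (6, 0), (5, 0), (4, 0), (3, 0), (2, 0), (1, 0)] ![(1, 0), (3, 0), (6, 0), (2, 0), (5, 0), (1, 0), (4, 0)] = ![(1, 0), (2, 0), (4, 0), (6, 0), (1, 0), (3, 0), (5, 0)] := by decide +kernel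
  have e3 : ev θ z PSeven ^ 3 = ev θ z ![(1, 0), (2, 0), (4, 0), (6, 0), (1, 0), (3, 0), (5, 0)] := step hp hθ hz e2 e1 c3
  have c6 : conv 7 0 ![(1, 0), (2, 0), (4, 0), (6, 0), (1, 0), (3, 0), (5, 0)] ![(1, 0), (2, 0), (4, 0), (6, 0), (1, 0), (3, 0), (5, 0)] = ![(1, 0), (4, 0), (1, 0), (5, 0), (2, 0), (6, 0), (3, 0)] := by decide +kernel
  have e6 : ev θ z PSeven ^ 6 = ev θ z ![(1, 0), (4, 0), (1, 0), (5, 0), (2, 0), (6, 0), (3, 0)] := step hp hθ hz e3 e3 c6
  have c7 : conv 7 0 ![(1, 0), (4, 0), (1, 0), (5, 0), (2, 0), (6, 0), (3, 0)] ![(1, 0), (3, 0), (6, 0), (2, 0), (5, 0), (1, 0), (4, 0)] = ![(1, 0), (0, 0), (0, 0), (0, 0), (0, 0), (0, 0), (0, 0)] := by decide +kernel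
  have e7 : ev θ z PSeven ^ 7 = ev θ z ![(1, 0), (0, 0), (0, 0), (0, 0), (0, 0), (0, 0), (0, 0)] := step hp hθ hz e6 e1 c7
  refine ⟨e7.trans (ev_one θ z), ?_, ?_⟩
  · rw [ev_pow hz 6 6 (by decide), ← ev_conv hp hθ hz]
    exact (congrArg (ev θ z) (show conv 7 0 PSeven (fun i => PSeven (6 * i)) = ![(1, 0), (0, 0), (0, 0), (0, 0), (0, 0), (0, 0), (0, 0)] by decide +kernel)).trans (ev_one θ z)
  · rw [ev_pow hz 3 5 (by decide)]
    exact (congrArg (ev θ z) (show (fun i => PSeven (5 * i)) = ![(1, 0), (1, 0), (2, 0), (3, 0), (4, 0), (5, 0), (6, 0)] by decide +kernel)).trans e5.symm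

/-- the certificate for `p = 3`, `l = 13` -/
def PNine : Fin 7 → ℕ × ℕ := ![(0, 0), (1, 2), (1, 1), (0, 1), (0, 2), (1, 2), (1, 1)]

theorem certNine {F M : Type*} [Field F] [Ring M] [Algebra F M] (hp : ((3 : ℕ) : F) = 0) {θ : F}
    (hθ : θ * θ = ((2 : ℕ) : F)) : CertM M θ PNine 13 10 := by
  intro z hz
  have e1 : ev θ z PNine ^ 1 = ev θ z ![(0, 0), (1, 2), (1, 1), (0, 1), (0, 2), (1, 2), (1, 1)] := pow_one _
  have c2 : conv 3 2 ![(0, 0), (1, 2), (1, 1), (0, 1), (0, 2), (1, 2), (1, 1)] ![(0, 0), (1, 2), (1, 1), (0, 1), (0, 2), (1, 2), (1, 1)] = ![(1, 0), (1, 0), (2, 1), (0, 2), (0, 1), (2, 2), (1, 0)] := by decide +kernel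
  have e2 : ev θ z PNine ^ 2 = ev θ z ![(1, 0), (1, 0), (2, 1), (0, 2), (0, 1), (2, 2), (1, 0)] := step hp hθ hz e1 e1 c2
  have c4 : conv 3 2 ![(1, 0), (1, 0), (2, 1), (0, 2), (0, 1), (2, 2), (1, 0)] ![(1, 0), (1, 0), (2, 1), (0, 2), (0, 1), (2, 2), (1, 0)] = ![(0, 0), (0, 1), (1, 1), (1, 1), (1, 2), (1, 2), (0, 2)] := by decide +kernel
  have e4 : ev θ z PNine ^ 4 = ev θ z ![(0, 0), (0, 1), (1, 1), (1, 1), (1, 2), (1, 2), (0, 2)] := step hp hθ hz e2 e2 c4
  have c5 : conv 3 2 ![(0, 0), (0, 1), (1, 1), (1, 1), (1, 2), (1, 2), (0, 2)] ![(0, 0), (1, 2), (1, 1), (0, 1), (0, 2), (1, 2), (1, 1)] = ![(1, 0), (0, 1), (1, 0), (2, 2), (2, 1), (1, 0), (0, 2)] := by decide +kernel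
  have e5 : ev θ z PNine ^ 5 = ev θ z ![(1, 0), (0, 1), (1, 0), (2, 2), (2, 1), (1, 0), (0, 2)] := step hp hθ hz e4 e1 c5
  have c10 : conv 3 2 ![(1, 0), (0, 1), (1, 0), (2, 2), (2, 1), (1, 0), (0, 2)] ![(1, 0), (0, 1), (1, 0), (2, 2), (2, 1), (1, 0), (0, 2)] = ![(0, 0), (1, 2), (0, 1), (1, 2), (1, 1), (0, 2), (1, 1)] := by decide +kernel
  have e10 : ev θ z PNine ^ 10 = ev θ z ![(0, 0), (1, 2), (0, 1), (1, 2), (1, 1), (0, 2), (1, 1)] := step hp hθ hz e5 e5 c10
  have c3 : conv 3 2 ![(1, 0), (1, 0), (2, 1), (0, 2), (0, 1), (2, 2), (1, 0)] ![(0, 0), (1, 2), (1, 1), (0, 1), (0, 2), (1, 2), (1, 1)] = ![(0, 0), (1, 1), (0, 2), (1, 1), (1, 2), (0, 1), (1, 2)] := by decide +kernel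
  have e3 : ev θ z PNine ^ 3 = ev θ z ![(0, 0), (1, 1), (0, 2), (1, 1), (1, 2), (0, 1), (1, 2)] := step hp hθ hz e2 e1 c3
  have c6 : conv 3 2 ![(0, 0), (1, 1), (0, 2), (1, 1), (1, 2), (0, 1), (1, 2)] ![(0, 0), (1, 1), (0, 2), (1, 1), (1, 2), (0, 1), (1, 2)] = ![(1, 0), (2, 1), (0, 1), (1, 0), (1, 0), (0, 2), (2, 2)] := by decide +kernel
  have e6 : ev θ z PNine ^ 6 = ev θ z ![(1, 0), (2, 1), (0, 1), (1, 0), (1, 0), (0, 2), (2, 2)] := step hp hθ hz e3 e3 c6
  have c12 : conv 3 2 ![(1, 0), (2, 1), (0, 1), (1, 0), (1, 0), (0, 2), (2, 2)] ![(1, 0), (2, 1), (0, 1), (1, 0), (1, 0), (0, 2), (2, 2)] = ![(0, 0), (1, 1), (1, 2), (0, 2), (0, 1), (1, 1), (1, 2)] := by decide +kernel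
  have e12 : ev θ z PNine ^ 12 = ev θ z ![(0, 0), (1, 1), (1, 2), (0, 2), (0, 1), (1, 1), (1, 2)] := step hp hθ hz e6 e6 c12
  have c13 : conv 3 2 ![(0, 0), (1, 1), (1, 2), (0, 2), (0, 1), (1, 1), (1, 2)] ![(0, 0), (1, 2), (1, 1), (0, 1), (0, 2), (1, 2), (1, 1)] = ![(1, 0), (0, 0), (0, 0), (0, 0), (0, 0), (0, 0), (0, 0)] := by decide +kernel
  have e13 : ev θ z PNine ^ 13 = ev θ z ![(1, 0), (0, 0), (0, 0), (0, 0), (0, 0), (0, 0), (0, 0)] := step hp hθ hz e12 e1 c13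
  refine ⟨e13.trans (ev_one θ z), ?_, ?_⟩
  · rw [ev_pow hz 6 6 (by decide), ← ev_conv hp hθ hz]
    exact (congrArg (ev θ z) (show conv 3 2 PNine (fun i => PNine (6 * i)) = ![(1, 0), (0, 0), (0, 0), (0, 0), (0, 0), (0, 0), (0, 0)] by decide +kernel)).trans (ev_one θ z)
  · rw [ev_pow hz 3 5 (by decide)]
    exact (congrArg (ev θ z) (show (fun i => PNine (5 * i)) = ![(0, 0), (1, 2), (0, 1), (1, 2), (1, 1), (0, 2), (1, 1)] by decide +kernel)).trans e10.symm

theorem neNine {F M : Type*} [Field F] [Ring M] [Algebra F M] (hp : ((3 : ℕ) : F) = 0) {θ : F}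
    (hθ : θ * θ = ((2 : ℕ) : F)) {z : M} (hz : z ^ 7 = 1) (h : ev θ z PNine = 1) : z = 1 := by
  have h1 : addc 3 ![(2, 0), (1, 2), (1, 1), (0, 1), (0, 2), (1, 2), (1, 1)] ![(1, 0), (0, 0), (0, 0), (0, 0), (0, 0), (0, 0), (0, 0)] = PNine := by decide +kernel
  have h2 : ev θ z ![(2, 0), (1, 2), (1, 1), (0, 1), (0, 2), (1, 2), (1, 1)] = 0 := by
    rw [← h1, ev_addc hp, ev_one] at h
    exact add_eq_right.1 h
  have h3 : conv 3 2 ![(2, 2), (1, 2), (0, 2), (0, 1), (0, 2), (0, 1), (0, 2)] ![(2, 0), (1, 2), (1, 1), (0, 1), (0, 2), (1, 2), (1, 1)] = ![(2, 0), (1, 0), (0, 0), (0, 0), (0, 0), (0, 0), (0, 0)] := by decide +kernel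
  have h4 : ev θ z ![(2, 0), (1, 0), (0, 0), (0, 0), (0, 0), (0, 0), (0, 0)] = 0 := by rw [← h3, ev_conv hp hθ hz, h2, mul_zero]
  have h5 : addc 3 ![(2, 0), (1, 0), (0, 0), (0, 0), (0, 0), (0, 0), (0, 0)] ![(1, 0), (0, 0), (0, 0), (0, 0), (0, 0), (0, 0), (0, 0)] = ![(0, 0), (1, 0), (0, 0), (0, 0), (0, 0), (0, 0), (0, 0)] := by decide +kernel
  rw [← ev_X θ z, ← h5, ev_addc hp, h4, ev_one, zero_add]

/-- the certificate for `p = 17`, `l = 13` -/
def PSeventeen : Fin 7 → ℕ × ℕ := ![(14, 0), (2, 0), (16, 0), (16, 0), (6, 0), (11, 0), (4, 0)]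

theorem certSeventeen {F M : Type*} [Field F] [Ring M] [Algebra F M] (hp : ((17 : ℕ) : F) = 0) {θ : F}
    (hθ : θ * θ = ((0 : ℕ) : F)) : CertM M θ PSeventeen 13 4 := by
  intro z hz
  have e1 : ev θ z PSeventeen ^ 1 = ev θ z ![(14, 0), (2, 0), (16, 0), (16, 0), (6, 0), (11, 0), (4, 0)] := pow_one _
  have c2 : conv 17 0 ![(14, 0), (2, 0), (16, 0), (16, 0), (6, 0), (11, 0), (4, 0)] ![(14, 0), (2, 0), (16, 0), (16, 0), (6, 0), (11, 0), (4, 0)] = ![(8, 0), (11, 0), (15, 0), (1, 0), (15, 0), (10, 0), (9, 0)] := by decide +kernel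
  have e2 : ev θ z PSeventeen ^ 2 = ev θ z ![(8, 0), (11, 0), (15, 0), (1, 0), (15, 0), (10, 0), (9, 0)] := step hp hθ hz e1 e1 c2
  have c4 : conv 17 0 ![(8, 0), (11, 0), (15, 0), (1, 0), (15, 0), (10, 0), (9, 0)] ![(8, 0), (11, 0), (15, 0), (1, 0), (15, 0), (10, 0), (9, 0)] = ![(14, 0), (11, 0), (16, 0), (2, 0), (4, 0), (6, 0), (16, 0)] := by decide +kernel
  have e4 : ev θ z PSeventeen ^ 4 = ev θ z ![(14, 0), (11, 0), (16, 0), (2, 0), (4, 0), (6, 0), (16, 0)] := step hp hθ hz e2 e2 c4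
  have c3 : conv 17 0 ![(8, 0), (11, 0), (15, 0), (1, 0), (15, 0), (10, 0), (9, 0)] ![(14, 0), (2, 0), (16, 0), (16, 0), (6, 0), (11, 0), (4, 0)] = ![(14, 0), (6, 0), (2, 0), (11, 0), (16, 0), (4, 0), (16, 0)] := by decide +kernel
  have e3 : ev θ z PSeventeen ^ 3 = ev θ z ![(14, 0), (6, 0), (2, 0), (11, 0), (16, 0), (4, 0), (16, 0)] := step hp hθ hz e2 e1 c3
  have c6 : conv 17 0 ![(14, 0), (6, 0), (2, 0), (11, 0), (16, 0), (4, 0), (16, 0)] ![(14, 0), (6, 0), (2, 0), (11, 0), (16, 0), (4, 0), (16, 0)] = ![(8, 0), (15, 0), (11, 0), (10, 0), (15, 0), (9, 0), (1, 0)] := by decide +kernel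
  have e6 : ev θ z PSeventeen ^ 6 = ev θ z ![(8, 0), (15, 0), (11, 0), (10, 0), (15, 0), (9, 0), (1, 0)] := step hp hθ hz e3 e3 c6
  have c12 : conv 17 0 ![(8, 0), (15, 0), (11, 0), (10, 0), (15, 0), (9, 0), (1, 0)] ![(8, 0), (15, 0), (11, 0), (10, 0), (15, 0), (9, 0), (1, 0)] = ![(14, 0), (4, 0), (11, 0), (6, 0), (16, 0), (16, 0), (2, 0)] := by decide +kernel
  have e12 : ev θ z PSeventeen ^ 12 = ev θ z ![(14, 0), (4, 0), (11, 0), (6, 0), (16, 0), (16, 0), (2, 0)] := step hp hθ hz e6 e6 c12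
  have c13 : conv 17 0 ![(14, 0), (4, 0), (11, 0), (6, 0), (16, 0), (16, 0), (2, 0)] ![(14, 0), (2, 0), (16, 0), (16, 0), (6, 0), (11, 0), (4, 0)] = ![(1, 0), (0, 0), (0, 0), (0, 0), (0, 0), (0, 0), (0, 0)] := by decide +kernel
  have e13 : ev θ z PSeventeen ^ 13 = ev θ z ![(1, 0), (0, 0), (0, 0), (0, 0), (0, 0), (0, 0), (0, 0)] := step hp hθ hz e12 e1 c13
  refine ⟨e13.trans (ev_one θ z), ?_, ?_⟩
  · rw [ev_pow hz 6 6 (by decide), ← ev_conv hp hθ hz]
    exact (congrArg (ev θ z) (show conv 17 0 PSeventeen (fun i => PSeventeen (6 * i)) = ![(1, 0), (0, 0), (0, 0), (0, 0), (0, 0), (0, 0), (0, 0)] by decide +kernel)).trans (ev_one θ z)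
  · rw [ev_pow hz 3 5 (by decide)]
    exact (congrArg (ev θ z) (show (fun i => PSeventeen (5 * i)) = ![(14, 0), (11, 0), (16, 0), (2, 0), (4, 0), (6, 0), (16, 0)] by decide +kernel)).trans e4.symm

theorem neSeventeen {F M : Type*} [Field F] [Ring M] [Algebra F M] (hp : ((17 : ℕ) : F) = 0) {θ : F}
    (hθ : θ * θ = ((0 : ℕ) : F)) {z : M} (hz : z ^ 7 = 1) (h : ev θ z PSeventeen = 1) : z = 1 := by
  have h1 : addc 17 ![(13, 0), (2, 0), (16, 0), (16, 0), (6, 0), (11, 0), (4, 0)] ![(1, 0), (0, 0), (0, 0), (0, 0), (0, 0), (0, 0), (0, 0)] = PSeventeen := by decide +kernel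
  have h2 : ev θ z ![(13, 0), (2, 0), (16, 0), (16, 0), (6, 0), (11, 0), (4, 0)] = 0 := by
    rw [← h1, ev_addc hp, ev_one] at h
    exact add_eq_right.1 h
  have h3 : conv 17 0 ![(5, 0), (4, 0), (7, 0), (6, 0), (16, 0), (6, 0), (7, 0)] ![(13, 0), (2, 0), (16, 0), (16, 0), (6, 0), (11, 0), (4, 0)] = ![(16, 0), (1, 0), (0, 0), (0, 0), (0, 0), (0, 0), (0, 0)] := by decide +kernel
  have h4 : ev θ z ![(16, 0), (1, 0), (0, 0), (0, 0), (0, 0), (0, 0), (0, 0)] = 0 := by rw [← h3, ev_conv hp hθ hz, h2, mul_zero]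
  have h5 : addc 17 ![(16, 0), (1, 0), (0, 0), (0, 0), (0, 0), (0, 0), (0, 0)] ![(1, 0), (0, 0), (0, 0), (0, 0), (0, 0), (0, 0), (0, 0)] = ![(0, 0), (1, 0), (0, 0), (0, 0), (0, 0), (0, 0), (0, 0)] := by decide +kernel
  rw [← ev_X θ z, ← h5, ev_addc hp, h4, ev_one, zero_add]

/-- the certificate for `p = 23`, `l = 79` -/
def PTwentyThree : Fin 7 → ℕ × ℕ := ![(4, 0), (10, 0), (7, 0), (20, 0), (17, 0), (9, 0), (3, 0)]

theorem certTwentyThree {F M : Type*} [Field F] [Ring M] [Algebra F M] (hp : ((23 : ℕ) : F) = 0) {θ : F}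
    (hθ : θ * θ = ((0 : ℕ) : F)) : CertM M θ PTwentyThree 79 24 := by
  intro z hz
  have e1 : ev θ z PTwentyThree ^ 1 = ev θ z ![(4, 0), (10, 0), (7, 0), (20, 0), (17, 0), (9, 0), (3, 0)] := pow_one _
  have c2 : conv 23 0 ![(4, 0), (10, 0), (7, 0), (20, 0), (17, 0), (9, 0), (3, 0)] ![(4, 0), (10, 0), (7, 0), (20, 0), (17, 0), (9, 0), (3, 0)] = ![(8, 0), (12, 0), (7, 0), (0, 0), (18, 0), (11, 0), (14, 0)] := by decide +kernel
  have e2 : ev θ z PTwentyThree ^ 2 = ev θ z ![(8, 0), (12, 0), (7, 0), (0, 0), (18, 0), (11, 0), (14, 0)] := step hp hθ hz e1 e1 c2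
  have c3 : conv 23 0 ![(8, 0), (12, 0), (7, 0), (0, 0), (18, 0), (11, 0), (14, 0)] ![(4, 0), (10, 0), (7, 0), (20, 0), (17, 0), (9, 0), (3, 0)] = ![(18, 0), (14, 0), (5, 0), (15, 0), (12, 0), (15, 0), (14, 0)] := by decide +kernel
  have e3 : ev θ z PTwentyThree ^ 3 = ev θ z ![(18, 0), (14, 0), (5, 0), (15, 0), (12, 0), (15, 0), (14, 0)] := step hp hθ hz e2 e1 c3
  have c6 : conv 23 0 ![(18, 0), (14, 0), (5, 0), (15, 0), (12, 0), (15, 0), (14, 0)] ![(18, 0), (14, 0), (5, 0), (15, 0), (12, 0), (15, 0), (14, 0)] = ![(7, 0), (19, 0), (6, 0), (22, 0), (9, 0), (3, 0), (4, 0)] := by decide +kernel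
  have e6 : ev θ z PTwentyThree ^ 6 = ev θ z ![(7, 0), (19, 0), (6, 0), (22, 0), (9, 0), (3, 0), (4, 0)] := step hp hθ hz e3 e3 c6
  have c12 : conv 23 0 ![(7, 0), (19, 0), (6, 0), (22, 0), (9, 0), (3, 0), (4, 0)] ![(7, 0), (19, 0), (6, 0), (22, 0), (9, 0), (3, 0), (4, 0)] = ![(12, 0), (21, 0), (8, 0), (19, 0), (10, 0), (20, 0), (3, 0)] := by decide +kernel
  have e12 : ev θ z PTwentyThree ^ 12 = ev θ z ![(12, 0), (21, 0), (8, 0), (19, 0), (10, 0), (20, 0), (3, 0)] := step hp hθ hz e6 e6 c12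
  have c24 : conv 23 0 ![(12, 0), (21, 0), (8, 0), (19, 0), (10, 0), (20, 0), (3, 0)] ![(12, 0), (21, 0), (8, 0), (19, 0), (10, 0), (20, 0), (3, 0)] = ![(4, 0), (9, 0), (20, 0), (10, 0), (3, 0), (17, 0), (7, 0)] := by decide +kernel
  have e24 : ev θ z PTwentyThree ^ 24 = ev θ z ![(4, 0), (9, 0), (20, 0), (10, 0), (3, 0), (17, 0), (7, 0)] := step hp hθ hz e12 e12 c24
  have c4 : conv 23 0 ![(8, 0), (12, 0), (7, 0), (0, 0), (18, 0), (11, 0), (14, 0)] ![(8, 0), (12, 0), (7, 0), (0, 0), (18, 0), (11, 0), (14, 0)] = ![(2, 0), (22, 0), (8, 0), (11, 0), (1, 0), (22, 0), (4, 0)] := by decide +kernel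
  have e4 : ev θ z PTwentyThree ^ 4 = ev θ z ![(2, 0), (22, 0), (8, 0), (11, 0), (1, 0), (22, 0), (4, 0)] := step hp hθ hz e2 e2 c4
  have c8 : conv 23 0 ![(2, 0), (22, 0), (8, 0), (11, 0), (1, 0), (22, 0), (4, 0)] ![(2, 0), (22, 0), (8, 0), (11, 0), (1, 0), (22, 0), (4, 0)] = ![(2, 0), (16, 0), (4, 0), (14, 0), (15, 0), (2, 0), (17, 0)] := by decide +kernel
  have e8 : ev θ z PTwentyThree ^ 8 = ev θ z ![(2, 0), (16, 0), (4, 0), (14, 0), (15, 0), (2, 0), (17, 0)] := step hp hθ hz e4 e4 c8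
  have c9 : conv 23 0 ![(2, 0), (16, 0), (4, 0), (14, 0), (15, 0), (2, 0), (17, 0)] ![(4, 0), (10, 0), (7, 0), (20, 0), (17, 0), (9, 0), (3, 0)] = ![(9, 0), (15, 0), (5, 0), (2, 0), (5, 0), (10, 0), (1, 0)] := by decide +kernel
  have e9 : ev θ z PTwentyThree ^ 9 = ev θ z ![(9, 0), (15, 0), (5, 0), (2, 0), (5, 0), (10, 0), (1, 0)] := step hp hθ hz e8 e1 c9
  have c18 : conv 23 0 ![(9, 0), (15, 0), (5, 0), (2, 0), (5, 0), (10, 0), (1, 0)] ![(9, 0), (15, 0), (5, 0), (2, 0), (5, 0), (10, 0), (1, 0)] = ![(1, 0), (0, 0), (5, 0), (20, 0), (11, 0), (6, 0), (4, 0)] := by decide +kernel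
  have e18 : ev θ z PTwentyThree ^ 18 = ev θ z ![(1, 0), (0, 0), (5, 0), (20, 0), (11, 0), (6, 0), (4, 0)] := step hp hθ hz e9 e9 c18
  have c19 : conv 23 0 ![(1, 0), (0, 0), (5, 0), (20, 0), (11, 0), (6, 0), (4, 0)] ![(4, 0), (10, 0), (7, 0), (20, 0), (17, 0), (9, 0), (3, 0)] = ![(1, 0), (11, 0), (0, 0), (6, 0), (5, 0), (4, 0), (20, 0)] := by decide +kernel
  have e19 : ev θ z PTwentyThree ^ 19 = ev θ z ![(1, 0), (11, 0), (0, 0), (6, 0), (5, 0), (4, 0), (20, 0)] := step hp hθ hz e18 e1 c19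
  have c38 : conv 23 0 ![(1, 0), (11, 0), (0, 0), (6, 0), (5, 0), (4, 0), (20, 0)] ![(1, 0), (11, 0), (0, 0), (6, 0), (5, 0), (4, 0), (20, 0)] = ![(18, 0), (3, 0), (10, 0), (21, 0), (3, 0), (12, 0), (3, 0)] := by decide +kernel
  have e38 : ev θ z PTwentyThree ^ 38 = ev θ z ![(18, 0), (3, 0), (10, 0), (21, 0), (3, 0), (12, 0), (3, 0)] := step hp hθ hz e19 e19 c38
  have c39 : conv 23 0 ![(18, 0), (3, 0), (10, 0), (21, 0), (3, 0), (12, 0), (3, 0)] ![(4, 0), (10, 0), (7, 0), (20, 0), (17, 0), (9, 0), (3, 0)] = ![(12, 0), (10, 0), (21, 0), (20, 0), (8, 0), (3, 0), (19, 0)] := by decide +kernel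
  have e39 : ev θ z PTwentyThree ^ 39 = ev θ z ![(12, 0), (10, 0), (21, 0), (20, 0), (8, 0), (3, 0), (19, 0)] := step hp hθ hz e38 e1 c39
  have c78 : conv 23 0 ![(12, 0), (10, 0), (21, 0), (20, 0), (8, 0), (3, 0), (19, 0)] ![(12, 0), (10, 0), (21, 0), (20, 0), (8, 0), (3, 0), (19, 0)] = ![(4, 0), (3, 0), (9, 0), (17, 0), (20, 0), (7, 0), (10, 0)] := by decide +kernel
  have e78 : ev θ z PTwentyThree ^ 78 = ev θ z ![(4, 0), (3, 0), (9, 0), (17, 0), (20, 0), (7, 0), (10, 0)] := step hp hθ hz e39 e39 c78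
  have c79 : conv 23 0 ![(4, 0), (3, 0), (9, 0), (17, 0), (20, 0), (7, 0), (10, 0)] ![(4, 0), (10, 0), (7, 0), (20, 0), (17, 0), (9, 0), (3, 0)] = ![(1, 0), (0, 0), (0, 0), (0, 0), (0, 0), (0, 0), (0, 0)] := by decide +kernel
  have e79 : ev θ z PTwentyThree ^ 79 = ev θ z ![(1, 0), (0, 0), (0, 0), (0, 0), (0, 0), (0, 0), (0, 0)] := step hp hθ hz e78 e1 c79
  refine ⟨e79.trans (ev_one θ z), ?_, ?_⟩
  · rw [ev_pow hz 6 6 (by decide), ← ev_conv hp hθ hz]
    exact (congrArg (ev θ z) (show conv 23 0 PTwentyThree (fun i => PTwentyThree (6 * i)) = ![(1, 0), (0, 0), (0, 0), (0, 0), (0, 0), (0, 0), (0, 0)] by decide +kernel)).trans (ev_one θ z)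
  · rw [ev_pow hz 3 5 (by decide)]
    exact (congrArg (ev θ z) (show (fun i => PTwentyThree (5 * i)) = ![(4, 0), (9, 0), (20, 0), (10, 0), (3, 0), (17, 0), (7, 0)] by decide +kernel)).trans e24.symm

theorem neTwentyThree {F M : Type*} [Field F] [Ring M] [Algebra F M] (hp : ((23 : ℕ) : F) = 0) {θ : F}
    (hθ : θ * θ = ((0 : ℕ) : F)) {z : M} (hz : z ^ 7 = 1) (h : ev θ z PTwentyThree = 1) : z = 1 := by
  have h1 : addc 23 ![(3, 0), (10, 0), (7, 0), (20, 0), (17, 0), (9, 0), (3, 0)] ![(1, 0), (0, 0), (0, 0), (0, 0), (0, 0), (0, 0), (0, 0)] = PTwentyThree := by decide +kernel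
  have h2 : ev θ z ![(3, 0), (10, 0), (7, 0), (20, 0), (17, 0), (9, 0), (3, 0)] = 0 := by
    rw [← h1, ev_addc hp, ev_one] at h
    exact add_eq_right.1 h
  have h3 : conv 23 0 ![(21, 0), (20, 0), (12, 0), (4, 0), (19, 0), (4, 0), (12, 0)] ![(3, 0), (10, 0), (7, 0), (20, 0), (17, 0), (9, 0), (3, 0)] = ![(22, 0), (1, 0), (0, 0), (0, 0), (0, 0), (0, 0), (0, 0)] := by decide +kernel
  have h4 : ev θ z ![(22, 0), (1, 0), (0, 0), (0, 0), (0, 0), (0, 0), (0, 0)] = 0 := by rw [← h3, ev_conv hp hθ hz, h2, mul_zero]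
  have h5 : addc 23 ![(22, 0), (1, 0), (0, 0), (0, 0), (0, 0), (0, 0), (0, 0)] ![(1, 0), (0, 0), (0, 0), (0, 0), (0, 0), (0, 0), (0, 0)] = ![(0, 0), (1, 0), (0, 0), (0, 0), (0, 0), (0, 0), (0, 0)] := by decide +kernel
  rw [← ev_X θ z, ← h5, ev_addc hp, h4, ev_one, zero_add]

/-- the certificate for `p = 5`, `l = 31` -/
def PTwentyFive : Fin 7 → ℕ × ℕ := ![(4, 0), (2, 3), (4, 0), (0, 1), (0, 4), (4, 0), (2, 2)]

theorem certTwentyFive {F M : Type*} [Field F] [Ring M] [Algebra F M] (hp : ((5 : ℕ) : F) = 0) {θ : F}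
    (hθ : θ * θ = ((2 : ℕ) : F)) : CertM M θ PTwentyFive 31 6 := by
  intro z hz
  have e1 : ev θ z PTwentyFive ^ 1 = ev θ z ![(4, 0), (2, 3), (4, 0), (0, 1), (0, 4), (4, 0), (2, 2)] := pow_one _
  have c2 : conv 5 2 ![(4, 0), (2, 3), (4, 0), (0, 1), (0, 4), (4, 0), (2, 2)] ![(4, 0), (2, 3), (4, 0), (0, 1), (0, 4), (4, 0), (2, 2)] = ![(1, 0), (4, 3), (2, 3), (4, 3), (4, 2), (2, 2), (4, 2)] := by decide +kernel
  have e2 : ev θ z PTwentyFive ^ 2 = ev θ z ![(1, 0), (4, 3), (2, 3), (4, 3), (4, 2), (2, 2), (4, 2)] := step hp hθ hz e1 e1 c2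
  have c3 : conv 5 2 ![(1, 0), (4, 3), (2, 3), (4, 3), (4, 2), (2, 2), (4, 2)] ![(4, 0), (2, 3), (4, 0), (0, 1), (0, 4), (4, 0), (2, 2)] = ![(3, 0), (1, 3), (4, 4), (4, 3), (4, 2), (4, 1), (1, 2)] := by decide +kernel
  have e3 : ev θ z PTwentyFive ^ 3 = ev θ z ![(3, 0), (1, 3), (4, 4), (4, 3), (4, 2), (4, 1), (1, 2)] := step hp hθ hz e2 e1 c3
  have c6 : conv 5 2 ![(3, 0), (1, 3), (4, 4), (4, 3), (4, 2), (4, 1), (1, 2)] ![(3, 0), (1, 3), (4, 4), (4, 3), (4, 2), (4, 1), (1, 2)] = ![(4, 0), (4, 0), (0, 1), (2, 3), (2, 2), (0, 4), (4, 0)] := by decide +kernel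
  have e6 : ev θ z PTwentyFive ^ 6 = ev θ z ![(4, 0), (4, 0), (0, 1), (2, 3), (2, 2), (0, 4), (4, 0)] := step hp hθ hz e3 e3 c6
  have c7 : conv 5 2 ![(4, 0), (4, 0), (0, 1), (2, 3), (2, 2), (0, 4), (4, 0)] ![(4, 0), (2, 3), (4, 0), (0, 1), (0, 4), (4, 0), (2, 2)] = ![(0, 0), (1, 4), (0, 3), (2, 3), (2, 2), (0, 2), (1, 1)] := by decide +kernel
  have e7 : ev θ z PTwentyFive ^ 7 = ev θ z ![(0, 0), (1, 4), (0, 3), (2, 3), (2, 2), (0, 2), (1, 1)] := step hp hθ hz e6 e1 c7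
  have c14 : conv 5 2 ![(0, 0), (1, 4), (0, 3), (2, 3), (2, 2), (0, 2), (1, 1)] ![(0, 0), (1, 4), (0, 3), (2, 3), (2, 2), (0, 2), (1, 1)] = ![(4, 0), (3, 2), (0, 1), (3, 4), (3, 1), (0, 4), (3, 3)] := by decide +kernel
  have e14 : ev θ z PTwentyFive ^ 14 = ev θ z ![(4, 0), (3, 2), (0, 1), (3, 4), (3, 1), (0, 4), (3, 3)] := step hp hθ hz e7 e7 c14
  have c15 : conv 5 2 ![(4, 0), (3, 2), (0, 1), (3, 4), (3, 1), (0, 4), (3, 3)] ![(4, 0), (2, 3), (4, 0), (0, 1), (0, 4), (4, 0), (2, 2)] = ![(3, 0), (4, 2), (1, 3), (4, 1), (4, 4), (1, 2), (4, 3)] := by decide +kernel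
  have e15 : ev θ z PTwentyFive ^ 15 = ev θ z ![(3, 0), (4, 2), (1, 3), (4, 1), (4, 4), (1, 2), (4, 3)] := step hp hθ hz e14 e1 c15
  have c30 : conv 5 2 ![(3, 0), (4, 2), (1, 3), (4, 1), (4, 4), (1, 2), (4, 3)] ![(3, 0), (4, 2), (1, 3), (4, 1), (4, 4), (1, 2), (4, 3)] = ![(4, 0), (2, 2), (4, 0), (0, 4), (0, 1), (4, 0), (2, 3)] := by decide +kernel
  have e30 : ev θ z PTwentyFive ^ 30 = ev θ z ![(4, 0), (2, 2), (4, 0), (0, 4), (0, 1), (4, 0), (2, 3)] := step hp hθ hz e15 e15 c30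
  have c31 : conv 5 2 ![(4, 0), (2, 2), (4, 0), (0, 4), (0, 1), (4, 0), (2, 3)] ![(4, 0), (2, 3), (4, 0), (0, 1), (0, 4), (4, 0), (2, 2)] = ![(1, 0), (0, 0), (0, 0), (0, 0), (0, 0), (0, 0), (0, 0)] := by decide +kernel
  have e31 : ev θ z PTwentyFive ^ 31 = ev θ z ![(1, 0), (0, 0), (0, 0), (0, 0), (0, 0), (0, 0), (0, 0)] := step hp hθ hz e30 e1 c31
  refine ⟨e31.trans (ev_one θ z), ?_, ?_⟩
  · rw [ev_pow hz 6 6 (by decide), ← ev_conv hp hθ hz]
    exact (congrArg (ev θ z) (show conv 5 2 PTwentyFive (fun i => PTwentyFive (6 * i)) = ![(1, 0), (0, 0), (0, 0), (0, 0), (0, 0), (0, 0), (0, 0)] by decide +kernel)).trans (ev_one θ z)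
  · rw [ev_pow hz 3 5 (by decide)]
    exact (congrArg (ev θ z) (show (fun i => PTwentyFive (5 * i)) = ![(4, 0), (4, 0), (0, 1), (2, 3), (2, 2), (0, 4), (4, 0)] by decide +kernel)).trans e6.symm

theorem neTwentyFive {F M : Type*} [Field F] [Ring M] [Algebra F M] (hp : ((5 : ℕ) : F) = 0) {θ : F}
    (hθ : θ * θ = ((2 : ℕ) : F)) {z : M} (hz : z ^ 7 = 1) (h : ev θ z PTwentyFive = 1) : z = 1 := by
  have h1 : addc 5 ![(3, 0), (2, 3), (4, 0), (0, 1), (0, 4), (4, 0), (2, 2)] ![(1, 0), (0, 0), (0, 0), (0, 0), (0, 0), (0, 0), (0, 0)] = PTwentyFive := by decide +kernel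
  have h2 : ev θ z ![(3, 0), (2, 3), (4, 0), (0, 1), (0, 4), (4, 0), (2, 2)] = 0 := by
    rw [← h1, ev_addc hp, ev_one] at h
    exact add_eq_right.1 h
  have h3 : conv 5 2 ![(3, 1), (2, 1), (0, 0), (0, 4), (0, 0), (0, 4), (0, 0)] ![(3, 0), (2, 3), (4, 0), (0, 1), (0, 4), (4, 0), (2, 2)] = ![(4, 0), (1, 0), (0, 0), (0, 0), (0, 0), (0, 0), (0, 0)] := by decide +kernel
  have h4 : ev θ z ![(4, 0), (1, 0), (0, 0), (0, 0), (0, 0), (0, 0), (0, 0)] = 0 := by rw [← h3, ev_conv hp hθ hz, h2, mul_zero]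
  have h5 : addc 5 ![(4, 0), (1, 0), (0, 0), (0, 0), (0, 0), (0, 0), (0, 0)] ![(1, 0), (0, 0), (0, 0), (0, 0), (0, 0), (0, 0), (0, 0)] = ![(0, 0), (1, 0), (0, 0), (0, 0), (0, 0), (0, 0), (0, 0)] := by decide +kernel
  rw [← ev_X θ z, ← h5, ev_addc hp, h4, ev_one, zero_add]

end Cfsg.Agent.H286.EP
end

-- part: H286/EP/LiftSeven
section
/-!
# Polynomials in an element of order 7 of `Ω₈⁺(q)` (helper286, S3499-IV)
-/

set_option autoImplicit false
set_option linter.unusedSectionVars false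

namespace Cfsg.Agent.H286.EP

open Module QuadraticMap Matrix
open Cfsg.Agent.LieClassical.OmegaReindex Cfsg.Agent.LieClassical.OmegaCenter

section adj

variable {F : Type*} [Field F] {ι : Type} [Fintype ι] [DecidableEq ι] {Q : QuadraticForm F (ι → F)}
  {z : Matrix ι ι F}

theorem polar_isom (hz : ∀ u, Q (z *ᵥ u) = Q u) (u v : ι → F) : polar Q (z *ᵥ u) (z *ᵥ v) = polar Q u v := by
  simp only [polar]
  rw [← Matrix.mulVec_add, hz, hz, hz]

theorem polar_adj (hz7 : z ^ 7 = 1) (hz : ∀ u, Q (z *ᵥ u) = Q u) (u v : ι → F) :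
    polar Q (z *ᵥ u) v = polar Q u (z ^ 6 *ᵥ v) := by
  have h1 : z *ᵥ (z ^ 6 *ᵥ v) = v := by
    rw [Matrix.mulVec_mulVec, ← pow_succ', hz7, Matrix.one_mulVec]
  conv_lhs => rw [← h1]
  exact polar_isom hz _ _

theorem polar_pow (hz7 : z ^ 7 = 1) (hz : ∀ u, Q (z *ᵥ u) = Q u) (i : ℕ) :
    ∀ u v : ι → F, polar Q (z ^ i *ᵥ u) v = polar Q u ((z ^ 6) ^ i *ᵥ v) := by
  induction i with
  | zero => intro u v; rw [pow_zero, pow_zero, Matrix.one_mulVec, Matrix.one_mulVec]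
  | succ i ih =>
    intro u v
    rw [pow_succ', ← Matrix.mulVec_mulVec, polar_adj hz7 hz, ih, Matrix.mulVec_mulVec, ← pow_succ]

theorem polar_ev (hz7 : z ^ 7 = 1) (hz : ∀ u, Q (z *ᵥ u) = Q u) (θ : F) (a : Fin 7 → ℕ × ℕ) (u v : ι → F) :
    polar Q (ev θ z a *ᵥ u) v = polar Q u (ev θ (z ^ 6) a *ᵥ v) := by
  simp only [ev]
  rw [Matrix.sum_mulVec, Matrix.sum_mulVec]
  have h1 : ∀ u v : ι → F, polar Q u v = polarBilin Q u v := fun u v => rfl
  rw [h1, h1, map_sum, LinearMap.sum_apply, map_sum]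
  refine Finset.sum_congr rfl fun i _ => ?_
  rw [Matrix.smul_mulVec, Matrix.smul_mulVec, map_smul, LinearMap.smul_apply, map_smul, ← h1, ← h1,
    polar_pow hz7 hz]

theorem Q_ev (h2 : (2 : F) ≠ 0) (hz7 : z ^ 7 = 1) (hz : ∀ u, Q (z *ᵥ u) = Q u) (θ : F) (a : Fin 7 → ℕ × ℕ)
    (ha : ev θ (z ^ 6) a * ev θ z a = 1) (u : ι → F) : Q (ev θ z a *ᵥ u) = Q u := by
  have h1 := polar_ev hz7 hz θ a u (ev θ z a *ᵥ u)
  rw [Matrix.mulVec_mulVec, ha, Matrix.one_mulVec] at h1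
  have h3 : ∀ w : ι → F, polar Q w w = 2 * Q w := by
    intro w
    rw [QuadraticMap.polar_self, two_smul, two_mul]
  rw [h3, h3] at h1
  exact mul_left_cancel₀ h2 h1

end adj

section om

variable {F : Type*} [Field F] [Fintype F]

/-- the matrix of an element of `Ω` -/
noncomputable def mt : ↥(Cfsg.Omega F ⇑(quadPlus 4 F)) →* Matrix (Fin 4 ⊕ Fin 4) (Fin 4 ⊕ Fin 4) F :=
  (Units.coeHom _).comp ((Subgroup.subtype _).comp (Subgroup.subtype _))

theorem mt_inj {g h : ↥(Cfsg.Omega F ⇑(quadPlus 4 F))} (H : mt g = mt h) : g = h := omega_ext H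

theorem mt_isom (g : ↥(Cfsg.Omega F ⇑(quadPlus 4 F))) (u : Fin 4 ⊕ Fin 4 → F) :
    quadPlus 4 F (mt g *ᵥ u) = quadPlus 4 F u := g.1.2 u u

theorem center_iff (g : ↥(Cfsg.Omega F ⇑(quadPlus 4 F))) :
    g ∈ Subgroup.center (Cfsg.Omega F ⇑(quadPlus 4 F)) ↔ mt g = 1 ∨ mt g = -1 :=
  mem_center_omega_iff (quadPlus 4 F) quadPlus_nondegenerate (by rw [Cfsg.Agent.H286.CS.card_iota]; norm_num)
    (quadPlus_isotropic (m := 4) (F := F) (by norm_num)) g

theorem center_two : ∀ z ∈ Subgroup.center (Cfsg.Omega F ⇑(quadPlus 4 F)), z ^ 2 = 1 := by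
  intro z hz
  apply mt_inj
  rw [map_pow, map_one, pow_two]
  rcases (center_iff z).1 hz with h | h <;> rw [h]
  · rw [one_mul]
  · rw [neg_mul_neg, one_mul]

/-- the element with matrix `P(z)` -/
theorem exists_c0 (h2 : (2 : F) ≠ 0) {θ : F} {P : Fin 7 → ℕ × ℕ} {l t : ℕ} (hl : Odd l)
    (hc : CertM (Matrix (Fin 4 ⊕ Fin 4) (Fin 4 ⊕ Fin 4) F) θ P l t) {t0 : ↥(Cfsg.Omega F ⇑(quadPlus 4 F))}
    (ht : t0 ^ 7 = 1) : ∃ c0 : ↥(Cfsg.Omega F ⇑(quadPlus 4 F)), mt c0 = ev θ (mt t0) P := by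
  have hz : mt t0 ^ 7 = 1 := by rw [← map_pow, ht, map_one]
  obtain ⟨h1, h3, -⟩ := hc _ hz
  have h4 : ev θ (mt t0 ^ 6) P * ev θ (mt t0) P = 1 := mul_eq_one_comm.1 h3
  set g : GL (Fin 4 ⊕ Fin 4) F := ⟨ev θ (mt t0) P, ev θ (mt t0 ^ 6) P, h3, h4⟩ with hg
  have hgi : g ∈ Cfsg.isometryGroup F ⇑(quadPlus 4 F) := by
    intro u v
    exact Q_ev h2 hz (mt_isom t0) θ P h4 u
  have hgl : (⟨g, hgi⟩ : ↥(Cfsg.isometryGroup F ⇑(quadPlus 4 F))) ^ l = 1 := by
    apply Subtype.ext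
    apply Units.ext
    rw [SubmonoidClass.coe_pow, Units.val_pow_eq_pow_val]
    exact h1
  have hm := Cfsg.Agent.H957.mem_Omega_of_odd (quadPlus 4 F) quadPlus_nondegenerate (Or.inr (by
    rw [Cfsg.Agent.H286.CS.card_iota]; norm_num)) hl _ hgl
  exact ⟨⟨_, hm⟩, rfl⟩

variable {θ : F} {P : Fin 7 → ℕ × ℕ} {l t : ℕ} (hc : CertM (Matrix (Fin 4 ⊕ Fin 4) (Fin 4 ⊕ Fin 4) F) θ P l t)
  {t0 c0 : ↥(Cfsg.Omega F ⇑(quadPlus 4 F))} (ht : t0 ^ 7 = 1) (hc0 : mt c0 = ev θ (mt t0) P)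

include hc ht hc0

theorem c0_pow : c0 ^ l = 1 := by
  apply mt_inj
  rw [map_pow, hc0, map_one]
  exact (hc _ (by rw [← map_pow, ht, map_one])).1

omit hc ht in
theorem c0_comm : c0 * t0 = t0 * c0 := by
  apply mt_inj
  rw [map_mul, map_mul, hc0, ev_comm]

theorem c0_conj (k : ℕ) {u : ↥(Cfsg.Omega F ⇑(quadPlus 4 F))} (hu : u * t0 * u⁻¹ = t0 ^ 3 ^ k) :
    u * c0 * u⁻¹ = c0 ^ t ^ k := by
  have hz : mt t0 ^ 7 = 1 := by rw [← map_pow, ht, map_one]
  have key : ∀ k : ℕ, ev θ (mt t0 ^ 3 ^ k) P = ev θ (mt t0) P ^ t ^ k := by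
    intro k
    induction k with
    | zero => rw [pow_zero, pow_zero, pow_one, pow_one]
    | succ k ih =>
      rw [pow_succ 3 k, pow_mul, pow_succ t k, pow_mul, ← ih]
      exact (hc _ (by rw [← pow_mul, mul_comm, pow_mul, hz, one_pow])).2.2
  apply mt_inj
  rw [map_mul, map_mul, map_pow, hc0, ← key, ← map_pow, ← hu, map_mul, map_mul]
  refine (ev_conj ?_ ?_ P).symm
  · rw [← map_mul, mul_inv_cancel, map_one]
  · rw [← map_mul, inv_mul_cancel, map_one]

omit hc hc0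

/-- conjugation modulo the centre -/
theorem lift_conj {u v : ↥(Cfsg.Omega F ⇑(quadPlus 4 F))} (hv : v ^ 7 = 1)
    (h : ((u * t0 * u⁻¹ : ↥(Cfsg.Omega F ⇑(quadPlus 4 F))) : Cfsg.POmega F ⇑(quadPlus 4 F)) = (v : _)) :
    u * t0 * u⁻¹ = v := by
  have h1 : (u * t0 * u⁻¹)⁻¹ * v ∈ Subgroup.center (Cfsg.Omega F ⇑(quadPlus 4 F)) := QuotientGroup.eq.1 h
  set ζ := (u * t0 * u⁻¹)⁻¹ * v with hζ
  have h3 : v = (u * t0 * u⁻¹) * ζ := by rw [hζ, mul_inv_cancel_left]
  have h4 : (u * t0 * u⁻¹) ^ 7 = 1 := by rw [conj_pow, ht, mul_one, mul_inv_cancel]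
  have h5 : Commute (u * t0 * u⁻¹) ζ := Subgroup.mem_center_iff.1 h1 _
  have h6 : ζ ^ 7 = 1 := by
    rw [h3, h5.mul_pow, h4, one_mul] at hv
    exact hv
  have h7 : ζ = 1 := by
    have h8 := center_two ζ h1
    rw [show (7 : ℕ) = 2 * 3 + 1 from rfl, pow_succ, pow_mul, h8, one_pow, one_mul] at h6
    exact h6
  rw [h3, h7, mul_one]

end om

end Cfsg.Agent.H286.EP
end

-- part: H286/EP/CycSeven
section
/-!
# S3499-IV: the socle `Ω₈⁺(2)` in `PΩ₈⁺(q)`, `q = 9, 17, 23, 25` (helper286)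

An element `y` of order 7 of the socle, `c ∉ A` in `F[y]` of prime order `l`, on which `N(⟨y⟩)` acts through the
characters `3 ↦ t` of `(Z/7)^*`: `exists_u` gives `u ∈ A ∩ A^c` acting on `⟨y⟩`, so `[u, c] ∈ A` generates `⟨c⟩`.
-/

set_option autoImplicit false
set_option linter.unusedSectionVars false

namespace Cfsg.Agent.H286.EP

open Cfsg.Agent.H284 Cfsg.Agent.H419.EP Subgroup
open Cfsg.Agent.LieClassical.OmegaReindex

theorem card_autL : Nat.card (MulAut (Cfsg.POmega (ZMod 2) (Cfsg.quadFormPlus 4 (ZMod 2)))) = 1045094400 := by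
  rw [Cfsg.Agent.OddHalf.Table.OutOEight.card_aut (ZMod.card 2), card_L]

theorem card_A_dvd {Q : Type*} [Group Q] {A : Subgroup Q}
    (hsoc : HasSoc A (Cfsg.POmega (ZMod 2) (Cfsg.quadFormPlus 4 (ZMod 2)))) : Nat.card A ∣ 1045094400 := by
  obtain ⟨f, hf⟩ := hsoc.exists_hom
  rw [← card_autL]
  exact Subgroup.card_dvd_of_injective f hf

section

variable {Q : Type*} [Group Q] [Finite Q] {A N : Subgroup Q} {Γ : Subgroup (MulAut Q)}

/-- the abstract form -/
theorem kill_abs (h : EPT A Γ) (hNA : N ≤ A) (hNΓ : ∀ σ ∈ Γ, ∀ n ∈ N, σ n ∈ N)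
    (f : ↥N ≃* Cfsg.POmega (ZMod 2) (Cfsg.quadFormPlus 4 (ZMod 2))) {y c : Q} (hyN : y ∈ N) (hy : orderOf y = 7)
    (hcy : c * y = y * c) (hcA : c ∉ A) {l t : ℕ} (hl : c ^ l = 1) (ht : 1 ≤ t)
    (hco : ∀ k, 1 ≤ k → k ≤ 5 → Nat.Coprime (t ^ k - 1) l)
    (hconj : ∀ (u : Q) (k : ℕ), u * y * u⁻¹ = y ^ 3 ^ k → u * c * u⁻¹ = c ^ t ^ k) : False := by
  obtain ⟨u, hu, hu', k, hk1, hk2, e⟩ := exists_u h hNA hNΓ f hyN hy hcy hcA
  have h1 := hconj u k e
  apply hcA
  have h2 : c ^ (t ^ k - 1) ∈ A := by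
    have h3 : c⁻¹ * u * c * u⁻¹ = c ^ (t ^ k - 1) := by
      have h4 : c⁻¹ * u * c * u⁻¹ = c⁻¹ * (u * c * u⁻¹) := by group
      rw [h4, h1]
      have h5 : t ^ k = (t ^ k - 1) + 1 := (Nat.sub_add_cancel (Nat.one_le_pow _ _ ht)).symm
      conv_lhs => rw [h5, pow_succ']
      rw [inv_mul_cancel_left]
    rw [← h3]
    exact A.mul_mem hu' (A.inv_mem hu)
  have h6 : (t ^ k - 1).Coprime (orderOf c) :=
    Nat.Coprime.coprime_dvd_right (orderOf_dvd_of_pow_eq_one hl) (hco k hk1 hk2)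
  obtain ⟨m, hm⟩ := exists_pow_eq_self_of_coprime h6
  rw [← hm]
  exact A.pow_mem h2 m

variable {F : Type*} [Field F] [Fintype F]

/-- with the lifts to `Ω₈⁺(q)` -/
theorem kill_core (h : EPT A Γ) (hNA : N ≤ A) (hNΓ : ∀ σ ∈ Γ, ∀ n ∈ N, σ n ∈ N)
    (f : ↥N ≃* Cfsg.POmega (ZMod 2) (Cfsg.quadFormPlus 4 (ZMod 2)))
    (e : Q ≃* Cfsg.POmega F ⇑(quadPlus 4 F)) {y : Q} (hyN : y ∈ N) (hy : orderOf y = 7)
    {t0 c0 : ↥(Cfsg.Omega F ⇑(quadPlus 4 F))} (ht0 : t0 ^ 7 = 1) (hty : (t0 : Cfsg.POmega F ⇑(quadPlus 4 F)) = e y)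
    {θ : F} {P : Fin 7 → ℕ × ℕ} {l t : ℕ} (hc : CertM (Matrix (Fin 4 ⊕ Fin 4) (Fin 4 ⊕ Fin 4) F) θ P l t)
    (hc0 : mt c0 = ev θ (mt t0) P) (ht : 1 ≤ t) (hco : ∀ k, 1 ≤ k → k ≤ 5 → Nat.Coprime (t ^ k - 1) l)
    (hcA : e.symm (c0 : Cfsg.POmega F ⇑(quadPlus 4 F)) ∉ A) : False := by
  set c : Q := e.symm (c0 : Cfsg.POmega F ⇑(quadPlus 4 F)) with hcd
  have hec : e c = (c0 : Cfsg.POmega F ⇑(quadPlus 4 F)) := by rw [hcd, MulEquiv.apply_symm_apply]
  refine kill_abs h hNA hNΓ f hyN hy (c := c) ?_ hcA (l := l) (t := t) ?_ ht hco ?_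
  · apply e.injective
    rw [map_mul, map_mul, hec, ← hty, ← QuotientGroup.mk_mul, ← QuotientGroup.mk_mul, c0_comm hc0]
  · apply e.injective
    rw [map_pow, hec, ← QuotientGroup.mk_pow, c0_pow hc ht0 hc0, map_one]
    rfl
  · intro u k hu
    obtain ⟨u0, hu0⟩ := QuotientGroup.mk_surjective (e u)
    have h1 : u0 * t0 * u0⁻¹ = t0 ^ 3 ^ k := by
      apply lift_conj ht0
      · rw [← pow_mul, mul_comm, pow_mul, ht0, one_pow]
      · rw [QuotientGroup.mk_mul, QuotientGroup.mk_mul, QuotientGroup.mk_inv, QuotientGroup.mk_pow, hu0, hty,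
          ← map_mul, ← map_inv, ← map_mul, hu, map_pow]
    have h2 := c0_conj hc ht0 hc0 k h1
    apply e.injective
    rw [map_mul, map_mul, map_inv, map_pow, hec, ← hu0, ← QuotientGroup.mk_mul, ← QuotientGroup.mk_inv,
      ← QuotientGroup.mk_mul, h2, QuotientGroup.mk_pow]

/-- a certificate of prime order `l` not dividing `|Aut(Ω₈⁺(2))|` -/
theorem kill_cert (h : EPT A Γ) (hsoc : HasSoc A (Cfsg.POmega (ZMod 2) (Cfsg.quadFormPlus 4 (ZMod 2))))
    (h2 : (2 : F) ≠ 0) (e : Q ≃* Cfsg.POmega F (Cfsg.quadFormPlus 4 F)) {θ : F} {P : Fin 7 → ℕ × ℕ} {l t : ℕ}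
    (hl : l.Prime) (hlo : Odd l) (hlA : ¬ l ∣ 1045094400)
    (hc : CertM (Matrix (Fin 4 ⊕ Fin 4) (Fin 4 ⊕ Fin 4) F) θ P l t)
    (hne : ∀ z : Matrix (Fin 4 ⊕ Fin 4) (Fin 4 ⊕ Fin 4) F, z ^ 7 = 1 → ev θ z P = 1 → z = 1) (ht : 1 ≤ t)
    (hco : ∀ k, 1 ≤ k → k ≤ 5 → Nat.Coprime (t ^ k - 1) l) : False := by
  have h7 : Fact (Nat.Prime 7) := ⟨by norm_num⟩
  have hAd := card_A_dvd hsoc
  obtain ⟨N, hNA, hN, hC, ⟨f⟩⟩ := hsoc
  have hNs : IsSimpleGroup ↥N := by
    haveI := Cfsg.Agent.S0296.result (F := ZMod 2) 4 le_rfl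
    exact f.isSimpleGroup
  have hNΓ := soc_inv h hNA hN hC hNs
  have hNc : Nat.card ↥N = 174182400 := by rw [Nat.card_congr f.toEquiv, card_L]
  rw [← coe_quadPlus] at e
  obtain ⟨⟨y, hyN⟩, hy⟩ := exists_prime_orderOf_dvd_card' (G := ↥N) 7 (by rw [hNc]; norm_num)
  rw [Subgroup.orderOf_mk] at hy
  have hy7 : (e y) ^ 7 = 1 := by rw [← map_pow, ← hy, pow_orderOf_eq_one, map_one]
  obtain ⟨t0, hty, ht0⟩ := Cfsg.Agent.H286.CS.exists_lift center_two (r := 7) (by decide) (e y) hy7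
  obtain ⟨c0, hc0⟩ := exists_c0 h2 hlo hc ht0
  refine kill_core h hNA hNΓ f e hyN hy ht0 hty hc hc0 ht hco ?_
  intro hcA
  set c : Q := e.symm (c0 : Cfsg.POmega F ⇑(quadPlus 4 F)) with hcd
  have hcl : c ^ l = 1 := by
    apply e.injective
    rw [map_pow, hcd, MulEquiv.apply_symm_apply, ← QuotientGroup.mk_pow, c0_pow hc ht0 hc0, map_one]
    rfl
  rcases (Nat.dvd_prime hl).1 (orderOf_dvd_of_pow_eq_one hcl) with h1 | h1
  · rw [orderOf_eq_one_iff, hcd, map_eq_one_iff e.symm e.symm.injective] at h1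
    have h3 := (QuotientGroup.eq_one_iff c0).1 h1
    have h4 := center_two _ h3
    have h5 := c0_pow hc ht0 hc0
    obtain ⟨k, rfl⟩ := hlo
    rw [pow_succ, pow_mul, h4, one_pow, one_mul] at h5
    rw [h5, map_one] at hc0
    have h6 := hne (mt t0) (by rw [← map_pow, ht0, map_one]) hc0.symm
    have h8 : t0 = 1 := mt_inj (by rw [h6, map_one])
    rw [h8] at hty
    have h9 : y = 1 := by
      apply e.injective
      rw [← hty, map_one]
      rfl
    rw [h9, orderOf_one] at hy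
    norm_num at hy
  · apply hlA
    refine Dvd.dvd.trans ?_ hAd
    have h3 : orderOf (⟨c, hcA⟩ : ↥A) = l := by rw [Subgroup.orderOf_mk]; exact h1
    rw [← h3]
    exact _root_.orderOf_dvd_natCard _

theorem char_of {p e : ℕ} (hp : p.Prime) (he : e ≠ 0) (hF : Fintype.card F = p ^ e) : ((p : ℕ) : F) = 0 := by
  have h1 : ((Fintype.card F : ℕ) : F) = 0 := Nat.cast_card_eq_zero F
  rw [hF] at h1
  push_cast at h1
  exact pow_eq_zero_iff he |>.1 h1

theorem two_ne {p : ℕ} (hp : ((p : ℕ) : F) = 0) (hodd : Odd p) : (2 : F) ≠ 0 := by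
  intro h
  obtain ⟨k, rfl⟩ := hodd
  push_cast at hp
  rw [h, zero_mul, zero_add] at hp
  exact one_ne_zero hp

/-- `q = 17` -/
theorem kill_seventeen (h : EPT A Γ) (hsoc : HasSoc A (Cfsg.POmega (ZMod 2) (Cfsg.quadFormPlus 4 (ZMod 2))))
    (hF : Fintype.card F = 17) (e : Q ≃* Cfsg.POmega F (Cfsg.quadFormPlus 4 F)) : False := by
  have hp : ((17 : ℕ) : F) = 0 := char_of (p := 17) (e := 1) (by norm_num) one_ne_zero (by rw [hF]; norm_num)
  have hθ : (0 : F) * 0 = ((0 : ℕ) : F) := by simp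
  refine kill_cert h hsoc (two_ne hp (by decide)) e (θ := 0) (P := PSeventeen) (l := 13) (t := 4) (by norm_num)
    (by decide) (by norm_num) (certSeventeen hp hθ) (fun z hz => neSeventeen hp hθ hz) (by norm_num) ?_
  intro k h1 h2
  interval_cases k <;> norm_num

/-- `q = 23` -/
theorem kill_twentythree (h : EPT A Γ) (hsoc : HasSoc A (Cfsg.POmega (ZMod 2) (Cfsg.quadFormPlus 4 (ZMod 2))))
    (hF : Fintype.card F = 23) (e : Q ≃* Cfsg.POmega F (Cfsg.quadFormPlus 4 F)) : False := by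
  have hp : ((23 : ℕ) : F) = 0 := char_of (p := 23) (e := 1) (by norm_num) one_ne_zero (by rw [hF]; norm_num)
  have hθ : (0 : F) * 0 = ((0 : ℕ) : F) := by simp
  refine kill_cert h hsoc (two_ne hp (by decide)) e (θ := 0) (P := PTwentyThree) (l := 79) (t := 24) (by norm_num)
    (by decide) (by norm_num) (certTwentyThree hp hθ) (fun z hz => neTwentyThree hp hθ hz) (by norm_num) ?_
  intro k h1 h2
  interval_cases k <;> norm_num

/-- `2` is a square -/
theorem exists_sqrt (h2 : (2 : F) ≠ 0) {m : ℕ} (hF : Fintype.card F / 2 = m) (hm : (2 : F) ^ m = 1) :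
    ∃ θ : F, θ * θ = ((2 : ℕ) : F) := by
  have hr : ringChar F ≠ 2 := by
    intro h
    apply h2
    have h1 : ((ringChar F : ℕ) : F) = 0 := ringChar.Nat.cast_ringChar
    rw [h] at h1
    exact_mod_cast h1
  have h3 : IsSquare (2 : F) := by
    rw [FiniteField.isSquare_iff hr h2, hF]
    exact hm
  obtain ⟨θ, hθ⟩ := h3
  exact ⟨θ, by rw [← hθ]; norm_num⟩

/-- `q = 9` -/
theorem kill_nine (h : EPT A Γ) (hsoc : HasSoc A (Cfsg.POmega (ZMod 2) (Cfsg.quadFormPlus 4 (ZMod 2))))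
    (hF : Fintype.card F = 9) (e : Q ≃* Cfsg.POmega F (Cfsg.quadFormPlus 4 F)) : False := by
  have hp : ((3 : ℕ) : F) = 0 := char_of (p := 3) (e := 2) (by norm_num) two_ne_zero (by rw [hF]; norm_num)
  obtain ⟨θ, hθ⟩ := exists_sqrt (F := F) (m := 4) (two_ne hp (by decide)) (by rw [hF]) (by
    push_cast at hp
    linear_combination 5 * hp)
  refine kill_cert h hsoc (two_ne hp (by decide)) e (θ := θ) (P := PNine) (l := 13) (t := 10) (by norm_num)
    (by decide) (by norm_num) (certNine hp hθ) (fun z hz => neNine hp hθ hz) (by norm_num) ?_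
  intro k h1 h2
  interval_cases k <;> norm_num

/-- `q = 25` -/
theorem kill_twentyfive (h : EPT A Γ) (hsoc : HasSoc A (Cfsg.POmega (ZMod 2) (Cfsg.quadFormPlus 4 (ZMod 2))))
    (hF : Fintype.card F = 25) (e : Q ≃* Cfsg.POmega F (Cfsg.quadFormPlus 4 F)) : False := by
  have hp : ((5 : ℕ) : F) = 0 := char_of (p := 5) (e := 2) (by norm_num) two_ne_zero (by rw [hF]; norm_num)
  obtain ⟨θ, hθ⟩ := exists_sqrt (F := F) (m := 12) (two_ne hp (by decide)) (by rw [hF]) (by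
    push_cast at hp
    linear_combination 819 * hp)
  refine kill_cert h hsoc (two_ne hp (by decide)) e (θ := θ) (P := PTwentyFive) (l := 31) (t := 6) (by norm_num)
    (by decide) (by norm_num) (certTwentyFive hp hθ) (fun z hz => neTwentyFive hp hθ hz) (by norm_num) ?_
  intro k h1 h2
  interval_cases k <;> norm_num

end

end Cfsg.Agent.H286.EP
end

private theorem dce_932a1ba0be96 : _root_.True := by
  try have : _root_.True := by simp only [_root_.Cfsg.Agent.H286.EP.addc.eq_1]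
  try have : _root_.True := by simp only [_root_.Cfsg.Agent.H286.EP.conv.eq_1]
  try have : _root_.True := by simp only [_root_.Cfsg.Agent.H286.EP.cf.eq_1]
  try have : _root_.True := by simp only [_root_.Cfsg.Agent.H286.EP.ev.eq_1]
  exact _root_.True.intro
end

-- part: H16/EP/MTwelve_mg
section
prune_inst 0x211034040962020000008080d1001c228200000000080800800000000480200000020020a00001000000000000040028134400a0420000000a0004000000050110800000a0480000020018000080000000000000000000000000000000000000200000000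
set_option linter.all false
open scoped Cfsg.Agent.FastGrp

-- part: H16/EP/MTwelve
section
/-!
# S3499-IV: socle `M₁₂` in `L₆(3)` (helper16), task 5948

* `EPT.no_cyclic_sq` : if `Y = ⟨y⟩` is a Sylow subgroup of prime order `s` of `A` with `C_A(y) = Y` (and the condition `hfrob` of
  (PS)), then `y` has no `s`-th root in `Q`;
* `exists_model` : change of the field of a model of `SL_n`;
* `m12_six` : the socle of `A` is not `M₁₂` for `Q = L₆(3)` (the Sylow 11-subgroup of `L₆(3)` is cyclic of order 121);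
* `no_m12` : the same from the list S5800, for all fields (`h4` of `H957.EP.row_of`).
-/

set_option autoImplicit false

namespace Cfsg.Agent.H16.EP

open Subgroup Cfsg Cfsg.Geo Cfsg.Agent.H284 Cfsg.Agent.H419.EP
open scoped MatrixGroups

section crit

variable {Q : Type*} [Group Q] [Finite Q] {A : Subgroup Q} {Γ : Subgroup (MulAut Q)}

theorem no_cyclic_sq (h : EPT A Γ)
    (hF : ∀ K : Subgroup Q, K ≤ A → (∀ σ ∈ Γ, ∀ k ∈ K, σ k ∈ K) → (∀ a ∈ K, ∀ b ∈ K, a * b = b * a) → K = ⊥)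
    {s : ℕ} (hs : s.Prime) {y : Q} (hyA : y ∈ A) (hy : orderOf y = s)
    (hYc : ∀ a ∈ A, a * y = y * a → a ∈ zpowers y)
    (hfrob : ∀ l, l.Prime → l ∣ Nat.card A → l ≠ s → ¬ l ^ (Nat.card A).factorization l ≡ 1 [MOD s])
    {c : Q} (hc : c ^ s = y) : False := by
  have hcy : c * y = y * c := by rw [← hc]; exact (Commute.refl c).pow_right s
  have hy1 : y ≠ 1 := by
    rintro rfl
    rw [orderOf_one] at hy
    exact hs.one_lt.ne hy
  have hys : y ^ s = 1 := by rw [← hy]; exact pow_orderOf_eq_one y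
  have hcA : c ∉ A := by
    intro hcA
    obtain ⟨k, hk⟩ := mem_zpowers_iff.1 (hYc c hcA hcy)
    apply hy1
    rw [← hc, ← hk, ← zpow_natCast, ← zpow_mul, mul_comm, zpow_mul, zpow_natCast, hys, one_zpow]
  have hYA : zpowers y ≤ A := (zpowers_le).2 hyA
  have hYc' : zpowers y ≤ cj c A := by
    rw [zpowers_le, mem_cj]
    have : c⁻¹ * y * c = y := by rw [mul_assoc, ← hcy, inv_mul_cancel_left]
    rw [this]; exact hyA
  obtain ⟨u, hu, hun, huY⟩ := h.PS_norm hF hs hYA (by rw [Nat.card_zpowers, hy])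
    (fun a ha hay => hYc a ha (hay y (mem_zpowers y))) hfrob hYc' hcA
  obtain ⟨hu1, hu2⟩ := mem_inf.1 hu
  rw [mem_cj] at hu2
  -- `u⁻¹ (c⁻¹ u c)` centralises `y`
  obtain ⟨k, hk⟩ := mem_zpowers_iff.1 (hun y (mem_zpowers y))
  have h1 : u⁻¹ * (c⁻¹ * u * c) ∈ A := A.mul_mem (A.inv_mem hu1) hu2
  have hcyk : c * y ^ k = y ^ k * c := (show Commute c y from hcy).zpow_right k
  have h2 : (c⁻¹ * u * c) * y * (c⁻¹ * u * c)⁻¹ = y ^ k := by
    calc (c⁻¹ * u * c) * y * (c⁻¹ * u * c)⁻¹ = c⁻¹ * u * (c * y) * c⁻¹ * u⁻¹ * c := by group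
      _ = c⁻¹ * u * (y * c) * c⁻¹ * u⁻¹ * c := by rw [hcy]
      _ = c⁻¹ * (u * y * u⁻¹) * c := by group
      _ = c⁻¹ * y ^ k * c := by rw [hk]
      _ = c⁻¹ * (y ^ k * c) := by group
      _ = y ^ k := by rw [← hcyk, inv_mul_cancel_left]
  have h3 : u⁻¹ * (c⁻¹ * u * c) * y = y * (u⁻¹ * (c⁻¹ * u * c)) := by
    have e1 : (c⁻¹ * u * c) * y = y ^ k * (c⁻¹ * u * c) := by rw [← h2]; group
    have e2 : u⁻¹ * y ^ k = y * u⁻¹ := by rw [hk]; group
    rw [mul_assoc, e1, ← mul_assoc, e2, mul_assoc]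
  obtain ⟨j, hj⟩ := mem_zpowers_iff.1 (hYc _ h1 h3)
  -- `u c u⁻¹ = c y^(jk)`
  have h4 : u * c * u⁻¹ = c * (y ^ k) ^ j := by
    have e1 : u * c = c * (u * y ^ j) := by rw [hj]; group
    rw [e1, hk, conj_zpow]
    group
  have h5 : (u * c * u⁻¹) ^ s = y := by
    rw [h4]
    have hcomm : Commute c ((y ^ k) ^ j) := ((show Commute c y from hcy).zpow_right k).zpow_right j
    rw [hcomm.mul_pow, hc, ← zpow_natCast, ← zpow_mul, ← zpow_mul, ← mul_assoc, mul_comm (k * j), zpow_mul, zpow_natCast, hys,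
      one_zpow, mul_one]
  rw [conj_pow, hc] at h5
  apply huY
  apply hYc u hu1
  rw [mul_inv_eq_iff_eq_mul] at h5
  exact h5

end crit

/-! ### change of the field -/

section model

open Matrix

theorem exists_model {Q : Type*} [Group Q] {ι : Type} [Fintype ι] [DecidableEq ι] {F K : Type*} [Field F] [Field K]
    (m : Model Q (specialLinear ι F)) (e : K ≃+* F) : Nonempty (Model Q (specialLinear ι K)) := by
  let g : GL ι K →* GL ι F := Matrix.GeneralLinearGroup.map (e : K →+* F)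
  let g' : GL ι F →* GL ι K := Matrix.GeneralLinearGroup.map (e.symm : F →+* K)
  have hg : ∀ x : GL ι K, x ∈ specialLinear ι K → g x ∈ specialLinear ι F := by
    intro x hx
    have h1 : (x : Matrix ι ι K).det = 1 := congrArg Units.val (MonoidHom.mem_ker.1 hx)
    refine MonoidHom.mem_ker.2 (Units.ext ?_)
    change ((x : Matrix ι ι K).map (e : K →+* F)).det = 1
    have h2 := (RingHom.map_det (e : K →+* F) (x : Matrix ι ι K)).symm
    rw [h1, map_one] at h2
    exact h2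
  have hg' : ∀ x : GL ι F, x ∈ specialLinear ι F → g' x ∈ specialLinear ι K := by
    intro x hx
    have h1 : (x : Matrix ι ι F).det = 1 := congrArg Units.val (MonoidHom.mem_ker.1 hx)
    refine MonoidHom.mem_ker.2 (Units.ext ?_)
    change ((x : Matrix ι ι F).map (e.symm : F →+* K)).det = 1
    have h2 := (RingHom.map_det (e.symm : F →+* K) (x : Matrix ι ι F)).symm
    rw [h1, map_one] at h2
    exact h2
  have hgg : ∀ x, g (g' x) = x := by
    intro x
    apply Units.ext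
    ext i j
    exact e.apply_symm_apply _
  refine ⟨⟨m.π.comp ((g.comp (specialLinear ι K).subtype).codRestrict _ fun x => hg x x.2), ?_, ?_⟩⟩
  · intro q
    obtain ⟨s, rfl⟩ := m.surj q
    refine ⟨⟨g' s, hg' s s.2⟩, ?_⟩
    exact congrArg m.π (Subtype.ext (hgg s))
  · intro s
    have h1 : m.π.comp ((g.comp (specialLinear ι K).subtype).codRestrict _ fun x => hg x x.2) s = 1 ↔
        g (s : GL ι K) ∈ scalars ι F := m.ker _
    rw [h1, mem_scalars_iff, mem_scalars_iff]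
    constructor
    · rintro ⟨c, hc⟩
      refine ⟨Units.map (e.symm : F →* K) c, ?_⟩
      ext i j
      have h2 : e ((s : GL ι K) i j) = (c : F) * (1 : Matrix ι ι F) i j := congrFun (congrFun hc i) j
      have h3 : (s : GL ι K) i j = e.symm ((c : F) * (1 : Matrix ι ι F) i j) := by rw [← h2, e.symm_apply_apply]
      rw [h3, map_mul]
      change e.symm c * e.symm ((1 : Matrix ι ι F) i j) = e.symm c * (1 : Matrix ι ι K) i j
      congr 1
      rw [Matrix.one_apply, Matrix.one_apply]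
      split_ifs
      · exact map_one _
      · exact map_zero _
    · rintro ⟨c, hc⟩
      refine ⟨Units.map (e : K →* F) c, ?_⟩
      ext i j
      have h2 : (s : GL ι K) i j = (c : K) * (1 : Matrix ι ι K) i j := congrFun (congrFun hc i) j
      change e ((s : GL ι K) i j) = e c * (1 : Matrix ι ι F) i j
      rw [h2, map_mul]
      congr 1
      rw [Matrix.one_apply, Matrix.one_apply]
      split_ifs
      · exact map_one _
      · exact map_zero _

end model

/-! ### the matrices -/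

section mat

open Matrix Polynomial

namespace MTw

abbrev M6 := Matrix (Fin 6) (Fin 6) (ZMod 3)

/-- the companion matrix of `(x - 1)(x⁵ + x⁴ + 2x³ + x² + 2)`, of order 11 -/
def CM : M6 := !![0,0,0,0,0,2; 1,0,0,0,0,1; 0,1,0,0,0,1; 0,0,1,0,0,1; 0,0,0,1,0,2; 0,0,0,0,1,0]

/-- an 11-th root of `CM` -/
def C0 : M6 := !![0, 1, 0, 2, 2, 2; 0, 2, 1, 1, 0, 0; 2, 2, 2, 2, 2, 1; 0, 1, 2, 0, 0, 0; 0, 1, 1, 1, 2, 2; 2, 0, 1, 1, 1, 2]

/-- the involution of determinant `-1` -/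
def EM : M6 := !![0, 2, 2, 2, 2, 2; 0, 1, 0, 0, 0, 0; 1, 1, 2, 1, 1, 1; 2, 2, 2, 0, 2, 2; 1, 1, 1, 1, 2, 1; 1, 1, 1, 1, 1, 2]

private noncomputable def _root_.Cfsg.Agent.LsF.f4cb56b_0 : {f // @Cfsg.Agent.H16.EP.MTw.CM = f} := ⟨_, by first | (delta Cfsg.Agent.H16.EP.MTw.CM; rewrite [Cfsg.Agent.LsF.mof_pat, Cfsg.Agent.LsF.vecCons_eq]; exact rfl) | exact rfl⟩
theorem CM_pow : CM ^ 11 = 1 := by (refine of_decide_eq_true ?_; (try (rewrite [Cfsg.Agent.LsF.mpowF_pat, Cfsg.Agent.LsF.f4cb56b_0.2, Cfsg.Agent.LsF.zadd_pat, Cfsg.Agent.LsF.zmul_pat, Cfsg.Agent.LsF.zdecEq_eq, Cfsg.Agent.LsF.finFintype_eq, Cfsg.Agent.LsF.dMat_eq, Cfsg.Agent.LsF.instMOne_eq, Cfsg.Agent.LsF.dFinEq_eq, Cfsg.Agent.LsF.decide_eq])); decide +kernel)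
private noncomputable def _root_.Cfsg.Agent.LsF.f4cb56b_1 : {f // @Cfsg.Agent.H16.EP.MTw.C0 = f} := ⟨_, by first | (delta Cfsg.Agent.H16.EP.MTw.C0; rewrite [Cfsg.Agent.LsF.mof_pat, Cfsg.Agent.LsF.vecCons_eq]; exact rfl) | exact rfl⟩
theorem C0_pow : C0 ^ 11 = CM := by (refine of_decide_eq_true ?_; (try (rewrite [Cfsg.Agent.LsF.mpowF_pat, Cfsg.Agent.LsF.f4cb56b_1.2, Cfsg.Agent.LsF.f4cb56b_0.2, Cfsg.Agent.LsF.zadd_pat, Cfsg.Agent.LsF.zmul_pat, Cfsg.Agent.LsF.zdecEq_eq, Cfsg.Agent.LsF.finFintype_eq, Cfsg.Agent.LsF.dMat_eq, Cfsg.Agent.LsF.decide_eq])); decide +kernel)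
theorem det_EM : EM.det = 2 := by
  have h : EM = 1 + replicateCol Unit (![2, 0, 1, 2, 1, 1] : Fin 6 → ZMod 3) *
      replicateRow Unit (![1, 1, 1, 1, 1, 1] : Fin 6 → ZMod 3) := by decide +kernel
  rw [h, det_one_add_replicateCol_mul_replicateRow]
  decide +kernel
private theorem pow11 : ∀ x : ZMod 3, x ^ 11 = 1 → x = 1 := by decide +kernel
theorem det_CM : CM.det = 1 := pow11 _ (by rw [← det_pow, CM_pow, det_one])
theorem det_C0 : C0.det = 1 := pow11 _ (by rw [← det_pow, C0_pow, det_CM])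
private theorem C0_121 : C0 ^ (120 + 1) = 1 := by
  rw [show 120 + 1 = 11 * 11 from rfl, pow_mul, C0_pow, CM_pow]

/-- the polynomial with coefficients `u` -/
noncomputable def pol (u : Fin 6 → ZMod 3) : (ZMod 3)[X] := ∑ i, Polynomial.C (u i) * Polynomial.X ^ (i : ℕ)

theorem aeval_pol (A : M6) (u : Fin 6 → ZMod 3) : aeval A (pol u) = ∑ i, u i • A ^ (i : ℕ) := by
  unfold pol
  rw [map_sum]
  refine Finset.sum_congr rfl fun i _ => ?_
  rw [map_mul, map_pow, aeval_X, aeval_C, Algebra.smul_def]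

theorem cyc : ∀ j : Fin 6, (Pi.single j 1 : Fin 6 → ZMod 3) = (CM ^ (j : ℕ)) *ᵥ (Pi.single 0 1) := by (refine of_decide_eq_true ?_; (try (delta Function.update Pi.single; rewrite [Cfsg.Agent.LsF.mpowF_pat, Cfsg.Agent.LsF.mulVecF_pat, Cfsg.Agent.LsF.dPiF_pat, Cfsg.Agent.LsF.f4cb56b_0.2, Cfsg.Agent.LsF.zadd_pat, Cfsg.Agent.LsF.zmul_pat, Cfsg.Agent.LsF.zdecEq_eq, Cfsg.Agent.LsF.dFinEq_eq, Cfsg.Agent.LsF.dForallFin_eq, Cfsg.Agent.LsF.dite_eq, Cfsg.Agent.LsF.decide_eq])); decide +kernel)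

/-- the commuting algebra of the companion matrix -/
theorem eq_aeval {Y : M6} (hY : Y * CM = CM * Y) : Y = aeval CM (pol fun i => Y i 0) := by
  have h0 : Y *ᵥ (Pi.single 0 1) = (aeval CM (pol fun i => Y i 0)) *ᵥ (Pi.single 0 1) := by
    rw [aeval_pol, Matrix.sum_mulVec]
    have h1 : ∀ i : Fin 6, (Y i 0 • CM ^ (i : ℕ)) *ᵥ (Pi.single 0 1 : Fin 6 → ZMod 3) =
        Y i 0 • (Pi.single i 1 : Fin 6 → ZMod 3) := by
      intro i
      rw [Matrix.smul_mulVec, ← cyc]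
    rw [Finset.sum_congr rfl fun i _ => h1 i]
    ext k
    rw [Matrix.mulVec_single_one, Finset.sum_apply]
    simp [Pi.single_apply]
  have hp : Commute (aeval CM (pol fun i => Y i 0)) CM := by
    have : Commute (aeval CM (pol fun i => Y i 0)) (aeval CM (Polynomial.X : (ZMod 3)[X])) := by
      unfold Commute SemiconjBy
      rw [← map_mul, ← map_mul, mul_comm]
    rwa [aeval_X] at this
  have h1 : ∀ j : Fin 6, Y *ᵥ (Pi.single j 1) = (aeval CM (pol fun i => Y i 0)) *ᵥ (Pi.single j 1) := by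
    intro j
    rw [cyc j, Matrix.mulVec_mulVec, Matrix.mulVec_mulVec, ((show Commute Y CM from hY).pow_right _).eq,
      (hp.pow_right _).eq, ← Matrix.mulVec_mulVec, ← Matrix.mulVec_mulVec, h0]
  ext i j
  have h2 := congrFun (h1 j) i
  rwa [Matrix.mulVec_single_one, Matrix.mulVec_single_one] at h2

theorem frob (A : M6) (f : (ZMod 3)[X]) : (aeval A f) ^ 3 = aeval (A ^ 3) f := by
  rw [← map_pow, ← ZMod.expand_card, expand_aeval]

theorem pow_eq {Y : M6} (hY : Y * CM = CM * Y) : Y ^ 243 = Y := by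
  have h := eq_aeval hY
  have e : Y ^ 243 = ((((Y ^ 3) ^ 3) ^ 3) ^ 3) ^ 3 := by rw [← pow_mul, ← pow_mul, ← pow_mul, ← pow_mul]
  have e2 : ((((CM ^ 3) ^ 3) ^ 3) ^ 3) ^ 3 = CM := by
    rw [← pow_mul, ← pow_mul, ← pow_mul, ← pow_mul, show 3 * 3 * 3 * 3 * 3 = 11 * 22 + 1 by norm_num, pow_succ,
      pow_mul, CM_pow, one_pow, one_mul]
  rw [e]
  nth_rw 1 [h]
  rw [frob, frob, frob, frob, frob, e2, ← h]

theorem lin : ∀ a b c d e f : ZMod 3,
    a • (![1, 0, 0, 0, 0, 0] : Fin 6 → ZMod 3) + b • ![0, 0, 0, 1, 0, 0] + c • ((CM ^ 6) *ᵥ ![1, 0, 0, 0, 0, 0]) +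
      d • ((CM ^ 9) *ᵥ ![1, 0, 0, 0, 0, 0]) + e • ((CM ^ 12) *ᵥ ![1, 0, 0, 0, 0, 0]) +
      f • ((CM ^ 15) *ᵥ ![1, 0, 0, 0, 0, 0]) = ![a, b, c, d, e, f] → b = 0 ∧ d = 2 * c ∧ e = c ∧ f = c := by
  (refine of_decide_eq_true ?_; (try (rewrite [Cfsg.Agent.LsF.mpowF_pat, Cfsg.Agent.LsF.mulVecF_pat, Cfsg.Agent.LsF.padd_pat, Cfsg.Agent.LsF.psmul_pat, Cfsg.Agent.LsF.dPiF_pat, Cfsg.Agent.LsF.f4cb56b_0.2, Cfsg.Agent.LsF.zadd_pat, Cfsg.Agent.LsF.zmul_pat, Cfsg.Agent.LsF.vecCons_eq, Cfsg.Agent.LsF.zdecEq_eq, Cfsg.Agent.LsF.zFintype_eq, Cfsg.Agent.LsF.dForall_eq, Cfsg.Agent.LsF.dAnd_eq, Cfsg.Agent.LsF.dAllP_eq, Cfsg.Agent.LsF.decide_eq])); decide +kernel)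

private noncomputable def _root_.Cfsg.Agent.LsF.f4cb56b_2 : {f // @Cfsg.Agent.H16.EP.MTw.EM = f} := ⟨_, by first | (delta Cfsg.Agent.H16.EP.MTw.EM; rewrite [Cfsg.Agent.LsF.mof_pat, Cfsg.Agent.LsF.vecCons_eq]; exact rfl) | exact rfl⟩
theorem EM_eq : CM ^ 2 + (2 : ZMod 3) • CM ^ 3 + CM ^ 4 + CM ^ 5 = EM := by (refine of_decide_eq_true ?_; (try (rewrite [Cfsg.Agent.LsF.mpowF_pat, Cfsg.Agent.LsF.madd_pat, Cfsg.Agent.LsF.msmul_pat, Cfsg.Agent.LsF.f4cb56b_0.2, Cfsg.Agent.LsF.f4cb56b_2.2, Cfsg.Agent.LsF.zadd_pat, Cfsg.Agent.LsF.zmul_pat, Cfsg.Agent.LsF.zdecEq_eq, Cfsg.Agent.LsF.finFintype_eq, Cfsg.Agent.LsF.dMat_eq, Cfsg.Agent.LsF.decide_eq])); decide +kernel)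

theorem nine : ∀ a c : ZMod 3, (a • (1 : M6) + c • EM) * (a • (1 : M6) + c • EM) = 1 →
    (c = 0 ∧ (a = 1 ∨ a = 2)) ∨ (a = 0 ∧ (c = 1 ∨ c = 2)) := by (refine of_decide_eq_true ?_; (try (rewrite [Cfsg.Agent.LsF.mmulF_pat, Cfsg.Agent.LsF.madd_pat, Cfsg.Agent.LsF.msmul_pat, Cfsg.Agent.LsF.f4cb56b_2.2, Cfsg.Agent.LsF.zadd_pat, Cfsg.Agent.LsF.zmul_pat, Cfsg.Agent.LsF.zdecEq_eq, Cfsg.Agent.LsF.finFintype_eq, Cfsg.Agent.LsF.zFintype_eq, Cfsg.Agent.LsF.dForall_eq, Cfsg.Agent.LsF.dMat_eq, Cfsg.Agent.LsF.instMOne_eq, Cfsg.Agent.LsF.zACM_pat, Cfsg.Agent.LsF.dAnd_eq, Cfsg.Agent.LsF.dOr_eq, Cfsg.Agent.LsF.dFinEq_eq, Cfsg.Agent.LsF.dAllP_eq, Cfsg.Agent.LsF.decide_eq])); decide +kernel)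

/-- the involutions of the commuting algebra -/
theorem inv_eq {E : M6} (hE : E * CM = CM * E) (h2 : E * E = 1) : ∃ a c : ZMod 3, E = a • (1 : M6) + c • EM := by
  have h := eq_aeval hE
  have h3 : E ^ 3 = E := by rw [pow_succ, pow_two, h2, one_mul]
  have h4 : E = ∑ i : Fin 6, E i 0 • (CM ^ 3) ^ (i : ℕ) := by
    rw [← aeval_pol, ← frob, ← h, h3]
  have h5 : (fun i => E i 0) = ∑ i : Fin 6, E i 0 • ((CM ^ 3) ^ (i : ℕ) *ᵥ (Pi.single 0 1 : Fin 6 → ZMod 3)) := by
    have h6 : E *ᵥ (Pi.single 0 1 : Fin 6 → ZMod 3) = (∑ i : Fin 6, E i 0 • (CM ^ 3) ^ (i : ℕ)) *ᵥ Pi.single 0 1 := by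
      rw [← h4]
    rw [Matrix.sum_mulVec] at h6
    simp only [Matrix.smul_mulVec] at h6
    rw [← h6]
    ext i
    rw [Matrix.mulVec_single_one]
    rfl
  have e0 : (Pi.single 0 1 : Fin 6 → ZMod 3) = ![1, 0, 0, 0, 0, 0] := by decide +kernel
  have e3 : (CM ^ 3) *ᵥ (![1, 0, 0, 0, 0, 0] : Fin 6 → ZMod 3) = ![0, 0, 0, 1, 0, 0] := by decide +kernel
  have hv : (fun i => E i 0) = ![E 0 0, E 1 0, E 2 0, E 3 0, E 4 0, E 5 0] := by
    ext i
    fin_cases i <;> rfl
  rw [Fin.sum_univ_six, e0, hv] at h5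
  simp only [← pow_mul] at h5
  have h7 := lin (E 0 0) (E 1 0) (E 2 0) (E 3 0) (E 4 0) (E 5 0) (by
    conv_rhs => rw [h5]
    rw [show 3 * ((0 : Fin 6) : ℕ) = 0 from rfl, show 3 * ((1 : Fin 6) : ℕ) = 3 from rfl,
      show 3 * ((2 : Fin 6) : ℕ) = 6 from rfl, show 3 * ((3 : Fin 6) : ℕ) = 9 from rfl,
      show 3 * ((4 : Fin 6) : ℕ) = 12 from rfl, show 3 * ((5 : Fin 6) : ℕ) = 15 from rfl, pow_zero, Matrix.one_mulVec, e3])
  obtain ⟨hb, hd, he, hf⟩ := h7
  refine ⟨E 0 0, E 2 0, ?_⟩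
  rw [aeval_pol, Fin.sum_univ_six, hb, hd, he, hf] at h
  rw [← EM_eq]
  conv_lhs => rw [h]
  rw [show ((0 : Fin 6) : ℕ) = 0 from rfl, show ((1 : Fin 6) : ℕ) = 1 from rfl,
    show ((2 : Fin 6) : ℕ) = 2 from rfl, show ((3 : Fin 6) : ℕ) = 3 from rfl,
    show ((4 : Fin 6) : ℕ) = 4 from rfl, show ((5 : Fin 6) : ℕ) = 5 from rfl, pow_zero, zero_smul, add_zero,
    smul_add, smul_add, smul_add, smul_smul, mul_comm (E 2 0) 2]
  abel

/-- **the 121-st power** -/
theorem pow_121 {Y : M6} (hY : Y * CM = CM * Y) (hd : Y.det = 1) : ∃ c : ZMod 3, c ≠ 0 ∧ Y ^ 121 = c • (1 : M6) := by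
  have hu : IsUnit Y := by
    rw [Matrix.isUnit_iff_isUnit_det, hd]
    exact isUnit_one
  have h1 : Y ^ 121 * Y ^ 121 = 1 := by
    have h2 := pow_eq hY
    rw [show 243 = 121 + 121 + 1 by norm_num, pow_succ, pow_add] at h2
    apply hu.mul_right_cancel
    rw [h2, one_mul]
  have h2 : Y ^ 121 * CM = CM * Y ^ 121 := (show Commute Y CM from hY).pow_left 121
  obtain ⟨a, c, h3⟩ := inv_eq h2 h1
  have h4 : (Y ^ 121).det = 1 := by rw [Matrix.det_pow, hd, one_pow]
  rw [h3] at h1 h4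
  rcases nine a c h1 with ⟨rfl, ha⟩ | ⟨rfl, hc⟩
  · refine ⟨a, ?_, by rw [h3, zero_smul, add_zero]⟩
    rcases ha with rfl | rfl <;> decide
  · exfalso
    rw [zero_smul, zero_add, Matrix.det_smul, det_EM] at h4
    rcases hc with rfl | rfl
    · revert h4; decide
    · revert h4; decide

/-! ### the elements of `Q` -/

/-- `C0` as an element of `GL` -/
def G0 : GL (Fin 6) (ZMod 3) := ⟨C0, C0 ^ 120, by rw [← pow_succ', C0_121], by rw [← pow_succ, C0_121]⟩

theorem mem_iff_det {ι : Type} [Fintype ι] [DecidableEq ι] {F : Type*} [Field F] {g : GL ι F} :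
    g ∈ Geo.specialLinear ι F ↔ (g : Matrix ι ι F).det = 1 :=
  ⟨fun h => congrArg Units.val (MonoidHom.mem_ker.1 h), fun h => MonoidHom.mem_ker.2 (Units.ext h)⟩

theorem G0_val : (G0 : M6) = C0 := rfl

theorem G0_mem : G0 ∈ Geo.specialLinear (Fin 6) (ZMod 3) := mem_iff_det.2 (by rw [G0_val]; exact det_C0)

/-- `C0` as an element of `SL` -/
def S0 : Geo.specialLinear (Fin 6) (ZMod 3) := ⟨G0, G0_mem⟩

theorem S0_val : ((S0 : GL (Fin 6) (ZMod 3)) : M6) = C0 := rfl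

theorem S0_pow_val (n : ℕ) :
    (((S0 ^ n : Geo.specialLinear (Fin 6) (ZMod 3)) : GL (Fin 6) (ZMod 3)) : M6) = C0 ^ n := by
  rw [SubgroupClass.coe_pow, Units.val_pow_eq_pow_val, S0_val]

theorem S0_pow : (((S0 ^ 11 : Geo.specialLinear (Fin 6) (ZMod 3)) : GL (Fin 6) (ZMod 3)) : M6) = CM := by
  rw [S0_pow_val, C0_pow]

theorem scal_iff {g : GL (Fin 6) (ZMod 3)} : g ∈ Geo.scalars (Fin 6) (ZMod 3) ↔ ∃ c : ZMod 3, c ≠ 0 ∧ (g : M6) = c • (1 : M6) := by
  rw [mem_scalars_iff]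
  constructor
  · rintro ⟨c, hc⟩
    exact ⟨c, c.ne_zero, hc⟩
  · rintro ⟨c, hc, h⟩
    exact ⟨Units.mk0 c hc, h⟩

variable {Q : Type*} [Group Q]

/-- an element of `Q` commuting with the image of `CM` -/
theorem pow_one (m : Model Q (Geo.specialLinear (Fin 6) (ZMod 3))) {b : Q}
    (hb : b * (m.π S0) ^ 11 = (m.π S0) ^ 11 * b) : b ^ 121 = 1 := by
  obtain ⟨X, rfl⟩ := m.surj b
  rw [← map_pow, ← map_mul, ← map_mul, m.π_eq_iff] at hb
  obtain ⟨z, hz, e⟩ := hb
  obtain ⟨c, hc0, hc⟩ := scal_iff.1 hz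
  set! Y : M6 := ((X : GL (Fin 6) (ZMod 3)) : M6) with hY
  have hYd : Y.det = 1 := mem_iff_det.1 X.2
  have e1 : Y * CM = c • (CM * Y) := by
    have h := congrArg (fun g : GL (Fin 6) (ZMod 3) => (g : M6)) e
    simp only [Subgroup.coe_mul, Units.val_mul] at h
    rw [S0_pow, hc, mul_smul_comm, mul_one] at h
    exact h
  have e2 : ∀ n : ℕ, Y * CM ^ n = c ^ n • (CM ^ n * Y) := by
    intro n
    induction n with
    | zero => rw [_root_.pow_zero, _root_.pow_zero, one_smul, mul_one, one_mul]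
    | succ n ih =>
      rw [pow_succ, ← mul_assoc, ih, smul_mul_assoc, mul_assoc, e1, mul_smul_comm, smul_smul, ← pow_succ, ← mul_assoc]
  have e3 := e2 11
  rw [CM_pow, mul_one, one_mul] at e3
  have hu : IsUnit Y := by
    rw [Matrix.isUnit_iff_isUnit_det, hYd]
    exact isUnit_one
  have e4 : c ^ 11 = 1 := by
    have h1 : (c ^ 11) • (1 : M6) = 1 := by
      apply hu.mul_right_cancel
      rw [smul_mul_assoc, one_mul, ← e3]
    have h2 := congrFun (congrFun h1 0) 0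
    simpa only [_root_.Fin.isValue, _root_.Matrix.smul_apply, _root_.Matrix.one_apply_eq, _root_.smul_eq_mul, _root_.mul_one] using h2
  have e5 : c = 1 := by
    revert e4
    clear e e1 e2 e3 hc hc0
    revert c
    decide
  rw [e5, one_smul] at e1
  obtain ⟨d, hd0, hd⟩ := pow_121 e1 hYd
  rw [← map_pow, m.ker]
  exact scal_iff.2 ⟨d, hd0, hd⟩

theorem pow_121' (m : Model Q (Geo.specialLinear (Fin 6) (ZMod 3))) : (m.π S0) ^ 121 = 1 := by
  have h : (S0 : Geo.specialLinear (Fin 6) (ZMod 3)) ^ 121 = 1 := by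
    apply Subtype.ext
    apply Units.ext
    rw [S0_pow_val, show 121 = 11 * 11 by norm_num, pow_mul, C0_pow, CM_pow]
    rfl
  rw [← map_pow, h, map_one]

theorem pow_11_ne (m : Model Q (Geo.specialLinear (Fin 6) (ZMod 3))) : (m.π S0) ^ 11 ≠ 1 := by
  rw [← map_pow]
  intro h
  obtain ⟨c, -, hc⟩ := scal_iff.1 ((m.ker _).1 h)
  rw [S0_pow] at hc
  have h1 := congrFun (congrFun hc 1) 0
  revert h1
  simp only [CM, _root_.Fin.isValue, _root_.Matrix.of_apply, _root_.Matrix.cons_val', _root_.Matrix.cons_val_zero, _root_.Matrix.cons_val_fin_one, _root_.Matrix.cons_val_one, _root_.Matrix.smul_apply, _root_.ne_eq, _root_.one_ne_zero, _root_.not_false_eq_true, _root_.Matrix.one_apply_ne, _root_.smul_eq_mul, _root_.MulZeroClass.mul_zero, _root_.imp_self]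

theorem orderOf_eq (m : Model Q (Geo.specialLinear (Fin 6) (ZMod 3))) : orderOf (m.π S0) = 121 := by
  have : Fact (Nat.Prime 11) := ⟨by norm_num⟩
  have h := orderOf_eq_prime_pow (p := 11) (n := 1) (x := m.π S0) (by rw [_root_.pow_one]; exact pow_11_ne m)
    (by rw [show 11 ^ (1 + 1) = 121 by norm_num]; exact pow_121' m)
  rw [h]
  norm_num

end MTw

end mat

/-! ### the socle `M₁₂` -/

section final

open MTw

variable {Q : Type*} [Group Q]

theorem fact_eq {n p k e : ℕ} (hp : p.Prime) (hn : n = p ^ e * k) (hk : ¬ p ∣ k) : n.factorization p = e := by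
  have hk0 : k ≠ 0 := by rintro rfl; exact hk (dvd_zero p)
  rw [hn, Nat.factorization_mul (pow_ne_zero _ hp.ne_zero) hk0, Finsupp.add_apply, hp.factorization_pow,
    Finsupp.single_eq_same, Nat.factorization_eq_zero_of_not_dvd hk, add_zero]

/-- the elements of order 11 of `L₆(3)` -/
theorem pow_121_of_order [Finite Q] (m : Model Q (Geo.specialLinear (Fin 6) (ZMod 3)))
    (hQ : Nat.card Q = 21032402889738240) {y : Q} (hy : orderOf y = 11) :
    (∃ c : Q, c ^ 11 = y) ∧ ∀ a : Q, a * y = y * a → a ^ 121 = 1 := by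
  have h11 : Fact (Nat.Prime 11) := ⟨by norm_num⟩
  set x := m.π S0 with hx
  have hxo : orderOf x = 121 := orderOf_eq m
  have hf : (Nat.card Q).factorization 11 = 2 :=
    fact_eq h11.out (k := 173821511485440) (by rw [hQ]; norm_num) (by norm_num)
  let P : Sylow 11 Q := Sylow.ofCard (zpowers x) (by rw [Nat.card_zpowers, hxo, hf]; norm_num)
  have hyp : IsPGroup 11 (zpowers y) := IsPGroup.of_card (n := 1) (by rw [Nat.card_zpowers, hy, _root_.pow_one])
  obtain ⟨P', hP'⟩ := hyp.exists_le_sylow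
  obtain ⟨g, hg⟩ := MulAction.exists_smul_eq Q P' P
  have hgy : g * y * g⁻¹ ∈ zpowers x := by
    have h1 : g * y * g⁻¹ ∈ (g • P' : Sylow 11 Q) := by
      rw [Sylow.smul_def]
      exact ⟨y, hP' (mem_zpowers y), rfl⟩
    rw [hg] at h1
    exact h1
  obtain ⟨k, hk⟩ := mem_zpowers_iff.1 hgy
  have hy11 : y ^ 11 = 1 := by rw [← hy]; exact pow_orderOf_eq_one y
  have hy1 : y ≠ 1 := by
    rintro rfl
    rw [orderOf_one] at hy
    omega
  have h2 : x ^ (k * 11) = 1 := by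
    rw [zpow_mul, hk, show (11 : ℤ) = ((11 : ℕ) : ℤ) from rfl, zpow_natCast, conj_pow, hy11, mul_one, mul_inv_cancel]
  have h3 := orderOf_dvd_iff_zpow_eq_one.2 h2
  rw [hxo] at h3
  have h4 : (11 : ℤ) ∣ k := by
    push_cast at h3
    omega
  obtain ⟨j, rfl⟩ := h4
  have hyj : y = g⁻¹ * x ^ (11 * j) * g := by rw [hk]; group
  refine ⟨⟨g⁻¹ * x ^ j * g, ?_⟩, ?_⟩
  · have h5 := conj_pow (i := 11) (a := g⁻¹) (b := x ^ j)
    rw [inv_inv] at h5
    rw [h5, ← zpow_natCast, ← zpow_mul, hyj]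
    congr 3
    push_cast
    ring
  · intro a ha
    -- `x ^ 11` is a power of `g y g⁻¹`
    have h5 : IsCoprime j (11 : ℤ) := by
      rw [isCoprime_comm, Prime.coprime_iff_not_dvd (Int.prime_iff_natAbs_prime.2 (by norm_num))]
      rintro ⟨i, rfl⟩
      apply hy1
      rw [hyj, show 11 * (11 * i) = (121 : ℤ) * i by ring, zpow_mul]
      have : x ^ (121 : ℤ) = 1 := by
        rw [show (121 : ℤ) = ((121 : ℕ) : ℤ) from rfl, zpow_natCast, ← hxo, pow_orderOf_eq_one]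
      rw [this, one_zpow, mul_one, inv_mul_cancel]
    obtain ⟨u, v, huv⟩ := h5
    have h6 : x ^ 11 = (g * y * g⁻¹) ^ u := by
      rw [← hk, ← zpow_mul, ← zpow_natCast]
      have h7 : (11 : ℤ) * j * u = 11 - 121 * v := by
        have : u * j = 1 - v * 11 := by rw [← huv]; ring
        calc (11 : ℤ) * j * u = 11 * (u * j) := by ring
          _ = _ := by rw [this]; ring
      have : x ^ (121 : ℤ) = 1 := by
        rw [show (121 : ℤ) = ((121 : ℕ) : ℤ) from rfl, zpow_natCast, ← hxo, pow_orderOf_eq_one]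
      rw [h7, zpow_sub, zpow_mul, this, one_zpow, inv_one, mul_one]
      rfl
    have h7 : (g * a * g⁻¹) * x ^ 11 = x ^ 11 * (g * a * g⁻¹) := by
      rw [h6]
      have h8 : Commute (g * a * g⁻¹) (g * y * g⁻¹) := by
        change g * a * g⁻¹ * (g * y * g⁻¹) = g * y * g⁻¹ * (g * a * g⁻¹)
        calc g * a * g⁻¹ * (g * y * g⁻¹) = g * (a * y) * g⁻¹ := by group
          _ = g * (y * a) * g⁻¹ := by rw [ha]
          _ = _ := by group
      exact (h8.zpow_right u).eq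
    have h8 := MTw.pow_one m h7
    rw [conj_pow, mul_inv_eq_one] at h8
    have h9 : g * a ^ 121 = g * 1 := by rw [h8, mul_one]
    exact mul_left_cancel h9

/-- an abelian Sylow argument: `a ∈ A` commuting with `y` of order `11`, `a ^ 121 = 1`, `11 ∥ |A|` -/
theorem mem_zpowers_of_pow {A : Subgroup Q} [Finite Q] (hA : (Nat.card A).factorization 11 = 1) {y : Q} (hyA : y ∈ A)
    (hy : orderOf y = 11) {a : Q} (ha : a ∈ A) (hay : a * y = y * a) (ha2 : a ^ 121 = 1) : a ∈ zpowers y := by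
  have h11 : Fact (Nat.Prime 11) := ⟨by norm_num⟩
  set! y' : A := ⟨y, hyA⟩ with hy'
  set! a' : A := ⟨a, ha⟩ with ha'
  have hyo : orderOf y' = 11 := by rw [hy', Subgroup.orderOf_mk, hy]
  let P : Sylow 11 A := Sylow.ofCard (zpowers y') (by rw [Nat.card_zpowers, hyo, hA, _root_.pow_one])
  have hap : IsPGroup 11 (zpowers a') := by
    have h1 : orderOf a' ∣ 11 ^ 2 := by
      rw [orderOf_dvd_iff_pow_eq_one]
      exact Subtype.ext ha2
    obtain ⟨n, -, hn⟩ := (Nat.dvd_prime_pow h11.out).1 h1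
    exact IsPGroup.of_card (n := n) (by rw [Nat.card_zpowers, hn])
  have h0 := hap.inf_normalizer_sylow P
  have h1 : a' ∈ zpowers a' ⊓ (P : Subgroup A) := by
    rw [← h0]
    refine Subgroup.mem_inf.2 ⟨mem_zpowers a', ?_⟩
    change a' ∈ normalizer ((zpowers y' : Subgroup A) : Set A)
    rw [mem_normalizer_iff]
    intro z
    have hc : ∀ z ∈ zpowers y', a' * z * a'⁻¹ = z := by
      intro z hz
      obtain ⟨k, rfl⟩ := mem_zpowers_iff.1 hz
      have h2 : Commute a' y' := Subtype.ext hay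
      rw [(h2.zpow_right k).eq, mul_inv_cancel_right]
    constructor
    · intro hz
      have hz' : z ∈ zpowers y' := hz
      change _ ∈ zpowers y'
      rw [hc z hz']
      exact hz'
    · intro hz
      have hz' : a' * z * a'⁻¹ ∈ zpowers y' := hz
      have h3 := hc _ hz'
      have h4 : a' * z * a'⁻¹ = z := by
        have h5 : a' * (a' * z * a'⁻¹) * a'⁻¹ = a' * z * a'⁻¹ := h3
        have h6 : a' * (a' * z * a'⁻¹) = a' * z := mul_right_cancel h5
        exact mul_left_cancel h6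
      change z ∈ zpowers y'
      rw [← h4]
      exact hz'
  have h2 : a' ∈ zpowers y' := h1.2
  obtain ⟨k, hk⟩ := mem_zpowers_iff.1 h2
  rw [mem_zpowers_iff]
  exact ⟨k, congrArg Subtype.val hk⟩

theorem card_cases {A : Subgroup Q} (hA : HasSoc A Spor.M12) : Nat.card A = 95040 ∨ Nat.card A = 190080 := by
  have h1 := hA.card_dvd
  rw [H882.Grp.card12] at h1
  have h2 := hA.card_le.trans (Cfsg.Agent.H957.EP.card_aut_m12 ⟨MulEquiv.refl _⟩)
  obtain ⟨k, hk⟩ := h1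
  have h3 : Nat.card A ≠ 0 := by
    have : Finite A := by
      obtain ⟨f, hf⟩ := hA.exists_hom
      have : Finite (MulAut Spor.M12) := inferInstance
      exact Finite.of_injective f hf
    exact Nat.card_pos.ne'
  have : k ≠ 0 := by rintro rfl; exact h3 (by rw [hk, mul_zero])
  omega

/-- **The socle of `A` is not `M₁₂` for `Q = L₆(3)`.** -/
theorem m12_six {Q : Type} [Group Q] [Finite Q] {A : Subgroup Q} {Γ : Subgroup (MulAut Q)} (h : EPT A Γ) {F : Type}
    [Field F] [Fintype F] (hF : Fintype.card F = 3) (m : Model Q (Cfsg.Geo.specialLinear (Fin 6) F))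
    (hA : HasSoc A Spor.M12) : False := by
  have h11 : Fact (Nat.Prime 11) := ⟨by norm_num⟩
  obtain ⟨m'⟩ := exists_model m (ZMod.ringEquivOfPrime F Nat.prime_three hF)
  have hQ := Cfsg.Agent.H957.EP.card_three m hF
  have hc := card_cases hA
  have hf11 : (Nat.card A).factorization 11 = 1 := by
    rcases hc with hc | hc
    · exact fact_eq h11.out (k := 8640) (by rw [hc]; norm_num) (by norm_num)
    · exact fact_eq h11.out (k := 17280) (by rw [hc]; norm_num) (by norm_num)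
  have hd : 11 ∣ Nat.card A := by
    rcases hc with hc | hc <;> rw [hc] <;> norm_num
  obtain ⟨⟨y, hyA⟩, hy⟩ := exists_prime_orderOf_dvd_card' 11 hd
  rw [Subgroup.orderOf_mk] at hy
  obtain ⟨⟨c, hcy⟩, hcent⟩ := pow_121_of_order m' hQ hy
  refine no_cyclic_sq h ?_ h11.out hyA hy (fun a ha hay => mem_zpowers_of_pow hf11 hyA hy ha hay (hcent a hay)) ?_ hcy
  · intro K hK hKn hKab
    refine hA.no_abelian H882.Grp.simple12 ?_ hK (fun a ha k hk => ?_) hKab
    · intro hab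
      let _ : CommGroup Spor.M12 := { (inferInstance : Group Spor.M12) with mul_comm := hab }
      have := H882.Grp.simple12
      have h1 : (Nat.card Spor.M12).Prime := IsSimpleGroup.prime_card (α := Spor.M12)
      rw [H882.Grp.card12] at h1
      norm_num at h1
    · exact hKn _ ((h.conj a).2 ha) k hk
  · intro l hl hld hl11
    have h2 : l ∣ 2 ^ 7 * 3 ^ 3 * 5 * 11 := by
      refine hld.trans ?_
      rcases hc with hc | hc <;> rw [hc] <;> norm_num
    have h3 : l = 2 ∨ l = 3 ∨ l = 5 := by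
      rcases (hl.dvd_mul).1 h2 with h2 | h2
      · rcases (hl.dvd_mul).1 h2 with h2 | h2
        · rcases (hl.dvd_mul).1 h2 with h2 | h2
          · exact Or.inl ((Nat.prime_dvd_prime_iff_eq hl Nat.prime_two).1 (hl.dvd_of_dvd_pow h2))
          · exact Or.inr (Or.inl ((Nat.prime_dvd_prime_iff_eq hl Nat.prime_three).1 (hl.dvd_of_dvd_pow h2)))
        · exact Or.inr (Or.inr ((Nat.prime_dvd_prime_iff_eq hl Nat.prime_five).1 h2))
      · exact absurd ((Nat.prime_dvd_prime_iff_eq hl h11.out).1 h2) hl11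
    have h5 : Nat.Prime 5 := Nat.prime_five
    rcases hc with hc | hc
    · rcases h3 with rfl | rfl | rfl
      · rw [fact_eq Nat.prime_two (e := 6) (k := 1485) (by rw [hc]; norm_num) (by norm_num)]; decide
      · rw [fact_eq Nat.prime_three (e := 3) (k := 3520) (by rw [hc]; norm_num) (by norm_num)]; decide
      · rw [fact_eq h5 (e := 1) (k := 19008) (by rw [hc]; norm_num) (by norm_num)]; decide
    · rcases h3 with rfl | rfl | rfl
      · rw [fact_eq Nat.prime_two (e := 7) (k := 1485) (by rw [hc]; norm_num) (by norm_num)]; decide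
      · rw [fact_eq Nat.prime_three (e := 3) (k := 7040) (by rw [hc]; norm_num) (by norm_num)]; decide
      · rw [fact_eq h5 (e := 1) (k := 38016) (by rw [hc]; norm_num) (by norm_num)]; decide

/-- `L₃(q)` is too large, `q ≠ 3` odd -/
theorem psl3_card {F : Type*} [Field F] [Fintype F] (hodd : Odd (Fintype.card F)) (h3 : Fintype.card F ≠ 3) :
    190080 < Nat.card (Matrix.ProjectiveSpecialLinearGroup (Fin 3) F) := by
  have hq : 2 ≤ Fintype.card F := Fintype.one_lt_card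
  by_cases h5 : Fintype.card F = 5
  · have h := S0243.result (F := F) h5 3 (by norm_num)
    rw [Fin.prod_univ_three, show Nat.gcd 3 (5 - 1) = 1 by decide] at h
    norm_num only [_root_.one_mul, _root_.Fin.coe_ofNat_eq_mod, _root_.pow_zero, _root_.Nat.add_one_sub_one, _root_.pow_one] at h
    omega
  · have h7 : 7 ≤ Fintype.card F := by
      obtain ⟨k, hk⟩ := hodd
      omega
    have h := Cfsg.Agent.H957.EP.psl_card_lower (F := F) (n := 3) (by norm_num)
    have h8 : 7 ^ (3 * (3 - 1)) * (7 - 1) ^ (3 - 1) ≤ Fintype.card F ^ (3 * (3 - 1)) * (Fintype.card F - 1) ^ (3 - 1) :=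
      Nat.mul_le_mul (Nat.pow_le_pow_left h7 _) (Nat.pow_le_pow_left (by omega) _)
    norm_num only [] at h h8
    omega

/-- **`h4` of `H957.EP.row_of`, `row_ub`, in the form `fun hS => (no_m12 h m hl hS).elim`.** -/
theorem no_m12 {Q : Type} [Group Q] [Finite Q] {A : Subgroup Q} {Γ : Subgroup (MulAut Q)} (h : EPT A Γ) {F : Type}
    [Field F] [Fintype F] (m : Model Q (Cfsg.Geo.specialLinear (Fin 6) F)) (hl : Cfsg.Agent.H957.EP.List5800 (m.hat A)) :
    ¬ HasSoc A Spor.M12 := by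
  intro hA
  have hc := card_cases hA
  obtain ⟨P, p, hcore, hp, -, hl | hl | hl | hl | hl | hl⟩ := hl
  · obtain ⟨⟨e⟩, hq, hp3, hpm⟩ := hl
    have h1 := ((hasSoc_of_core m hcore).congr e).card_le
    rw [Cfsg.Agent.H957.EP.card_aut_l2_11] at h1
    omega
  · obtain ⟨⟨e⟩, hq⟩ := hl
    have h1 := ((hasSoc_of_core m hcore).congr e).card_le.trans Cfsg.Agent.H957.EP.card_aut_a7
    omega
  · obtain ⟨⟨K, _, _, hK, ⟨e⟩⟩, hq, hpm⟩ := hl
    have h1 := ((hasSoc_of_core m hcore).congr e).card_dvd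
    have h2 := S0243.result (F := K) hK 3 (by norm_num)
    rw [Fin.prod_univ_three] at h2
    norm_num only [_root_.Fin.coe_ofNat_eq_mod, _root_.pow_zero, _root_.Nat.add_one_sub_one, _root_.pow_one] at h2
    have h3 : Nat.card (Matrix.ProjectiveSpecialLinearGroup (Fin 3) K) = 20160 := by omega
    rw [h3] at h1
    omega
  · obtain ⟨⟨e⟩, hq⟩ := hl
    exact m12_six h hq m hA
  · obtain ⟨⟨K, _, _, hK, ⟨e⟩⟩, hq, hpm⟩ := hl
    have hd := ((hasSoc_of_core m hcore).congr e).card_dvd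
    have h2 := S0280.result (F := K) (q := 3) (by rw [hK]; norm_num) 4 (by norm_num)
    simp only [Finset.prod_range_succ, Finset.prod_range_zero] at h2
    norm_num only [Nat.even_iff, _root_.ite_true, _root_.one_mul, _root_.ite_false] at h2
    have h3 : Nat.card (Cfsg.PSU 4 K 3) = 3265920 := by omega
    rw [h3] at hd
    omega
  · obtain ⟨⟨e⟩, hodd⟩ := hl
    by_cases h3 : Fintype.card F = 3
    · exact m12_six h h3 m hA
    · have hd := ((hasSoc_of_core m hcore).congr e).card_dvd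
      have h4 := psl3_card hodd h3
      have h5 := Nat.le_of_dvd (by omega) hd
      omega

end final

end Cfsg.Agent.H16.EP
end

-- part: H833/TenFive/Coef
section
/-!
# `SL(5, F)` in dimension 10 over the same field: the matrix coefficient over `F` (helper833, task 6155)

`coef5` : `Core P`, `Soc P = PSL(5, F)`, `P ≤ GL(10, F)`: there are a surjection `φ : SL(5, F) → P` with central kernel,
a vector `v` and a functional `ψ` with `ψ (φ g v) = g₀₀ g₁₁ - g₀₁ g₁₀`.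
-/

set_option autoImplicit false
set_option linter.unusedSectionVars false
set_option linter.style.haveILetI false

namespace Cfsg.Agent.H833.TenFive

open Matrix CoxeterSystem Cfsg.Agent.ChevalleyStructure.CoxeterGeom Cfsg.Agent.Tits.Roots Cfsg.Agent.Tits.Core
  Cfsg.Agent.Tits.Exchange Cfsg.Agent.Nodes.Reps Cfsg.Agent.Nodes.BNOf Cfsg.Agent.Nodes.StabComb
  Cfsg.Agent.Nodes.Bruhat Cfsg.Agent.Nodes.OppDec Cfsg.Agent.Nodes.LeviDec Cfsg.Agent.KFacts.RgdOpp
  Cfsg.Agent.Omega.CR Cfsg.Agent.Omega.FOne.Lift.Sd Cfsg.Agent.Nodes.RootsA Cfsg.Agent.Nodes.RGDTypeA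
open Cfsg.Agent.LieRecognition.BNCox (cA cA_apply)
open Cfsg.Agent.TitsThree.KSideA (tv tv_of_ne tv_add tv_zero tv_neg tv_comm tv_commute)
open Cfsg.Agent.H905.Md Module Cfsg.Agent.H911 Cfsg.Agent.H887.DS
open Cfsg Cfsg.Geo Cfsg.Agent.H67
open Cfsg.Agent.H915.LD (Core Soc tr SD Fr Cj)

universe u

section rep4

variable {E : Type*} [Field E] [Finite E] {l : ℕ} {W : Type*} [Group W] [Finite W] {cs : CoxeterSystem (cA l) W}
  {A : Fin l → Fin l → ℤ} {h : IsCartan (cA l) A} (p : ℕ) [hp : Fact p.Prime] [hEp : CharP E p]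
  {k V : Type*} [Field k] [IsAlgClosed k] [CharP k p] [AddCommGroup V] [Module k V] [FiniteDimensional k V] [Nontrivial V]
  {ρ : _root_.Matrix.SpecialLinearGroup (Fin (l + 1)) E →* Module.End k V}
  (ι : E →+* k)
  (hirr : ∀ L : Submodule k V, Ivt ρ (GG cs h (T (Fin (l + 1)) E) (X E)) L → L = ⊥ ∨ L = ⊤)
include hirr

include p in
/-- **The matrix coefficient** of a given pair. -/
theorem coef4_of {o z : Fin (l + 1)} (hl : 3 ≤ l) (ho : o.val = 1) (hz : z.val + 1 = l) {v : V}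
    (hv : v ∈ D cs h (X E) ρ) (hv0 : v ≠ 0) {φ : Module.Dual k V} (hφ : φ ∈ fx ((dualRep ρ :)) (UN cs h (X E)))
    (h4 : φ v = 1) :
    ∃ e : Fin l → ℕ, (∀ i, e i < Nat.card E) ∧
      (∀ i, i ∈ Jx cs h (X E) ρ ↔ e i = 0) ∧ ∀ a b c d : ℕ, (∀ i : Fin l, e i = (if i.val = 0 then a else 0) +
    (if i.val = 1 then b else 0) + (if i.val + 2 = l then c else 0) + (if i.val + 1 = l then d else 0)) →
      ∀ g, φ (ρ g v) = xf ι o z a b c d g := by
  have R := rgd cs h (F := E) (p := p)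
  obtain ⟨v', hv', hv0', χ, hχ'⟩ := exists_chi R hirr slT_comm
  have hsp := fx_eq_span R ρ hirr hv' hv0' hχ'
  have hχ : ∀ t ∈ T (Fin (l + 1)) E, ρ t v = χ t • v := by
    intro t ht
    have h1 : v ∈ Submodule.span k {v'} := by rw [← hsp]; exact hv
    obtain ⟨c, rfl⟩ := Submodule.mem_span_singleton.1 h1
    rw [map_smul, hχ' t ht, smul_comm]
  obtain ⟨e, he1, he2, he3⟩ := exists_exp ι hv0 hv hχ
  refine ⟨e, he1, he2, ?_⟩
  intro a b c d he
  refine master_gen p hirr (Ξ := xf ι o z a b c d) (xf_one hl ho hz) (fun x y hxy t g => xf_mul_tv hl ho hz hxy t g)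
    (fun x y hxy t g => xf_tv_mul hl ho hz hxy t g) (fun t ht g => xf_T_mul hl ho hz ht g)
    (fun t ht g => xf_mul_T hl ho hz ht g) ?_ ?_ hv ?_ hφ h4
  · intro i hi g
    have h1 := (he2 i).1 hi
    rw [he i] at h1
    refine xf_ns_mul hl ho hz ?_ ?_ ?_ ?_ g
    · intro h2
      rw [if_pos h2] at h1
      omega
    · intro h2
      rw [if_pos h2] at h1
      omega
    · intro h2
      rw [if_pos h2] at h1
      omega
    · intro h2
      rw [if_pos h2] at h1
      omega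
  · intro g σ hm hne i hi c'
    refine xf_mono hl ho hz hm hne ?_ c'
    have h1 := mt (he2 i).2 hi
    rw [he i] at h1
    by_contra hcon
    push Not at hcon
    obtain ⟨k1, k2, k3, k4⟩ := hcon
    apply h1
    have g1 : (if i.val = 0 then a else 0) = 0 := by
      split_ifs with h2
      · exact k1 h2
      · rfl
    have g2 : (if i.val = 1 then b else 0) = 0 := by
      split_ifs with h2
      · exact k2 h2
      · rfl
    have g3 : (if i.val + 2 = l then c else 0) = 0 := by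
      split_ifs with h2
      · exact k3 h2
      · rfl
    have g4 : (if i.val + 1 = l then d else 0) = 0 := by
      split_ifs with h2
      · exact k4 h2
      · rfl
    rw [g1, g2, g3, g4]
  · refine he3 _ (xf_one hl ho hz) (fun t ht t' => xf_T_mul hl ho hz ht t') fun i s => ?_
    rw [xf_hs hl ho hz, he i]

end rep4

section base

variable {F : Type u} [Field F] {ι : Type} [Fintype ι] [DecidableEq ι] {G : Type*} [Group G]

/-- the representation over `F` -/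
def fRep (φ : G →* GL ι F) : G →* Matrix ι ι F := (Units.coeHom (Matrix ι ι F)).comp φ

theorem fRep_apply (φ : G →* GL ι F) (g : G) : fRep φ g = (φ g : Matrix ι ι F) := rfl

/-- extension of scalars for vectors -/
noncomputable def bv (v : ι → F) : ι → AlgebraicClosure F := fun i => algebraMap F (AlgebraicClosure F) (v i)

theorem bv_ne {v : ι → F} (hv : v ≠ 0) : bv v ≠ 0 := by
  intro h0
  apply hv
  funext i
  have h1 : algebraMap F (AlgebraicClosure F) (v i) = 0 := congrFun h0 i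
  exact (map_eq_zero _).1 h1

theorem bv_lin (φ : G →* GL ι F) (g : G) (v : ι → F) : lin (acRep φ) g (bv v) = bv (lin (fRep φ) g v) := by
  rw [lin_apply, lin_apply, acRep_apply, fRep_apply]
  funext i
  simp only [bv, mulVec, dotProduct, Matrix.map_apply, map_sum, map_mul]

/-- extension of scalars for functionals -/
noncomputable def bd (ψ : Module.Dual F (ι → F)) : Module.Dual (AlgebraicClosure F) (ι → AlgebraicClosure F) :=
  ∑ i, algebraMap F (AlgebraicClosure F) (ψ (Pi.single i 1)) • LinearMap.proj i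

theorem bd_apply (ψ : Module.Dual F (ι → F)) (x : ι → AlgebraicClosure F) :
    bd ψ x = ∑ i, algebraMap F (AlgebraicClosure F) (ψ (Pi.single i 1)) * x i := by
  simp only [bd, LinearMap.coe_sum, Finset.sum_apply, LinearMap.smul_apply, LinearMap.proj_apply, smul_eq_mul]

theorem bd_bv (ψ : Module.Dual F (ι → F)) (v : ι → F) : bd ψ (bv v) = algebraMap F (AlgebraicClosure F) (ψ v) := by
  rw [bd_apply]
  have h1 : v = ∑ i, v i • (Pi.single i 1 : ι → F) := by
    conv_lhs => rw [← Finset.univ_sum_single v]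
    refine Finset.sum_congr rfl fun i _ => ?_
    rw [← Pi.single_smul, smul_eq_mul, mul_one]
  conv_rhs => rw [h1]
  rw [map_sum, map_sum]
  refine Finset.sum_congr rfl fun i _ => ?_
  rw [map_smul, smul_eq_mul, map_mul, mul_comm]
  rfl

theorem bv_single (i : ι) : bv (Pi.single i (1 : F)) = Pi.single i 1 := by
  funext j
  unfold bv
  by_cases h : j = i
  · subst h; simp
  · simp [h]

theorem dual_ext {k : Type*} [Field k] {f g : Module.Dual k (ι → k)} (h : ∀ i, f (Pi.single i 1) = g (Pi.single i 1)) :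
    f = g := by
  refine LinearMap.pi_ext' fun i => ?_
  ext
  exact h i

theorem bd_fx {φ : G →* GL ι F} {ψ : Module.Dual F (ι → F)} {B : Subgroup G} (hψ : ψ ∈ fx ((dualRep (lin (fRep φ)) :)) B) :
    bd ψ ∈ fx ((dualRep (lin (acRep φ)) :)) B := by
  rw [mem_fx_dual] at hψ ⊢
  intro b hb x
  have h1 : (bd ψ).comp (lin (acRep φ) b) = bd ψ := by
    apply dual_ext
    intro i
    rw [LinearMap.comp_apply, ← bv_single, bv_lin, bd_bv, bd_bv, hψ b hb]
  exact congrArg (fun f : Module.Dual (AlgebraicClosure F) (ι → AlgebraicClosure F) => f x) h1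

theorem fRep_irr {P : Subgroup (GL ι F)} {φ : G →* GL ι F} (hφ : φ.range = P)
    (hP : ActsAbsolutelyIrreducibly (matrixSet P)) (L : Submodule F (ι → F)) (hL : ∀ g, ∀ w ∈ L, lin (fRep φ) g w ∈ L) :
    L = ⊥ ∨ L = ⊤ := by
  apply hP.1
  rintro _ ⟨g, hg, rfl⟩
  rw [SetLike.mem_coe, ← hφ] at hg
  obtain ⟨y, rfl⟩ := hg
  rintro _ ⟨w, hw, rfl⟩
  exact hL y w hw

end base

section aut

variable {F : Type u} [Field F] {n : Type} [Fintype n] [DecidableEq n]

/-- the automorphism of a special linear group given by a field automorphism -/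
def slField (σ : F ≃+* F) : _root_.Matrix.SpecialLinearGroup n F ≃* _root_.Matrix.SpecialLinearGroup n F where
  toFun := SpecialLinearGroup.map σ.toRingHom
  invFun := SpecialLinearGroup.map σ.symm.toRingHom
  left_inv g := by
    ext i j
    exact σ.symm_apply_apply _
  right_inv g := by
    ext i j
    exact σ.apply_symm_apply _
  map_mul' := map_mul _

/-- inverse transpose -/
def slT (g : _root_.Matrix.SpecialLinearGroup n F) : _root_.Matrix.SpecialLinearGroup n F := ⟨(g⁻¹).1ᵀ, by rw [det_transpose]; exact (g⁻¹).2⟩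

theorem slT_inv (g : _root_.Matrix.SpecialLinearGroup n F) : ((slT g)⁻¹).1 = g.1ᵀ := by
  have h1 : ((slT g)⁻¹).1 = adjugate ((adjugate g.1)ᵀ) := rfl
  have h2 : ((g⁻¹)⁻¹).1 = adjugate (adjugate g.1) := rfl
  rw [inv_inv] at h2
  rw [h1, ← adjugate_transpose, ← h2]

/-- inverse transpose -/
def slTi : _root_.Matrix.SpecialLinearGroup n F ≃* _root_.Matrix.SpecialLinearGroup n F where
  toFun := slT
  invFun := slT
  left_inv g := by
    apply Subtype.ext
    show ((slT g)⁻¹).1ᵀ = _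
    rw [slT_inv, transpose_transpose]
  right_inv g := by
    apply Subtype.ext
    show ((slT g)⁻¹).1ᵀ = _
    rw [slT_inv, transpose_transpose]
  map_mul' a b := by
    apply Subtype.ext
    show ((a * b)⁻¹).1ᵀ = (a⁻¹).1ᵀ * (b⁻¹).1ᵀ
    rw [_root_.mul_inv_rev, ← transpose_mul]
    rfl

theorem comp_range {G H : Type*} [Group G] [Group H] (φ : G →* H) (α : G ≃* G) :
    (φ.comp α.toMonoidHom).range = φ.range := by
  ext x
  constructor
  · rintro ⟨g, rfl⟩
    exact ⟨α g, rfl⟩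
  · rintro ⟨g, rfl⟩
    exact ⟨α.symm g, congrArg φ (α.apply_symm_apply g)⟩

theorem comp_ker {G H : Type*} [Group G] [Group H] (φ : G →* H) (α : G ≃* G) {S : Subgroup H}
    (hk : ∀ g, φ g ∈ S → g ∈ Subgroup.center G) (g : G) (hg : φ.comp α.toMonoidHom g ∈ S) :
    g ∈ Subgroup.center G := by
  have h1 : α g ∈ Subgroup.center G := hk _ hg
  rw [Subgroup.mem_center_iff] at h1 ⊢
  intro x
  apply α.injective
  rw [map_mul, map_mul]
  exact h1 (α x)

end aut

section main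

variable {F : Type u} [Field F] [Finite F] {ι : Type} [Fintype ι] [DecidableEq ι] {P : Subgroup (GL ι F)}
  (p : ℕ) [hp : Fact p.Prime] [hFp : CharP F p]
include hp hFp

/-- the two coefficient functions -/
theorem coef5_pow (hC : Core P) (Φ : Soc P ≃* ProjectiveSpecialLinearGroup (Fin 5) F) (hn : Fintype.card ι = 10) :
    ∃ φ : _root_.Matrix.SpecialLinearGroup (Fin 5) F →* GL ι F, φ.range = P ∧
      (∀ g, φ g ∈ scalars ι F → g ∈ Subgroup.center (_root_.Matrix.SpecialLinearGroup (Fin 5) F)) ∧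
      ∃ (v : ι → F) (ψ : Module.Dual F (ι → F)) (i : ℕ),
        (∀ g, ψ ((φ g : Matrix ι ι F).mulVec v) = mn (l := 4) 0 1 g ^ p ^ i) ∨
        (∀ g, ψ ((φ g : Matrix ι ι F).mulVec v) = mn (l := 4) 3 4 g⁻¹ ^ p ^ i) := by
  obtain ⟨φ, hφ, hk, hpr⟩ := psl_cover (l := 4) p hC.perfect (by norm_num) (fun h => by omega) Φ
  haveI : Nonempty ι := Fintype.card_pos_iff.1 (by omega)
  haveI : Finite (cA 4).Group := finite_W (cA 4).toCoxeterSystem (isCartan 4)
  haveI hchar : CharP (AlgebraicClosure F) p := charP_of_injective_algebraMap (algebraMap F _).injective p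
  have R := Nodes.RGDTypeA.rgd (cA 4).toCoxeterSystem (isCartan 4) (F := F) (p := p)
  have hirr := ac_irr R (gg_eq_top (Nodes.RGDTypeA.G1_eq_top _ _)) slT_comm hφ hC.absIrred
  -- the vector and the functional over `F`
  have hirrF : ∀ L : Submodule F (ι → F), Ivt (lin (fRep φ)) (GG (cA 4).toCoxeterSystem (isCartan 4)
      (T (Fin (4 + 1)) F) (X F)) L → L = ⊥ ∨ L = ⊤ := by
    intro L hL
    refine fRep_irr hφ hC.absIrred L fun g w hw => hL g ?_ w hw
    rw [gg_eq_top (Nodes.RGDTypeA.G1_eq_top _ _)]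
    trivial
  obtain ⟨v₀, hv₀, hv₀0⟩ := (Submodule.ne_bot_iff _).1 (simp_fx R (lin (fRep φ)) hirrF).ne
  obtain ⟨ψ₀, hψ₀, hne₀⟩ := exists_pair_D R hirrF hv₀ hv₀0
  have hv : bv v₀ ∈ D (cA 4).toCoxeterSystem (isCartan 4) (X F) (lin (acRep φ)) := by
    intro b hb
    rw [bv_lin, hv₀ b hb]
  have hv0 := bv_ne hv₀0
  have hψ : (algebraMap F (AlgebraicClosure F) (ψ₀ v₀))⁻¹ • bd ψ₀ ∈
      fx ((dualRep (lin (acRep φ)) :)) (UN (cA 4).toCoxeterSystem (isCartan 4) (X F)) :=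
    Submodule.smul_mem _ _ (bd_fx hψ₀)
  have hne : algebraMap F (AlgebraicClosure F) (ψ₀ v₀) ≠ 0 := (map_ne_zero _).2 hne₀
  have h4 : ((algebraMap F (AlgebraicClosure F) (ψ₀ v₀))⁻¹ • bd ψ₀) (bv v₀) = 1 := by
    rw [LinearMap.smul_apply, bd_bv, smul_eq_mul, inv_mul_cancel₀ hne]
  have ho : (1 : Fin (4 + 1)).val = 1 := rfl
  have hz : (3 : Fin (4 + 1)).val + 1 = 4 := rfl
  obtain ⟨e, he, heJ, hf⟩ := coef4_of (cs := (cA 4).toCoxeterSystem) (h := isCartan 4) p
    (ρ := lin (acRep φ)) (algebraMap F (AlgebraicClosure F)) hirr (o := 1) (z := 3) (by norm_num) ho hz hv hv0 hψ h4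
  rcases sl5 (cs := (cA 4).toCoxeterSystem) (h := isCartan 4) p
    (ρ := lin (acRep φ)) hirr (algebraMap F (AlgebraicClosure F)) (by rw [Module.finrank_fintype_fun_eq_card]; omega)
    (by rw [Module.finrank_fintype_fun_eq_card]; omega) with ⟨-, i₀, hi₀, hJ⟩ | h
  · have hi : i₀ ∉ Jx (cA 4).toCoxeterSystem (isCartan 4) (X F) (lin (acRep φ)) := (hJ i₀).2 rfl
    have hD := finrank_D R hirr slT_comm
    have hLe : finrank (AlgebraicClosure F) (Le (cA 4).toCoxeterSystem (isCartan 4) (T (Fin (4 + 1)) F) (X F)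
        (lin (acRep φ)) {i₀}) ≤ 2 := by
      have h1 := dim_ge_A R hirr hi
      have h3 := finrank_Io R hirr i₀
      rw [hD] at h1 h3
      rw [Module.finrank_fintype_fun_eq_card, hn] at h1
      have c52 : Nat.choose (4 + 1) 2 = 10 := rfl
      have c53 : Nat.choose (4 + 1) (i₀.val + 1) = 10 := by rcases hi₀ with rfl | rfl <;> rfl
      rw [c52, c53] at h1
      omega
    have hne : e i₀ ≠ 0 := fun h0 => hi ((heJ i₀).2 h0)
    have key : (Ds p (e i₀)).card ≤ 2 → ∃ i, e i₀ = p ^ i := by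
      intro h2
      rcases Ds_small hp.out (e i₀) (by omega) (by omega) with ⟨r, i, hr1, hr2, h3, h4⟩ | ⟨-, -, -, -, h3⟩
      · obtain rfl : r = 1 := by omega
        exact ⟨i, by rw [h3, one_mul]⟩
      · omega
    have h0J : ∀ i, i ≠ i₀ → e i = 0 := by
      intro i hii
      rw [← heJ]
      by_contra hcon
      exact hii ((hJ i).1 hcon)
    -- descent
    have desc : ∀ g, ((algebraMap F (AlgebraicClosure F) (ψ₀ v₀))⁻¹ • bd ψ₀) (lin (acRep φ) g (bv v₀)) =
        algebraMap F (AlgebraicClosure F) (((ψ₀ v₀)⁻¹ • ψ₀) ((φ g : Matrix ι ι F).mulVec v₀)) := by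
      intro g
      rw [bv_lin, LinearMap.smul_apply, bd_bv, smul_eq_mul, LinearMap.smul_apply, smul_eq_mul, map_mul, map_inv₀]
      rfl
    have hsc : ∀ g, φ g ∈ scalars ι F → g ∈ Subgroup.center (_root_.Matrix.SpecialLinearGroup (Fin 5) F) := by
      intro g hg
      obtain ⟨hgP, e1⟩ := hpr g
      have e2 : prj Φ ⟨φ g, hgP⟩ = 1 := by
        rw [← MonoidHom.mem_ker, prj_ker, Subgroup.mem_subgroupOf]
        exact hg
      rw [e2] at e1
      exact (QuotientGroup.eq_one_iff (N := Subgroup.center (_root_.Matrix.SpecialLinearGroup (Fin 5) F)) g).1 e1.symm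
    refine ⟨φ, hφ, hsc, v₀, (ψ₀ v₀)⁻¹ • ψ₀, ?_⟩
    rcases hi₀ with rfl | rfl
    · have hf' := hf 0 (e 1) 0 0 (by
        intro i
        fin_cases i
        · simp [h0J 0 (by decide)]
        · simp
        · simp [h0J 2 (by decide)]
        · simp [h0J 3 (by decide)])
      obtain ⟨i, hi'⟩ := key ((Ds_le_Le_one (algebraMap F (AlgebraicClosure F)) (by norm_num) ho hz p hv hf' (he 1) rfl).trans hLe)
      refine ⟨i, Or.inl fun g => ?_⟩
      apply (algebraMap F (AlgebraicClosure F)).injective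
      rw [← desc, hf', hi']
      unfold xf xi
      rw [pow_zero, pow_zero, pow_zero, map_pow]
      ring
    · have hf' := hf 0 0 (e 2) 0 (by
        intro i
        fin_cases i
        · simp [h0J 0 (by decide)]
        · simp [h0J 1 (by decide)]
        · simp
        · simp [h0J 3 (by decide)])
      obtain ⟨i, hi'⟩ := key ((Ds_le_Le_pen (algebraMap F (AlgebraicClosure F)) (by norm_num) ho hz p hv hf' (he 2) rfl).trans hLe)
      refine ⟨i, Or.inr fun g => ?_⟩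
      apply (algebraMap F (AlgebraicClosure F)).injective
      rw [← desc, hf', hi']
      unfold xf xi
      rw [pow_zero, pow_zero, pow_zero, map_pow]
      have hl : (Fin.last 4 : Fin (4 + 1)) = 4 := rfl
      rw [hl]
      ring
  · rw [Module.finrank_fintype_fun_eq_card] at h
    omega

/-- **The coefficient function.** -/
theorem coef5 (hC : Core P) (Φ : Soc P ≃* ProjectiveSpecialLinearGroup (Fin 5) F) (hn : Fintype.card ι = 10) :
    ∃ φ : _root_.Matrix.SpecialLinearGroup (Fin 5) F →* GL ι F, φ.range = P ∧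
      (∀ g, φ g ∈ scalars ι F → g ∈ Subgroup.center (_root_.Matrix.SpecialLinearGroup (Fin 5) F)) ∧
      ∃ (v : ι → F) (ψ : Module.Dual F (ι → F)),
        ∀ g, ψ ((φ g : Matrix ι ι F).mulVec v) = g.1 0 0 * g.1 1 1 - g.1 0 1 * g.1 1 0 := by
  obtain ⟨φ, hφ, hk, v, ψ, i, h⟩ := coef5_pow p hC Φ hn
  haveI : ExpChar F p := ExpChar.prime hp.out
  haveI : PerfectRing F p := PerfectField.toPerfectRing p
  let σ : F ≃+* F := (iterateFrobeniusEquiv F p i).symm
  have hσ : ∀ x : F, (σ x) ^ p ^ i = x := fun x => by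
    have h1 := (iterateFrobeniusEquiv F p i).apply_symm_apply x
    rwa [iterateFrobeniusEquiv_apply] at h1
  have hmn : ∀ (x y : Fin 5) (g : _root_.Matrix.SpecialLinearGroup (Fin 5) F), mn (l := 4) x y (slField σ g) ^ p ^ i = mn (l := 4) x y g := by
    intro x y g
    have h1 : mn (l := 4) x y (slField σ g) = σ (mn (l := 4) x y g) := by
      unfold mn
      rw [map_sub, map_mul, map_mul]
      rfl
    rw [h1, hσ]
  rcases h with h | h
  · refine ⟨φ.comp (slField σ).toMonoidHom, (comp_range φ _).trans hφ, comp_ker φ _ hk, v, ψ, fun g => ?_⟩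
    have h1 := h (slField σ g)
    rw [hmn] at h1
    exact h1
  · let w : _root_.Matrix.SpecialLinearGroup (Fin (4 + 1)) F := ww F 1 3
    let α : _root_.Matrix.SpecialLinearGroup (Fin 5) F ≃* _root_.Matrix.SpecialLinearGroup (Fin 5) F :=
      (slTi.trans (MulAut.conj w)).trans (slField σ)
    refine ⟨φ.comp α.toMonoidHom, (comp_range φ _).trans hφ, comp_ker φ _ hk, v, ψ, fun g => ?_⟩
    have h1 := h (α g)
    have h2 : (α g)⁻¹ = slField σ (w * (slT g)⁻¹ * w⁻¹) := by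
      show (slField σ (w * slT g * w⁻¹))⁻¹ = _
      rw [← map_inv]
      congr 1
      group
    have ho : (1 : Fin (4 + 1)).val = 1 := rfl
    have hz : (3 : Fin (4 + 1)).val + 1 = 4 := rfl
    have hl : (4 : Fin (4 + 1)) = Fin.last 4 := rfl
    rw [h2, hmn, hl, ww_mn' (by norm_num) ho hz] at h1
    have h3 : mn (l := 4) 0 1 (slT g)⁻¹ = g.1 0 0 * g.1 1 1 - g.1 0 1 * g.1 1 0 := by
      unfold mn
      rw [slT_inv]
      simp only [transpose_apply]
      ring
    rw [h3] at h1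
    exact h1

end main

end Cfsg.Agent.H833.TenFive
end

-- part: H833/TenFive/Lin
section
/-!
# The exterior square model (helper833, task 6155)

`φ : SL(5, F) → GL(ι, F)` irreducible with `ψ (φ g v) = g₀₀ g₁₁ - g₀₁ g₁₀`. Then there is an injective linear map `L`
from `F^ι` to the `5 × 5` matrices with `L (φ g w) = g L(w) gᵀ`, image the alternating matrices, `L v = e₀ ∧ e₁`.
-/

set_option autoImplicit false
set_option linter.unusedSectionVars false

namespace Cfsg.Agent.H833.TenFive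

open Matrix
open Cfsg.Agent.TitsThree.KSideA (tv tv_of_ne tv_add tv_zero tv_neg tv_comm tv_commute)
open Cfsg Cfsg.Geo

universe u

section wedge

variable {F : Type u} [Field F] {n : ℕ}

/-- `a ∧ b` -/
def wd (a b : Fin n → F) : Matrix (Fin n) (Fin n) F := vecMulVec a b - vecMulVec b a

theorem wd_apply (a b : Fin n → F) (i j : Fin n) : wd a b i j = a i * b j - b i * a j := rfl

theorem wd_conj (g : Matrix (Fin n) (Fin n) F) (a b : Fin n → F) : g * wd a b * gᵀ = wd (g *ᵥ a) (g *ᵥ b) := by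
  unfold wd
  rw [mul_sub, sub_mul, mul_vecMulVec, mul_vecMulVec, vecMulVec_mul, vecMulVec_mul, vecMul_transpose,
    vecMul_transpose]

theorem wd_self (a : Fin n → F) : wd a a = 0 := by
  ext i j
  rw [wd_apply, Matrix.zero_apply, sub_self]

theorem wd_swap (a b : Fin n → F) : wd b a = -wd a b := by
  ext i j
  rw [Matrix.neg_apply, wd_apply, wd_apply]
  ring

theorem wd_add (a a' b : Fin n → F) : wd (a + a') b = wd a b + wd a' b := by
  ext i j
  simp only [wd_apply, Matrix.add_apply, Pi.add_apply]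
  ring

theorem wd_add' (a b b' : Fin n → F) : wd a (b + b') = wd a b + wd a b' := by
  ext i j
  simp only [wd_apply, Matrix.add_apply, Pi.add_apply]
  ring

theorem wd_smul (c : F) (a b : Fin n → F) : wd (c • a) b = c • wd a b := by
  ext i j
  simp only [wd_apply, Matrix.smul_apply, Pi.smul_apply, smul_eq_mul]
  ring

theorem wd_smul' (c : F) (a b : Fin n → F) : wd a (c • b) = c • wd a b := by
  ext i j
  simp only [wd_apply, Matrix.smul_apply, Pi.smul_apply, smul_eq_mul]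
  ring

/-- the standard basis vector -/
abbrev ee (i : Fin n) : Fin n → F := Pi.single i 1

theorem tv_mulVec {a b : Fin n} (hab : a ≠ b) (t : F) (w : Fin n → F) :
    (tv a b t).1 *ᵥ w = w + (t * w b) • ee a := by
  rw [tv_of_ne hab]
  show (transvection a b t) *ᵥ w = _
  unfold transvection
  rw [add_mulVec, one_mulVec, single_mulVec]
  congr 1
  funext i
  by_cases hi : i = a
  · subst hi
    simp
  · simp [hi]

/-- bilinearity -/
theorem wd_mem' {S : Submodule F (Matrix (Fin 5) (Fin 5) F)} (hlk : ∀ l k : Fin 5, wd (ee l) (ee k) ∈ S)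
    (a b : Fin 5 → F) : wd a b ∈ S := by
  have hak : ∀ k : Fin 5, wd a (ee k) ∈ S := by
    intro k
    have e : a = ∑ i, a i • (ee i : Fin 5 → F) := by
      conv_lhs => rw [← Finset.univ_sum_single a]
      refine Finset.sum_congr rfl fun i _ => ?_
      rw [← Pi.single_smul, smul_eq_mul, mul_one]
    have e2 : wd a (ee k) = ∑ i, a i • wd (ee i) (ee k) := by
      conv_lhs => rw [e]
      simp only [Fin.sum_univ_five, wd_add, wd_smul]
    rw [e2]
    exact S.sum_mem fun i _ => S.smul_mem _ (hlk i k)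
  have e : b = ∑ i, b i • (ee i : Fin 5 → F) := by
    conv_lhs => rw [← Finset.univ_sum_single b]
    refine Finset.sum_congr rfl fun i _ => ?_
    rw [← Pi.single_smul, smul_eq_mul, mul_one]
  have e2 : wd a b = ∑ i, b i • wd a (ee i) := by
    conv_lhs => rw [e]
    simp only [Fin.sum_univ_five, wd_add', wd_smul']
  rw [e2]
  exact S.sum_mem fun i _ => S.smul_mem _ (hak i)

/-- a submodule of matrices closed under `X ↦ g X gᵀ` containing `e₀ ∧ e₁` contains all `a ∧ b` -/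
theorem wd_mem {S : Submodule F (Matrix (Fin 5) (Fin 5) F)} (hS : ∀ g : _root_.Matrix.SpecialLinearGroup (Fin 5) F, ∀ X ∈ S,
    g.1 * X * g.1ᵀ ∈ S) (h01 : wd (ee 0) (ee 1) ∈ S) (a b : Fin 5 → F) : wd a b ∈ S := by
  have h0k : ∀ k : Fin 5, wd (ee 0) (ee k) ∈ S := by
    intro k
    rcases eq_or_ne k 0 with rfl | hk0
    · rw [wd_self]; exact S.zero_mem
    rcases eq_or_ne k 1 with rfl | hk1
    · exact h01
    have h1 := hS (tv k 1 1) _ h01
    rw [wd_conj, tv_mulVec hk1, tv_mulVec hk1] at h1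
    have e1 : (ee 0 : Fin 5 → F) + (1 * (ee 0 : Fin 5 → F) 1) • ee k = ee 0 := by
      simp [ee]
    have e2 : (ee 1 : Fin 5 → F) + (1 * (ee 1 : Fin 5 → F) 1) • ee k = ee 1 + ee k := by
      simp [ee]
    rw [e1, e2, wd_add'] at h1
    have h2 := S.sub_mem h1 h01
    rwa [add_sub_cancel_left] at h2
  have hlk : ∀ l k : Fin 5, wd (ee l) (ee k) ∈ S := by
    intro l k
    rcases eq_or_ne l k with rfl | hlk
    · rw [wd_self]; exact S.zero_mem
    rcases eq_or_ne l 0 with rfl | hl0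
    · exact h0k k
    rcases eq_or_ne k 0 with rfl | hk0
    · rw [wd_swap]; exact S.neg_mem (h0k l)
    have h1 := hS (tv l 0 1) _ (h0k k)
    rw [wd_conj, tv_mulVec hl0, tv_mulVec hl0] at h1
    have e1 : (ee 0 : Fin 5 → F) + (1 * (ee 0 : Fin 5 → F) 0) • ee l = ee 0 + ee l := by
      simp [ee]
    have e2 : (ee k : Fin 5 → F) + (1 * (ee k : Fin 5 → F) 0) • ee l = ee k := by
      simp [ee, hk0.symm]
    rw [e1, e2, wd_add] at h1
    have h2 := S.sub_mem h1 (h0k k)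
    rwa [add_sub_cancel_left] at h2
  exact wd_mem' hlk a b

/-- prescribed first two rows -/
theorem exists_rows {i j : Fin 5} (hij : i ≠ j) : ∃ h : _root_.Matrix.SpecialLinearGroup (Fin 5) F, h.1 0 = ee i ∧ h.1 1 = ee j := by
  obtain ⟨σ, h0, h1⟩ : ∃ σ : Equiv.Perm (Fin 5), σ 0 = i ∧ σ 1 = j := by
    refine ⟨Equiv.swap (Equiv.swap 0 i 1) j * Equiv.swap 0 i, ?_, ?_⟩
    · rw [Equiv.Perm.mul_apply, Equiv.swap_apply_left, Equiv.swap_apply_of_ne_of_ne ?_ hij]
      intro h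
      have h1 : Equiv.swap 0 i 0 = Equiv.swap 0 i 1 := by rw [Equiv.swap_apply_left]; exact h
      exact absurd ((Equiv.swap 0 i).injective h1) (by decide)
    · rw [Equiv.Perm.mul_apply, Equiv.swap_apply_left]
  have hd : (σ.permMatrix F).det = (Equiv.Perm.sign σ : F) := det_permutation σ
  have hs : ((Equiv.Perm.sign σ : ℤ) : F) * ((Equiv.Perm.sign σ : ℤ) : F) = 1 := by
    rcases Int.units_eq_one_or (Equiv.Perm.sign σ) with h | h <;> simp [h]
  have hrow : ∀ k : Fin 5, (σ.permMatrix F) k = ee (σ k) := by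
    intro k
    funext l
    rw [Equiv.Perm.permMatrix, PEquiv.toMatrix_apply]
    by_cases h : σ k = l
    · subst h; simp
    · simp [h, Ne.symm h]
  refine ⟨⟨diagonal ![1, 1, ((Equiv.Perm.sign σ : ℤ) : F), 1, 1] * σ.permMatrix F, ?_⟩, ?_, ?_⟩
  · rw [det_mul, det_diagonal, hd, Fin.prod_univ_five]
    simpa only [_root_.Nat.succ_eq_add_one, _root_.Nat.reduceAdd, _root_.Fin.isValue, _root_.Matrix.cons_val_zero, _root_.Matrix.cons_val_one, _root_.mul_one, _root_.Matrix.cons_val, _root_.one_mul] using hs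
  · funext l
    show (diagonal ![1, 1, ((Equiv.Perm.sign σ : ℤ) : F), 1, 1] * σ.permMatrix F) 0 l = _
    rw [diagonal_mul, hrow, h0]
    simp
  · funext l
    show (diagonal ![1, 1, ((Equiv.Perm.sign σ : ℤ) : F), 1, 1] * σ.permMatrix F) 1 l = _
    rw [diagonal_mul, hrow, h1]
    simp

end wedge

section model

variable {F : Type u} [Field F] {ι : Type} [Fintype ι] [DecidableEq ι]

/-- the exterior square model -/
structure Wedge (φ : _root_.Matrix.SpecialLinearGroup (Fin 5) F →* GL ι F) where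
  L : (ι → F) →ₗ[F] Matrix (Fin 5) (Fin 5) F
  inj : Function.Injective L
  eqv : ∀ g w, L ((φ g : Matrix ι ι F) *ᵥ w) = g.1 * L w * g.1ᵀ
  alt : ∀ w i j, L w i j = -L w j i
  dia : ∀ w i, L w i i = 0
  ω : (Fin 5 → F) → (Fin 5 → F) → (ι → F)
  Lω : ∀ a b, L (ω a b) = wd a b
  spn : ∀ S : Submodule F (ι → F), (∀ a b, ω a b ∈ S) → ∀ w, w ∈ S

theorem exists_wedge {φ : _root_.Matrix.SpecialLinearGroup (Fin 5) F →* GL ι F}
    (hirr : ∀ S : Submodule F (ι → F), (∀ g, ∀ w ∈ S, (φ g : Matrix ι ι F) *ᵥ w ∈ S) → S = ⊥ ∨ S = ⊤)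
    {v : ι → F} {ψ : Module.Dual F (ι → F)}
    (h : ∀ g, ψ ((φ g : Matrix ι ι F) *ᵥ v) = g.1 0 0 * g.1 1 1 - g.1 0 1 * g.1 1 0) :
    Nonempty (Wedge φ) := by
  classical
  have hH : ∀ i j : Fin 5, ∃ H : _root_.Matrix.SpecialLinearGroup (Fin 5) F, i ≠ j → H.1 0 = ee i ∧ H.1 1 = ee j := by
    intro i j
    by_cases hij : i = j
    · exact ⟨1, fun h => absurd hij h⟩
    · obtain ⟨H, hH⟩ := exists_rows (F := F) hij
      exact ⟨H, fun _ => hH⟩
  choose H hH using hH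
  have hv0 : v ≠ 0 := by
    rintro rfl
    have h1 := h 1
    rw [mulVec_zero, map_zero] at h1
    simp only [_root_.Fin.isValue, _root_.Matrix.SpecialLinearGroup.coe_one, _root_.Matrix.one_apply_eq, _root_.mul_one, _root_.ne_eq, _root_.zero_ne_one, _root_.not_false_eq_true, _root_.Matrix.one_apply_ne, _root_.one_ne_zero, _root_.MulZeroClass.mul_zero, _root_.sub_zero] at h1
  have hspan : Submodule.span F (Set.range fun g : _root_.Matrix.SpecialLinearGroup (Fin 5) F => (φ g : Matrix ι ι F) *ᵥ v) = ⊤ := by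
    refine (hirr _ ?_).resolve_left ?_
    · intro g w hw
      induction hw using Submodule.span_induction with
      | mem x hx =>
        obtain ⟨y, rfl⟩ := hx
        refine Submodule.subset_span ⟨g * y, ?_⟩
        show (φ (g * y) : Matrix ι ι F) *ᵥ v = (φ g : Matrix ι ι F) *ᵥ ((φ y : Matrix ι ι F) *ᵥ v)
        rw [map_mul, Units.val_mul, mulVec_mulVec]
      | zero => rw [mulVec_zero]; exact Submodule.zero_mem _
      | add x y _ _ hx hy => rw [mulVec_add]; exact Submodule.add_mem _ hx hy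
      | smul a x _ hx => rw [mulVec_smul]; exact Submodule.smul_mem _ _ hx
    · intro h0
      have h1 : v ∈ Submodule.span F (Set.range fun g : _root_.Matrix.SpecialLinearGroup (Fin 5) F => (φ g : Matrix ι ι F) *ᵥ v) := by
        refine Submodule.subset_span ⟨1, ?_⟩
        show (φ 1 : Matrix ι ι F) *ᵥ v = v
        rw [map_one, Units.val_one, one_mulVec]
      rw [h0] at h1
      exact hv0 ((Submodule.mem_bot F).1 h1)
  let L : (ι → F) →ₗ[F] Matrix (Fin 5) (Fin 5) F :=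
    { toFun := fun w => Matrix.of fun i j => if i = j then 0 else ψ ((φ (H i j) : Matrix ι ι F) *ᵥ w)
      map_add' := by
        intro x y
        ext i j
        simp only [Matrix.of_apply, Matrix.add_apply, mulVec_add, map_add]
        split_ifs
        · rw [add_zero]
        · rfl
      map_smul' := by
        intro c x
        ext i j
        simp only [Matrix.of_apply, Matrix.smul_apply, mulVec_smul, map_smul, RingHom.id_apply]
        split_ifs
        · rw [smul_zero]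
        · rfl }
  have hL : ∀ w i j, L w i j = if i = j then 0 else ψ ((φ (H i j) : Matrix ι ι F) *ᵥ w) := fun w i j => rfl
  have hLg : ∀ g : _root_.Matrix.SpecialLinearGroup (Fin 5) F, L ((φ g : Matrix ι ι F) *ᵥ v) = g.1 * wd (ee 0) (ee 1) * g.1ᵀ := by
    intro g
    rw [wd_conj]
    ext i j
    rw [hL, wd_apply]
    have hg : ∀ k l : Fin 5, (g.1 *ᵥ ee l) k = g.1 k l := by
      intro k l
      simp [ee]
    rw [hg, hg, hg, hg]
    split_ifs with hij
    · subst hij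
      ring
    · obtain ⟨h1, h2⟩ := hH i j hij
      rw [mulVec_mulVec, ← Units.val_mul, ← map_mul, h]
      have e0 : ∀ l, (H i j * g).1 0 l = g.1 i l := by
        intro l
        show ((H i j).1 * g.1) 0 l = _
        rw [mul_apply_eq_vecMul, h1]
        simp [ee]
      have e1 : ∀ l, (H i j * g).1 1 l = g.1 j l := by
        intro l
        show ((H i j).1 * g.1) 1 l = _
        rw [mul_apply_eq_vecMul, h2]
        simp [ee]
      rw [e0, e0, e1, e1]
  have hLv : L v = wd (ee 0) (ee 1) := by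
    have h1 := hLg 1
    rw [map_one, Units.val_one, one_mulVec] at h1
    rw [h1]
    show (1 : Matrix (Fin 5) (Fin 5) F) * _ * (1 : Matrix (Fin 5) (Fin 5) F)ᵀ = _
    rw [one_mul, transpose_one, mul_one]
  have heq : ∀ g w, L ((φ g : Matrix ι ι F) *ᵥ w) = g.1 * L w * g.1ᵀ := by
    intro g w
    have hw : w ∈ Submodule.span F (Set.range fun g : _root_.Matrix.SpecialLinearGroup (Fin 5) F => (φ g : Matrix ι ι F) *ᵥ v) := by
      rw [hspan]; trivial
    induction hw using Submodule.span_induction with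
    | mem x hx =>
      obtain ⟨y, rfl⟩ := hx
      show L ((φ g : Matrix ι ι F) *ᵥ ((φ y : Matrix ι ι F) *ᵥ v)) = g.1 * L ((φ y : Matrix ι ι F) *ᵥ v) * g.1ᵀ
      rw [mulVec_mulVec, ← Units.val_mul, ← map_mul, hLg, hLg]
      show g.1 * y.1 * _ * (g.1 * y.1)ᵀ = _
      rw [transpose_mul]
      simp only [mul_assoc]
    | zero => rw [mulVec_zero, map_zero, mul_zero, zero_mul]
    | add x y _ _ hx hy => rw [mulVec_add, map_add, map_add, hx, hy, mul_add, add_mul]
    | smul a x _ hx => rw [mulVec_smul, map_smul, map_smul, hx, Matrix.mul_smul, Matrix.smul_mul]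
  have halt : ∀ w i j, L w i j = -L w j i := by
    intro w
    have hw : w ∈ Submodule.span F (Set.range fun g : _root_.Matrix.SpecialLinearGroup (Fin 5) F => (φ g : Matrix ι ι F) *ᵥ v) := by
      rw [hspan]; trivial
    induction hw using Submodule.span_induction with
    | mem x hx =>
      obtain ⟨y, rfl⟩ := hx
      intro i j
      show L ((φ y : Matrix ι ι F) *ᵥ v) i j = -L ((φ y : Matrix ι ι F) *ᵥ v) j i
      rw [hLg, wd_conj, wd_apply, wd_apply]
      ring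
    | zero => intro i j; rw [map_zero]; simp
    | add x y _ _ hx hy => intro i j; rw [map_add, Matrix.add_apply, Matrix.add_apply, hx, hy]; ring
    | smul a x _ hx => intro i j; rw [map_smul, Matrix.smul_apply, Matrix.smul_apply, hx, smul_neg]
  have hinj : Function.Injective L := by
    rw [injective_iff_map_eq_zero]
    intro w hw
    have h1 := hirr (LinearMap.ker L) (by
      intro g w hw
      rw [LinearMap.mem_ker] at hw ⊢
      rw [heq, hw, mul_zero, zero_mul])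
    rcases h1 with h1 | h1
    · have h2 : w ∈ LinearMap.ker L := hw
      rw [h1] at h2
      exact (Submodule.mem_bot F).1 h2
    · exfalso
      have h2 : v ∈ LinearMap.ker L := by rw [h1]; trivial
      rw [LinearMap.mem_ker, hLv] at h2
      have h3 := congrArg (fun M : Matrix (Fin 5) (Fin 5) F => M 0 1) h2
      simp [wd_apply, ee] at h3
  have hω : ∀ a b, ∃ w, L w = wd a b := by
    intro a b
    have h1 := wd_mem (S := LinearMap.range L) (by
      rintro g _ ⟨w, rfl⟩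
      exact ⟨_, heq g w⟩) ⟨v, hLv⟩ a b
    exact h1
  choose ω hω using hω
  refine ⟨⟨L, hinj, heq, halt, fun w i => by rw [hL, if_pos rfl], ω, hω, ?_⟩⟩
  intro S hS w
  have h1 : Submodule.span F (Set.range fun g : _root_.Matrix.SpecialLinearGroup (Fin 5) F => (φ g : Matrix ι ι F) *ᵥ v) ≤ S := by
    rw [Submodule.span_le]
    rintro _ ⟨g, rfl⟩
    have h2 : (φ g : Matrix ι ι F) *ᵥ v = ω (g.1 *ᵥ ee 0) (g.1 *ᵥ ee 1) := by
      apply hinj
      rw [hLg, wd_conj, hω]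
    show (φ g : Matrix ι ι F) *ᵥ v ∈ S
    rw [h2]
    exact hS _ _
  rw [hspan] at h1
  exact h1 trivial

end model

end Cfsg.Agent.H833.TenFive
end

-- part: H833/TenFive/Trv
section
/-!
# Transvections with centre the highest weight vector (helper833, task 6155)

* `tm v f = 1 + v ⊗ f`, `tg` the same as an element of `SL`;
* `UU F` : the group `U` of `SL(5, F)`; `no_tg` : no `tg v₀ f` in `H` if the centraliser of `φ(U)` in `H` is `F* φ(SL)`.
-/

set_option autoImplicit false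
set_option linter.unusedSectionVars false

namespace Cfsg.Agent.H833.TenFive

open Matrix CoxeterSystem Cfsg.Agent.ChevalleyStructure.CoxeterGeom Cfsg.Agent.Tits.Roots
  Cfsg.Agent.Nodes.BNOf Cfsg.Agent.Nodes.RootsA Cfsg.Agent.Nodes.RGDTypeA
open Cfsg.Agent.LieRecognition.BNCox (cA cA_apply)
open Cfsg.Agent.TitsThree.KSideA (tv tv_of_ne tv_add tv_zero tv_neg tv_comm tv_commute)
open Cfsg Cfsg.Geo

universe u

section tm

variable {F : Type u} [Field F] {ι : Type} [Fintype ι] [DecidableEq ι]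

theorem dual_dot (f : Module.Dual F (ι → F)) (w : ι → F) : (fun i => f (Pi.single i 1)) ⬝ᵥ w = f w := by
  conv_rhs => rw [← Finset.univ_sum_single w]
  rw [map_sum]
  refine Finset.sum_congr rfl fun i _ => ?_
  have h1 : (Pi.single i (w i) : ι → F) = w i • Pi.single i 1 := by
    rw [← Pi.single_smul, smul_eq_mul, mul_one]
  rw [h1, map_smul, smul_eq_mul, mul_comm]

/-- `1 + v ⊗ f` -/
def tm (v : ι → F) (f : Module.Dual F (ι → F)) : Matrix ι ι F := 1 + vecMulVec v (fun i => f (Pi.single i 1))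

theorem tm_mulVec (v : ι → F) (f : Module.Dual F (ι → F)) (w : ι → F) : tm v f *ᵥ w = w + f w • v := by
  unfold tm
  rw [add_mulVec, one_mulVec, vecMulVec_mulVec, dual_dot, op_smul_eq_smul]

theorem mat_ext {A B : Matrix ι ι F} (h : ∀ w, A *ᵥ w = B *ᵥ w) : A = B := by
  apply Matrix.toLin'.injective
  ext1 w
  ext1
  simp only [LinearMap.comp_apply, toLin'_apply]
  exact h _

theorem tm_zero (v : ι → F) : tm v 0 = 1 := by
  apply mat_ext
  intro w
  rw [tm_mulVec, one_mulVec, LinearMap.zero_apply, zero_smul, add_zero]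

theorem tm_mul {v : ι → F} {f g : Module.Dual F (ι → F)} (hf : f v = 0) : tm v f * tm v g = tm v (f + g) := by
  apply mat_ext
  intro w
  rw [← mulVec_mulVec, tm_mulVec, tm_mulVec, tm_mulVec, map_add, map_smul, hf, smul_zero, add_zero,
    LinearMap.add_apply]
  module

theorem tm_det {v : ι → F} {f : Module.Dual F (ι → F)} (hf : f v = 0) : (tm v f).det = 1 := by
  unfold tm
  rw [vecMulVec_eq Unit, det_one_add_replicateCol_mul_replicateRow, dual_dot, hf, add_zero]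

/-- `1 + v ⊗ f` in `GL` -/
def tg (v : ι → F) (f : Module.Dual F (ι → F)) (hf : f v = 0) : GL ι F :=
  ⟨tm v f, tm v (-f), by rw [tm_mul hf, add_neg_cancel, tm_zero],
    by rw [tm_mul (by rw [LinearMap.neg_apply, hf, neg_zero]), neg_add_cancel, tm_zero]⟩

theorem tg_val (v : ι → F) (f : Module.Dual F (ι → F)) (hf : f v = 0) : (tg v f hf : Matrix ι ι F) = tm v f := rfl

theorem tg_mem (v : ι → F) (f : Module.Dual F (ι → F)) (hf : f v = 0) : tg v f hf ∈ Geo.specialLinear ι F := by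
  unfold Geo.specialLinear
  rw [MonoidHom.mem_ker]
  apply Units.ext
  exact tm_det hf

theorem tg_inv {v : ι → F} {f : Module.Dual F (ι → F)} (hf : f v = 0) :
    (tg v f hf)⁻¹ = tg v (-f) (by rw [LinearMap.neg_apply, hf, neg_zero]) := Units.ext rfl

theorem tg_mul {v : ι → F} {f g : Module.Dual F (ι → F)} (hf : f v = 0) (hg : g v = 0) :
    tg v f hf * tg v g hg = tg v (f + g) (by rw [LinearMap.add_apply, hf, hg, add_zero]) := by
  apply Units.ext
  exact tm_mul hf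

/-- conjugation -/
theorem tg_conj {v : ι → F} {f : Module.Dual F (ι → F)} (hf : f v = 0) {s : GL ι F} (hs : (s : Matrix ι ι F) *ᵥ v = v)
    {f' : Module.Dual F (ι → F)} (hf' : ∀ w, f' ((s : Matrix ι ι F) *ᵥ w) = f w) :
    ∃ h : f' v = 0, s * tg v f hf * s⁻¹ = tg v f' h := by
  refine ⟨by rw [← hs, hf', hf], ?_⟩
  rw [mul_inv_eq_iff_eq_mul]
  apply Units.ext
  apply mat_ext
  intro w
  rw [Units.val_mul, Units.val_mul, ← mulVec_mulVec, ← mulVec_mulVec, tg_val, tg_val, tm_mulVec, tm_mulVec, hf',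
    mulVec_add, mulVec_smul, hs]

/-- the dual action -/
def da (s : GL ι F) (f : Module.Dual F (ι → F)) : Module.Dual F (ι → F) :=
  f.comp (Matrix.toLin' ((s⁻¹ : GL ι F) : Matrix ι ι F))

theorem da_apply (s : GL ι F) (f : Module.Dual F (ι → F)) (w : ι → F) : da s f ((s : Matrix ι ι F) *ᵥ w) = f w := by
  show f (Matrix.toLin' _ _) = _
  rw [toLin'_apply, mulVec_mulVec, Units.inv_mul, one_mulVec]

end tm

/-! ### the unipotent group -/

section uu

variable (F : Type u) [Field F]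

/-- the group `U` -/
abbrev UU : Subgroup (_root_.Matrix.SpecialLinearGroup (Fin (4 + 1)) F) :=
  RGD.Sup (X F) (RGD.Pos (cA 4).toCoxeterSystem (isCartan 4))

variable {F}

theorem tv_mem_UU {a b : Fin 5} (hab : a < b) (s : F) : tv a b s ∈ UU F := by
  refine RGD.le_Sup (S := RGD.Pos (cA 4).toCoxeterSystem (isCartan 4))
    ⟨isRoot_rtA (cA 4).toCoxeterSystem (isCartan 4) hab.ne, rtA_nonneg_iff.2 hab.le⟩ ?_
  rw [X_rtA hab.ne]
  exact ⟨s, rfl⟩

theorem UU_le {K : Subgroup (_root_.Matrix.SpecialLinearGroup (Fin 5) F)} (h : ∀ a b : Fin 5, a < b → ∀ s : F, tv a b s ∈ K) :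
    UU F ≤ K := by
  refine RGD.Sup_le ?_
  rintro x ⟨hx, hx0⟩
  obtain ⟨a, b, hab, rfl⟩ := (isRoot_iff _ _).1 hx
  rw [X_rtA hab]
  rintro _ ⟨s, rfl⟩
  exact h a b (lt_of_le_of_ne (rtA_nonneg_iff.1 hx0) hab) s

end uu

section wedge

variable {F : Type u} [Field F] {ι : Type} [Fintype ι] [DecidableEq ι] {φ : _root_.Matrix.SpecialLinearGroup (Fin 5) F →* GL ι F}
  (M : Wedge φ)

namespace Wedge

theorem φω (g : _root_.Matrix.SpecialLinearGroup (Fin 5) F) (a b : Fin 5 → F) :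
    (φ g : Matrix ι ι F) *ᵥ M.ω a b = M.ω (g.1 *ᵥ a) (g.1 *ᵥ b) := by
  apply M.inj
  rw [M.eqv, M.Lω, M.Lω, wd_conj]

theorem ω_add' (a b b' : Fin 5 → F) : M.ω a (b + b') = M.ω a b + M.ω a b' := by
  apply M.inj
  rw [map_add, M.Lω, M.Lω, M.Lω, wd_add']

theorem ω_smul' (c : F) (a b : Fin 5 → F) : M.ω a (c • b) = c • M.ω a b := by
  apply M.inj
  rw [map_smul, M.Lω, M.Lω, wd_smul']

theorem ω_self (a : Fin 5 → F) : M.ω a a = 0 := by
  apply M.inj
  rw [map_zero, M.Lω, wd_self]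

theorem ω_swap (a b : Fin 5 → F) : M.ω b a = -M.ω a b := by
  apply M.inj
  rw [map_neg, M.Lω, M.Lω, wd_swap]

/-- the highest weight vector -/
def v₀ : ι → F := M.ω (ee 0) (ee 1)

theorem v₀_ne : M.v₀ ≠ 0 := by
  intro h
  have h1 := congrArg M.L h
  rw [v₀, M.Lω, map_zero] at h1
  have h3 := congrArg (fun M : Matrix (Fin 5) (Fin 5) F => M 0 1) h1
  simp [wd_apply, ee] at h3

theorem tv_ee {a b : Fin 5} (hab : a ≠ b) (s : F) {k : Fin 5} (hk : k ≠ b) :
    (tv a b s).1 *ᵥ (ee k : Fin 5 → F) = ee k := by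
  rw [tv_mulVec hab]
  simp [ee, hk.symm]

theorem tv_ee' {a b : Fin 5} (hab : a ≠ b) (s : F) :
    (tv a b s).1 *ᵥ (ee b : Fin 5 → F) = ee b + s • ee a := by
  rw [tv_mulVec hab]
  simp [ee]

/-- the stabiliser of `v₀` -/
def St : Subgroup (_root_.Matrix.SpecialLinearGroup (Fin 5) F) where
  carrier := {g | (φ g : Matrix ι ι F) *ᵥ M.v₀ = M.v₀}
  one_mem' := by
    show (φ 1 : Matrix ι ι F) *ᵥ M.v₀ = M.v₀
    rw [map_one, Units.val_one, one_mulVec]
  mul_mem' := by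
    intro a b (ha : (φ a : Matrix ι ι F) *ᵥ M.v₀ = M.v₀) (hb : (φ b : Matrix ι ι F) *ᵥ M.v₀ = M.v₀)
    show (φ (a * b) : Matrix ι ι F) *ᵥ M.v₀ = M.v₀
    rw [map_mul, Units.val_mul, ← mulVec_mulVec, hb, ha]
  inv_mem' := by
    intro a (ha : (φ a : Matrix ι ι F) *ᵥ M.v₀ = M.v₀)
    show (φ a⁻¹ : Matrix ι ι F) *ᵥ M.v₀ = M.v₀
    conv_lhs => rw [← ha]
    rw [mulVec_mulVec, map_inv, Units.inv_mul, one_mulVec]

theorem mem_St {g : _root_.Matrix.SpecialLinearGroup (Fin 5) F} : g ∈ M.St ↔ (φ g : Matrix ι ι F) *ᵥ M.v₀ = M.v₀ := Iff.rfl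

theorem UU_le_St : UU F ≤ M.St := by
  refine UU_le fun a b hab s => ?_
  rw [mem_St, v₀, φω]
  have hb0 : (0 : Fin 5) ≠ b := fun e => by
    rw [← e] at hab
    exact absurd hab (Fin.not_lt_zero a)
  rw [tv_ee hab.ne s hb0]
  rcases eq_or_ne (1 : Fin 5) b with rfl | hb1
  · rw [tv_ee' hab.ne]
    have ha : a = 0 := by
      apply Fin.ext
      have h1 : a.val < 1 := hab
      simp
      omega
    subst ha
    rw [ω_add', ω_smul', ω_self, smul_zero, add_zero]
  · rw [tv_ee hab.ne s hb1]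

end Wedge

/-- the transvections with centre `v₀` in `H` -/
def DD (H : Subgroup (GL ι F)) : Subgroup (GL ι F) where
  carrier := {t | t ∈ H ∧ ∃ f : Module.Dual F (ι → F), ∃ hf : f M.v₀ = 0, t = tg M.v₀ f hf}
  one_mem' := ⟨H.one_mem, 0, rfl, by
    apply Units.ext
    rw [tg_val, tm_zero, Units.val_one]⟩
  mul_mem' := by
    rintro _ _ ⟨ha, f, hf, rfl⟩ ⟨hb, g, hg, rfl⟩
    exact ⟨H.mul_mem ha hb, f + g, _, tg_mul hf hg⟩
  inv_mem' := by
    rintro _ ⟨ha, f, hf, rfl⟩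
    exact ⟨H.inv_mem ha, -f, _, tg_inv hf⟩

theorem isPGroup_DD (p : ℕ) [Fact p.Prime] [CharP F p] (H : Subgroup (GL ι F)) : IsPGroup p (DD M H) := by
  rintro ⟨_, ha, f, hf, rfl⟩
  refine ⟨1, ?_⟩
  apply Subtype.ext
  show (tg M.v₀ f hf) ^ p ^ 1 = 1
  have key : ∀ n : ℕ, ∃ h : (n • f) M.v₀ = 0, (tg M.v₀ f hf) ^ n = tg M.v₀ (n • f) h := by
    intro n
    induction n with
    | zero =>
      refine ⟨by rw [zero_smul]; rfl, ?_⟩
      rw [pow_zero]
      apply Units.ext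
      rw [tg_val, zero_smul, tm_zero, Units.val_one]
    | succ n ih =>
      obtain ⟨h, e⟩ := ih
      refine ⟨by rw [succ_nsmul, LinearMap.add_apply, h, hf, add_zero], ?_⟩
      rw [pow_succ, e, tg_mul]
      apply Units.ext
      rw [tg_val, tg_val, succ_nsmul]
  obtain ⟨h, e⟩ := key (p ^ 1)
  rw [e]
  apply Units.ext
  have h1 : (p ^ 1) • f = 0 := by
    ext w
    rw [pow_one, LinearMap.comp_apply, LinearMap.smul_apply, LinearMap.comp_apply, LinearMap.zero_apply, nsmul_eq_mul, CharP.cast_eq_zero, zero_mul]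
  rw [tg_val, h1, tm_zero, Units.val_one]

/-- a fixed point -/
theorem exists_fixed [Finite F] (p : ℕ) [hp : Fact p.Prime] [CharP F p] {H : Subgroup (GL ι F)} (hφ : φ.range ≤ H)
    (h1 : DD M H ≠ ⊥) : ∃ t ∈ DD M H, t ≠ 1 ∧ ∀ u ∈ UU F, φ u * t = t * φ u := by
  have : Finite (cA 4).Group := finite_W (cA 4).toCoxeterSystem (isCartan 4)
  have R := Nodes.RGDTypeA.rgd (cA 4).toCoxeterSystem (isCartan 4) (F := F) (p := p)
  have hU : IsPGroup p (UU F) := R.isPGroup_Upos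
  have hconj : ∀ u ∈ UU F, ∀ t ∈ DD M H, φ u * t * (φ u)⁻¹ ∈ DD M H := by
    rintro u hu _ ⟨ha, f, hf, rfl⟩
    obtain ⟨h2, e⟩ := tg_conj hf (s := φ u) (M.UU_le_St hu) (f' := da (φ u) f) (da_apply _ f)
    refine ⟨H.mul_mem (H.mul_mem (hφ ⟨u, rfl⟩) ha) (H.inv_mem (hφ ⟨u, rfl⟩)), da (φ u) f, h2, e⟩
  let act : MulAction (UU F) (DD M H) :=
    { smul := fun u t => ⟨φ u * t * (φ u)⁻¹, hconj u u.2 t t.2⟩
      one_smul := by
        intro t
        apply Subtype.ext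
        show φ (1 : _root_.Matrix.SpecialLinearGroup (Fin 5) F) * (t : GL ι F) * (φ (1 : _root_.Matrix.SpecialLinearGroup (Fin 5) F))⁻¹ = t
        rw [map_one]
        group
      mul_smul := by
        intro a b t
        apply Subtype.ext
        show φ (a * b : _root_.Matrix.SpecialLinearGroup (Fin 5) F) * (t : GL ι F) * (φ (a * b : _root_.Matrix.SpecialLinearGroup (Fin 5) F))⁻¹ =
          φ a * (φ b * t * (φ b)⁻¹) * (φ a)⁻¹
        rw [map_mul]
        group }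
  obtain ⟨n, hn⟩ := (IsPGroup.iff_card).1 (isPGroup_DD M p H)
  have hdvd : p ∣ Nat.card (DD M H) := by
    rw [hn]
    rcases Nat.eq_zero_or_pos n with rfl | h0
    · exfalso
      apply h1
      rw [pow_zero] at hn
      exact Subgroup.card_eq_one.1 hn
    · exact dvd_pow_self p h0.ne'
  obtain ⟨b, hb, hne⟩ := hU.exists_fixed_point_of_prime_dvd_card_of_fixed_point (DD M H) hdvd
    (a := (1 : DD M H)) (by
      intro u
      apply Subtype.ext
      show φ u * (1 : GL ι F) * (φ u)⁻¹ = 1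
      group)
  refine ⟨b, b.2, fun e => hne (Subtype.ext e.symm), fun u hu => ?_⟩
  have h2 := congrArg Subtype.val (hb ⟨u, hu⟩)
  have h3 : φ u * (b : GL ι F) * (φ u)⁻¹ = b := h2
  rwa [mul_inv_eq_iff_eq_mul] at h3

namespace Wedge

/-- a functional vanishing on the basis vanishes -/
theorem dual_zero {f : Module.Dual F (ι → F)} (h : ∀ i j : Fin 5, f (M.ω (ee i) (ee j)) = 0) : f = 0 := by
  have h1 : ∀ a b, wd a b ∈ (LinearMap.ker f).map M.L := wd_mem' fun i j =>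
    ⟨M.ω (ee i) (ee j), h i j, M.Lω _ _⟩
  have h2 : ∀ a b, M.ω a b ∈ LinearMap.ker f := by
    intro a b
    obtain ⟨w, hw, e⟩ := h1 a b
    have : w = M.ω a b := M.inj (by rw [e, M.Lω])
    rw [← this]
    exact hw
  ext w
  have h3 := M.spn (LinearMap.ker f) h2 (Pi.single w 1)
  exact h3

/-- **no transvection with centre `v₀` in `H`** -/
theorem DD_eq_bot [Finite F] (p : ℕ) [hp : Fact p.Prime] [CharP F p] {H : Subgroup (GL ι F)} (hφ : φ.range ≤ H)
    (hcent : ∀ t ∈ H, (∀ u ∈ UU F, φ u * t = t * φ u) →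
      ∃ (u : _root_.Matrix.SpecialLinearGroup (Fin 5) F) (c : F), (t : Matrix ι ι F) = c • (φ u : Matrix ι ι F)) :
    DD M H = ⊥ := by
  by_contra h1
  obtain ⟨t, ⟨ht, f, hf, rfl⟩, ht1, htU⟩ := exists_fixed M p hφ h1
  apply ht1
  apply Units.ext
  rw [tg_val, Units.val_one]
  have hfU : ∀ u ∈ UU F, ∀ w, f ((φ u : Matrix ι ι F) *ᵥ w) = f w := by
    intro u hu w
    have h2 := congrArg (fun g : GL ι F => (g : Matrix ι ι F) *ᵥ w) (htU u hu)
    simp only [Units.val_mul, ← mulVec_mulVec, tg_val, tm_mulVec, mulVec_add, mulVec_smul] at h2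
    rw [(M.UU_le_St hu : (φ u : Matrix ι ι F) *ᵥ M.v₀ = M.v₀)] at h2
    have h3 := add_left_cancel h2
    exact (smul_left_injective F M.v₀_ne h3).symm
  have hik : ∀ i k l : Fin 5, i ≠ l → k < l → f (M.ω (ee i) (ee k)) = 0 := by
    intro i k l hil hkl
    have h2 := hfU _ (tv_mem_UU hkl 1) (M.ω (ee i) (ee l))
    rw [φω, tv_ee hkl.ne 1 hil, tv_ee' hkl.ne, ω_add', map_add, one_smul] at h2
    exact add_eq_left.1 h2
  obtain ⟨u, c, e⟩ := hcent _ ht htU
  have h34 : f (M.ω (ee 3) (ee 4)) = 0 := by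
    have h2 := congrArg (fun A : Matrix ι ι F => M.L (A *ᵥ M.ω (ee 3) (ee 4))) e
    simp only [tg_val, tm_mulVec, smul_mulVec] at h2
    rw [map_add, map_smul, map_smul, φω, v₀, M.Lω, M.Lω, M.Lω] at h2
    have key : ∀ i j, (wd (ee 3) (ee 4) + f (M.ω (ee 3) (ee 4)) • wd (ee 0) (ee 1) : Matrix (Fin 5) (Fin 5) F) i j =
        c * ((u.1 *ᵥ ee 3) i * (u.1 *ᵥ ee 4) j - (u.1 *ᵥ ee 4) i * (u.1 *ᵥ ee 3) j) := by
      intro i j
      rw [h2]
      rfl
    set x : Fin 5 → F := u.1 *ᵥ ee 3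
    set y : Fin 5 → F := u.1 *ᵥ ee 4
    have k01 := key 0 1
    have k34 := key 3 4
    have k03 := key 0 3
    have k14 := key 1 4
    have k04 := key 0 4
    have k13 := key 1 3
    simp only [wd_apply, ee, _root_.Fin.isValue, _root_.Matrix.add_apply, _root_.ne_eq, _root_.Fin.reduceEq, _root_.not_false_eq_true, _root_.Pi.single_eq_of_ne, _root_.MulZeroClass.mul_zero, _root_.sub_self, _root_.Matrix.smul_apply, _root_.Pi.single_eq_same, _root_.mul_one, _root_.zero_ne_one, _root_.one_ne_zero, _root_.sub_zero, _root_.smul_eq_mul, _root_.zero_add, _root_.add_zero, _root_.zero_eq_mul] at k01 k34 k03 k14 k04 k13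
    have hc : c ≠ 0 := by
      rintro rfl
      rw [zero_mul] at k34
      exact one_ne_zero k34
    have k03' := k03.resolve_left hc
    have k04' := k04.resolve_left hc
    show f (M.ω (Pi.single 3 1) (Pi.single 4 1)) = 0
    linear_combination f (M.ω (Pi.single 3 1) (Pi.single 4 1)) * k34 + (c * (x 3 * y 4 - y 3 * x 4)) * k01 +
      c ^ 2 * (x 1 * y 4 - y 1 * x 4) * k03' - c ^ 2 * (x 1 * y 3 - y 1 * x 3) * k04'
  have h0 : f = 0 := by
    apply M.dual_zero
    have hs : ∀ i j, f (M.ω (ee i) (ee j)) = 0 → f (M.ω (ee j) (ee i)) = 0 := by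
      intro i j h
      rw [M.ω_swap, map_neg, h, neg_zero]
    have main : ∀ i j : Fin 5, i < j → f (M.ω (ee i) (ee j)) = 0 := by
      intro i j hij
      have hij' : i.val < j.val := hij
      have hj5 := j.2
      by_cases hj : j = 4
      · subst hj
        by_cases hi : i = 3
        · subst hi; exact h34
        · refine hs _ _ (hik 4 i 3 (by decide) ?_)
          have h3 : i.val ≠ 3 := fun e => hi (Fin.ext e)
          have h4 : i.val < 4 := hij'
          show i.val < 3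
          omega
      · have h4 : j.val ≠ 4 := fun e => hj (Fin.ext e)
        refine hik i j 4 ?_ ?_
        · intro e
          have h5 : i.val = 4 := congrArg Fin.val e
          omega
        · show j.val < 4
          omega
    intro i j
    rcases lt_trichotomy i j with h | rfl | h
    · exact main i j h
    · rw [ω_self, map_zero]
    · exact hs _ _ (main j i h)
  rw [h0, tm_zero]

end Wedge

end wedge

end Cfsg.Agent.H833.TenFive
end

-- part: H833/TenFive/Four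
section
/-!
# The functional of rank 4 (helper833, task 6155)

`f₀ (a ∧ b) = a₁ b₂ - a₂ b₁ + a₃ b₄ - a₄ b₃`; `contra` : a conjugate of `U` containing the transvections with centre `e₀`
contains an element fixing `e₀ ∧ e₁` and not `f₀`.
-/

set_option autoImplicit false
set_option linter.unusedSectionVars false

namespace Cfsg.Agent.H833.TenFive

open Matrix CoxeterSystem Cfsg.Agent.ChevalleyStructure.CoxeterGeom Cfsg.Agent.Tits.Roots
  Cfsg.Agent.Nodes.BNOf Cfsg.Agent.Nodes.RootsA Cfsg.Agent.Nodes.RGDTypeA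
open Cfsg.Agent.LieRecognition.BNCox (cA cA_apply)
open Cfsg.Agent.TitsThree.KSideA (tv tv_of_ne tv_add tv_zero tv_neg tv_comm tv_commute)
open Cfsg Cfsg.Geo

universe u

variable {F : Type u} [Field F] {ι : Type} [Fintype ι] [DecidableEq ι] {φ : _root_.Matrix.SpecialLinearGroup (Fin 5) F →* GL ι F}
  (M : Wedge φ)

namespace Wedge

/-- the functional -/
def f₀ : Module.Dual F (ι → F) where
  toFun w := M.L w 1 2 + M.L w 3 4
  map_add' x y := by
    rw [map_add, Matrix.add_apply, Matrix.add_apply]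
    ring
  map_smul' c x := by
    rw [map_smul, Matrix.smul_apply, Matrix.smul_apply, smul_eq_mul, smul_eq_mul, smul_eq_mul, RingHom.id_apply]
    ring

theorem f₀_ω (a b : Fin 5 → F) : M.f₀ (M.ω a b) = (a 1 * b 2 - b 1 * a 2) + (a 3 * b 4 - b 3 * a 4) := by
  show M.L _ 1 2 + M.L _ 3 4 = _
  rw [M.Lω, wd_apply, wd_apply]

theorem f₀_v₀ : M.f₀ M.v₀ = 0 := by
  rw [v₀, f₀_ω]
  simp [ee]

theorem f₀_ne : M.f₀ ≠ 0 := by
  intro h
  have h1 := congrArg (fun f : Module.Dual F (ι → F) => f (M.ω (ee 1) (ee 2))) h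
  simp only [f₀_ω] at h1
  simp [ee] at h1

theorem f₀_inv {g : _root_.Matrix.SpecialLinearGroup (Fin 5) F} (hg : ∀ a : Fin 5 → F, ∀ i : Fin 5, i ≠ 0 → (g.1 *ᵥ a) i = a i)
    (w : ι → F) : M.f₀ ((φ g : Matrix ι ι F) *ᵥ w) = M.f₀ w := by
  have h1 := M.spn (LinearMap.ker (M.f₀.comp (Matrix.toLin' (φ g : Matrix ι ι F)) - M.f₀)) (by
    intro a b
    rw [LinearMap.mem_ker, LinearMap.sub_apply, LinearMap.comp_apply, toLin'_apply, φω, f₀_ω, f₀_ω,
      hg a 1 (by decide), hg a 2 (by decide), hg a 3 (by decide), hg a 4 (by decide),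
      hg b 1 (by decide), hg b 2 (by decide), hg b 3 (by decide), hg b 4 (by decide), sub_self]) w
  rw [LinearMap.mem_ker, LinearMap.sub_apply, LinearMap.comp_apply, toLin'_apply, sub_eq_zero] at h1
  exact h1

theorem f₀_tv {b : Fin 5} (hb : (0 : Fin 5) ≠ b) (s : F) (w : ι → F) :
    M.f₀ ((φ (tv 0 b s) : Matrix ι ι F) *ᵥ w) = M.f₀ w := by
  refine M.f₀_inv (fun a i hi => ?_) w
  rw [tv_mulVec hb, Pi.add_apply, Pi.smul_apply]
  simp [ee, hi]

theorem contra {g : _root_.Matrix.SpecialLinearGroup (Fin 5) F} (h0 : ∀ j : Fin 5, j ≠ 0 → (g.1 *ᵥ ee 0) j = 0)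
    (hτ : ∀ y ∈ UU F, (φ (g * y * g⁻¹) : Matrix ι ι F) *ᵥ M.v₀ = M.v₀ →
      ∀ w, M.f₀ ((φ (g * y * g⁻¹) : Matrix ι ι F) *ᵥ w) = M.f₀ w) : False := by
  set! z : Fin 5 → F := g.1 *ᵥ ee 1 with hz
  have key : ∀ h : Fin 5 → F, h 0 = 0 → h 1 = 0 → h ⬝ᵥ z = 0 → ∀ a b : Fin 5 → F,
      ((a 1 + (h ⬝ᵥ a) * z 1) * (b 2 + (h ⬝ᵥ b) * z 2) - (b 1 + (h ⬝ᵥ b) * z 1) * (a 2 + (h ⬝ᵥ a) * z 2)) +
      ((a 3 + (h ⬝ᵥ a) * z 3) * (b 4 + (h ⬝ᵥ b) * z 4) - (b 3 + (h ⬝ᵥ b) * z 3) * (a 4 + (h ⬝ᵥ a) * z 4)) =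
      (a 1 * b 2 - b 1 * a 2) + (a 3 * b 4 - b 3 * a 4) := by
    intro h hh0 hh1 hhz a b
    set! c : Fin 5 → F := h ᵥ* g.1 with hc
    have hcw : ∀ w : Fin 5 → F, c ⬝ᵥ w = h ⬝ᵥ (g.1 *ᵥ w) := fun w => by
      rw [hc, dotProduct_mulVec]
    have hc0 : c 0 = 0 := by
      have h1 := hcw (ee 0)
      have h2 : h ⬝ᵥ (g.1 *ᵥ ee 0) = 0 := by
        rw [dotProduct, Fin.sum_univ_five, hh0, h0 1 (by decide), h0 2 (by decide), h0 3 (by decide),
          h0 4 (by decide)]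
        ring
      rw [h2] at h1
      simpa [ee] using h1
    have hc1 : c 1 = 0 := by
      have h1 := hcw (ee 1)
      rw [← hz, hhz] at h1
      simpa [ee] using h1
    have hy : tv (1 : Fin 5) 2 (c 2) * tv 1 3 (c 3) * tv 1 4 (c 4) ∈ UU F :=
      mul_mem (mul_mem (tv_mem_UU (by decide) _) (tv_mem_UU (by decide) _)) (tv_mem_UU (by decide) _)
    have hyw : ∀ w : Fin 5 → F, (tv (1 : Fin 5) 2 (c 2) * tv 1 3 (c 3) * tv 1 4 (c 4)).1 *ᵥ w = w + (c ⬝ᵥ w) • ee 1 := by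
      intro w
      show ((tv (1 : Fin 5) 2 (c 2)).1 * (tv (1 : Fin 5) 3 (c 3)).1 * (tv (1 : Fin 5) 4 (c 4)).1) *ᵥ w = _
      rw [← mulVec_mulVec, ← mulVec_mulVec, tv_mulVec (by decide), tv_mulVec (by decide), tv_mulVec (by decide),
        dotProduct, Fin.sum_univ_five, hc0, hc1]
      funext i
      simp only [ee, _root_.Fin.isValue, _root_.Pi.add_apply, _root_.Pi.smul_apply, _root_.ne_eq, _root_.Fin.reduceEq, _root_.not_false_eq_true, _root_.Pi.single_eq_of_ne, _root_.smul_eq_mul, _root_.MulZeroClass.mul_zero, _root_.add_zero, _root_.MulZeroClass.zero_mul, _root_.zero_add]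
      ring
    set y := tv (1 : Fin 5) 2 (c 2) * tv 1 3 (c 3) * tv 1 4 (c 4) with hyd
    have hτw : ∀ w : Fin 5 → F, (g * y * g⁻¹).1 *ᵥ w = w + (h ⬝ᵥ w) • z := by
      intro w
      show (g.1 * y.1 * (g⁻¹).1) *ᵥ w = _
      have hgi : g.1 *ᵥ ((g⁻¹).1 *ᵥ w) = w := by
        rw [mulVec_mulVec]
        have h3 : g.1 * (g⁻¹).1 = 1 := congrArg Subtype.val (mul_inv_cancel g)
        rw [h3, one_mulVec]
      rw [← mulVec_mulVec, ← mulVec_mulVec, hyw, mulVec_add, mulVec_smul, hcw, hgi]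
    have hv : (φ (g * y * g⁻¹) : Matrix ι ι F) *ᵥ M.v₀ = M.v₀ := by
      rw [v₀, φω, hτw, hτw]
      have e0 : h ⬝ᵥ (ee 0 : Fin 5 → F) = 0 := by simp [ee, hh0]
      have e1 : h ⬝ᵥ (ee 1 : Fin 5 → F) = 0 := by simp [ee, hh1]
      rw [e0, e1, zero_smul, add_zero, add_zero]
    have h4 := hτ y hy hv (M.ω a b)
    rw [φω, hτw, hτw, f₀_ω, f₀_ω] at h4
    simpa only [Pi.add_apply, Pi.smul_apply, smul_eq_mul] using h4
  have hz2 : z 2 = 0 := by
    by_contra hne
    have h1 := key ![0, 0, -z 3, z 2, 0] rfl rfl (by simp only [dotProduct, Fin.sum_univ_five, _root_.Fin.isValue, _root_.Matrix.cons_val_zero, _root_.MulZeroClass.zero_mul, _root_.Matrix.cons_val_one, _root_.add_zero, _root_.Matrix.cons_val, _root_.neg_mul, _root_.zero_add]; ring) (ee 3) (ee 1)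
    simp [ee, dotProduct, Fin.sum_univ_five] at h1
    exact hne h1
  have hz4 : z 4 = 0 := by
    have h1 := key ![0, 0, 1, 0, 0] rfl rfl (by simp [dotProduct, Fin.sum_univ_five, hz2]) (ee 2) (ee 3)
    simp only [ee, dotProduct, Fin.sum_univ_five, _root_.Fin.isValue, _root_.ne_eq, _root_.Fin.reduceEq, _root_.not_false_eq_true, _root_.Pi.single_eq_of_ne, _root_.Matrix.cons_val_zero, _root_.MulZeroClass.mul_zero, _root_.Matrix.cons_val_one, _root_.add_zero, _root_.Matrix.cons_val, _root_.Pi.single_eq_same, _root_.mul_one, _root_.zero_add, _root_.one_mul, _root_.MulZeroClass.zero_mul, _root_.sub_self, _root_.zero_sub, _root_.neg_eq_zero] at h1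
    exact h1
  have hz3 : z 3 = 0 := by
    have h1 := key ![0, 0, 1, 0, 0] rfl rfl (by simp [dotProduct, Fin.sum_univ_five, hz2]) (ee 2) (ee 4)
    simp only [ee, dotProduct, Fin.sum_univ_five, _root_.Fin.isValue, _root_.ne_eq, _root_.Fin.reduceEq, _root_.not_false_eq_true, _root_.Pi.single_eq_of_ne, _root_.Matrix.cons_val_zero, _root_.MulZeroClass.mul_zero, _root_.Matrix.cons_val_one, _root_.add_zero, _root_.Matrix.cons_val, _root_.Pi.single_eq_same, _root_.mul_one, _root_.zero_add, _root_.one_mul, _root_.MulZeroClass.zero_mul, _root_.sub_self, _root_.sub_zero] at h1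
    exact h1
  have hz1 : z 1 = 0 := by
    have h1 := key ![0, 0, 0, 1, 0] rfl rfl (by simp [dotProduct, Fin.sum_univ_five, hz3]) (ee 3) (ee 2)
    simp [ee, dotProduct, Fin.sum_univ_five] at h1
    exact h1
  have hinv : ∀ w : Fin 5 → F, (g⁻¹).1 *ᵥ (g.1 *ᵥ w) = w := by
    intro w
    rw [mulVec_mulVec]
    have h3 : (g⁻¹).1 * g.1 = 1 := congrArg Subtype.val (inv_mul_cancel g)
    rw [h3, one_mulVec]
  have e0 : g.1 *ᵥ ee 0 = (g.1 *ᵥ ee 0) 0 • ee 0 := by
    funext i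
    by_cases hi : i = 0
    · subst hi; simp [ee]
    · rw [h0 i hi]; simp [ee, hi]
  have hzi : ∀ i : Fin 5, i ≠ 0 → z i = 0 := by
    intro i hi
    fin_cases i
    · exact absurd rfl hi
    · exact hz1
    · exact hz2
    · exact hz3
    · exact hz4
  have e1 : z = z 0 • ee 0 := by
    funext i
    by_cases hi : i = 0
    · subst hi; simp [ee]
    · rw [hzi i hi]; simp [ee, hi]
  have k0 := hinv (ee 0)
  have k1 := hinv (ee 1)
  rw [e0, mulVec_smul] at k0
  rw [← hz, e1, mulVec_smul] at k1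
  have k2 : (g.1 *ᵥ ee 0) 0 • (ee 1 : Fin 5 → F) = z 0 • ee 0 := by
    rw [← k1]
    conv_rhs => rw [← k0]
    rw [smul_comm]
  have k3 := congrFun k2 1
  simp [ee] at k3
  have k4 := congrFun k0 0
  have k5 : (g.1 *ᵥ ee 0) 0 = 0 := by simpa [ee] using k3
  rw [k5] at k4
  simp [ee] at k4

end Wedge

end Cfsg.Agent.H833.TenFive
end

-- part: H833/TenFive/Psi
section
/-!
# The cover of the socle (helper833, task 6155)

`m : Model Q S`, `P` the residual core of `m.hat A`, `φ : Y → GL(ι, F)` with image `P`: `psi : Y → Q`, its image `N` is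
the simple socle of `A`. `cent_U` : an element of `m.hat A` commuting with `φ(U)` is `φ(u)` times a scalar, if the
simple root groups are abelian.
-/

set_option autoImplicit false
set_option linter.unusedSectionVars false

namespace Cfsg.Agent.H833.TenFive

open CoxeterSystem Cfsg.Agent.ChevalleyStructure.CoxeterGeom Cfsg.Agent.Tits.Roots
  Cfsg.Agent.Nodes.Reps Cfsg.Agent.Nodes.BNOf Cfsg.Agent.Nodes.Bruhat Cfsg.Agent.Nodes.RGDLib
open Cfsg.Agent.H419.EP

section cover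

variable {Q : Type*} [Group Q] {ι : Type} [Fintype ι] [DecidableEq ι] {F : Type*} [Field F]
  {S : Subgroup (GL ι F)} (m : Model Q S) {A : Subgroup Q} {P : Subgroup (GL ι F)}
  (hP : Geo.IsResidualCore (m.hat A) P) {Y : Type*} [Group Y] (φ : Y →* GL ι F) (hφ : φ.range = P)

include m hP hφ in
theorem mem_S (g : Y) : φ g ∈ S := m.hat_le A (hP.le (hφ ▸ (⟨g, rfl⟩ : φ g ∈ φ.range)))

/-- the map to `Q` -/
def psi : Y →* Q :=
  m.π.comp (φ.codRestrict S fun g => m.hat_le A (hP.le (hφ ▸ (⟨g, rfl⟩ : φ g ∈ φ.range))))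

variable {m hP φ hφ}

theorem psi_apply (g : Y) (hg : φ g ∈ S) : psi m hP φ hφ g = m.π ⟨φ g, hg⟩ := rfl

theorem psi_eq_one {g : Y} (h : psi m hP φ hφ g = 1) : φ g ∈ Geo.scalars ι F :=
  (m.ker ⟨φ g, mem_S m hP φ hφ g⟩).1 h

variable (m hP φ hφ)

theorem psi_mem (g : Y) : psi m hP φ hφ g ∈ A :=
  (m.mem_hat_iff ⟨φ g, mem_S m hP φ hφ g⟩).1 (hP.le (hφ ▸ (⟨g, rfl⟩ : φ g ∈ φ.range)))

/-- the socle -/
theorem psi_soc : H839.EP.Soc A (psi m hP φ hφ).range := by
  refine ⟨?_, ?_, ?_⟩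
  · rintro _ ⟨g, rfl⟩
    exact psi_mem m hP φ hφ g
  · rintro a ha _ ⟨g, rfl⟩
    obtain ⟨s, rfl⟩ := m.surj a
    have hs : (s : GL ι F) ∈ m.hat A := (m.mem_hat_iff s).2 ha
    have h1 : (s : GL ι F) * φ g * (s : GL ι F)⁻¹ ∈ P := hP.normal _ hs _ (hφ ▸ ⟨g, rfl⟩)
    rw [← hφ] at h1
    obtain ⟨g', e⟩ := h1
    refine ⟨g', ?_⟩
    rw [psi_apply g' (mem_S m hP φ hφ g'), psi_apply g (mem_S m hP φ hφ g),
      ← map_mul, ← map_inv, ← map_mul]
    congr 1
    exact Subtype.ext e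
  · intro a ha hc
    obtain ⟨s, rfl⟩ := m.surj a
    have hs : (s : GL ι F) ∈ m.hat A := (m.mem_hat_iff s).2 ha
    rw [m.ker]
    apply hP.centralizer_scalar _ hs
    intro x hx
    rw [← hφ] at hx
    obtain ⟨g, rfl⟩ := hx
    have h1 := hc (psi m hP φ hφ g) ⟨g, rfl⟩
    have hg := mem_S m hP φ hφ g
    have h2 : m.π (s * ⟨φ g, hg⟩ * s⁻¹ * ⟨φ g, hg⟩⁻¹) = 1 := by
      rw [map_mul, map_mul, map_mul, map_inv, map_inv]
      rw [psi_apply g hg] at h1
      rw [h1]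
      group
    exact (m.ker _).1 h2

/-- the range is `P` modulo scalars -/
theorem psi_equiv : Nonempty ((P ⧸ (Geo.scalars ι F).subgroupOf P) ≃* (psi m hP φ hφ).range) := by
  have hPS : P ≤ S := hP.le.trans (m.hat_le A)
  let f : P →* Q := m.π.comp (Subgroup.inclusion hPS)
  have hf : ∀ p : P, f p = m.π ⟨p, hPS p.2⟩ := fun p => rfl
  have hker : f.ker = (Geo.scalars ι F).subgroupOf P := by
    ext p
    rw [MonoidHom.mem_ker, hf, m.ker]
    rfl
  have hr : f.range = (psi m hP φ hφ).range := by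
    ext q
    constructor
    · rintro ⟨⟨p, hp⟩, rfl⟩
      have hp' := hp
      rw [← hφ] at hp'
      obtain ⟨g, rfl⟩ := hp'
      exact ⟨g, rfl⟩
    · rintro ⟨g, rfl⟩
      exact ⟨⟨φ g, hφ ▸ ⟨g, rfl⟩⟩, rfl⟩
  exact ⟨((QuotientGroup.quotientMulEquivOfEq hker).symm.trans (QuotientGroup.quotientKerEquivRange f)).trans
    (MulEquiv.subgroupCongr hr)⟩

theorem psi_simple : IsSimpleGroup (psi m hP φ hφ).range := by
  obtain ⟨e⟩ := psi_equiv m hP φ hφ
  have := hP.simple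
  exact e.symm.isSimpleGroup

theorem psi_nonab : ∃ a b : (psi m hP φ hφ).range, a * b ≠ b * a := by
  obtain ⟨e⟩ := psi_equiv m hP φ hφ
  by_contra hcon
  push Not at hcon
  apply hP.nonabelian
  refine ⟨⟨fun a b => ?_⟩⟩
  apply e.injective
  rw [map_mul, map_mul]
  exact hcon _ _

end cover

theorem Sup_map {I Y Y' : Type*} [Group Y] [Group Y'] (X : (I → ℤ) → Subgroup Y) (S : Set (I → ℤ)) (f : Y →* Y') :
    RGD.Sup (fun x => (X x).map f) S = (RGD.Sup X S).map f := by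
  unfold RGD.Sup
  rw [Subgroup.map_iSup]

section cent

variable {Q : Type*} [Group Q] {ι : Type} [Fintype ι] [DecidableEq ι] {F : Type*} [Field F]
  {S : Subgroup (GL ι F)} (m : Model Q S) {A : Subgroup Q} {P : Subgroup (GL ι F)}
  (hP : Geo.IsResidualCore (m.hat A) P) {Y : Type*} [Group Y] [Finite Y] (φ : Y →* GL ι F) (hφ : φ.range = P)
  (hsc : ∀ g, φ g ∈ Geo.scalars ι F → g ∈ Subgroup.center Y)
  {I W : Type*} [Fintype I] [DecidableEq I] [Group W] [Finite W] {M : CoxeterMatrix I}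
  {cs : CoxeterSystem M W} {C : I → I → ℤ} {hC : IsCartan M C} {p : ℕ} [Fact p.Prime] {T : Subgroup Y} {n : I → Y}
  {X : (I → ℤ) → Subgroup Y} (R : RGD cs hC p T n X) (hG1 : G1 cs hC X = ⊤)
include hP hφ hsc R

/-- the root group datum of the socle -/
theorem psi_rgd : RGD cs hC p (T.map (psi m hP φ hφ).rangeRestrict) (fun i => (psi m hP φ hφ).rangeRestrict (n i))
    (fun x => (X x).map (psi m hP φ hφ).rangeRestrict) := by
  refine rgd_map_of_ker_le_center R _ fun g hg => hsc g ?_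
  rw [MonoidHom.mem_ker] at hg
  exact psi_eq_one (congrArg Subtype.val hg)

include hG1

omit hsc R [Finite Y] [Finite W] [Fact p.Prime] in
theorem psi_G1 : RGD.Sup (fun x => (X x).map (psi m hP φ hφ).rangeRestrict) {x | IsRoot cs hC x} = ⊤ := by
  rw [Sup_map]
  have h1 : RGD.Sup X {x | IsRoot cs hC x} = ⊤ := hG1
  rw [h1, Subgroup.map_top_of_surjective _ (MonoidHom.rangeRestrict_surjective _)]

/-- **the centraliser of `U` in `A`** -/
theorem cent_U (hab : ∀ i, ∀ a ∈ X (sr i), ∀ b ∈ X (sr i), a * b = b * a) {t : GL ι F} (ht : t ∈ m.hat A)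
    (htU : ∀ u ∈ RGD.Sup X (RGD.Pos cs hC), φ u * t = t * φ u) :
    ∃ (u : Y) (c : F), (t : Matrix ι ι F) = c • (φ u : Matrix ι ι F) := by
  obtain ⟨htS, htA⟩ := m.mem_hat.1 ht
  have hs := psi_soc m hP φ hφ
  obtain ⟨z, hz, -, h1⟩ := KFacts.RgdFixU.exists_mem_centralizer (psi_rgd m hP φ hφ hsc R)
    (psi_G1 m hP φ hφ hG1) (by
      rintro i _ ⟨a, ha, rfl⟩ _ ⟨b, hb, rfl⟩
      rw [← map_mul, ← map_mul, hab i a ha b hb]) (g := m.π ⟨t, htS⟩) (by
      rw [Subgroup.mem_normalizer_iff]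
      intro y
      refine ⟨hs.nor _ htA y, fun hy => ?_⟩
      have h2 := hs.nor _ (A.inv_mem htA) _ hy
      have e : (m.π ⟨t, htS⟩)⁻¹ * (m.π ⟨t, htS⟩ * y * (m.π ⟨t, htS⟩)⁻¹) * ((m.π ⟨t, htS⟩)⁻¹)⁻¹ = y := by group
      rwa [e] at h2) (by
      intro x hx
      rw [Sup_map] at hx
      obtain ⟨u, hu, rfl⟩ := hx
      show m.π ⟨t, htS⟩ * psi m hP φ hφ u = psi m hP φ hφ u * m.π ⟨t, htS⟩
      rw [psi_apply u (mem_S m hP φ hφ u), ← map_mul, ← map_mul]
      congr 1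
      exact Subtype.ext (htU u hu).symm)
  have h2 : (z : Q)⁻¹ * m.π ⟨t, htS⟩ = 1 := by
    apply hs.cen
    · exact A.mul_mem (A.inv_mem (hs.le z.2)) htA
    · intro x hx
      exact h1 x hx
  obtain ⟨u, hu⟩ := z.2
  have h3 : m.π ⟨t, htS⟩ = m.π ⟨φ u, mem_S m hP φ hφ u⟩ := by
    rw [← psi_apply (hP := hP) (hφ := hφ) u, hu]
    rw [inv_mul_eq_one] at h2
    exact h2.symm
  rw [m.π_eq_iff] at h3
  obtain ⟨s, hs, e⟩ := h3
  obtain ⟨c, hc⟩ := (Geo.mem_scalars_iff s).1 hs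
  refine ⟨u, c, ?_⟩
  have e2 : (t : Matrix ι ι F) = (φ u : Matrix ι ι F) * (s : Matrix ι ι F) := congrArg Units.val e
  rw [e2, hc, Matrix.mul_smul, mul_one]

end cent

end Cfsg.Agent.H833.TenFive
end

-- part: H833/TenFive/LFive
section
/-!
# `PSL(5, F)` in `PSL(10, F)` (helper833, task 6155)

`l5_own` : no extremely primitive group of this type.
-/

set_option autoImplicit false
set_option linter.unusedSectionVars false

namespace Cfsg.Agent.H833.TenFive

open Matrix CoxeterSystem Cfsg.Agent.ChevalleyStructure.CoxeterGeom Cfsg.Agent.Tits.Roots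
  Cfsg.Agent.Nodes.Reps Cfsg.Agent.Nodes.BNOf Cfsg.Agent.Nodes.StabComb Cfsg.Agent.Nodes.Bruhat
  Cfsg.Agent.Nodes.OppDec Cfsg.Agent.Nodes.LeviDec Cfsg.Agent.Nodes.RGDLib
  Cfsg.Agent.Nodes.RootsA Cfsg.Agent.Nodes.RGDTypeA
open Cfsg.Agent.LieRecognition.BNCox (cA cA_apply)
open Cfsg.Agent.TitsThree.KSideA (tv tv_of_ne tv_add tv_zero tv_neg tv_comm tv_commute)
open Cfsg.Agent.H419.EP Cfsg.Agent.H887.DS
open Cfsg.Agent.H911 (lin lin_apply)
open Cfsg Cfsg.Geo

universe u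

variable {F : Type u} [Field F] [Finite F] {ι : Type} [Fintype ι] [DecidableEq ι]

/-- the standard RGD of `SL(5, F)` has abelian simple root groups -/
theorem X_ab (i : Fin 4) : ∀ a ∈ X F (sr i), ∀ b ∈ X F (sr i), a * b = b * a := by
  rw [X_sr]
  rintro _ ⟨s, rfl⟩ _ ⟨t, rfl⟩
  rw [← tv_add, ← tv_add, add_comm s t]

/-- the stabiliser of `e₀` -/
theorem UU_ee {u : _root_.Matrix.SpecialLinearGroup (Fin 5) F} (hu : u ∈ UU F) : u.1 *ᵥ (ee 0 : Fin 5 → F) = ee 0 := by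
  let K : Subgroup (_root_.Matrix.SpecialLinearGroup (Fin 5) F) :=
    { carrier := {g | g.1 *ᵥ (ee 0 : Fin 5 → F) = ee 0}
      one_mem' := one_mulVec _
      mul_mem' := by
        intro a b (ha : a.1 *ᵥ (ee 0 : Fin 5 → F) = ee 0) (hb : b.1 *ᵥ (ee 0 : Fin 5 → F) = ee 0)
        show (a.1 * b.1) *ᵥ (ee 0 : Fin 5 → F) = ee 0
        rw [← mulVec_mulVec, hb, ha]
      inv_mem' := by
        intro a (ha : a.1 *ᵥ (ee 0 : Fin 5 → F) = ee 0)
        show (a⁻¹).1 *ᵥ (ee 0 : Fin 5 → F) = ee 0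
        conv_lhs => rw [← ha]
        rw [mulVec_mulVec]
        have h3 : (a⁻¹).1 * a.1 = 1 := congrArg Subtype.val (inv_mul_cancel a)
        rw [h3, one_mulVec] }
  have h1 : UU F ≤ K := by
    refine UU_le fun a b hab s => ?_
    show (tv a b s).1 *ᵥ (ee 0 : Fin 5 → F) = ee 0
    refine Wedge.tv_ee hab.ne s ?_
    rintro rfl
    exact absurd hab (Fin.not_lt_zero a)
  exact h1 hu

/-- **`PSL(5, F)` in `PSL(10, F)`** -/
theorem l5_own {Q : Type*} [Group Q] {A : Subgroup Q} {Γ : Subgroup (MulAut Q)} (h : H284.EPT A Γ)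
    (m : Model Q (Geo.specialLinear ι F)) {P : Subgroup (GL ι F)} (hP : Geo.IsResidualCore (m.hat A) P)
    (Φ : (P ⧸ (Geo.scalars ι F).subgroupOf P) ≃* ProjectiveSpecialLinearGroup (Fin 5) F)
    (hn : Fintype.card ι = 10) : False := by
  classical
  have hQ : Finite Q := Finite.of_surjective _ m.surj
  obtain ⟨p, hFp⟩ := CharP.exists F
  have hp : Fact p.Prime := ⟨(CharP.char_is_prime_or_zero F p).resolve_right (CharP.char_ne_zero_of_finite F p)⟩
  obtain ⟨φ, hφ, hsc, v, ψ, hψ⟩ := coef5 p (H915.LD.core_of_residual hP) Φ hn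
  obtain ⟨M⟩ := exists_wedge (φ := φ) (v := v) (ψ := ψ) (by
    intro S hS
    exact fRep_irr hφ hP.absIrred S fun g w hw => hS g w hw) hψ
  have hW : Finite (cA 4).Group := finite_W (cA 4).toCoxeterSystem (isCartan 4)
  have R := Nodes.RGDTypeA.rgd (cA 4).toCoxeterSystem (isCartan 4) (F := F) (p := p)
  have hG1 := Nodes.RGDTypeA.G1_eq_top (F := F) (cA 4).toCoxeterSystem (isCartan 4)
  have hφH : φ.range ≤ m.hat A := by rw [hφ]; exact hP.le
  have hDD : DD M (m.hat A) = ⊥ := M.DD_eq_bot p hφH fun t ht htU =>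
    cent_U m hP φ hφ hsc R hG1 X_ab ht htU
  have hDD' : ∀ (f : Module.Dual F (ι → F)) (hf : f M.v₀ = 0), tg M.v₀ f hf ∈ m.hat A → f = 0 := by
    intro f hf ht
    have h1 : tg M.v₀ f hf ∈ DD M (m.hat A) := ⟨ht, f, hf, rfl⟩
    rw [hDD, Subgroup.mem_bot] at h1
    ext w
    have h2 := congrArg (fun g : GL ι F => (g : Matrix ι ι F) *ᵥ (Pi.single w 1 : ι → F)) h1
    simp only [tg_val, tm_mulVec, Units.val_one, one_mulVec] at h2
    have h3 : f (Pi.single w 1) • M.v₀ = 0 := add_eq_left.1 h2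
    exact (smul_eq_zero.1 h3).resolve_right M.v₀_ne
  -- the point
  set! t : GL ι F := tg M.v₀ M.f₀ M.f₀_v₀ with ht
  have htS : t ∈ Geo.specialLinear ι F := tg_mem _ _ _
  set! x : Q := m.π ⟨t, htS⟩ with hx
  have hxA : x ∉ A := by
    intro h1
    exact M.f₀_ne (hDD' _ M.f₀_v₀ ((m.mem_hat_iff ⟨t, htS⟩).2 h1))
  -- the socle
  set! N := (psi m hP φ hφ).range with hN
  have hs : H839.EP.Soc A N := psi_soc m hP φ hφ
  have hNs : IsSimpleGroup N := psi_simple m hP φ hφ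
  have hNΓ := hs.inv h hNs
  have R' := psi_rgd m hP φ hφ hsc R
  have hX := psi_G1 m hP φ hφ (cs := (cA 4).toCoxeterSystem) (hC := isCartan 4) hG1
  have hc := psi_nonab m hP φ hφ
  have hcA : ∀ i j : Fin 4, cA 4 i j ≤ 3 := by
    intro i j
    rw [cA_apply]
    show (if (i : ℕ) = j then 1 else if (i : ℕ) + 1 = j ∨ (j : ℕ) + 1 = i then 3 else 2) ≤ 3
    split_ifs <;> norm_num
  have hBT : KFacts.RgdCharP.BT (cA 4).toCoxeterSystem (isCartan 4) p ((T (Fin (4 + 1)) F).map (psi m hP φ hφ).rangeRestrict)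
      (fun x => (X F x).map (psi m hP φ hφ).rangeRestrict) := fun K hK h1 =>
    KFacts.RgdFilt.borel_tits_of_filt (R := R')
      (KFacts.RgdFilt.intComm_of_sl R' (KFacts.RgdFiltWitt.sl_of_ne
        (fun i j h => by have := hcA i j; omega) (fun i j h => by have := hcA i j; omega))).filt hX hK h1
  have hGG := KFacts.RgdFilt.GG_eq_top (T := (T (Fin (4 + 1)) F).map (psi m hP φ hφ).rangeRestrict) hX
  have hconn : KFacts.RgdCharP.Conn (cA 4) :=
    KFacts.RgdLieCharP.conn_of_simple R' hX (KFacts.RgdLieCharP.center_eq_bot hc)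
  set! J : Set (Fin 4) := {i | i ≠ 0} with hJ
  have hJ1 : J ≠ Set.univ := by
    intro e
    have : (0 : Fin 4) ∈ J := by rw [e]; trivial
    exact this rfl
  -- conjugation by `x`
  have hcj : ∀ g : _root_.Matrix.SpecialLinearGroup (Fin 5) F, psi m hP φ hφ g ∈ H284.cj x A ↔ t⁻¹ * φ g * t ∈ m.hat A := by
    intro g
    rw [H284.mem_cj]
    have e : x⁻¹ * psi m hP φ hφ g * x = m.π (⟨t, htS⟩⁻¹ * ⟨φ g, mem_S m hP φ hφ g⟩ * ⟨t, htS⟩) := by
      rw [map_mul, map_mul, map_inv]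
      rfl
    rw [e, ← m.mem_hat_iff]
    rfl
  have hV : Nodes.Reps.cj (1 : N) (VJ (cA 4).toCoxeterSystem (isCartan 4)
      (fun x => (X F x).map (psi m hP φ hφ).rangeRestrict) J) ≤ (H284.cj x A).subgroupOf N := by
    rw [cj_one]
    unfold VJ
    rw [Sup_map, Subgroup.map_le_iff_le_comap]
    refine RGD.Sup_le ?_
    rintro y ⟨hy, hy0, k, hk, hk0⟩
    obtain ⟨a, b, hab, rfl⟩ := (isRoot_iff _ _).1 hy
    rw [X_rtA hab]
    rintro _ ⟨s, rfl⟩
    have hk' : k = 0 := by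
      by_contra hne
      exact hk hne
    subst hk'
    have ha : a = 0 := by
      rw [rtA_apply] at hk0
      by_contra hne
      have h1 : ¬ a.val ≤ (0 : Fin 4).val := by
        intro h2
        exact hne (Fin.ext (by simpa using h2))
      rw [if_neg h1] at hk0
      split_ifs at hk0 <;> omega
    subst ha
    show psi m hP φ hφ (tv 0 b s) ∈ H284.cj x A
    rw [hcj]
    have h0b : (0 : Fin 5) < b := Fin.pos_of_ne_zero hab.symm
    obtain ⟨h2, e⟩ := tg_conj M.f₀_v₀ (s := φ (tv 0 b s)) (M.UU_le_St (tv_mem_UU h0b s)) (f' := M.f₀)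
      (M.f₀_tv hab s)
    have e2 : t⁻¹ * φ (tv 0 b s) * t = φ (tv 0 b s) := by
      have e3 : φ (tv 0 b s) * t * (φ (tv 0 b s))⁻¹ = t := e
      rw [mul_inv_eq_iff_eq_mul] at e3
      rw [mul_assoc, e3, inv_mul_cancel_left]
    rw [e2]
    exact hφH ⟨_, rfl⟩
  obtain ⟨g', h1, h2⟩ := exists_sylow_cj h hNs hs.le hNΓ hc R' hBT hGG hX hconn hJ1 hxA hV
  obtain ⟨g, hg⟩ := MonoidHom.rangeRestrict_surjective (psi m hP φ hφ) g'
  refine M.contra (g := g) ?_ ?_
  · intro j hj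
    have h3 : (psi m hP φ hφ).rangeRestrict (tv 0 j 1) ∈ Nodes.Reps.cj g' (RGD.Sup
        (fun x => (X F x).map (psi m hP φ hφ).rangeRestrict) (RGD.Pos (cA 4).toCoxeterSystem (isCartan 4))) := by
      apply h1
      rw [cj_one]
      unfold VJ
      refine RGD.le_Sup (z := rtA 0 j) ?_ ?_
      · refine ⟨isRoot_rtA (cA 4).toCoxeterSystem (isCartan 4) hj.symm, rtA_nonneg_iff.2 (Fin.zero_le _), 0,
          fun h4 => h4 rfl, ?_⟩
        have h5 : ¬ j.val ≤ (0 : Fin 4).val := by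
          intro h2
          exact hj (Fin.ext (by simpa using h2))
        rw [rtA_apply, if_pos (by simp), if_neg h5]
        norm_num
      · refine ⟨tv 0 j 1, ?_, rfl⟩
        rw [SetLike.mem_coe, X_rtA hj.symm]
        exact ⟨1, rfl⟩
    rw [Sup_map] at h3
    obtain ⟨_, ⟨u, hu, rfl⟩, e⟩ := h3
    have e2 : (psi m hP φ hφ).rangeRestrict (g * u * g⁻¹ * (tv 0 j 1)⁻¹) = 1 := by
      rw [map_mul, map_mul, map_mul, map_inv, map_inv, hg]
      have e3 : g' * (psi m hP φ hφ).rangeRestrict u * g'⁻¹ = (psi m hP φ hφ).rangeRestrict (tv 0 j 1) := e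
      rw [e3, mul_inv_cancel]
    have h4 := hsc _ (psi_eq_one (congrArg Subtype.val e2))
    obtain ⟨r, -, hr⟩ := Matrix.SpecialLinearGroup.mem_center_iff.1 h4
    have e3 : (g * u * g⁻¹).1 = Matrix.scalar (Fin 5) r * (tv 0 j 1).1 := by
      rw [hr]
      show _ = ((g * u * g⁻¹ * (tv 0 j 1)⁻¹) * tv 0 j 1 : _root_.Matrix.SpecialLinearGroup (Fin 5) F).1
      rw [inv_mul_cancel_right]
    have hz : (g * u * g⁻¹).1 *ᵥ (g.1 *ᵥ ee 0) = g.1 *ᵥ ee 0 := by
      have e4 : (g * u * g⁻¹).1 * g.1 = g.1 * u.1 := by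
        show ((g * u * g⁻¹) * g : _root_.Matrix.SpecialLinearGroup (Fin 5) F).1 = (g * u : _root_.Matrix.SpecialLinearGroup (Fin 5) F).1
        rw [inv_mul_cancel_right]
      rw [mulVec_mulVec, e4, ← mulVec_mulVec, UU_ee hu]
    rw [e3, ← mulVec_mulVec, tv_mulVec hj.symm] at hz
    by_contra hne
    have k1 := congrFun hz j
    have k0 := congrFun hz 0
    simp only [ee, hj, mulVec_diagonal, _root_.Matrix.scalar_apply, _root_.Fin.isValue, _root_.Matrix.mulVec_single, _root_.MulOpposite.op_one, _root_.one_smul, _root_.Pi.smul_apply, _root_.Matrix.col_apply, _root_.one_mul, _root_.Pi.add_apply, _root_.ne_eq, _root_.not_false_eq_true, _root_.Pi.single_eq_of_ne, _root_.smul_eq_mul, _root_.MulZeroClass.mul_zero, _root_.add_zero, _root_.Pi.single_eq_same, _root_.mul_one] at k1 k0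
    simp [ee] at hne
    have hr1 : r = 1 := mul_right_cancel₀ hne (by rw [k1, one_mul])
    rw [hr1, one_mul] at k0
    exact hne (add_eq_left.1 k0)
  · intro y hy hv w
    have h3 : psi m hP φ hφ (g * y * g⁻¹) ∈ H284.cj x A := by
      have h4 : g' * (psi m hP φ hφ).rangeRestrict y * g'⁻¹ ∈ (H284.cj x A).subgroupOf N := by
        apply h2
        refine ⟨(psi m hP φ hφ).rangeRestrict y, ?_, rfl⟩
        rw [SetLike.mem_coe, Sup_map]
        exact ⟨y, hy, rfl⟩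
      rw [← hg, ← map_inv, ← map_mul, ← map_mul] at h4
      exact h4
    rw [hcj] at h3
    set! s := φ (g * y * g⁻¹) with hsd; rewrite [← hsd] at h3 hv ⊢
    have hsH : s ∈ m.hat A := hφH ⟨_, rfl⟩
    obtain ⟨h4, e⟩ := tg_conj M.f₀_v₀ (s := s) hv (f' := da s M.f₀) (da_apply _ _)
    have h5 := (m.hat A).mul_mem h3 ((m.hat A).inv_mem hsH)
    have e2 : t⁻¹ * s * t * s⁻¹ = tg M.v₀ (-M.f₀ + da s M.f₀) (by
        rw [LinearMap.add_apply, LinearMap.neg_apply, M.f₀_v₀, h4, neg_zero, add_zero]) := by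
      have e3 : t⁻¹ * s * t * s⁻¹ = t⁻¹ * (s * t * s⁻¹) := by group
      rw [e3, e, ht, tg_inv, tg_mul]
    rw [e2] at h5
    have h6 := hDD' _ _ h5
    rw [neg_add_eq_zero] at h6
    conv_lhs => rw [h6]
    exact da_apply _ _ _

end Cfsg.Agent.H833.TenFive
end

-- part: H833/TenFive/Own5
section
/-!
# The own characteristic case `PSL(5, F)` of the row `PSL(10, F)` (helper833, task 6155)

`own5_sl` : exactly the hypothesis `own5` of `H837.EP.L10Row.row`.
-/

set_option autoImplicit false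

namespace Cfsg.Agent.H833.TenFive

open Cfsg Cfsg.Geo Cfsg.Agent.H284 Cfsg.Agent.H419.EP
open scoped MatrixGroups

/-- the socle is unique -/
theorem soc_iso {Q : Type*} [Group Q] {A : Subgroup Q} {L L' : Type*} [Group L] [Group L'] (hs : IsSimpleGroup L)
    (hs' : IsSimpleGroup L') (h : HasSoc A L) (h' : HasSoc A L') : Nonempty (L ≃* L') := by
  obtain ⟨N, h1, h2, h3, ⟨e⟩⟩ := h
  obtain ⟨N', h1', h2', h3', ⟨e'⟩⟩ := h'
  have hN : IsSimpleGroup N := e.isSimpleGroup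
  have hN' : IsSimpleGroup N' := e'.isSimpleGroup
  have hn : ((N' ⊓ N).subgroupOf N).Normal := ⟨by
    rintro ⟨n, hn'⟩ hn ⟨a, ha⟩
    exact ⟨h2' a (h1 ha) n hn.1, N.mul_mem (N.mul_mem ha hn') (N.inv_mem ha)⟩⟩
  have hnn : ((N' ⊓ N).subgroupOf N').Normal := ⟨by
    rintro ⟨n, hn'⟩ hn ⟨a, ha⟩
    exact ⟨N'.mul_mem (N'.mul_mem ha hn') (N'.inv_mem ha), h2 a (h1' ha) n hn.2⟩⟩
  have hne : N' ⊓ N ≠ ⊥ := by
    intro hbot
    have hcomm : ∀ n ∈ N, ∀ n' ∈ N', n' * n = n * n' := by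
      intro n hn n' hn'
      have h5 : n' * n * n'⁻¹ * n⁻¹ ∈ N' ⊓ N := by
        refine ⟨?_, ?_⟩
        · have : n' * n * n'⁻¹ * n⁻¹ = n' * (n * n'⁻¹ * n⁻¹) := by group
          rw [this]
          exact N'.mul_mem hn' (h2' n (h1 hn) _ (N'.inv_mem hn'))
        · exact N.mul_mem (h2 n' (h1' hn') _ hn) (N.inv_mem hn)
      rw [hbot, Subgroup.mem_bot] at h5
      rw [mul_inv_eq_one, mul_inv_eq_iff_eq_mul] at h5
      exact h5
    have hbotN : ∀ n ∈ N, n = 1 := fun n hn => h3' n (h1 hn) fun n' hn' => (hcomm n hn n' hn').symm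
    have := hN.toNontrivial
    obtain ⟨a, b, hab⟩ := exists_pair_ne N
    exact hab (Subtype.ext ((hbotN a a.2).trans (hbotN b b.2).symm))
  have hle : N ≤ N' := by
    rcases hn.eq_bot_or_eq_top with h4 | h4
    · exfalso
      apply hne
      rw [Subgroup.eq_bot_iff_forall]
      intro x hx
      have h5 : (⟨x, hx.2⟩ : N) ∈ (N' ⊓ N).subgroupOf N := hx
      rw [h4, Subgroup.mem_bot] at h5
      exact congrArg Subtype.val h5
    · intro x hx
      have h5 : (⟨x, hx⟩ : N) ∈ (N' ⊓ N).subgroupOf N := by rw [h4]; trivial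
      exact (Subgroup.mem_inf.1 h5).1
  have hle' : N' ≤ N := by
    rcases hnn.eq_bot_or_eq_top with h4 | h4
    · exfalso
      apply hne
      rw [Subgroup.eq_bot_iff_forall]
      intro x hx
      have h5 : (⟨x, hx.1⟩ : N') ∈ (N' ⊓ N).subgroupOf N' := hx
      rw [h4, Subgroup.mem_bot] at h5
      exact congrArg Subtype.val h5
    · intro x hx
      have h5 : (⟨x, hx⟩ : N') ∈ (N' ⊓ N).subgroupOf N' := by rw [h4]; trivial
      exact (Subgroup.mem_inf.1 h5).2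
  obtain rfl := le_antisymm hle hle'
  exact ⟨e.symm.trans e'⟩

/-- **`own5`** -/
theorem own5_sl {Q : Type*} [Group Q] {A : Subgroup Q} {Γ : Subgroup (MulAut Q)} (h : EPT A Γ) {F : Type} [Field F]
    [Finite F] (m : Model Q (Cfsg.Geo.specialLinear (Fin 10) F)) (hres : Cfsg.Geo.InLinearResidualClass (m.hat A))
    (hs : HasSoc A (Matrix.ProjectiveSpecialLinearGroup (Fin 5) F)) : False := by
  obtain ⟨P, hP, -⟩ := hres
  have hL : IsSimpleGroup (Matrix.ProjectiveSpecialLinearGroup (Fin 5) F) := S0249.result 5 (by norm_num)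
  obtain ⟨Φ⟩ := soc_iso hP.simple hL (hasSoc_of_core m hP) hs
  exact l5_own h m hP Φ rfl

end Cfsg.Agent.H833.TenFive
end

private theorem dce_6e1e67f6f965 : _root_.True := by
  try have : _root_.True := by simp only [_root_.Cfsg.Agent.H833.TenFive.tg.congr_simp]
  try have : _root_.True := by simp only [_root_.Cfsg.Agent.H16.EP.MTw.CM.eq_1]
  try have : _root_.True := by simp only [_root_.Cfsg.Agent.H833.TenFive.Wedge.v₀.eq_1]
  try have : _root_.True := by simp only [_root_.Cfsg.Agent.H833.TenFive.bd.eq_1]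
  try have : _root_.True := by simp only [_root_.Cfsg.Agent.H833.TenFive.tm.congr_simp]
  try have : _root_.True := by simp only [_root_.Cfsg.Agent.H833.TenFive.bv.eq_1]
  exact _root_.True.intro
end

-- part: H968/EPU/LocN_mg
section
prune_inst 0x141075040d40020000008090f1001e42b2000422000808000080020006c08c4204820060b00001101a000805003d0060024c0020400000000a000400011c058110800000a0480000800018000000000000000000000000000000000000000004200000000
set_option linter.all false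
open scoped Cfsg.Agent.FastGrp

-- part: H968/EPU/LocN
section
/-!
# `U_4(3)` in `U_6(2)`: the facts on the socle (helper968, S3499)
-/

set_option autoImplicit false

namespace Cfsg.Agent.H968.EPU

open Subgroup Cfsg.Agent.H284

/-- The socle `N ≅ U_4(3)` of the stabiliser `A`, a Sylow 3-subgroup `P` of `N`, and `V ≤ P` of index 3 (the unipotent
radical of the stabiliser of an isotropic point). -/
structure LocN {Q : Type} [Group Q] (A N P V : Subgroup Q) : Prop where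
  NA : N ≤ A
  nrm : ∀ a ∈ A, ∀ n ∈ N, a * n * a⁻¹ ∈ N
  cN : Nat.card N = 3265920
  VP : V ≤ P
  PN : P ≤ N
  cV : Nat.card V = 243
  cP : Nat.card P = 729
  /-- `[V, V] ≤ Z(P)` -/
  comm : ∀ v ∈ V, ∀ w ∈ V, ∀ p ∈ P, p * (v * w * v⁻¹ * w⁻¹) = (v * w * v⁻¹ * w⁻¹) * p
  /-- `N_N(V)` is a parabolic subgroup -/
  small : ∀ W : Subgroup Q, W ≤ N → (∀ w ∈ W, ∀ v ∈ V, w * v * w⁻¹ ∈ V) → Nat.card W * 243 ≤ 3265920
  /-- the stabilisers of two points that contain `V` contain a Sylow subgroup over `V` -/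
  par : ∀ x, x ∉ A → V ≤ cj x A → ∃ P' : Subgroup Q, P' ≤ N ∧ P' ≤ cj x A ∧ V ≤ P' ∧ Nat.card P' = 729

end Cfsg.Agent.H968.EPU
end

-- part: H587/UF/Mod
section
/-!
# `PSU_5(q)` in dimension 10: the vectors and the form (helper587)

`Dt`: the data of the module `Λ²` of `SU_5(q)` (twisted) with its hermitian form. `exists_dt`.
-/

set_option autoImplicit false
set_option linter.unusedSectionVars false
set_option linter.style.haveILetI false

namespace Cfsg.Agent.H587.UF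

open CoxeterSystem Cfsg.Agent.ChevalleyStructure.CoxeterGeom Cfsg.Agent.Tits.Roots Cfsg.Agent.Nodes.TypeC
open Cfsg.Agent.Nodes.Comb Cfsg.Agent.Nodes.Reps Cfsg.Agent.Nodes.WittRoot Cfsg.Agent.Nodes.BNOf
open Cfsg.Agent.Nodes.WittRGD Cfsg.Agent.Nodes.RGDLib Cfsg.Agent.Nodes.WittAll Cfsg.Agent.Nodes
open Cfsg.Agent.TitsThree Cfsg.Agent.TitsThree.Siegel Cfsg.Agent.TitsThree.WittFrame
  Cfsg.Agent.TitsThree.WittWeyl Cfsg.Agent.TitsThree.FrameCN Cfsg.Agent.H905.Md
  Cfsg.Agent.Nodes.StabComb Cfsg.Agent.Tits.Core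
open Cfsg Cfsg.Geo Cfsg.Agent.H876.D3 Cfsg.Agent.H911 Cfsg.Agent.H915.LD Cfsg.Agent.H887.D3
open LieClassical.HermBasic LieClassical.HermSiegel Cfsg.Agent.TitsThree.KSideU Cfsg.Agent.TitsThree.KSideUDesc
  Cfsg.Agent.Nodes.WittU Cfsg.Agent.TitsThree.WBridge Cfsg.Agent.TitsThree.SiegelGen Cfsg.Agent.H61.SUCross
  Cfsg.Agent.H61.SUNode
open Cfsg.Agent.KFacts.MulOdd.Inst (Lv)
open Cfsg.Agent.Omega.CR Cfsg.Agent.Omega.FOne.Lift.Sd Cfsg.Agent.Nodes.Bruhat Cfsg.Agent.Nodes.OppDec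
open Cfsg.Agent.KFacts.RgdOpp
open Cfsg.Agent.H151.D3 (exists_emb exists_kind')
open scoped MatrixGroups Matrix

section uniq

variable {I W Y : Type*} [Fintype I] [DecidableEq I] [Group W] [Group Y] {M : CoxeterMatrix I}
  {cs : CoxeterSystem M W} {A : I → I → ℤ} {h : IsCartan M A} {p : ℕ} {T : Subgroup Y} {n : I → Y}
  {X : (I → ℤ) → Subgroup Y} {k V : Type*} [Field k] [AddCommGroup V] [Module k V]

/-- the functionals fixed by `U⁻` -/
theorem fx_dual_unique (R : RGD cs h p T n X) [Finite Y] [Finite W] [Fact p.Prime] [CharP k p] [IsAlgClosed k]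
    [FiniteDimensional k V] [Nontrivial V] {ρ : Y →* Module.End k V}
    (hirr : ∀ L : Submodule k V, Ivt ρ (GG cs h T X) L → L = ⊥ ∨ L = ⊤)
    (hT : ∀ s ∈ T, ∀ t ∈ T, s * t = t * s) {φ ψ : Module.Dual k V} (hφ : φ ∈ fx ((dualRep ρ :)) (UN cs h X)) (hφ0 : φ ≠ 0)
    (hψ : ψ ∈ fx ((dualRep ρ :)) (UN cs h X)) : ∃ c : k, ψ = c • φ := by
  have h1 : Module.finrank k (fx ((dualRep ρ :)) (UN cs h X)) = 1 := by
    rw [← D_opp]
    exact finrank_D (opp R) (ρ := (dualRep ρ :)) (_root_.Cfsg.Agent.H905.Md.hirr_opp R hirr) hT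
  obtain ⟨c, hc⟩ := (finrank_eq_one_iff_of_nonzero' (⟨φ, hφ⟩ : fx ((dualRep ρ :)) (UN cs h X))
    (fun e => hφ0 ((congrArg Subtype.val e :)))).1 h1 ⟨ψ, hψ⟩
  exact ⟨c, (congrArg Subtype.val hc).symm⟩

end uniq

section

variable {F : Type} [Field F] [Fintype F] {q : ℕ}

/-- the second minor -/
def G2 (q : ℕ) (x0 x1 y0 y1 : Fin 5 → F) : F :=
  hermForm 5 F q x0 y0 * hermForm 5 F q x1 y1 - hermForm 5 F q x0 y1 * hermForm 5 F q x1 y0

theorem G2_swap (hK : Fintype.card F = q ^ 2) (x0 x1 y0 y1 : Fin 5 → F) :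
    G2 q y0 y1 x0 x1 = G2 q x0 x1 y0 y1 ^ q := by
  unfold G2
  rw [sub_pow_q hK, mul_pow, mul_pow, ← herm_swap hK, ← herm_swap hK, ← herm_swap hK, ← herm_swap hK]
  ring

theorem G2_smul (a : F) (x0 x1 y0 y1 : Fin 5 → F) : G2 q (a • x0) x1 y0 y1 = a * G2 q x0 x1 y0 y1 := by
  unfold G2
  rw [herm_smul_left, herm_smul_left]
  ring

theorem G2_smul_right (a : F) (x0 x1 y0 y1 : Fin 5 → F) : G2 q x0 x1 (a • y0) y1 = a ^ q * G2 q x0 x1 y0 y1 := by
  unfold G2
  rw [herm_smul_right, herm_smul_right]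
  ring

theorem G2_act (g : SU 5 F q) (x0 x1 y0 y1 : Fin 5 → F) :
    G2 q (act g x0) (act g x1) y0 y1 = G2 q x0 x1 (act g⁻¹ y0) (act g⁻¹ y1) := by
  unfold G2
  rw [herm_act_left, herm_act_left, herm_act_left, herm_act_left]

/-- the data of the module of dimension `10` -/
structure Dt (q : ℕ) (p : ℕ) (e0 e1 f0 f1 : Fin 5 → F) (φ : SU 5 F q →* GL (Fin 10) F) (w : Fin 10 → F)
    {k : Type} [Field k] (al J : F →+* k) (κ : k) (U : Subgroup (SU 5 F q)) : Prop where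
  ee : ∀ x ∈ ({e0, e1} : Set (Fin 5 → F)), ∀ y ∈ ({e0, e1} : Set (Fin 5 → F)), hermForm 5 F q x y = 0
  ff : ∀ x ∈ ({f0, f1} : Set (Fin 5 → F)), ∀ y ∈ ({f0, f1} : Set (Fin 5 → F)), hermForm 5 F q x y = 0
  ef00 : hermForm 5 F q e0 f0 = 1
  ef11 : hermForm 5 F q e1 f1 = 1
  ef01 : hermForm 5 F q e0 f1 = 0
  ef10 : hermForm 5 F q e1 f0 = 0
  w0 : w ≠ 0
  κ0 : κ ≠ 0
  ker : ∀ g g' : SU 5 F q, al (hermForm 10 F q ((φ g : Matrix _ _ F) *ᵥ w) ((φ g' : Matrix _ _ F) *ᵥ w)) =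
    κ * J (G2 q (act g e0) (act g e1) (act g' e0) (act g' e1))
  fixU : ∀ u ∈ U, (φ u : Matrix _ _ F) *ᵥ w = w
  maxU : H833.TenFive.MaxP p U
  tor : ∀ x : F, x ≠ 0 → ∃ t : SU 5 F q, (∀ u ∈ U, t * u * t⁻¹ ∈ U) ∧ ∃ a : F, al a = J x ∧
    (φ t : Matrix _ _ F) *ᵥ w = a • w
  frame : ∀ x0 x1 : Fin 5 → F, hermForm 5 F q x0 x0 = 0 → hermForm 5 F q x0 x1 = 0 → hermForm 5 F q x1 x1 = 0 →
    (∀ a b : F, a • x0 + b • x1 = 0 → a = 0 ∧ b = 0) → ∃ (g : SU 5 F q) (c : F), c ≠ 0 ∧ act g e0 = c • x0 ∧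
      act g e1 = x1

end

section main

variable {F : Type} [Field F] [Fintype F] {q : ℕ}

/-- the representation over the algebraic closure on the vectors over `F` -/
theorem lin_al {Y : Type} [Group Y] (φ : Y →* GL (Fin 10) F) (y : Y) (x : Fin 10 → F) :
    lin (acRep φ) y (fun i => algebraMap F (AlgebraicClosure F) (x i)) =
      fun i => algebraMap F (AlgebraicClosure F) (((φ y : Matrix _ _ F) *ᵥ x) i) := by
  rw [lin_apply, acRep_apply]
  funext i
  exact (RingHom.map_mulVec (algebraMap F (AlgebraicClosure F)) (φ y : Matrix (Fin 10) (Fin 10) F) x i).symm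

/-- the functional of a vector -/
noncomputable def fl (q : ℕ) (z : Fin 10 → F) : Module.Dual (AlgebraicClosure F) (Fin 10 → AlgebraicClosure F) where
  toFun x := ∑ i, x i * algebraMap F (AlgebraicClosure F) (z i ^ q)
  map_add' x y := by simp only [Pi.add_apply, add_mul, Finset.sum_add_distrib]
  map_smul' c x := by simp only [Pi.smul_apply, smul_eq_mul, mul_assoc, Finset.mul_sum, RingHom.id_apply]

theorem fl_al (z x : Fin 10 → F) : fl q z (fun i => algebraMap F (AlgebraicClosure F) (x i)) =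
    algebraMap F (AlgebraicClosure F) (hermForm 10 F q x z) := by
  change ∑ i, algebraMap F (AlgebraicClosure F) (x i) * algebraMap F (AlgebraicClosure F) (z i ^ q) = _
  unfold hermForm
  rw [map_sum]
  exact Finset.sum_congr rfl fun i _ => (map_mul _ _ _).symm

theorem gu_herm {n : ℕ} {g : GL (Fin n) F} (hg : g ∈ GU n F q) (x y : Fin n → F) :
    hermForm n F q ((g : Matrix _ _ F) *ᵥ x) ((g : Matrix _ _ F) *ᵥ y) = hermForm n F q x y := hg x y

theorem fl_fix {Y : Type} [Group Y] {φ : Y →* GL (Fin 10) F} (hU : φ.range ≤ GU 10 F q) {z : Fin 10 → F} {y : Y}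
    (hz : (φ y⁻¹ : Matrix _ _ F) *ᵥ z = z) (x : Fin 10 → AlgebraicClosure F) :
    fl q z (lin (acRep φ) y x) = fl q z x := by
  have h1 : (fl q z).comp (lin (acRep φ) y) = fl q z := by
    refine (Pi.basisFun (AlgebraicClosure F) (Fin 10)).ext fun l => ?_
    rw [Pi.basisFun_apply]
    have e1 : (Pi.single l 1 : Fin 10 → AlgebraicClosure F) =
        fun i => algebraMap F (AlgebraicClosure F) ((Pi.single l 1 : Fin 10 → F) i) := by
      funext i
      by_cases h : i = l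
      · subst h; simp
      · simp [h]
    rw [LinearMap.comp_apply, e1, lin_al, fl_al, fl_al]
    congr 1
    have h2 : (φ y : GL (Fin 10) F) ∈ GU 10 F q := hU ⟨y, rfl⟩
    have h3 := gu_herm h2 (Pi.single l 1 : Fin 10 → F) z
    have h4 : (φ y : Matrix _ _ F) *ᵥ z = z := by
      conv_lhs => rw [← hz]
      rw [Matrix.mulVec_mulVec, ← Units.val_mul, ← map_mul, mul_inv_cancel, map_one, Units.val_one, Matrix.one_mulVec]
    rw [h4] at h3
    exact h3
  exact DFunLike.congr_fun h1 x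

/-- **The module.** -/
theorem exists_dt {P : Subgroup (GL (Fin 10) F)} (hK : Fintype.card F = q ^ 2) (hC : Core P)
    (Φ : Soc P ≃* PSU 5 F q) (hU : P ≤ GU 10 F q) (p : ℕ) [Fact p.Prime] [CharP F p] :
    ∃ (e0 e1 f0 f1 : Fin 5 → F) (φ : SU 5 F q →* GL (Fin 10) F) (w : Fin 10 → F)
      (k : Type) (_ : Field k) (al J : F →+* k) (κ : k) (U : Subgroup (SU 5 F q)),
      φ.range = P ∧ Dt q p e0 e1 f0 f1 φ w al J κ U := by
  classical
  have hN3 : 3 ≤ 5 := by norm_num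
  have hm0 : 0 < 2 := by norm_num
  obtain ⟨m, W, hm, hW, hev, hodd⟩ := exists_kind' (N := 5) hK (by norm_num)
  have hV0 : W.V0 ≠ ⊥ := by
    intro h
    have := hev h
    omega
  obtain rfl : m = 2 := by
    have := hodd hV0
    omega
  obtain ⟨φ, hφ, -, -⟩ := psu_cover p hC.perfect hN3 hK (by omega) Φ
  haveI hchar : CharP (AlgebraicClosure F) p := charP_of_injective_algebraMap (algebraMap F _).injective p
  haveI hexp : ExpChar (AlgebraicClosure F) p := ExpChar.prime Fact.out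
  obtain ⟨j⟩ := exists_emb p F (AlgebraicClosure F)
  obtain ⟨p0, hp0, -⟩ := exists_adm hK W
  have hA : AmbT (toFrame W) p (modelSU hK hN3 W).I := AmbT.of_amb (amb_U hK W) p
  haveI : Finite (CoxeterMatrix.B 2).Group := finite_W (CoxeterMatrix.B 2).toCoxeterSystem
  have R := rgdC_model (modelSU hK hN3 W) hA hp0 (CoxeterMatrix.B 2).toCoxeterSystem
  have hG : GG (CoxeterMatrix.B 2).toCoxeterSystem (isCartan 2) (WittModel.T (modelSU hK hN3 W))
      (WittModel.X (modelSU hK hN3 W)) = ⊤ := gg_top (WittModel.G1_eq_top _ hm0 _)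
  have hT := modelT_comm (M := modelSU hK hN3 W) hA (kd_su hW)
  have hirr := ac_irr R hG hT hφ hC.absIrred
  have hirr' : ∀ L : Submodule (AlgebraicClosure F) (Fin 10 → AlgebraicClosure F), Ivt (lin (acRep φ)) ⊤ L →
      L = ⊥ ∨ L = ⊤ := by
    intro L hL
    exact hirr L (by rw [hG]; exact hL)
  obtain ⟨J, θ, hB, hJ, v, ψ, hv0, hv, hvT, hψ⟩ := exists_coef hN3 p hW hm0 j (lin (acRep φ)) hirr'
  have hfr : Module.finrank (AlgebraicClosure F) (Fin 10 → AlgebraicClosure F) = 10 := by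
    rw [Module.finrank_fintype_fun_eq_card, Fintype.card_fin]
  have hker : ∀ r, r ≤ 2 → 0 < r → (∀ i : Fin 2, r ≤ (i : ℕ) → θ i = 0) →
        ∃ (vv : (Fin 2 → Fin 5 → F) → (Fin 10 → AlgebraicClosure F))
          (ff : (Fin 2 → Fin 5 → F) → Module.Dual (AlgebraicClosure F) (Fin 10 → AlgebraicClosure F)),
          IsKer q r j θ vv ff := fun r hr hr0 hθ => isKer_of_coef hirr' hv0 hψ hr hr0 hθ
  -- the exponents
  obtain ⟨a, ha0, ha1⟩ : ∃ a, θ 0 = 0 ∧ θ 1 = p ^ a := by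
    have h1 := dims2 p (by norm_num) hm W hev hodd hB (hJ (by rw [hfr]; norm_num)) hker (fun _ h1 hθ vv ff h =>
      H991.D3.node1_five_pow p hm W hV0 h hθ h1 (hB.le _))
    rw [hfr] at h1
    rcases h1 with ⟨i, hi, -, ⟨⟨a, ha⟩, -⟩ | ⟨-, h2, -⟩⟩ | ⟨h2, -⟩ | h2
    · rw [one_mul] at ha
      fin_cases i
      · exfalso
        have hθ : ∀ i : Fin 2, 1 ≤ (i : ℕ) → θ i = 0 := fun i' h1 => hi i' (by
          rintro rfl
          simp at h1)
        obtain ⟨vv, ff, h⟩ := hker 1 (by norm_num) (by norm_num) hθ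
        have h3 := natural p (by norm_num) W h hθ ha
        rw [hfr] at h3
        omega
      · exact ⟨a, hi 0 (by decide), ha⟩
    · omega
    · omega
    · omega
  let J' : F →+* AlgebraicClosure F := (iterateFrobenius (AlgebraicClosure F) p a).comp j
  have hcf : ∀ g, cf W j θ g = J' (dl W 1 g) := by
    intro g
    rw [cf_single (i := (1 : Fin 2)) j (fun i' h => by
      have : i' = 0 := by omega
      rw [this, ha0]) g, ha1]
    rfl
  have hleft : ∀ u ∈ UN (CoxeterMatrix.B 2).toCoxeterSystem (isCartan 2) (WittModel.X (modelSU hK hN3 W)),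
      ∀ i, ∀ g, dl W i (u * g) = dl W i g := by
    intro u hu i
    let S : Subgroup (SU 5 F q) := (KD (toFrame W) false i).comap (toLin F q 5)
    have h1 : UN (CoxeterMatrix.B 2).toCoxeterSystem (isCartan 2) (WittModel.X (modelSU hK hN3 W)) ≤ S := by
      refine RGD.Sup_le fun x hx => ?_
      intro u hu
      rw [X_eq] at hu
      exact rg_le_KD (Fr := toFrame W) (s := false) hx.1 (by simpa only [sgn, _root_.Bool.false_eq_true, ↓ _root_.reduceIte, _root_.Int.reduceNeg, _root_.neg_mul, _root_.one_mul, _root_.Int.neg_nonneg, _root_.Pi.zero_apply] using hx.2 i) hu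
    intro g
    unfold dl
    rw [map_mul]
    exact Dl_mul_left rfl (iso_toLin g) (iso_toLin u) (h1 hu)
  have hD : ∀ g g' : SU 5 F q, dl W 1 (g'⁻¹ * g) =
      G2 q (act g (W.e 0)) (act g (W.e 1)) (act g' (W.f 0)) (act g' (W.f 1)) := by
    intro g g'
    rw [dl_eq]
    exact Gr_one (m := 2) le_rfl _ _
  have hD1 : ∀ g : SU 5 F q, dl W 1 g = G2 q (act g (W.e 0)) (act g (W.e 1)) (W.f 0) (W.f 1) := by
    intro g
    have := hD g 1
    rwa [inv_one, one_mul, act_one, act_one] at this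
  obtain ⟨n0, c, hc, hn0⟩ := exists_su W (r := 2) le_rfl (by norm_num) (u := W.f) (by
    have := pfr_act W 2 false 1
    simp only [act_one] at this
    exact this) true
  have hn0a : act n0 (W.e 0) = c • W.f 0 := by
    have := hn0 0 (by norm_num)
    rwa [if_pos (by simp)] at this
  have hn0b : act n0 (W.e 1) = W.f 1 := by
    have := hn0 1 (by norm_num)
    rwa [if_neg (by simp), one_smul] at this
  -- separation
  have hsep : ∀ x, (∀ g, ψ (lin (acRep φ) g x) = 0) → x = 0 := by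
    intro x hx
    let L : Submodule (AlgebraicClosure F) (Fin 10 → AlgebraicClosure F) :=
      { carrier := {w | ∀ g, ψ (lin (acRep φ) g w) = 0}
        zero_mem' := fun g => by rw [map_zero, map_zero]
        add_mem' := fun {a b} ha hb g => by rw [map_add, map_add, ha g, hb g, add_zero]
        smul_mem' := fun c a ha g => by rw [map_smul, map_smul, ha g, smul_zero] }
    have h1 := hirr' L (by
      intro x _ w hw g
      rw [← rho_mul]
      exact hw _)
    rcases h1 with h1 | h1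
    · have h2 : x ∈ L := hx
      rwa [h1, Submodule.mem_bot] at h2
    · exfalso
      have h2 : v ∈ L := by rw [h1]; trivial
      have h3 : ψ (lin (acRep φ) 1 v) = 0 := h2 1
      rw [hψ, hcf, dl_one, map_one] at h3
      exact one_ne_zero h3
  have hlin : ∀ (y : SU 5 F q) (b : F), (∀ g, dl W 1 (g * y) = b * dl W 1 g) → lin (acRep φ) y v = J' b • v := by
    intro y b h
    rw [← sub_eq_zero]
    refine hsep _ fun g => ?_
    rw [map_sub, map_sub, map_smul, map_smul, ← rho_mul, hψ, hψ, hcf, hcf, h, map_mul, smul_eq_mul, sub_self]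
  -- the fixed vector
  obtain ⟨w, hw0, hw⟩ := exists_fixed_vec R hG hφ hC.absIrred
  have hspan := fx_eq_span R (lin (acRep φ)) hirr hv hv0 hvT
  have hwk : (fun i => algebraMap F (AlgebraicClosure F) (w i)) ∈ fx (lin (acRep φ))
      (RGD.Sup (WittModel.X (modelSU hK hN3 W)) (RGD.Pos (CoxeterMatrix.B 2).toCoxeterSystem (isCartan 2))) := by
    intro u hu
    rw [lin_al, hw u hu]
  rw [hspan] at hwk
  obtain ⟨μ, hμ⟩ := Submodule.mem_span_singleton.1 hwk
  have hwk0 : (fun i => algebraMap F (AlgebraicClosure F) (w i)) ≠ 0 := by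
    intro h
    apply hw0
    funext i
    have := congrFun h i
    exact (map_eq_zero _).1 this
  have hμ0 : μ ≠ 0 := by
    rintro rfl
    rw [zero_smul] at hμ
    exact hwk0 hμ.symm
  have hlinw : ∀ (y : SU 5 F q) (b : F), (∀ g, dl W 1 (g * y) = b * dl W 1 g) →
      (fun i => algebraMap F (AlgebraicClosure F) (((φ y : Matrix _ _ F) *ᵥ w) i)) =
        J' b • fun i => algebraMap F (AlgebraicClosure F) (w i) := by
    intro y b h
    rw [← lin_al, ← hμ, map_smul, hlin y b h, smul_comm]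
  have hmv : ∀ (g g' : SU 5 F q) (x : Fin 10 → F), (φ (g * g') : Matrix (Fin 10) (Fin 10) F) *ᵥ x =
      (φ g : Matrix (Fin 10) (Fin 10) F) *ᵥ ((φ g' : Matrix (Fin 10) (Fin 10) F) *ᵥ x) := by
    intro g g' x
    rw [Matrix.mulVec_mulVec, ← Units.val_mul, ← map_mul]
  have hUG : ∀ g : SU 5 F q, φ g ∈ GU 10 F q := fun g => hU (by rw [← hφ]; exact ⟨g, rfl⟩)
  -- the element `n0`
  set! z0 : Fin 10 → F := (φ n0 : Matrix _ _ F) *ᵥ w with hz0
  have hfe0 : ∀ g : SU 5 F q, act g (W.f 0) = c⁻¹ • act (g * n0) (W.e 0) := by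
    intro g
    rw [act_mul, hn0a, act_smul, smul_smul, inv_mul_cancel₀ hc, one_smul]
  have hfe1 : ∀ g : SU 5 F q, act g (W.f 1) = act (g * n0) (W.e 1) := by
    intro g
    rw [act_mul, hn0b]
  have hzfix : ∀ u ∈ UN (CoxeterMatrix.B 2).toCoxeterSystem (isCartan 2) (WittModel.X (modelSU hK hN3 W)),
      (φ u : Matrix _ _ F) *ᵥ z0 = z0 := by
    intro u hu
    have key : ∀ z : SU 5 F q, G2 q (act z (W.f 0)) (act z (W.f 1)) (act u (W.f 0)) (act u (W.f 1)) =
        G2 q (act z (W.f 0)) (act z (W.f 1)) (W.f 0) (W.f 1) := by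
      intro z
      rw [hfe0 z, hfe1 z, G2_smul, G2_smul, ← hD (z * n0) u, hleft u⁻¹ (inv_mem hu), hD1]
    have h1 : ∀ g, dl W 1 (g * (n0⁻¹ * u * n0)) = 1 * dl W 1 g := by
      intro g
      have e0 : act (g * (n0⁻¹ * u * n0)) (W.e 0) = c • act (g * n0⁻¹) (act u (W.f 0)) := by
        rw [show g * (n0⁻¹ * u * n0) = (g * n0⁻¹) * (u * n0) by group, act_mul (g * n0⁻¹), act_mul u, hn0a, act_smul,
          act_smul]
      have e1 : act (g * (n0⁻¹ * u * n0)) (W.e 1) = act (g * n0⁻¹) (act u (W.f 1)) := by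
        rw [show g * (n0⁻¹ * u * n0) = (g * n0⁻¹) * (u * n0) by group, act_mul (g * n0⁻¹), act_mul u, hn0b]
      have e2 : act g (W.e 0) = c • act (g * n0⁻¹) (W.f 0) := by
        rw [hfe0, inv_mul_cancel_right, smul_smul, mul_inv_cancel₀ hc, one_smul]
      have e3 : act g (W.e 1) = act (g * n0⁻¹) (W.f 1) := by
        rw [hfe1, inv_mul_cancel_right]
      rw [one_mul, hD1, hD1 g, e0, e1, e2, e3, G2_smul, G2_smul, G2_act (g * n0⁻¹) (act u (W.f 0)) (act u (W.f 1)),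
        G2_act (g * n0⁻¹) (W.f 0) (W.f 1), G2_swap hK _ _ (act u (W.f 0)) (act u (W.f 1)), key, ← G2_swap hK]
    have h2 := hlinw _ 1 h1
    rw [map_one, one_smul] at h2
    have h3 : (φ (n0⁻¹ * u * n0) : Matrix _ _ F) *ᵥ w = w := by
      funext i
      exact (algebraMap F (AlgebraicClosure F)).injective (congrFun h2 i)
    rw [hz0, ← hmv, show u * n0 = n0 * (n0⁻¹ * u * n0) by group, hmv, h3]
  -- the functionals
  have hspan' : ∀ L : Submodule (AlgebraicClosure F) (Fin 10 → AlgebraicClosure F),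
      (∀ g, lin (acRep φ) g v ∈ L) → L = ⊤ := by
    intro L hL
    have h1 := hirr' (Submodule.span (AlgebraicClosure F) (Set.range fun g => lin (acRep φ) g v)) (by
      intro x _ w hw
      induction hw using Submodule.span_induction with
      | mem w hw =>
        obtain ⟨g, rfl⟩ := hw
        refine Submodule.subset_span ⟨x * g, ?_⟩
        exact rho_mul _ x g v
      | zero => rw [map_zero]; exact zero_mem _
      | add a b _ _ ha hb => rw [map_add]; exact add_mem ha hb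
      | smul a b _ hb => rw [map_smul]; exact Submodule.smul_mem _ _ hb)
    rcases h1 with h1 | h1
    · exfalso
      apply hv0
      have h2 : lin (acRep φ) 1 v ∈ Submodule.span (AlgebraicClosure F) (Set.range fun g => lin (acRep φ) g v) :=
        Submodule.subset_span ⟨1, rfl⟩
      rwa [h1, Submodule.mem_bot, rho_one] at h2
    · rw [eq_top_iff, ← h1, Submodule.span_le]
      rintro _ ⟨g, rfl⟩
      exact hL g
  have hψU : ψ ∈ fx ((dualRep (lin (acRep φ)) :))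
      (UN (CoxeterMatrix.B 2).toCoxeterSystem (isCartan 2) (WittModel.X (modelSU hK hN3 W))) := by
    rw [mem_fx_dual]
    intro u hu x
    have h1 : LinearMap.ker (ψ.comp (lin (acRep φ) u) - ψ) = ⊤ := by
      refine hspan' _ fun g => ?_
      rw [LinearMap.mem_ker, LinearMap.sub_apply, sub_eq_zero, LinearMap.comp_apply, ← rho_mul, hψ, hψ, hcf, hcf,
        hleft u hu]
    rw [LinearMap.ker_eq_top, sub_eq_zero] at h1
    exact DFunLike.congr_fun h1 x
  have hψ0 : ψ ≠ 0 := by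
    intro h
    have h3 := hψ 1
    rw [h, hcf, dl_one, map_one J', LinearMap.zero_apply] at h3
    exact zero_ne_one h3
  have hflU : fl q z0 ∈ fx ((dualRep (lin (acRep φ)) :))
      (UN (CoxeterMatrix.B 2).toCoxeterSystem (isCartan 2) (WittModel.X (modelSU hK hN3 W))) := by
    rw [mem_fx_dual]
    intro u hu x
    exact fl_fix (φ := φ) (by rw [hφ]; exact hU) (hzfix _ (inv_mem hu)) x
  obtain ⟨l0, hl0⟩ := fx_dual_unique R hirr hT hψU hψ0 hflU
  have hl00 : l0 ≠ 0 := by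
    rintro rfl
    rw [zero_smul] at hl0
    obtain ⟨i, hi⟩ : ∃ i, z0 i ≠ 0 := by
      by_contra hcon
      push Not at hcon
      have h1 : z0 = 0 := funext hcon
      apply hw0
      have h2 : (φ n0⁻¹ : Matrix _ _ F) *ᵥ z0 = w := by
        rw [hz0, ← hmv, inv_mul_cancel, map_one, Units.val_one, Matrix.one_mulVec]
      rw [← h2, h1, Matrix.mulVec_zero]
    have h1 := fl_al (q := q) z0 (Pi.single i 1)
    rw [hl0, LinearMap.zero_apply] at h1
    have h2 : hermForm 10 F q (Pi.single i 1) z0 = z0 i ^ q := by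
      unfold hermForm
      rw [Finset.sum_eq_single i]
      · rw [Pi.single_eq_same, one_mul]
      · intro b _ hb
        rw [Pi.single_eq_of_ne hb, zero_mul]
      · intro h; exact absurd (Finset.mem_univ _) h
    rw [h2] at h1
    exact pow_ne_zero q hi ((map_eq_zero _).1 h1.symm)
  have hmain : ∀ g : SU 5 F q, algebraMap F (AlgebraicClosure F) (hermForm 10 F q ((φ g : Matrix _ _ F) *ᵥ w) z0) =
      μ * l0 * J' (dl W 1 g) := by
    intro g
    rw [← fl_al, ← lin_al, ← hμ, map_smul, map_smul, hl0, LinearMap.smul_apply, hψ, hcf, smul_eq_mul, smul_eq_mul]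
    ring
  refine ⟨W.e 0, W.e 1, W.f 0, W.f 1, φ, w, AlgebraicClosure F, inferInstance, algebraMap F _, J',
    μ * l0 * J' (c⁻¹ ^ q), RGD.Sup (WittModel.X (modelSU hK hN3 W))
      (RGD.Pos (CoxeterMatrix.B 2).toCoxeterSystem (isCartan 2)), hφ, ?_⟩
  exact {
    ee := by
      rintro x (rfl | rfl) y (rfl | rfl)
      all_goals exact W.ee _ _
    ff := by
      rintro x (rfl | rfl) y (rfl | rfl)
      all_goals exact W.ff _ _
    ef00 := (W.ef 0 0).trans (if_pos rfl)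
    ef11 := (W.ef 1 1).trans (if_pos rfl)
    ef01 := (W.ef 0 1).trans (if_neg (by decide))
    ef10 := (W.ef 1 0).trans (if_neg (by decide))
    w0 := hw0
    κ0 := mul_ne_zero (mul_ne_zero hμ0 hl00) ((map_ne_zero J').2 (pow_ne_zero _ (inv_ne_zero hc)))
    ker := by
      intro g g'
      have h1 := hmain (n0 * g'⁻¹ * g)
      have e1 : dl W 1 (n0 * g'⁻¹ * g) =
          c⁻¹ ^ q * G2 q (act g (W.e 0)) (act g (W.e 1)) (act g' (W.e 0)) (act g' (W.e 1)) := by
        rw [show n0 * g'⁻¹ * g = (g' * n0⁻¹)⁻¹ * g by group, hD, hfe0, hfe1, inv_mul_cancel_right, G2_smul_right]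
      have e2 : hermForm 10 F q ((φ (n0 * g'⁻¹ * g) : Matrix (Fin 10) (Fin 10) F) *ᵥ w) z0 =
          hermForm 10 F q ((φ g : Matrix (Fin 10) (Fin 10) F) *ᵥ w) ((φ g' : Matrix (Fin 10) (Fin 10) F) *ᵥ w) := by
        have e3 : n0 * g'⁻¹ * g = n0 * (g'⁻¹ * g) := by group
        rw [e3, hmv, hz0, gu_herm (hUG n0), ← gu_herm (hUG g'), ← hmv, mul_inv_cancel_left]
      rw [e2, e1, map_mul J'] at h1
      rw [h1]
      ring
    fixU := hw
    maxU := ⟨R.isPGroup_Upos, fun P hP h1 => KFacts.RgdEx.eq_U R h1 (by rw [hG]; exact le_top) hP⟩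
    tor := by
      intro x hx
      rcases hW with h | ⟨d, hd, hV⟩
      · exact absurd h hV0
      obtain ⟨t, ht, h3⟩ := exists_t1 hN3 W hm0 hd hV hx
      have hB : t ∈ RGD.B (CoxeterMatrix.B 2).toCoxeterSystem (isCartan 2) (WittModel.T (modelSU hK hN3 W))
          (WittModel.X (modelSU hK hN3 W)) := R.mem_B.2 ⟨t, ht, 1, one_mem _, (mul_one t).symm⟩
      rw [← KFacts.RgdAut.normalizer_U' R hG] at hB
      refine ⟨t, fun u hu => (Subgroup.mem_normalizer_iff.1 hB u).1 hu, ?_⟩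
      obtain ⟨i, hi⟩ : ∃ i, w i ≠ 0 := by
        by_contra hcon
        push Not at hcon
        exact hw0 (funext hcon)
      have h4 := hlinw t x (fun g => by rw [dl_mul_T hN3 ht, h3, mul_comm])
      have h5 : ∀ l, algebraMap F (AlgebraicClosure F) (((φ t : Matrix (Fin 10) (Fin 10) F) *ᵥ w) l) =
          J' x * algebraMap F (AlgebraicClosure F) (w l) := fun l => congrFun h4 l
      have h6 : algebraMap F (AlgebraicClosure F) (((φ t : Matrix (Fin 10) (Fin 10) F) *ᵥ w) i / w i) = J' x := by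
        rw [map_div₀, h5, mul_div_assoc, div_self ((map_ne_zero _).2 hi), mul_one]
      refine ⟨_, h6, ?_⟩
      funext l
      apply (algebraMap F (AlgebraicClosure F)).injective
      rw [h5, Pi.smul_apply, smul_eq_mul, map_mul, h6]
    frame := by
      intro x0 x1 h00 h01 h11 hli
      have h10 : hermForm 5 F q x1 x0 = 0 := by
        rw [herm_swap hK x0 x1, h01, zero_pow_q hK]
      obtain ⟨g, b, hb, h1⟩ := exists_su W (r := 2) le_rfl (by norm_num) (pfr_two (m := 2) le_rfl h00 h01 h10 h11 hli) true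
      refine ⟨g, b, hb, ?_, ?_⟩
      · have := h1 0 (by norm_num)
        rwa [if_pos (by simp)] at this
      · have := h1 1 (by norm_num)
        rwa [if_neg (by simp), one_smul] at this }

end main

end Cfsg.Agent.H587.UF
end

-- part: H587/UF/Plu
section
/-!
# `f₀ ∧ f₁ + C e₀ ∧ e₁` is not decomposable (helper587)
-/

set_option autoImplicit false
set_option linter.unusedSectionVars false

namespace Cfsg.Agent.H587.UF

open Cfsg Cfsg.Geo
open LieClassical.HermBasic LieClassical.HermSiegel Cfsg.Agent.H61.SUCross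
open scoped MatrixGroups Matrix

variable {F : Type} [Field F] [Fintype F] {q p : ℕ} {e0 e1 f0 f1 : Fin 5 → F} {φ : SU 5 F q →* GL (Fin 10) F}
  {w : Fin 10 → F} {k : Type} [Field k] {al J : F →+* k} {κ : k} {U : Subgroup (SU 5 F q)}

namespace Dt

variable (D : Dt q p e0 e1 f0 f1 φ w al J κ U) (hK : Fintype.card F = q ^ 2)
include D hK

theorem fe00 : hermForm 5 F q f0 e0 = 1 := by rw [herm_swap hK e0 f0, D.ef00, one_pow]
theorem fe11 : hermForm 5 F q f1 e1 = 1 := by rw [herm_swap hK e1 f1, D.ef11, one_pow]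
theorem fe01 : hermForm 5 F q f0 e1 = 0 := by rw [herm_swap hK e1 f0, D.ef10, zero_pow_q hK]
theorem fe10 : hermForm 5 F q f1 e0 = 0 := by rw [herm_swap hK e0 f1, D.ef01, zero_pow_q hK]

omit hK in
theorem ee' : hermForm 5 F q e0 e0 = 0 ∧ hermForm 5 F q e0 e1 = 0 ∧ hermForm 5 F q e1 e0 = 0 ∧
    hermForm 5 F q e1 e1 = 0 :=
  ⟨D.ee _ (Or.inl rfl) _ (Or.inl rfl), D.ee _ (Or.inl rfl) _ (Or.inr rfl), D.ee _ (Or.inr rfl) _ (Or.inl rfl),
    D.ee _ (Or.inr rfl) _ (Or.inr rfl)⟩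

omit hK in
theorem ff' : hermForm 5 F q f0 f0 = 0 ∧ hermForm 5 F q f0 f1 = 0 ∧ hermForm 5 F q f1 f0 = 0 ∧
    hermForm 5 F q f1 f1 = 0 :=
  ⟨D.ff _ (Or.inl rfl) _ (Or.inl rfl), D.ff _ (Or.inl rfl) _ (Or.inr rfl), D.ff _ (Or.inr rfl) _ (Or.inl rfl),
    D.ff _ (Or.inr rfl) _ (Or.inr rfl)⟩

/-- `f₀ ∧ f₁ + C e₀ ∧ e₁` is not in the orbit. -/
theorem no_plane {n0 z : SU 5 F q} {c l C : F} (hc : c ≠ 0) (h0 : act n0 e0 = c • f0) (h1 : act n0 e1 = f1)
    (hC : C ≠ 0) (h : (φ n0 : Matrix (Fin 10) (Fin 10) F) *ᵥ w + C • w =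
      l • ((φ z : Matrix (Fin 10) (Fin 10) F) *ᵥ w)) : False := by
  obtain ⟨ee00, ee01, ee10, ee11⟩ := D.ee'
  obtain ⟨ff00, ff01, ff10, ff11⟩ := D.ff'
  have fe00 := D.fe00 hK
  have fe11 := D.fe11 hK
  have fe01 := D.fe01 hK
  have fe10 := D.fe10 hK
  have ef00 := D.ef00
  have ef11 := D.ef11
  have ef01 := D.ef01
  have ef10 := D.ef10
  -- the basic relation
  have key : ∀ g : SU 5 F q, al (l ^ q) * J (G2 q (act g e0) (act g e1) (act z e0) (act z e1)) =
      J (c ^ q) * J (G2 q (act g e0) (act g e1) f0 f1) + al (C ^ q) * J (G2 q (act g e0) (act g e1) e0 e1) := by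
    intro g
    have e1' := congrArg (fun x => al (hermForm 10 F q ((φ g : Matrix (Fin 10) (Fin 10) F) *ᵥ w) x)) h
    simp only [herm_add_right hK, herm_smul_right, map_add, map_mul] at e1'
    have e2 := D.ker g 1
    rw [map_one, Units.val_one, Matrix.one_mulVec, act_one, act_one] at e2
    rw [D.ker, D.ker, e2, h0, h1, G2_smul_right, map_mul] at e1'
    apply mul_left_cancel₀ D.κ0
    linear_combination -e1'
  set! pp : (Fin 5 → F) → (Fin 5 → F) → F := fun x y => G2 q x y (act z e0) (act z e1) with hpp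
  have key2 : ∀ x0 x1 : Fin 5 → F, hermForm 5 F q x0 x0 = 0 → hermForm 5 F q x0 x1 = 0 → hermForm 5 F q x1 x1 = 0 →
      (∀ a b : F, a • x0 + b • x1 = 0 → a = 0 ∧ b = 0) → al (l ^ q) * J (pp x0 x1) =
      J (c ^ q) * J (G2 q x0 x1 f0 f1) + al (C ^ q) * J (G2 q x0 x1 e0 e1) := by
    intro x0 x1 h00 h01 h11 hli
    obtain ⟨g, b, hb, hg0, hg1⟩ := D.frame x0 x1 h00 h01 h11 hli
    have h2 := key g
    rw [hg0, hg1, G2_smul, G2_smul, G2_smul, map_mul, map_mul, map_mul] at h2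
    apply mul_left_cancel₀ ((map_ne_zero J).2 hb)
    linear_combination h2
  have hE : J (c ^ q) ≠ 0 := (map_ne_zero J).2 (pow_ne_zero _ hc)
  have hE' : al (C ^ q) ≠ 0 := (map_ne_zero al).2 (pow_ne_zero _ hC)
  -- `e0, e1`
  have k1 := key2 e0 e1 ee00 ee01 ee11 (by
    intro a b hab
    have h2 := congrArg (fun x => hermForm 5 F q x f0) hab
    have h3 := congrArg (fun x => hermForm 5 F q x f1) hab
    simp only [herm_add_left, herm_smul_left, herm_zero_left, ef00, ef10, ef01, ef11] at h2 h3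
    exact ⟨by linear_combination h2, by linear_combination h3⟩)
  have k2 := key2 f0 f1 ff00 ff01 ff11 (by
    intro a b hab
    have h2 := congrArg (fun x => hermForm 5 F q x e0) hab
    have h3 := congrArg (fun x => hermForm 5 F q x e1) hab
    simp only [herm_add_left, herm_smul_left, herm_zero_left, fe00, fe10, fe01, fe11] at h2 h3
    exact ⟨by linear_combination h2, by linear_combination h3⟩)
  have k3 := key2 e0 f1 ee00 ef01 ff11 (by
    intro a b hab
    have h2 := congrArg (fun x => hermForm 5 F q x f0) hab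
    have h3 := congrArg (fun x => hermForm 5 F q x e1) hab
    simp only [herm_add_left, herm_smul_left, herm_zero_left, ef00, ff10, ee01, fe11] at h2 h3
    exact ⟨by linear_combination h2, by linear_combination h3⟩)
  have k4 := key2 e1 f0 ee11 ef10 ff00 (by
    intro a b hab
    have h2 := congrArg (fun x => hermForm 5 F q x f1) hab
    have h3 := congrArg (fun x => hermForm 5 F q x e0) hab
    simp only [herm_add_left, herm_smul_left, herm_zero_left, ef11, ff01, ee10, fe00] at h2 h3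
    exact ⟨by linear_combination h2, by linear_combination h3⟩)
  have k5 : ∀ a : F, al (l ^ q) * J (pp (e0 + a • e1) (f1 + (-(a ^ q)) • f0)) = 0 := by
    intro a
    have hneg : (-(a ^ q)) ^ q = -a := by rw [neg_pow_q hK, pow_q_pow_q hK]
    have h2 := key2 (e0 + a • e1) (f1 + (-(a ^ q)) • f0) (by
        simp only [herm_add_left, herm_smul_left, herm_add_right hK, herm_smul_right, ee00, ee01, ee10, ee11]
        ring) (by
        simp only [herm_add_left, herm_smul_left, herm_add_right hK, herm_smul_right, ef00, ef01, ef10, ef11, hneg]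
        ring) (by
        simp only [herm_add_left, herm_smul_left, herm_add_right hK, herm_smul_right, ff00, ff01, ff10, ff11]
        ring) (by
        intro x y hxy
        have h2 := congrArg (fun x => hermForm 5 F q x f0) hxy
        have h3 := congrArg (fun x => hermForm 5 F q x e1) hxy
        simp only [herm_add_left, herm_smul_left, herm_zero_left, ef00, ef10, ff00, ff10, ee01, ee11, fe11, fe01]
          at h2 h3
        exact ⟨by linear_combination h2, by linear_combination h3⟩)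
    rw [h2]
    have e1' : G2 q (e0 + a • e1) (f1 + (-(a ^ q)) • f0) f0 f1 = 0 := by
      unfold G2
      simp only [herm_add_left, herm_smul_left, ef00, ef01, ef10, ef11, ff00, ff01, ff10, ff11]
      ring
    have e2' : G2 q (e0 + a • e1) (f1 + (-(a ^ q)) • f0) e0 e1 = 0 := by
      unfold G2
      simp only [herm_add_left, herm_smul_left, ee00, ee01, ee10, ee11]
      ring
    rw [e1', e2', map_zero, mul_zero, mul_zero, add_zero]
  have g1 : G2 q e0 e1 f0 f1 = 1 := by unfold G2; rw [ef00, ef11, ef01, ef10]; ring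
  have g2 : G2 q e0 e1 e0 e1 = 0 := by unfold G2; rw [ee00, ee11, ee01, ee10]; ring
  have g3 : G2 q f0 f1 f0 f1 = 0 := by unfold G2; rw [ff00, ff11, ff01, ff10]; ring
  have g4 : G2 q f0 f1 e0 e1 = 1 := by unfold G2; rw [fe00, fe11, fe01, fe10]; ring
  have g5 : G2 q e0 f1 f0 f1 = 0 := by unfold G2; rw [ef00, ff11, ef01, ff10]; ring
  have g6 : G2 q e0 f1 e0 e1 = 0 := by unfold G2; rw [ee00, fe11, ee01, fe10]; ring
  have g7 : G2 q e1 f0 f0 f1 = 0 := by unfold G2; rw [ef10, ff01, ef11, ff00]; ring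
  have g8 : G2 q e1 f0 e0 e1 = 0 := by unfold G2; rw [ee10, fe01, ee11, fe00]; ring
  rw [g1, g2, map_one, map_zero, mul_one, mul_zero, add_zero] at k1
  rw [g3, g4, map_one, map_zero, mul_one, mul_zero, zero_add] at k2
  rw [g5, g6, map_zero, mul_zero, mul_zero, add_zero] at k3
  rw [g7, g8, map_zero, mul_zero, mul_zero, add_zero] at k4
  have hL : al (l ^ q) ≠ 0 := by
    intro h2
    rw [h2, zero_mul] at k1
    exact hE k1.symm
  have p01 : pp e0 e1 ≠ 0 := by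
    intro h2
    rw [h2, map_zero, mul_zero] at k1
    exact hE k1.symm
  have p23 : pp f0 f1 ≠ 0 := by
    intro h2
    rw [h2, map_zero, mul_zero] at k2
    exact hE' k2.symm
  have p03 : pp e0 f1 = 0 := (map_eq_zero J).1 ((mul_eq_zero.1 k3).resolve_left hL)
  have p12 : pp e1 f0 = 0 := (map_eq_zero J).1 ((mul_eq_zero.1 k4).resolve_left hL)
  have k6 : ∀ a : F, a * pp e1 f1 = a ^ q * pp e0 f0 := by
    intro a
    have h2 := (map_eq_zero J).1 ((mul_eq_zero.1 (k5 a)).resolve_left hL)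
    have h3 : pp (e0 + a • e1) (f1 + (-(a ^ q)) • f0) = pp e0 f1 - a ^ q * pp e0 f0 + a * pp e1 f1 -
        a * a ^ q * pp e1 f0 := by
      simp only [hpp, G2, herm_add_left, herm_smul_left]
      ring
    rw [h3, p03, p12] at h2
    linear_combination h2
  obtain ⟨a, ha⟩ := exists_not_fixed hK
  have k7 := k6 1
  have k8 := k6 a
  rw [one_pow, one_mul, one_mul] at k7
  rw [k7] at k8
  have p02 : pp e0 f0 = 0 := by
    have h2 : (a - a ^ q) * pp e0 f0 = 0 := by linear_combination k8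
    rcases mul_eq_zero.1 h2 with h3 | h3
    · exact absurd (sub_eq_zero.1 h3).symm ha
    · exact h3
  have pl : pp e0 e1 * pp f0 f1 = pp e0 f0 * pp e1 f1 - pp e0 f1 * pp e1 f0 := by
    simp only [hpp, G2]
    ring
  rw [p02, p03, zero_mul, zero_mul, sub_zero] at pl
  rcases mul_eq_zero.1 pl with h2 | h2
  · exact p01 h2
  · exact p23 h2

end Dt

end Cfsg.Agent.H587.UF
end

-- part: H587/UF/Tv
section
/-!
# The transvections of the module of dimension 10 of `SU_5(q)` (helper587)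

* `Dt.tv_not_mem` : no transvection with center `w` normalises `P`;
* `exists_N`, `inv_of_soc` : the socle of `A`;
* **`not_three`** : the case `q ≥ 3`.
-/

set_option autoImplicit false
set_option linter.unusedSectionVars false

namespace Cfsg.Agent.H587.UF

open Cfsg Cfsg.Geo Cfsg.Agent.H284 Cfsg.Agent.H419.EP
open LieClassical.HermBasic LieClassical.HermSiegel Cfsg.Agent.H61.SUCross
open Cfsg.Agent.ClassicalGeometry.UnitTransv (rankOne rankOne_mulVec det_rankOne)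
open scoped MatrixGroups Matrix

section tv

variable {F : Type} [Field F] [Fintype F] {q n : ℕ}

theorem exists_tv (hK : Fintype.card F = q ^ 2) {w : Fin n → F} (hw : hermForm n F q w w = 0) {c : F}
    (hc : c ^ q = -c) : ∃ t : GL (Fin n) F, t ∈ GU n F q ⊓ specialLinear (Fin n) F ∧
      ∀ x, (t : Matrix (Fin n) (Fin n) F) *ᵥ x = x + (c * hermForm n F q x w) • w := by
  have hdet : (rankOne q (c • w) w).det = 1 := by
    rw [det_rankOne, herm_smul_left, hw, mul_zero, add_zero]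
  set! t : GL (Fin n) F := Matrix.SpecialLinearGroup.toGL ⟨rankOne q (c • w) w, hdet⟩ with htd
  have ht : ∀ x, (t : Matrix (Fin n) (Fin n) F) *ᵥ x = x + (c * hermForm n F q x w) • w := by
    intro x
    change rankOne q (c • w) w *ᵥ x = _
    rw [rankOne_mulVec, smul_smul, mul_comm]
  refine ⟨t, ⟨?_, ?_⟩, ht⟩
  · intro x y
    change hermForm n F q ((t : Matrix (Fin n) (Fin n) F) *ᵥ x) ((t : Matrix (Fin n) (Fin n) F) *ᵥ y) = _
    rw [ht, ht]
    simp only [herm_add_left, herm_add_right hK, herm_smul_left, herm_smul_right, hw]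
    rw [mul_pow, hc, herm_swap hK y w]
    ring
  · exact Cfsg.Agent.H117.EP.toGL_mem _

theorem gl_ext {s t : GL (Fin n) F} (h : ∀ x, (s : Matrix (Fin n) (Fin n) F) *ᵥ x = (t : Matrix (Fin n) (Fin n) F) *ᵥ x) :
    s = t := by
  apply Units.ext
  ext i j
  have := congrFun (h (Pi.single j 1)) i
  simpa using this

theorem gl_mulVec (s t : GL (Fin n) F) (x : Fin n → F) : ((s * t : GL (Fin n) F) : Matrix (Fin n) (Fin n) F) *ᵥ x =
    (s : Matrix (Fin n) (Fin n) F) *ᵥ ((t : Matrix (Fin n) (Fin n) F) *ᵥ x) := by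
  rw [Matrix.mulVec_mulVec, Units.val_mul]

theorem gl_inv_eq {s : GL (Fin n) F} {x y : Fin n → F} (h : (s : Matrix (Fin n) (Fin n) F) *ᵥ x = y) :
    ((s⁻¹ : GL (Fin n) F) : Matrix (Fin n) (Fin n) F) *ᵥ y = x := by
  rw [← h, ← gl_mulVec, inv_mul_cancel, Units.val_one, Matrix.one_mulVec]

end tv

section

variable {F : Type} [Field F] [Fintype F] {q p : ℕ} {e0 e1 f0 f1 : Fin 5 → F} {φ : SU 5 F q →* GL (Fin 10) F}
  {w : Fin 10 → F} {k : Type} [Field k] {al J : F →+* k} {κ : k} {U : Subgroup (SU 5 F q)}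

/-- the transvections with center `w` do not normalise `P` -/
theorem Dt.tv_not_mem (D : Dt q p e0 e1 f0 f1 φ w al J κ U) (hK : Fintype.card F = q ^ 2)
    {P A' : Subgroup (GL (Fin 10) F)} (hφ : φ.range = P) (hGU : P ≤ GU 10 F q)
    (hn : ∀ a ∈ A', ∀ x ∈ P, a * x * a⁻¹ ∈ P) {t : GL (Fin 10) F} {c : F} (hc : c ≠ 0)
    (htx : ∀ x, (t : Matrix (Fin 10) (Fin 10) F) *ᵥ x = x + (c * hermForm 10 F q x w) • w) : t ∉ A' := by
  intro ht
  obtain ⟨ee00, ee01, ee10, ee11⟩ := D.ee'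
  obtain ⟨ff00, ff01, ff10, ff11⟩ := D.ff'
  have fe00 := D.fe00 hK
  have fe11 := D.fe11 hK
  have fe01 := D.fe01 hK
  have fe10 := D.fe10 hK
  have ef00 := D.ef00
  have ef11 := D.ef11
  have ef01 := D.ef01
  have ef10 := D.ef10
  have hUG : ∀ g : SU 5 F q, φ g ∈ GU 10 F q := fun g => hGU (by rw [← hφ]; exact ⟨g, rfl⟩)
  obtain ⟨n0, c0, hc0, h00, h01⟩ := D.frame f0 f1 ff00 ff01 ff11 (by
    intro a b hab
    have h2 := congrArg (fun x => hermForm 5 F q x e0) hab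
    have h3 := congrArg (fun x => hermForm 5 F q x e1) hab
    simp only [herm_add_left, herm_smul_left, herm_zero_left, fe00, fe10, fe01, fe11] at h2 h3
    exact ⟨by linear_combination h2, by linear_combination h3⟩)
  obtain ⟨n1, c1, hc1, h10, h11⟩ := D.frame f0 e1 ff00 fe01 ee11 (by
    intro a b hab
    have h2 := congrArg (fun x => hermForm 5 F q x e0) hab
    have h3 := congrArg (fun x => hermForm 5 F q x f1) hab
    simp only [herm_add_left, herm_smul_left, herm_zero_left, fe00, ee10, ff01, ef11] at h2 h3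
    exact ⟨by linear_combination h2, by linear_combination h3⟩)
  have hP1 : t * φ n1 * t⁻¹ * (φ n1)⁻¹ ∈ P := by
    have h1 : φ n1 ∈ P := by rw [← hφ]; exact ⟨n1, rfl⟩
    exact P.mul_mem (hn t ht _ h1) (P.inv_mem h1)
  rw [← hφ] at hP1
  obtain ⟨z, hz⟩ := hP1
  set! v := (φ n0 : Matrix (Fin 10) (Fin 10) F) *ᵥ w with hv
  -- `h(v, w)`
  have hvw : hermForm 10 F q v w ≠ 0 := by
    intro h0
    have h1 := D.ker n0 1
    rw [map_one, Units.val_one, Matrix.one_mulVec, act_one, act_one, ← hv, h0, map_zero, h00, h01, G2_smul] at h1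
    have h2 : G2 q f0 f1 e0 e1 = 1 := by unfold G2; rw [fe00, fe11, fe01, fe10]; ring
    rw [h2, mul_one] at h1
    exact mul_ne_zero D.κ0 ((map_ne_zero J).2 hc0) h1.symm
  -- `h(v, φ(n1) w) = 0`
  have hv1 : hermForm 10 F q v ((φ n1 : Matrix (Fin 10) (Fin 10) F) *ᵥ w) = 0 := by
    have h1 := D.ker n0 n1
    have h2 : G2 q f0 f1 f0 e1 = 0 := by unfold G2; rw [ff00, fe11, fe01, ff10]; ring
    rw [h00, h01, h10, h11, G2_smul, G2_smul_right, h2, mul_zero, mul_zero, map_zero, mul_zero] at h1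
    exact (map_eq_zero al).1 h1
  have hy : (t : Matrix (Fin 10) (Fin 10) F) *ᵥ (((φ n1)⁻¹ : GL (Fin 10) F) : Matrix (Fin 10) (Fin 10) F) *ᵥ v =
      (((φ n1)⁻¹ : GL (Fin 10) F) : Matrix (Fin 10) (Fin 10) F) *ᵥ v := by
    have h1 : hermForm 10 F q ((((φ n1)⁻¹ : GL (Fin 10) F) : Matrix (Fin 10) (Fin 10) F) *ᵥ v) w = 0 := by
      rw [← gu_herm (hUG n1), ← gl_mulVec, mul_inv_cancel, Units.val_one, Matrix.one_mulVec, hv1]
    rw [htx, h1, mul_zero, zero_smul, add_zero]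
  have hzv : (φ z : Matrix (Fin 10) (Fin 10) F) *ᵥ v = v + (c * hermForm 10 F q v w) • w := by
    rw [hz, gl_mulVec, gl_mulVec, gl_inv_eq hy, gl_mulVec, ← gl_mulVec (φ n1), mul_inv_cancel, Units.val_one,
      Matrix.one_mulVec, htx]
  refine D.no_plane hK (z := z * n0) (l := 1) (C := c * hermForm 10 F q v w) hc0 h00 h01 (mul_ne_zero hc hvw) ?_
  rw [one_smul, map_mul, gl_mulVec, ← hv, hzv]

end

section soc

variable {Q : Type*} [Group Q] {A : Subgroup Q}

/-- the image of the core -/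
theorem exists_N {ι : Type} [Fintype ι] [DecidableEq ι] {F : Type*}
    [Field F] {S : Subgroup (GL ι F)} (m : Model Q S) {P : Subgroup (GL ι F)}
    (hP : Cfsg.Geo.IsResidualCore (m.hat A) P) : ∃ (N : Subgroup Q) (f : P →* N), Function.Surjective f ∧
      (∀ (x : P) (hx : (x : GL ι F) ∈ S), (f x : Q) = m.π ⟨x, hx⟩) ∧ N ≤ A ∧ (∀ a ∈ A, ∀ n ∈ N, a * n * a⁻¹ ∈ N) ∧
      (∀ a ∈ A, (∀ n ∈ N, a * n = n * a) → a = 1) ∧
      Nonempty (N ≃* (P ⧸ (Cfsg.Geo.scalars ι F).subgroupOf P)) := by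
  have hPS : P ≤ S := hP.le.trans (m.hat_le A)
  let f : P →* Q := m.π.comp (Subgroup.inclusion hPS)
  have hf : ∀ p : P, f p = m.π ⟨p, hPS p.2⟩ := fun p => rfl
  have hker : f.ker = (Cfsg.Geo.scalars ι F).subgroupOf P := by
    ext p
    rw [MonoidHom.mem_ker, hf, m.ker]
    rfl
  refine ⟨f.range, f.rangeRestrict, f.rangeRestrict_surjective, fun x hx => hf x, ?_, ?_, ?_, ?_⟩
  · rintro _ ⟨p, rfl⟩
    exact (m.mem_hat_iff ⟨p, hPS p.2⟩).1 (hP.le p.2)
  · rintro a ha _ ⟨p, rfl⟩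
    obtain ⟨s, rfl⟩ := m.surj a
    have hs : (s : GL ι F) ∈ m.hat A := (m.mem_hat_iff s).2 ha
    refine ⟨⟨s * p * (s : GL ι F)⁻¹, hP.normal _ hs _ p.2⟩, ?_⟩
    rw [hf, hf, ← map_mul, ← map_inv, ← map_mul]
    rfl
  · intro a ha hc
    obtain ⟨s, rfl⟩ := m.surj a
    have hs : (s : GL ι F) ∈ m.hat A := (m.mem_hat_iff s).2 ha
    rw [m.ker]
    apply hP.centralizer_scalar _ hs
    intro x hx
    have h1 := hc (f ⟨x, hx⟩) ⟨⟨x, hx⟩, rfl⟩
    have h2 : m.π (s * ⟨x, hPS hx⟩ * s⁻¹ * ⟨x, hPS hx⟩⁻¹) = 1 := by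
      rw [map_mul, map_mul, map_mul, map_inv, map_inv]
      rw [hf] at h1
      rw [h1]
      group
    exact (m.ker _).1 h2
  · exact ⟨((QuotientGroup.quotientMulEquivOfEq hker).symm.trans (QuotientGroup.quotientKerEquivRange f)).symm⟩

/-- the socle is `Γ`-invariant -/
theorem inv_of_soc [Finite Q] {Γ : Subgroup (MulAut Q)} (h : EPT A Γ) {N : Subgroup Q} (hNA : N ≤ A)
    (hN : ∀ a ∈ A, ∀ n ∈ N, a * n * a⁻¹ ∈ N) (hC : ∀ a ∈ A, (∀ n ∈ N, a * n = n * a) → a = 1)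
    (hs : IsSimpleGroup N) : ∀ σ ∈ Γ, ∀ k ∈ N, σ k ∈ N := by
  intro σ hσ
  have h1 : ∀ k ∈ N.map σ.toMonoidHom, k ∈ A := by
    rintro _ ⟨k, hk, rfl⟩
    exact (h.inv σ hσ k).2 (hNA hk)
  have h2 : ∀ a ∈ A, ∀ k ∈ N.map σ.toMonoidHom, a * k * a⁻¹ ∈ N.map σ.toMonoidHom := by
    rintro a ha _ ⟨k, hk, rfl⟩
    have ha' : σ⁻¹ a ∈ A := (h.inv σ⁻¹ (Γ.inv_mem hσ) a).2 ha
    refine ⟨σ⁻¹ a * k * (σ⁻¹ a)⁻¹, hN _ ha' k hk, ?_⟩
    change σ (σ⁻¹ a * k * (σ⁻¹ a)⁻¹) = a * σ k * a⁻¹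
    rw [map_mul, map_mul, map_inv, MulAut.apply_inv_self]
  have h3 : ((N.map σ.toMonoidHom).subgroupOf N).Normal := ⟨fun k hk n => h2 n (hNA n.2) k hk⟩
  rcases hs.eq_bot_or_eq_top_of_normal _ h3 with h4 | h4
  · exfalso
    obtain ⟨a, b, hab⟩ := exists_pair_ne N
    apply hab
    have key : ∀ n : N, (n : Q) = 1 := by
      intro n
      have h5 : σ (n : Q) = 1 := by
        apply hC _ (h1 _ ⟨n, n.2, rfl⟩)
        intro x hx
        have h6 : σ n * x * (σ n)⁻¹ * x⁻¹ ∈ N := N.mul_mem (hN _ (h1 _ ⟨n, n.2, rfl⟩) x hx) (N.inv_mem hx)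
        have h7 : σ n * x * (σ n)⁻¹ * x⁻¹ ∈ N.map σ.toMonoidHom := by
          have e : σ n * x * (σ n)⁻¹ * x⁻¹ = σ n * (x * (σ n)⁻¹ * x⁻¹) := by group
          rw [e]
          exact (N.map σ.toMonoidHom).mul_mem ⟨n, n.2, rfl⟩
            (h2 x (hNA hx) _ ((N.map σ.toMonoidHom).inv_mem ⟨n, n.2, rfl⟩))
        have h8 : (⟨_, h6⟩ : N) ∈ (N.map σ.toMonoidHom).subgroupOf N := h7
        rw [h4, Subgroup.mem_bot] at h8
        have h9 : σ n * x * (σ n)⁻¹ * x⁻¹ = 1 := congrArg Subtype.val h8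
        rwa [mul_inv_eq_one, mul_inv_eq_iff_eq_mul] at h9
      exact (map_eq_one_iff σ σ.injective).1 h5
    exact Subtype.ext ((key a).trans (key b).symm)
  · intro k hk
    rw [Subgroup.subgroupOf_eq_top] at h4
    have h5 : N = N.map σ.toMonoidHom := Subgroup.eq_of_le_of_card_ge h4
      (Nat.card_congr (N.equivMapOfInjective σ.toMonoidHom σ.injective).toEquiv).symm.le
    rw [h5]
    exact ⟨k, hk, rfl⟩

end soc

end Cfsg.Agent.H587.UF
end

private theorem dce_b6cd38983e8f : _root_.True := by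
  try have : _root_.True := by simp only [_root_.Cfsg.Agent.H587.UF.G2.eq_1]
  exact _root_.True.intro
end

-- part: H968/EPU/Tight
section
prune_inst 0x50030440840120000008582f1003e069c0004b000080000802002400200a8220d802840000011001a22a0010005002002000020000000000000040000010000908042042340a00086009f000080000000000000000000000000000000000000000000000
set_option linter.all false
open scoped Cfsg.Agent.FastGrp

-- part: H968/EPU/GUThree
section
/-!
# `GU_3(2)` (helper968, S3499)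

`tu : GU 3 F4 2 → M` the 9-tuple of a unitary matrix, `forall_checkG` the checking principle,
`HH` the normal subgroup `3^{1+2}` of order 27, `gen_of` : generation of the elements of determinant 1.
-/

set_option autoImplicit false
set_option maxRecDepth 100000

namespace Cfsg.Agent.H968.EPU.GUThree

open Cfsg Matrix Cfsg.Agent.Lib.FieldFour Cfsg.Agent.Lib.FieldFour.F4 Cfsg.Agent.ClassicalGeometry.SU32
open Cfsg.Agent.S0827 (eqv isScal cube tA tX tD tP powM q8t q8t_mul anyL anyL_spec iffB iffB_spec dp eqv_iff mulM_scal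
  ofM_smul_one)

/-- the group -/
abbrev G3 : Type := ↥(Cfsg.GU 3 F4 2)

/-- the matrix -/
abbrev mt (g : G3) : Matrix (Fin 3) (Fin 3) F4 := g.1.1

theorem mt_inj : Function.Injective mt := fun _ _ h => Subtype.ext (Units.ext h)

/-- the 9-tuple -/
def tu (g : G3) : M := toM (mt g)

theorem tu_inj : Function.Injective tu := toM_injective.comp mt_inj

theorem tu_mul (a b : G3) : tu (a * b) = mulM (tu a) (tu b) := by
  rw [tu, tu, tu, ← toM_mul]
  rfl

theorem tu_one : tu 1 = oneM := by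
  rw [tu, ← toM_one]
  rfl

theorem herm_cols (A : G3) (r s : Fin 3) :
    h3 (mt A 0 r) (mt A 1 r) (mt A 2 r) (mt A 0 s) (mt A 1 s) (mt A 2 s) = if r = s then 1 else 0 := by
  have h := A.2 (Pi.single r 1) (Pi.single s 1)
  rw [herm_eq, herm_eq] at h
  have key : ∀ t : Fin 3, (Units.coeHom (Matrix (Fin 3) (Fin 3) F4) A.1) *ᵥ (Pi.single t 1) = fun j => mt A j t := by
    intro t
    rw [Matrix.mulVec_single_one]
    rfl
  rw [key, key] at h
  rw [h]
  clear h key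
  revert r s
  decide

/-- Run through all matrices with orthonormal columns. -/
def checkG (P : M → Bool) : Bool :=
  all4 fun a => all4 fun d => all4 fun g => imp (beq (h3 a d g a d g) i) <|
  all4 fun b => all4 fun e => all4 fun h => imp (beq (h3 b e h b e h) i) <|
    imp (beq (h3 a d g b e h) o) <|
  all4 fun c => all4 fun f => all4 fun k => imp (beq (h3 a d g c f k) o) <|
    imp (beq (h3 b e h c f k) o) <| imp (beq (h3 c f k c f k) i) <|
    P ⟨a, b, c, d, e, f, g, h, k⟩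

theorem forall_checkG {P : M → Bool} (hP : checkG P = true) (g : G3) : P (tu g) = true := by
  have h11 : h3 (tu g).a (tu g).d (tu g).g (tu g).a (tu g).d (tu g).g = i := herm_cols g 0 0
  have h22 : h3 (tu g).b (tu g).e (tu g).h (tu g).b (tu g).e (tu g).h = i := herm_cols g 1 1
  have h33 : h3 (tu g).c (tu g).f (tu g).k (tu g).c (tu g).f (tu g).k = i := herm_cols g 2 2
  have h12 : h3 (tu g).a (tu g).d (tu g).g (tu g).b (tu g).e (tu g).h = o := herm_cols g 0 1
  have h13 : h3 (tu g).a (tu g).d (tu g).g (tu g).c (tu g).f (tu g).k = o := herm_cols g 0 2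
  have h23 : h3 (tu g).b (tu g).e (tu g).h (tu g).c (tu g).f (tu g).k = o := herm_cols g 1 2
  generalize tu g = A at *
  have h1 := imp_spec (all4_spec (all4_spec (all4_spec hP A.a) A.d) A.g) ((beq_iff _ _).2 h11)
  have h2 := imp_spec (all4_spec (all4_spec (all4_spec h1 A.b) A.e) A.h) ((beq_iff _ _).2 h22)
  have h3 := imp_spec h2 ((beq_iff _ _).2 h12)
  have h4 := imp_spec (all4_spec (all4_spec (all4_spec h3 A.c) A.f) A.k) ((beq_iff _ _).2 h13)
  have h5 := imp_spec h4 ((beq_iff _ _).2 h23)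
  exact imp_spec h5 ((beq_iff _ _).2 h33)

/-- Columns orthonormal. -/
def isUG (A : M) : Bool :=
  beq (h3 A.a A.d A.g A.a A.d A.g) i && (beq (h3 A.b A.e A.h A.b A.e A.h) i &&
  (beq (h3 A.c A.f A.k A.c A.f A.k) i && (beq (h3 A.a A.d A.g A.b A.e A.h) o &&
  (beq (h3 A.a A.d A.g A.c A.f A.k) o && (beq (h3 A.b A.e A.h A.c A.f A.k) o &&
  !(beq (detM A) o))))))

/-- The element of `GU_3(2)` with given 9-tuple. -/
noncomputable def mkG (A : M) (h : isUG A = true) : G3 :=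
  ⟨Matrix.GeneralLinearGroup.mkOfDetNeZero (ofM A) (by
    rw [detM_toM, toM_ofM]
    simp only [isUG, Bool.and_eq_true, Bool.not_eq_true'] at h
    intro h1
    have h2 := h.2.2.2.2.2.2
    rw [h1] at h2
    exact absurd h2 (by decide)), by
    simp only [isUG, Bool.and_eq_true, beq_iff, h3, dot3, ← mul_eq, ← add_eq, ← sq_eq] at h
    obtain ⟨h11, h22, h33, h12, h13, h23, -⟩ := h
    have h21 : A.b * A.a ^ 2 + (A.e * A.d ^ 2 + A.h * A.g ^ 2) = o := by
      have := congrArg (fun x => x ^ 2) h12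
      simp only [sq_add, mul_pow] at this
      have h4 : ∀ x : F4, (x ^ 2) ^ 2 = x := by decide
      rw [h4, h4, h4] at this
      rw [show (o : F4) = o ^ 2 by decide, ← this]
      ring
    have h31 : A.c * A.a ^ 2 + (A.f * A.d ^ 2 + A.k * A.g ^ 2) = o := by
      have := congrArg (fun x => x ^ 2) h13
      simp only [sq_add, mul_pow] at this
      have h4 : ∀ x : F4, (x ^ 2) ^ 2 = x := by decide
      rw [h4, h4, h4] at this
      rw [show (o : F4) = o ^ 2 by decide, ← this]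
      ring
    have h32 : A.c * A.b ^ 2 + (A.f * A.e ^ 2 + A.k * A.h ^ 2) = o := by
      have := congrArg (fun x => x ^ 2) h23
      simp only [sq_add, mul_pow] at this
      have h4 : ∀ x : F4, (x ^ 2) ^ 2 = x := by decide
      rw [h4, h4, h4] at this
      rw [show (o : F4) = o ^ 2 by decide, ← this]
      ring
    intro u v
    change hermForm 3 F4 2 (ofM A *ᵥ u) (ofM A *ᵥ v) = hermForm 3 F4 2 u v
    have key : ∀ (u : Fin 3 → F4),
        (ofM A *ᵥ u) 0 = A.a * u 0 + A.b * u 1 + A.c * u 2 ∧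
        (ofM A *ᵥ u) 1 = A.d * u 0 + A.e * u 1 + A.f * u 2 ∧
        (ofM A *ᵥ u) 2 = A.g * u 0 + A.h * u 1 + A.k * u 2 := by
      intro u
      refine ⟨?_, ?_, ?_⟩ <;>
      · rw [Matrix.mulVec, dotProduct, Fin.sum_univ_three]
        rfl
    obtain ⟨k0, k1, k2⟩ := key u
    obtain ⟨l0, l1, l2⟩ := key v
    rw [hermForm, hermForm, Fin.sum_univ_three, Fin.sum_univ_three, k0, k1, k2, l0, l1, l2]
    simp only [sq_add, mul_pow]
    have hi : (i : F4) = 1 := rfl
    have ho : (o : F4) = 0 := rfl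
    rw [hi] at h11 h22 h33
    rw [ho] at h12 h13 h23 h21 h31 h32
    linear_combination (u 0 * v 0 ^ 2) * h11 + (u 1 * v 1 ^ 2) * h22 + (u 2 * v 2 ^ 2) * h33 +
      (u 0 * v 1 ^ 2) * h12 + (u 0 * v 2 ^ 2) * h13 + (u 1 * v 2 ^ 2) * h23 +
      (u 1 * v 0 ^ 2) * h21 + (u 2 * v 0 ^ 2) * h31 + (u 2 * v 1 ^ 2) * h32⟩

theorem tu_mkG (A : M) (h : isUG A = true) : tu (mkG A h) = A := rfl

/-! ### determinant -/

/-- the determinant -/
def dt : G3 →* F4ˣ := GeneralLinearGroup.det.comp (Cfsg.GU 3 F4 2).subtype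

theorem dt_val (g : G3) : ((dt g : F4ˣ) : F4) = detM (tu g) := by
  rw [tu, ← detM_toM]
  rfl

theorem dt_eq_one_iff (g : G3) : dt g = 1 ↔ detM (tu g) = i := by
  rw [← Units.val_inj, dt_val]
  rfl

/-! ### inverses and scalars -/

/-- the conjugate transpose -/
def starM (A : M) : M := ⟨_root_.Cfsg.Agent.ClassicalGeometry.SU32.sq A.a, _root_.Cfsg.Agent.ClassicalGeometry.SU32.sq A.d, _root_.Cfsg.Agent.ClassicalGeometry.SU32.sq A.g, _root_.Cfsg.Agent.ClassicalGeometry.SU32.sq A.b, _root_.Cfsg.Agent.ClassicalGeometry.SU32.sq A.e, _root_.Cfsg.Agent.ClassicalGeometry.SU32.sq A.h, _root_.Cfsg.Agent.ClassicalGeometry.SU32.sq A.c, _root_.Cfsg.Agent.ClassicalGeometry.SU32.sq A.f, _root_.Cfsg.Agent.ClassicalGeometry.SU32.sq A.k⟩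

private noncomputable def _root_.Cfsg.Agent.KOf27f0f0.k0 : (by first | exact type_of% @Cfsg.Agent.ClassicalGeometry.SU32.all4 | exact Unit : Sort _) := by first | (refine @Subtype.val _ (fun g => @Cfsg.Agent.ClassicalGeometry.SU32.all4 = @g) (@Subtype.mk _ _ (@(fun (x0 : (@Cfsg.Agent.Lib.FieldFour.F4 → @Bool)) => @Bool.rec.{1} @(fun (x1 : @Bool) => @Bool) @Bool.false (@Bool.rec.{1} @(fun (x1 : @Bool) => @Bool) @Bool.false (@Bool.rec.{1} @(fun (x1 : @Bool) => @Bool) @Bool.false (@x0 @Cfsg.Agent.Lib.FieldFour.F4.v) (@x0 @Cfsg.Agent.Lib.FieldFour.F4.w)) (@x0 @Cfsg.Agent.Lib.FieldFour.F4.i)) (@x0 @Cfsg.Agent.Lib.FieldFour.F4.o))) ?_); rfl') | exact @Cfsg.Agent.ClassicalGeometry.SU32.all4 | exact ()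
private theorem _root_.Cfsg.Agent.KOf27f0f0.e0 : (by first | exact @Cfsg.Agent.ClassicalGeometry.SU32.all4 = @_root_.Cfsg.Agent.KOf27f0f0.k0 | exact True : Prop) := by first | (delta _root_.Cfsg.Agent.KOf27f0f0.k0; exact @Subtype.property _ (fun g => @Cfsg.Agent.ClassicalGeometry.SU32.all4 = @g) _) | rfl | trivial
private noncomputable def _root_.Cfsg.Agent.KOf27f0f0.k1 : (by first | exact type_of% @Cfsg.Agent.ClassicalGeometry.SU32.beq | exact Unit : Sort _) := by first | (refine @Subtype.val _ (fun g => @Cfsg.Agent.ClassicalGeometry.SU32.beq = @g) (@Subtype.mk _ _ (@(fun (x0 : @Cfsg.Agent.Lib.FieldFour.F4) (x1 : @Cfsg.Agent.Lib.FieldFour.F4) => @Cfsg.Agent.Lib.FieldFour.F4.rec.{1} @(fun (x2 : @Cfsg.Agent.Lib.FieldFour.F4) => @Bool) (@Cfsg.Agent.Lib.FieldFour.F4.rec.{1} @(fun (x2 : @Cfsg.Agent.Lib.FieldFour.F4) => (((@Nat.hasNotBit (nat_lit 1) (@Cfsg.Agent.Lib.FieldFour.F4.ctorIdx @x2)) → @Bool) → @Bool)) @(fun (x2 : ((@Nat.hasNotBit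 (nat_lit 1) (@Cfsg.Agent.Lib.FieldFour.F4.ctorIdx @Cfsg.Agent.Lib.FieldFour.F4.o)) → @Bool)) => @Bool.true) @(fun (x2 : ((@Nat.hasNotBit (nat_lit 1) (@Cfsg.Agent.Lib.FieldFour.F4.ctorIdx @Cfsg.Agent.Lib.FieldFour.F4.i)) → @Bool)) => @x2 (@Nat.ne_of_beq_eq_false (@Nat.land (@OfNat.ofNat.{0} @Nat (nat_lit 1) (@instOfNatNat (nat_lit 1))) (@Nat.shiftRight (nat_lit 1) (nat_lit 1))) (@OfNat.ofNat.{0} @Nat (nat_lit 1) (@instOfNatNat (nat_lit 1))) (@Eq.refl.{1} @Bool @Bool.false))) @(fun (x2 : ((@Nat.hasNotBit (nat_lit 1) (@Cfsg.Agent.Lib.FieldFour.F4.ctorIdx @Cfsg.Agent.Lib.FieldFour.F4.w)) → @Bool)) => @x2 (@Nat.ne_of_beq_eq_false (@Nat.land (@OfNat.ofNat.{0} @Nat (nat_lit 1) (@instOfNatNat (nat_lit 1))) (@Nat.shiftRight (nat_lit 1) (nat_lit 2))) (@OfNat.ofNat.{0} @Nat (nat_lit 1) (@instOfNatNat (nat_lit 1))) (@Eq.refl.{1} @Bool @Bool.false))) @(fun (x2 : ((@Nat.hasNotBit (nat_lit 1) (@Cfsg.Agent.Lib.FieldFour.F4.ctorIdx @Cfsg.Agent.Lib.FieldFour.F4.v))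 → @Bool)) => @x2 (@Nat.ne_of_beq_eq_false (@Nat.land (@OfNat.ofNat.{0} @Nat (nat_lit 1) (@instOfNatNat (nat_lit 1))) (@Nat.shiftRight (nat_lit 1) (nat_lit 3))) (@OfNat.ofNat.{0} @Nat (nat_lit 1) (@instOfNatNat (nat_lit 1))) (@Eq.refl.{1} @Bool @Bool.false))) @x1 @(fun (x2 : @Nat.hasNotBit (nat_lit 1) (@Cfsg.Agent.Lib.FieldFour.F4.ctorIdx @x1)) => @Bool.false)) (@Cfsg.Agent.Lib.FieldFour.F4.rec.{1} @(fun (x2 : @Cfsg.Agent.Lib.FieldFour.F4) => (((@Nat.hasNotBit (nat_lit 2) (@Cfsg.Agent.Lib.FieldFour.F4.ctorIdx @x2)) → @Bool) → @Bool)) @(fun (x2 : ((@Nat.hasNotBit (nat_lit 2) (@Cfsg.Agent.Lib.FieldFour.F4.ctorIdx @Cfsg.Agent.Lib.FieldFour.F4.o)) → @Bool)) => @x2 (@Nat.ne_of_beq_eq_false (@Nat.land (@OfNat.ofNat.{0} @Nat (nat_lit 1) (@instOfNatNat (nat_lit 1))) (@Nat.shiftRight (nat_lit 2) (nat_lit 0))) (@OfNat.ofNat.{0} @Nat (nat_lit 1) (@instOfNatNat (nat_lit 1))) (@Eq.refl.{1} @Bool @Bool.false))) @(fun (x2 : ((@Nat.hasNotBit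 (nat_lit 2) (@Cfsg.Agent.Lib.FieldFour.F4.ctorIdx @Cfsg.Agent.Lib.FieldFour.F4.i)) → @Bool)) => @Bool.true) @(fun (x2 : ((@Nat.hasNotBit (nat_lit 2) (@Cfsg.Agent.Lib.FieldFour.F4.ctorIdx @Cfsg.Agent.Lib.FieldFour.F4.w)) → @Bool)) => @x2 (@Nat.ne_of_beq_eq_false (@Nat.land (@OfNat.ofNat.{0} @Nat (nat_lit 1) (@instOfNatNat (nat_lit 1))) (@Nat.shiftRight (nat_lit 2) (nat_lit 2))) (@OfNat.ofNat.{0} @Nat (nat_lit 1) (@instOfNatNat (nat_lit 1))) (@Eq.refl.{1} @Bool @Bool.false))) @(fun (x2 : ((@Nat.hasNotBit (nat_lit 2) (@Cfsg.Agent.Lib.FieldFour.F4.ctorIdx @Cfsg.Agent.Lib.FieldFour.F4.v)) → @Bool)) => @x2 (@Nat.ne_of_beq_eq_false (@Nat.land (@OfNat.ofNat.{0} @Nat (nat_lit 1) (@instOfNatNat (nat_lit 1))) (@Nat.shiftRight (nat_lit 2) (nat_lit 3))) (@OfNat.ofNat.{0} @Nat (nat_lit 1) (@instOfNatNat (nat_lit 1))) (@Eq.refl.{1} @Bool @Bool.false))) @x1 @(fun (x2 : @Nat.hasNotBit (nat_lit 2) (@Cfsg.Agent.Lib.FieldFour.F4.ctorIdx @x1))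 => @Bool.false)) (@Cfsg.Agent.Lib.FieldFour.F4.rec.{1} @(fun (x2 : @Cfsg.Agent.Lib.FieldFour.F4) => (((@Nat.hasNotBit (nat_lit 4) (@Cfsg.Agent.Lib.FieldFour.F4.ctorIdx @x2)) → @Bool) → @Bool)) @(fun (x2 : ((@Nat.hasNotBit (nat_lit 4) (@Cfsg.Agent.Lib.FieldFour.F4.ctorIdx @Cfsg.Agent.Lib.FieldFour.F4.o)) → @Bool)) => @x2 (@Nat.ne_of_beq_eq_false (@Nat.land (@OfNat.ofNat.{0} @Nat (nat_lit 1) (@instOfNatNat (nat_lit 1))) (@Nat.shiftRight (nat_lit 4) (nat_lit 0))) (@OfNat.ofNat.{0} @Nat (nat_lit 1) (@instOfNatNat (nat_lit 1))) (@Eq.refl.{1} @Bool @Bool.false))) @(fun (x2 : ((@Nat.hasNotBit (nat_lit 4) (@Cfsg.Agent.Lib.FieldFour.F4.ctorIdx @Cfsg.Agent.Lib.FieldFour.F4.i)) → @Bool)) => @x2 (@Nat.ne_of_beq_eq_false (@Nat.land (@OfNat.ofNat.{0} @Nat (nat_lit 1) (@instOfNatNat (nat_lit 1))) (@Nat.shiftRight (nat_lit 4) (nat_lit 1))) (@OfNat.ofNat.{0} @Nat (nat_lit 1) (@instOfNatNat (nat_lit 1))) (@Eq.refl.{1} @Bool @Bool.false)))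 @(fun (x2 : ((@Nat.hasNotBit (nat_lit 4) (@Cfsg.Agent.Lib.FieldFour.F4.ctorIdx @Cfsg.Agent.Lib.FieldFour.F4.w)) → @Bool)) => @Bool.true) @(fun (x2 : ((@Nat.hasNotBit (nat_lit 4) (@Cfsg.Agent.Lib.FieldFour.F4.ctorIdx @Cfsg.Agent.Lib.FieldFour.F4.v)) → @Bool)) => @x2 (@Nat.ne_of_beq_eq_false (@Nat.land (@OfNat.ofNat.{0} @Nat (nat_lit 1) (@instOfNatNat (nat_lit 1))) (@Nat.shiftRight (nat_lit 4) (nat_lit 3))) (@OfNat.ofNat.{0} @Nat (nat_lit 1) (@instOfNatNat (nat_lit 1))) (@Eq.refl.{1} @Bool @Bool.false))) @x1 @(fun (x2 : @Nat.hasNotBit (nat_lit 4) (@Cfsg.Agent.Lib.FieldFour.F4.ctorIdx @x1)) => @Bool.false)) (@Cfsg.Agent.Lib.FieldFour.F4.rec.{1} @(fun (x2 : @Cfsg.Agent.Lib.FieldFour.F4) => (((@Nat.hasNotBit (nat_lit 8) (@Cfsg.Agent.Lib.FieldFour.F4.ctorIdx @x2)) → @Bool) → @Bool)) @(fun (x2 : ((@Nat.hasNotBit (nat_lit 8) (@Cfsg.Agent.Lib.FieldFour.F4.ctorIdx @Cfsg.Agent.Lib.FieldFour.F4.o)) → @Bool)) => @x2 (@Nat.ne_of_beq_eq_false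 (@Nat.land (@OfNat.ofNat.{0} @Nat (nat_lit 1) (@instOfNatNat (nat_lit 1))) (@Nat.shiftRight (nat_lit 8) (nat_lit 0))) (@OfNat.ofNat.{0} @Nat (nat_lit 1) (@instOfNatNat (nat_lit 1))) (@Eq.refl.{1} @Bool @Bool.false))) @(fun (x2 : ((@Nat.hasNotBit (nat_lit 8) (@Cfsg.Agent.Lib.FieldFour.F4.ctorIdx @Cfsg.Agent.Lib.FieldFour.F4.i)) → @Bool)) => @x2 (@Nat.ne_of_beq_eq_false (@Nat.land (@OfNat.ofNat.{0} @Nat (nat_lit 1) (@instOfNatNat (nat_lit 1))) (@Nat.shiftRight (nat_lit 8) (nat_lit 1))) (@OfNat.ofNat.{0} @Nat (nat_lit 1) (@instOfNatNat (nat_lit 1))) (@Eq.refl.{1} @Bool @Bool.false))) @(fun (x2 : ((@Nat.hasNotBit (nat_lit 8) (@Cfsg.Agent.Lib.FieldFour.F4.ctorIdx @Cfsg.Agent.Lib.FieldFour.F4.w)) → @Bool)) => @x2 (@Nat.ne_of_beq_eq_false (@Nat.land (@OfNat.ofNat.{0} @Nat (nat_lit 1) (@instOfNatNat (nat_lit 1))) (@Nat.shiftRight (nat_lit 8) (nat_lit 2))) (@OfNat.ofNat.{0} @Nat (nat_lit 1) (@instOfNatNat (nat_lit 1))) (@Eq.refl.{1}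 @Bool @Bool.false))) @(fun (x2 : ((@Nat.hasNotBit (nat_lit 8) (@Cfsg.Agent.Lib.FieldFour.F4.ctorIdx @Cfsg.Agent.Lib.FieldFour.F4.v)) → @Bool)) => @Bool.true) @x1 @(fun (x2 : @Nat.hasNotBit (nat_lit 8) (@Cfsg.Agent.Lib.FieldFour.F4.ctorIdx @x1)) => @Bool.false)) @x0)) ?_); (try delta Cfsg.Agent.ClassicalGeometry.SU32.beq); (try generalize @Cfsg.Agent.Lib.FieldFour.F4.ctorIdx = g0); rfl') | exact @Cfsg.Agent.ClassicalGeometry.SU32.beq | exact ()
private theorem _root_.Cfsg.Agent.KOf27f0f0.e1 : (by first | exact @Cfsg.Agent.ClassicalGeometry.SU32.beq = @_root_.Cfsg.Agent.KOf27f0f0.k1 | exact True : Prop) := by first | (delta _root_.Cfsg.Agent.KOf27f0f0.k1; exact @Subtype.property _ (fun g => @Cfsg.Agent.ClassicalGeometry.SU32.beq = @g) _) | rfl | trivial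
private noncomputable def _root_.Cfsg.Agent.KOf27f0f0.k2 : (by first | exact type_of% @Cfsg.Agent.Lib.FieldFour.F4.add | exact Unit : Sort _) := by first | (refine @Subtype.val _ (fun g => @Cfsg.Agent.Lib.FieldFour.F4.add = @g) (@Subtype.mk _ _ (@(fun (x0 : @Cfsg.Agent.Lib.FieldFour.F4) (x1 : @Cfsg.Agent.Lib.FieldFour.F4) => @Cfsg.Agent.Lib.FieldFour.F4.rec.{1} @(fun (x2 : @Cfsg.Agent.Lib.FieldFour.F4) => @Cfsg.Agent.Lib.FieldFour.F4) @x1 (@Cfsg.Agent.Lib.FieldFour.F4.rec.{1} @(fun (x2 : @Cfsg.Agent.Lib.FieldFour.F4) => @Cfsg.Agent.Lib.FieldFour.F4) @Cfsg.Agent.Lib.FieldFour.F4.i @Cfsg.Agent.Lib.FieldFour.F4.o @Cfsg.Agent.Lib.FieldFour.F4.v @Cfsg.Agent.Lib.FieldFour.F4.w @x1) (@Cfsg.Agent.Lib.FieldFour.F4.rec.{1} @(fun (x2 : @Cfsg.Agent.Lib.FieldFour.F4) => @Cfsg.Agent.Lib.FieldFour.F4) @Cfsg.Agent.Lib.FieldFour.F4.w @Cfsg.Agent.Lib.FieldFour.F4.v @Cfsg.Agent.Lib.FieldFour.F4.o @Cfsg.Agent.Lib.FieldFour.F4.i @x1) (@Cfsg.Agent.Lib.FieldFour.F4.rec.{1}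 @(fun (x2 : @Cfsg.Agent.Lib.FieldFour.F4) => @Cfsg.Agent.Lib.FieldFour.F4) @Cfsg.Agent.Lib.FieldFour.F4.v @Cfsg.Agent.Lib.FieldFour.F4.w @Cfsg.Agent.Lib.FieldFour.F4.i @Cfsg.Agent.Lib.FieldFour.F4.o @x1) @x0)) ?_); rfl') | exact @Cfsg.Agent.Lib.FieldFour.F4.add | exact ()
private theorem _root_.Cfsg.Agent.KOf27f0f0.e2 : (by first | exact @Cfsg.Agent.Lib.FieldFour.F4.add = @_root_.Cfsg.Agent.KOf27f0f0.k2 | exact True : Prop) := by first | (delta _root_.Cfsg.Agent.KOf27f0f0.k2; exact @Subtype.property _ (fun g => @Cfsg.Agent.Lib.FieldFour.F4.add = @g) _) | rfl | trivial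
private noncomputable def _root_.Cfsg.Agent.KOf27f0f0.k3 : (by first | exact type_of% @Cfsg.Agent.Lib.FieldFour.F4.mul | exact Unit : Sort _) := by first | (refine @Subtype.val _ (fun g => @Cfsg.Agent.Lib.FieldFour.F4.mul = @g) (@Subtype.mk _ _ (@(fun (x0 : @Cfsg.Agent.Lib.FieldFour.F4) (x1 : @Cfsg.Agent.Lib.FieldFour.F4) => @Cfsg.Agent.Lib.FieldFour.F4.rec.{1} @(fun (x2 : @Cfsg.Agent.Lib.FieldFour.F4) => @Cfsg.Agent.Lib.FieldFour.F4) @Cfsg.Agent.Lib.FieldFour.F4.o @x1 (@Cfsg.Agent.Lib.FieldFour.F4.rec.{1} @(fun (x2 : @Cfsg.Agent.Lib.FieldFour.F4) => @Cfsg.Agent.Lib.FieldFour.F4) @Cfsg.Agent.Lib.FieldFour.F4.o @Cfsg.Agent.Lib.FieldFour.F4.w @Cfsg.Agent.Lib.FieldFour.F4.v @Cfsg.Agent.Lib.FieldFour.F4.i @x1) (@Cfsg.Agent.Lib.FieldFour.F4.rec.{1} @(fun (x2 : @Cfsg.Agent.Lib.FieldFour.F4) => @Cfsg.Agent.Lib.FieldFour.F4) @Cfsg.Agent.Lib.FieldFour.F4.o @Cfsg.Agent.Lib.FieldFour.F4.v @Cfsg.Agent.Lib.FieldFour.F4.i @Cfsg.Agent.Lib.FieldFour.F4.w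 @x1) @x0)) ?_); rfl') | exact @Cfsg.Agent.Lib.FieldFour.F4.mul | exact ()
private theorem _root_.Cfsg.Agent.KOf27f0f0.e3 : (by first | exact @Cfsg.Agent.Lib.FieldFour.F4.mul = @_root_.Cfsg.Agent.KOf27f0f0.k3 | exact True : Prop) := by first | (delta _root_.Cfsg.Agent.KOf27f0f0.k3; exact @Subtype.property _ (fun g => @Cfsg.Agent.Lib.FieldFour.F4.mul = @g) _) | rfl | trivial
private noncomputable def _root_.Cfsg.Agent.KOf27f0f0.k4 : (by first | exact type_of% @Cfsg.Agent.H968.EPU.GUThree.checkG | exact Unit : Sort _) := by first | (refine @Subtype.val _ (fun g => @Cfsg.Agent.H968.EPU.GUThree.checkG = @g) (@Subtype.mk _ _ (@(fun (x0 : (@Cfsg.Agent.ClassicalGeometry.SU32.M → @Bool)) => @Cfsg.Agent.KOf27f0f0.k0 @(fun (x1 : @Cfsg.Agent.Lib.FieldFour.F4) => @Cfsg.Agent.KOf27f0f0.k0 @(fun (x2 : @Cfsg.Agent.Lib.FieldFour.F4) => @Cfsg.Agent.KOf27f0f0.k0 @(fun (x3 : @Cfsg.Agent.Lib.FieldFour.F4) => @Bool.rec.{1} @(fun (x4 : @Bool)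 => @Bool) (@Cfsg.Agent.KOf27f0f0.k0 @(fun (x4 : @Cfsg.Agent.Lib.FieldFour.F4) => @Cfsg.Agent.KOf27f0f0.k0 @(fun (x5 : @Cfsg.Agent.Lib.FieldFour.F4) => @Cfsg.Agent.KOf27f0f0.k0 @(fun (x6 : @Cfsg.Agent.Lib.FieldFour.F4) => @Bool.rec.{1} @(fun (x7 : @Bool) => @Bool) (@Bool.rec.{1} @(fun (x7 : @Bool) => @Bool) (@Cfsg.Agent.KOf27f0f0.k0 @(fun (x7 : @Cfsg.Agent.Lib.FieldFour.F4) => @Cfsg.Agent.KOf27f0f0.k0 @(fun (x8 : @Cfsg.Agent.Lib.FieldFour.F4) => @Cfsg.Agent.KOf27f0f0.k0 @(fun (x9 : @Cfsg.Agent.Lib.FieldFour.F4) => @Bool.rec.{1} @(fun (x10 : @Bool) => @Bool) (@Bool.rec.{1} @(fun (x10 : @Bool) => @Bool) (@Bool.rec.{1} @(fun (x10 : @Bool) => @Bool) (@x0 (@Cfsg.Agent.ClassicalGeometry.SU32.M.mk @x1 @x4 @x7 @x2 @x5 @x8 @x3 @x6 @x9)) @Bool.true (@Bool.rec.{1} @(fun (x10 : @Bool) => @Bool) @Bool.true @Bool.false (@Cfsg.Agent.KOf27f0f0.k1 (@Cfsg.Agent.KOf27f0f0.k2 (@Cfsg.Agent.KOf27f0f0.k3 @x7 (@Cfsg.Agent.Lib.FieldFour.F4.rec.{1}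 @(fun (x10 : @Cfsg.Agent.Lib.FieldFour.F4) => @Cfsg.Agent.Lib.FieldFour.F4) @Cfsg.Agent.Lib.FieldFour.F4.o @Cfsg.Agent.Lib.FieldFour.F4.i @Cfsg.Agent.Lib.FieldFour.F4.v @Cfsg.Agent.Lib.FieldFour.F4.w @x7)) (@Cfsg.Agent.KOf27f0f0.k2 (@Cfsg.Agent.KOf27f0f0.k3 @x8 (@Cfsg.Agent.Lib.FieldFour.F4.rec.{1} @(fun (x10 : @Cfsg.Agent.Lib.FieldFour.F4) => @Cfsg.Agent.Lib.FieldFour.F4) @Cfsg.Agent.Lib.FieldFour.F4.o @Cfsg.Agent.Lib.FieldFour.F4.i @Cfsg.Agent.Lib.FieldFour.F4.v @Cfsg.Agent.Lib.FieldFour.F4.w @x8)) (@Cfsg.Agent.KOf27f0f0.k3 @x9 (@Cfsg.Agent.Lib.FieldFour.F4.rec.{1} @(fun (x10 : @Cfsg.Agent.Lib.FieldFour.F4) => @Cfsg.Agent.Lib.FieldFour.F4) @Cfsg.Agent.Lib.FieldFour.F4.o @Cfsg.Agent.Lib.FieldFour.F4.i @Cfsg.Agent.Lib.FieldFour.F4.v @Cfsg.Agent.Lib.FieldFour.F4.w @x9)))) @Cfsg.Agent.Lib.FieldFour.F4.i))) @Bool.true (@Bool.rec.{1} @(fun (x10 : @Bool) => @Bool) @Bool.true @Bool.false (@Cfsg.Agent.KOf27f0f0.k1 (@Cfsg.Agent.KOf27f0f0.k2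 (@Cfsg.Agent.KOf27f0f0.k3 @x4 (@Cfsg.Agent.Lib.FieldFour.F4.rec.{1} @(fun (x10 : @Cfsg.Agent.Lib.FieldFour.F4) => @Cfsg.Agent.Lib.FieldFour.F4) @Cfsg.Agent.Lib.FieldFour.F4.o @Cfsg.Agent.Lib.FieldFour.F4.i @Cfsg.Agent.Lib.FieldFour.F4.v @Cfsg.Agent.Lib.FieldFour.F4.w @x7)) (@Cfsg.Agent.KOf27f0f0.k2 (@Cfsg.Agent.KOf27f0f0.k3 @x5 (@Cfsg.Agent.Lib.FieldFour.F4.rec.{1} @(fun (x10 : @Cfsg.Agent.Lib.FieldFour.F4) => @Cfsg.Agent.Lib.FieldFour.F4) @Cfsg.Agent.Lib.FieldFour.F4.o @Cfsg.Agent.Lib.FieldFour.F4.i @Cfsg.Agent.Lib.FieldFour.F4.v @Cfsg.Agent.Lib.FieldFour.F4.w @x8)) (@Cfsg.Agent.KOf27f0f0.k3 @x6 (@Cfsg.Agent.Lib.FieldFour.F4.rec.{1} @(fun (x10 : @Cfsg.Agent.Lib.FieldFour.F4) => @Cfsg.Agent.Lib.FieldFour.F4) @Cfsg.Agent.Lib.FieldFour.F4.o @Cfsg.Agent.Lib.FieldFour.F4.i @Cfsg.Agent.Lib.FieldFour.F4.v @Cfsg.Agent.Lib.FieldFour.F4.w @x9)))) @Cfsg.Agent.Lib.FieldFour.F4.o))) @Bool.true (@Bool.rec.{1} @(fun (x10 : @Bool) =>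 @Bool) @Bool.true @Bool.false (@Cfsg.Agent.KOf27f0f0.k1 (@Cfsg.Agent.KOf27f0f0.k2 (@Cfsg.Agent.KOf27f0f0.k3 @x1 (@Cfsg.Agent.Lib.FieldFour.F4.rec.{1} @(fun (x10 : @Cfsg.Agent.Lib.FieldFour.F4) => @Cfsg.Agent.Lib.FieldFour.F4) @Cfsg.Agent.Lib.FieldFour.F4.o @Cfsg.Agent.Lib.FieldFour.F4.i @Cfsg.Agent.Lib.FieldFour.F4.v @Cfsg.Agent.Lib.FieldFour.F4.w @x7)) (@Cfsg.Agent.KOf27f0f0.k2 (@Cfsg.Agent.KOf27f0f0.k3 @x2 (@Cfsg.Agent.Lib.FieldFour.F4.rec.{1} @(fun (x10 : @Cfsg.Agent.Lib.FieldFour.F4) => @Cfsg.Agent.Lib.FieldFour.F4) @Cfsg.Agent.Lib.FieldFour.F4.o @Cfsg.Agent.Lib.FieldFour.F4.i @Cfsg.Agent.Lib.FieldFour.F4.v @Cfsg.Agent.Lib.FieldFour.F4.w @x8)) (@Cfsg.Agent.KOf27f0f0.k3 @x3 (@Cfsg.Agent.Lib.FieldFour.F4.rec.{1} @(fun (x10 : @Cfsg.Agent.Lib.FieldFour.F4) => @Cfsg.Agent.Lib.FieldFour.F4) @Cfsg.Agent.Lib.FieldFour.F4.o @Cfsg.Agent.Lib.FieldFour.F4.i @Cfsg.Agent.Lib.FieldFour.F4.v @Cfsg.Agent.Lib.FieldFour.F4.w @x9)))) @Cfsg.Agent.Lib.FieldFour.F4.o))))))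 @Bool.true (@Bool.rec.{1} @(fun (x7 : @Bool) => @Bool) @Bool.true @Bool.false (@Cfsg.Agent.KOf27f0f0.k1 (@Cfsg.Agent.KOf27f0f0.k2 (@Cfsg.Agent.KOf27f0f0.k3 @x1 (@Cfsg.Agent.Lib.FieldFour.F4.rec.{1} @(fun (x7 : @Cfsg.Agent.Lib.FieldFour.F4) => @Cfsg.Agent.Lib.FieldFour.F4) @Cfsg.Agent.Lib.FieldFour.F4.o @Cfsg.Agent.Lib.FieldFour.F4.i @Cfsg.Agent.Lib.FieldFour.F4.v @Cfsg.Agent.Lib.FieldFour.F4.w @x4)) (@Cfsg.Agent.KOf27f0f0.k2 (@Cfsg.Agent.KOf27f0f0.k3 @x2 (@Cfsg.Agent.Lib.FieldFour.F4.rec.{1} @(fun (x7 : @Cfsg.Agent.Lib.FieldFour.F4) => @Cfsg.Agent.Lib.FieldFour.F4) @Cfsg.Agent.Lib.FieldFour.F4.o @Cfsg.Agent.Lib.FieldFour.F4.i @Cfsg.Agent.Lib.FieldFour.F4.v @Cfsg.Agent.Lib.FieldFour.F4.w @x5)) (@Cfsg.Agent.KOf27f0f0.k3 @x3 (@Cfsg.Agent.Lib.FieldFour.F4.rec.{1} @(fun (x7 : @Cfsg.Agent.Lib.FieldFour.F4) => @Cfsg.Agent.Lib.FieldFour.F4) @Cfsg.Agent.Lib.FieldFour.F4.o @Cfsg.Agent.Lib.FieldFour.F4.i @Cfsg.Agent.Lib.FieldFour.F4.v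 @Cfsg.Agent.Lib.FieldFour.F4.w @x6)))) @Cfsg.Agent.Lib.FieldFour.F4.o))) @Bool.true (@Bool.rec.{1} @(fun (x7 : @Bool) => @Bool) @Bool.true @Bool.false (@Cfsg.Agent.KOf27f0f0.k1 (@Cfsg.Agent.KOf27f0f0.k2 (@Cfsg.Agent.KOf27f0f0.k3 @x4 (@Cfsg.Agent.Lib.FieldFour.F4.rec.{1} @(fun (x7 : @Cfsg.Agent.Lib.FieldFour.F4) => @Cfsg.Agent.Lib.FieldFour.F4) @Cfsg.Agent.Lib.FieldFour.F4.o @Cfsg.Agent.Lib.FieldFour.F4.i @Cfsg.Agent.Lib.FieldFour.F4.v @Cfsg.Agent.Lib.FieldFour.F4.w @x4)) (@Cfsg.Agent.KOf27f0f0.k2 (@Cfsg.Agent.KOf27f0f0.k3 @x5 (@Cfsg.Agent.Lib.FieldFour.F4.rec.{1} @(fun (x7 : @Cfsg.Agent.Lib.FieldFour.F4) => @Cfsg.Agent.Lib.FieldFour.F4) @Cfsg.Agent.Lib.FieldFour.F4.o @Cfsg.Agent.Lib.FieldFour.F4.i @Cfsg.Agent.Lib.FieldFour.F4.v @Cfsg.Agent.Lib.FieldFour.F4.w @x5)) (@Cfsg.Agent.KOf27f0f0.k3 @x6 (@Cfsg.Agent.Lib.FieldFour.F4.rec.{1} @(fun (x7 : @Cfsg.Agent.Lib.FieldFour.F4) => @Cfsg.Agent.Lib.FieldFour.F4) @Cfsg.Agent.Lib.FieldFour.F4.o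 @Cfsg.Agent.Lib.FieldFour.F4.i @Cfsg.Agent.Lib.FieldFour.F4.v @Cfsg.Agent.Lib.FieldFour.F4.w @x6)))) @Cfsg.Agent.Lib.FieldFour.F4.i)))))) @Bool.true (@Bool.rec.{1} @(fun (x4 : @Bool) => @Bool) @Bool.true @Bool.false (@Cfsg.Agent.KOf27f0f0.k1 (@Cfsg.Agent.KOf27f0f0.k2 (@Cfsg.Agent.KOf27f0f0.k3 @x1 (@Cfsg.Agent.Lib.FieldFour.F4.rec.{1} @(fun (x4 : @Cfsg.Agent.Lib.FieldFour.F4) => @Cfsg.Agent.Lib.FieldFour.F4) @Cfsg.Agent.Lib.FieldFour.F4.o @Cfsg.Agent.Lib.FieldFour.F4.i @Cfsg.Agent.Lib.FieldFour.F4.v @Cfsg.Agent.Lib.FieldFour.F4.w @x1)) (@Cfsg.Agent.KOf27f0f0.k2 (@Cfsg.Agent.KOf27f0f0.k3 @x2 (@Cfsg.Agent.Lib.FieldFour.F4.rec.{1} @(fun (x4 : @Cfsg.Agent.Lib.FieldFour.F4) => @Cfsg.Agent.Lib.FieldFour.F4) @Cfsg.Agent.Lib.FieldFour.F4.o @Cfsg.Agent.Lib.FieldFour.F4.i @Cfsg.Agent.Lib.FieldFour.F4.v @Cfsg.Agent.Lib.FieldFour.F4.w @x2)) (@Cfsg.Agent.KOf27f0f0.k3 @x3 (@Cfsg.Agent.Lib.FieldFour.F4.rec.{1} @(fun (x4 : @Cfsg.Agent.Lib.FieldFour.F4)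 => @Cfsg.Agent.Lib.FieldFour.F4) @Cfsg.Agent.Lib.FieldFour.F4.o @Cfsg.Agent.Lib.FieldFour.F4.i @Cfsg.Agent.Lib.FieldFour.F4.v @Cfsg.Agent.Lib.FieldFour.F4.w @x3)))) @Cfsg.Agent.Lib.FieldFour.F4.i))))))) ?_); rewrite [← Cfsg.Agent.KOf27f0f0.e3, ← Cfsg.Agent.KOf27f0f0.e2, ← Cfsg.Agent.KOf27f0f0.e1, ← Cfsg.Agent.KOf27f0f0.e0]; (try delta Cfsg.Agent.H968.EPU.GUThree.checkG Cfsg.Agent.ClassicalGeometry.SU32.imp Cfsg.Agent.ClassicalGeometry.SU32.h3 Cfsg.Agent.ClassicalGeometry.SU32.dot3 Cfsg.Agent.ClassicalGeometry.SU32.sq); (try generalize @Cfsg.Agent.ClassicalGeometry.SU32.all4 = g0); (try generalize @Cfsg.Agent.ClassicalGeometry.SU32.beq = g1); (try generalize @Cfsg.Agent.Lib.FieldFour.F4.add = g2); (try generalize @Cfsg.Agent.Lib.FieldFour.F4.mul = g3); rfl') | exact @Cfsg.Agent.H968.EPU.GUThree.checkG | exact ()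
private theorem _root_.Cfsg.Agent.KOf27f0f0.e4 : (by first | exact @Cfsg.Agent.H968.EPU.GUThree.checkG = @_root_.Cfsg.Agent.KOf27f0f0.k4 | exact True : Prop) := by first | (delta _root_.Cfsg.Agent.KOf27f0f0.k4; exact @Subtype.property _ (fun g => @Cfsg.Agent.H968.EPU.GUThree.checkG = @g) _) | rfl | trivial
private noncomputable def _root_.Cfsg.Agent.KOf27f0f0.k5 : (by first | exact type_of% @Cfsg.Agent.ClassicalGeometry.SU32.beqM | exact Unit : Sort _) := by first | (refine @Subtype.val _ (fun g => @Cfsg.Agent.ClassicalGeometry.SU32.beqM = @g) (@Subtype.mk _ _ (@(fun (x0 : @Cfsg.Agent.ClassicalGeometry.SU32.M) (x1 : @Cfsg.Agent.ClassicalGeometry.SU32.M) => @Bool.rec.{1} @(fun (x2 : @Bool) => @Bool) @Bool.false (@Cfsg.Agent.KOf27f0f0.k1 (@Cfsg.Agent.ClassicalGeometry.SU32.M.k @x0) (@Cfsg.Agent.ClassicalGeometry.SU32.M.k @x1)) (@Bool.rec.{1} @(fun (x2 : @Bool) => @Bool) @Bool.false (@Cfsg.Agent.KOf27f0f0.k1 (@Cfsg.Agent.ClassicalGeometry.SU32.M.h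 @x0) (@Cfsg.Agent.ClassicalGeometry.SU32.M.h @x1)) (@Bool.rec.{1} @(fun (x2 : @Bool) => @Bool) @Bool.false (@Cfsg.Agent.KOf27f0f0.k1 (@Cfsg.Agent.ClassicalGeometry.SU32.M.g @x0) (@Cfsg.Agent.ClassicalGeometry.SU32.M.g @x1)) (@Bool.rec.{1} @(fun (x2 : @Bool) => @Bool) @Bool.false (@Cfsg.Agent.KOf27f0f0.k1 (@Cfsg.Agent.ClassicalGeometry.SU32.M.f @x0) (@Cfsg.Agent.ClassicalGeometry.SU32.M.f @x1)) (@Bool.rec.{1} @(fun (x2 : @Bool) => @Bool) @Bool.false (@Cfsg.Agent.KOf27f0f0.k1 (@Cfsg.Agent.ClassicalGeometry.SU32.M.e @x0) (@Cfsg.Agent.ClassicalGeometry.SU32.M.e @x1)) (@Bool.rec.{1} @(fun (x2 : @Bool) => @Bool) @Bool.false (@Cfsg.Agent.KOf27f0f0.k1 (@Cfsg.Agent.ClassicalGeometry.SU32.M.d @x0) (@Cfsg.Agent.ClassicalGeometry.SU32.M.d @x1)) (@Bool.rec.{1} @(fun (x2 : @Bool) => @Bool) @Bool.false (@Cfsg.Agent.KOf27f0f0.k1 (@Cfsg.Agent.ClassicalGeometry.SU32.M.c @x0) (@Cfsg.Agent.ClassicalGeometry.SU32.M.c @x1)) (@Bool.rec.{1} @(fun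 (x2 : @Bool) => @Bool) @Bool.false (@Cfsg.Agent.KOf27f0f0.k1 (@Cfsg.Agent.ClassicalGeometry.SU32.M.b @x0) (@Cfsg.Agent.ClassicalGeometry.SU32.M.b @x1)) (@Cfsg.Agent.KOf27f0f0.k1 (@Cfsg.Agent.ClassicalGeometry.SU32.M.a @x0) (@Cfsg.Agent.ClassicalGeometry.SU32.M.a @x1))))))))))) ?_); rewrite [← Cfsg.Agent.KOf27f0f0.e1]; (try delta Cfsg.Agent.ClassicalGeometry.SU32.beqM); (try generalize @Cfsg.Agent.ClassicalGeometry.SU32.beq = g0); rfl') | exact @Cfsg.Agent.ClassicalGeometry.SU32.beqM | exact ()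
private theorem _root_.Cfsg.Agent.KOf27f0f0.e5 : (by first | exact @Cfsg.Agent.ClassicalGeometry.SU32.beqM = @_root_.Cfsg.Agent.KOf27f0f0.k5 | exact True : Prop) := by first | (delta _root_.Cfsg.Agent.KOf27f0f0.k5; exact @Subtype.property _ (fun g => @Cfsg.Agent.ClassicalGeometry.SU32.beqM = @g) _) | rfl | trivial
private noncomputable def _root_.Cfsg.Agent.KOf27f0f0.k6 : (by first | exact type_of% @Cfsg.Agent.ClassicalGeometry.SU32.mulM | exact Unit : Sort _) := by first | (refine @Subtype.val _ (fun g => @Cfsg.Agent.ClassicalGeometry.SU32.mulM = @g) (@Subtype.mk _ _ (@(fun (x0 : @Cfsg.Agent.ClassicalGeometry.SU32.M) (x1 : @Cfsg.Agent.ClassicalGeometry.SU32.M) => @Cfsg.Agent.ClassicalGeometry.SU32.M.mk (@Cfsg.Agent.KOf27f0f0.k2 (@Cfsg.Agent.KOf27f0f0.k3 (@Cfsg.Agent.ClassicalGeometry.SU32.M.a @x0) (@Cfsg.Agent.ClassicalGeometry.SU32.M.a @x1)) (@Cfsg.Agent.KOf27f0f0.k2 (@Cfsg.Agent.KOf27f0f0.k3 (@Cfsg.Agent.ClassicalGeometry.SU32.M.b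 @x0) (@Cfsg.Agent.ClassicalGeometry.SU32.M.d @x1)) (@Cfsg.Agent.KOf27f0f0.k3 (@Cfsg.Agent.ClassicalGeometry.SU32.M.c @x0) (@Cfsg.Agent.ClassicalGeometry.SU32.M.g @x1)))) (@Cfsg.Agent.KOf27f0f0.k2 (@Cfsg.Agent.KOf27f0f0.k3 (@Cfsg.Agent.ClassicalGeometry.SU32.M.a @x0) (@Cfsg.Agent.ClassicalGeometry.SU32.M.b @x1)) (@Cfsg.Agent.KOf27f0f0.k2 (@Cfsg.Agent.KOf27f0f0.k3 (@Cfsg.Agent.ClassicalGeometry.SU32.M.b @x0) (@Cfsg.Agent.ClassicalGeometry.SU32.M.e @x1)) (@Cfsg.Agent.KOf27f0f0.k3 (@Cfsg.Agent.ClassicalGeometry.SU32.M.c @x0) (@Cfsg.Agent.ClassicalGeometry.SU32.M.h @x1)))) (@Cfsg.Agent.KOf27f0f0.k2 (@Cfsg.Agent.KOf27f0f0.k3 (@Cfsg.Agent.ClassicalGeometry.SU32.M.a @x0) (@Cfsg.Agent.ClassicalGeometry.SU32.M.c @x1)) (@Cfsg.Agent.KOf27f0f0.k2 (@Cfsg.Agent.KOf27f0f0.k3 (@Cfsg.Agent.ClassicalGeometry.SU32.M.b @x0) (@Cfsg.Agent.ClassicalGeometry.SU32.M.f @x1)) (@Cfsg.Agent.KOf27f0f0.k3 (@Cfsg.Agent.ClassicalGeometry.SU32.M.c @x0) (@Cfsg.Agent.ClassicalGeometry.SU32.M.k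 @x1)))) (@Cfsg.Agent.KOf27f0f0.k2 (@Cfsg.Agent.KOf27f0f0.k3 (@Cfsg.Agent.ClassicalGeometry.SU32.M.d @x0) (@Cfsg.Agent.ClassicalGeometry.SU32.M.a @x1)) (@Cfsg.Agent.KOf27f0f0.k2 (@Cfsg.Agent.KOf27f0f0.k3 (@Cfsg.Agent.ClassicalGeometry.SU32.M.e @x0) (@Cfsg.Agent.ClassicalGeometry.SU32.M.d @x1)) (@Cfsg.Agent.KOf27f0f0.k3 (@Cfsg.Agent.ClassicalGeometry.SU32.M.f @x0) (@Cfsg.Agent.ClassicalGeometry.SU32.M.g @x1)))) (@Cfsg.Agent.KOf27f0f0.k2 (@Cfsg.Agent.KOf27f0f0.k3 (@Cfsg.Agent.ClassicalGeometry.SU32.M.d @x0) (@Cfsg.Agent.ClassicalGeometry.SU32.M.b @x1)) (@Cfsg.Agent.KOf27f0f0.k2 (@Cfsg.Agent.KOf27f0f0.k3 (@Cfsg.Agent.ClassicalGeometry.SU32.M.e @x0) (@Cfsg.Agent.ClassicalGeometry.SU32.M.e @x1)) (@Cfsg.Agent.KOf27f0f0.k3 (@Cfsg.Agent.ClassicalGeometry.SU32.M.f @x0) (@Cfsg.Agent.ClassicalGeometry.SU32.M.h @x1)))) (@Cfsg.Agent.KOf27f0f0.k2 (@Cfsg.Agent.KOf27f0f0.k3 (@Cfsg.Agent.ClassicalGeometry.SU32.M.d @x0) (@Cfsg.Agent.ClassicalGeometry.SU32.M.c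 @x1)) (@Cfsg.Agent.KOf27f0f0.k2 (@Cfsg.Agent.KOf27f0f0.k3 (@Cfsg.Agent.ClassicalGeometry.SU32.M.e @x0) (@Cfsg.Agent.ClassicalGeometry.SU32.M.f @x1)) (@Cfsg.Agent.KOf27f0f0.k3 (@Cfsg.Agent.ClassicalGeometry.SU32.M.f @x0) (@Cfsg.Agent.ClassicalGeometry.SU32.M.k @x1)))) (@Cfsg.Agent.KOf27f0f0.k2 (@Cfsg.Agent.KOf27f0f0.k3 (@Cfsg.Agent.ClassicalGeometry.SU32.M.g @x0) (@Cfsg.Agent.ClassicalGeometry.SU32.M.a @x1)) (@Cfsg.Agent.KOf27f0f0.k2 (@Cfsg.Agent.KOf27f0f0.k3 (@Cfsg.Agent.ClassicalGeometry.SU32.M.h @x0) (@Cfsg.Agent.ClassicalGeometry.SU32.M.d @x1)) (@Cfsg.Agent.KOf27f0f0.k3 (@Cfsg.Agent.ClassicalGeometry.SU32.M.k @x0) (@Cfsg.Agent.ClassicalGeometry.SU32.M.g @x1)))) (@Cfsg.Agent.KOf27f0f0.k2 (@Cfsg.Agent.KOf27f0f0.k3 (@Cfsg.Agent.ClassicalGeometry.SU32.M.g @x0) (@Cfsg.Agent.ClassicalGeometry.SU32.M.b @x1)) (@Cfsg.Agent.KOf27f0f0.k2 (@Cfsg.Agent.KOf27f0f0.k3 (@Cfsg.Agent.ClassicalGeometry.SU32.M.h @x0) (@Cfsg.Agent.ClassicalGeometry.SU32.M.e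 @x1)) (@Cfsg.Agent.KOf27f0f0.k3 (@Cfsg.Agent.ClassicalGeometry.SU32.M.k @x0) (@Cfsg.Agent.ClassicalGeometry.SU32.M.h @x1)))) (@Cfsg.Agent.KOf27f0f0.k2 (@Cfsg.Agent.KOf27f0f0.k3 (@Cfsg.Agent.ClassicalGeometry.SU32.M.g @x0) (@Cfsg.Agent.ClassicalGeometry.SU32.M.c @x1)) (@Cfsg.Agent.KOf27f0f0.k2 (@Cfsg.Agent.KOf27f0f0.k3 (@Cfsg.Agent.ClassicalGeometry.SU32.M.h @x0) (@Cfsg.Agent.ClassicalGeometry.SU32.M.f @x1)) (@Cfsg.Agent.KOf27f0f0.k3 (@Cfsg.Agent.ClassicalGeometry.SU32.M.k @x0) (@Cfsg.Agent.ClassicalGeometry.SU32.M.k @x1)))))) ?_); rewrite [← Cfsg.Agent.KOf27f0f0.e3, ← Cfsg.Agent.KOf27f0f0.e2]; (try delta Cfsg.Agent.ClassicalGeometry.SU32.mulM Cfsg.Agent.ClassicalGeometry.SU32.dot3); (try generalize @Cfsg.Agent.Lib.FieldFour.F4.add = g0); (try generalize @Cfsg.Agent.Lib.FieldFour.F4.mul = g1); rfl') | exact @Cfsg.Agent.ClassicalGeometry.SU32.mulM | exact ()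
private theorem _root_.Cfsg.Agent.KOf27f0f0.e6 : (by first | exact @Cfsg.Agent.ClassicalGeometry.SU32.mulM = @_root_.Cfsg.Agent.KOf27f0f0.k6 | exact True : Prop) := by first | (delta _root_.Cfsg.Agent.KOf27f0f0.k6; exact @Subtype.property _ (fun g => @Cfsg.Agent.ClassicalGeometry.SU32.mulM = @g) _) | rfl | trivial
private noncomputable def _root_.Cfsg.Agent.KOf27f0f0.k7 : (by first | exact type_of% @Cfsg.Agent.H968.EPU.GUThree.starM | exact Unit : Sort _) := by first | (refine @Subtype.val _ (fun g => @Cfsg.Agent.H968.EPU.GUThree.starM = @g) (@Subtype.mk _ _ (@(fun (x0 : @Cfsg.Agent.ClassicalGeometry.SU32.M) => @Cfsg.Agent.ClassicalGeometry.SU32.M.mk (@Cfsg.Agent.Lib.FieldFour.F4.rec.{1} @(fun (x1 : @Cfsg.Agent.Lib.FieldFour.F4) => @Cfsg.Agent.Lib.FieldFour.F4) @Cfsg.Agent.Lib.FieldFour.F4.o @Cfsg.Agent.Lib.FieldFour.F4.i @Cfsg.Agent.Lib.FieldFour.F4.v @Cfsg.Agent.Lib.FieldFour.F4.w (@Cfsg.Agent.ClassicalGeometry.SU32.M.a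 @x0)) (@Cfsg.Agent.Lib.FieldFour.F4.rec.{1} @(fun (x1 : @Cfsg.Agent.Lib.FieldFour.F4) => @Cfsg.Agent.Lib.FieldFour.F4) @Cfsg.Agent.Lib.FieldFour.F4.o @Cfsg.Agent.Lib.FieldFour.F4.i @Cfsg.Agent.Lib.FieldFour.F4.v @Cfsg.Agent.Lib.FieldFour.F4.w (@Cfsg.Agent.ClassicalGeometry.SU32.M.d @x0)) (@Cfsg.Agent.Lib.FieldFour.F4.rec.{1} @(fun (x1 : @Cfsg.Agent.Lib.FieldFour.F4) => @Cfsg.Agent.Lib.FieldFour.F4) @Cfsg.Agent.Lib.FieldFour.F4.o @Cfsg.Agent.Lib.FieldFour.F4.i @Cfsg.Agent.Lib.FieldFour.F4.v @Cfsg.Agent.Lib.FieldFour.F4.w (@Cfsg.Agent.ClassicalGeometry.SU32.M.g @x0)) (@Cfsg.Agent.Lib.FieldFour.F4.rec.{1} @(fun (x1 : @Cfsg.Agent.Lib.FieldFour.F4) => @Cfsg.Agent.Lib.FieldFour.F4) @Cfsg.Agent.Lib.FieldFour.F4.o @Cfsg.Agent.Lib.FieldFour.F4.i @Cfsg.Agent.Lib.FieldFour.F4.v @Cfsg.Agent.Lib.FieldFour.F4.w (@Cfsg.Agent.ClassicalGeometry.SU32.M.b @x0)) (@Cfsg.Agent.Lib.FieldFour.F4.rec.{1} @(fun (x1 : @Cfsg.Agent.Lib.FieldFour.F4)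 => @Cfsg.Agent.Lib.FieldFour.F4) @Cfsg.Agent.Lib.FieldFour.F4.o @Cfsg.Agent.Lib.FieldFour.F4.i @Cfsg.Agent.Lib.FieldFour.F4.v @Cfsg.Agent.Lib.FieldFour.F4.w (@Cfsg.Agent.ClassicalGeometry.SU32.M.e @x0)) (@Cfsg.Agent.Lib.FieldFour.F4.rec.{1} @(fun (x1 : @Cfsg.Agent.Lib.FieldFour.F4) => @Cfsg.Agent.Lib.FieldFour.F4) @Cfsg.Agent.Lib.FieldFour.F4.o @Cfsg.Agent.Lib.FieldFour.F4.i @Cfsg.Agent.Lib.FieldFour.F4.v @Cfsg.Agent.Lib.FieldFour.F4.w (@Cfsg.Agent.ClassicalGeometry.SU32.M.h @x0)) (@Cfsg.Agent.Lib.FieldFour.F4.rec.{1} @(fun (x1 : @Cfsg.Agent.Lib.FieldFour.F4) => @Cfsg.Agent.Lib.FieldFour.F4) @Cfsg.Agent.Lib.FieldFour.F4.o @Cfsg.Agent.Lib.FieldFour.F4.i @Cfsg.Agent.Lib.FieldFour.F4.v @Cfsg.Agent.Lib.FieldFour.F4.w (@Cfsg.Agent.ClassicalGeometry.SU32.M.c @x0)) (@Cfsg.Agent.Lib.FieldFour.F4.rec.{1} @(fun (x1 : @Cfsg.Agent.Lib.FieldFour.F4) => @Cfsg.Agent.Lib.FieldFour.F4) @Cfsg.Agent.Lib.FieldFour.F4.o @Cfsg.Agent.Lib.FieldFour.F4.i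 @Cfsg.Agent.Lib.FieldFour.F4.v @Cfsg.Agent.Lib.FieldFour.F4.w (@Cfsg.Agent.ClassicalGeometry.SU32.M.f @x0)) (@Cfsg.Agent.Lib.FieldFour.F4.rec.{1} @(fun (x1 : @Cfsg.Agent.Lib.FieldFour.F4) => @Cfsg.Agent.Lib.FieldFour.F4) @Cfsg.Agent.Lib.FieldFour.F4.o @Cfsg.Agent.Lib.FieldFour.F4.i @Cfsg.Agent.Lib.FieldFour.F4.v @Cfsg.Agent.Lib.FieldFour.F4.w (@Cfsg.Agent.ClassicalGeometry.SU32.M.k @x0)))) ?_); rfl') | exact @Cfsg.Agent.H968.EPU.GUThree.starM | exact ()
private theorem _root_.Cfsg.Agent.KOf27f0f0.e7 : (by first | exact @Cfsg.Agent.H968.EPU.GUThree.starM = @_root_.Cfsg.Agent.KOf27f0f0.k7 | exact True : Prop) := by first | (delta _root_.Cfsg.Agent.KOf27f0f0.k7; exact @Subtype.property _ (fun g => @Cfsg.Agent.H968.EPU.GUThree.starM = @g) _) | rfl | trivial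

theorem ck_star : checkG (fun A => beqM (mulM A (starM A)) oneM) = true := by (first | (rewrite [Cfsg.Agent.KOf27f0f0.e4, Cfsg.Agent.KOf27f0f0.e5, Cfsg.Agent.KOf27f0f0.e6, Cfsg.Agent.KOf27f0f0.e7]; decide +kernel) | decide +kernel)

private noncomputable def _root_.Cfsg.Agent.KOf27f0f0.k8 : (by first | exact type_of% @Cfsg.Agent.ClassicalGeometry.SU32.detM | exact Unit : Sort _) := by first | (refine @Subtype.val _ (fun g => @Cfsg.Agent.ClassicalGeometry.SU32.detM = @g) (@Subtype.mk _ _ (@(fun (x0 : @Cfsg.Agent.ClassicalGeometry.SU32.M) => @Cfsg.Agent.KOf27f0f0.k2 (@Cfsg.Agent.KOf27f0f0.k3 (@Cfsg.Agent.ClassicalGeometry.SU32.M.a @x0) (@Cfsg.Agent.KOf27f0f0.k2 (@Cfsg.Agent.KOf27f0f0.k3 (@Cfsg.Agent.ClassicalGeometry.SU32.M.e @x0) (@Cfsg.Agent.ClassicalGeometry.SU32.M.k @x0)) (@Cfsg.Agent.KOf27f0f0.k3 (@Cfsg.Agent.ClassicalGeometry.SU32.M.f @x0) (@Cfsg.Agent.ClassicalGeometry.SU32.M.h @x0)))) (@Cfsg.Agent.KOf27f0f0.k2 (@Cfsg.Agent.KOf27f0f0.k3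 (@Cfsg.Agent.ClassicalGeometry.SU32.M.b @x0) (@Cfsg.Agent.KOf27f0f0.k2 (@Cfsg.Agent.KOf27f0f0.k3 (@Cfsg.Agent.ClassicalGeometry.SU32.M.d @x0) (@Cfsg.Agent.ClassicalGeometry.SU32.M.k @x0)) (@Cfsg.Agent.KOf27f0f0.k3 (@Cfsg.Agent.ClassicalGeometry.SU32.M.f @x0) (@Cfsg.Agent.ClassicalGeometry.SU32.M.g @x0)))) (@Cfsg.Agent.KOf27f0f0.k3 (@Cfsg.Agent.ClassicalGeometry.SU32.M.c @x0) (@Cfsg.Agent.KOf27f0f0.k2 (@Cfsg.Agent.KOf27f0f0.k3 (@Cfsg.Agent.ClassicalGeometry.SU32.M.d @x0) (@Cfsg.Agent.ClassicalGeometry.SU32.M.h @x0)) (@Cfsg.Agent.KOf27f0f0.k3 (@Cfsg.Agent.ClassicalGeometry.SU32.M.e @x0) (@Cfsg.Agent.ClassicalGeometry.SU32.M.g @x0))))))) ?_); rewrite [← Cfsg.Agent.KOf27f0f0.e3, ← Cfsg.Agent.KOf27f0f0.e2]; (try delta Cfsg.Agent.ClassicalGeometry.SU32.detM); (try generalize @Cfsg.Agent.Lib.FieldFour.F4.add = g0); (try generalize @Cfsg.Agent.Lib.FieldFour.F4.mul = g1); rfl') | exact @Cfsg.Agent.ClassicalGeometry.SU32.detM | exact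 ()
private theorem _root_.Cfsg.Agent.KOf27f0f0.e8 : (by first | exact @Cfsg.Agent.ClassicalGeometry.SU32.detM = @_root_.Cfsg.Agent.KOf27f0f0.k8 | exact True : Prop) := by first | (delta _root_.Cfsg.Agent.KOf27f0f0.k8; exact @Subtype.property _ (fun g => @Cfsg.Agent.ClassicalGeometry.SU32.detM = @g) _) | rfl | trivial
private noncomputable def _root_.Cfsg.Agent.KOf27f0f0.k9 : (by first | exact type_of% @Cfsg.Agent.H968.EPU.GUThree.isUG | exact Unit : Sort _) := by first | (refine @Subtype.val _ (fun g => @Cfsg.Agent.H968.EPU.GUThree.isUG = @g) (@Subtype.mk _ _ (@(fun (x0 : @Cfsg.Agent.ClassicalGeometry.SU32.M) => @Bool.rec.{1} @(fun (x1 : @Bool) => @Bool) @Bool.false (@Bool.rec.{1} @(fun (x1 : @Bool) => @Bool) @Bool.false (@Bool.rec.{1} @(fun (x1 : @Bool) => @Bool) @Bool.false (@Bool.rec.{1} @(fun (x1 : @Bool) => @Bool) @Bool.false (@Bool.rec.{1} @(fun (x1 : @Bool) => @Bool) @Bool.false (@Bool.rec.{1} @(fun (x1 : @Bool)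 => @Bool) @Bool.false (@Bool.rec.{1} @(fun (x1 : @Bool) => @Bool) @Bool.true @Bool.false (@Cfsg.Agent.KOf27f0f0.k1 (@Cfsg.Agent.KOf27f0f0.k8 @x0) @Cfsg.Agent.Lib.FieldFour.F4.o)) (@Cfsg.Agent.KOf27f0f0.k1 (@Cfsg.Agent.KOf27f0f0.k2 (@Cfsg.Agent.KOf27f0f0.k3 (@Cfsg.Agent.ClassicalGeometry.SU32.M.b @x0) (@Cfsg.Agent.Lib.FieldFour.F4.rec.{1} @(fun (x1 : @Cfsg.Agent.Lib.FieldFour.F4) => @Cfsg.Agent.Lib.FieldFour.F4) @Cfsg.Agent.Lib.FieldFour.F4.o @Cfsg.Agent.Lib.FieldFour.F4.i @Cfsg.Agent.Lib.FieldFour.F4.v @Cfsg.Agent.Lib.FieldFour.F4.w (@Cfsg.Agent.ClassicalGeometry.SU32.M.c @x0))) (@Cfsg.Agent.KOf27f0f0.k2 (@Cfsg.Agent.KOf27f0f0.k3 (@Cfsg.Agent.ClassicalGeometry.SU32.M.e @x0) (@Cfsg.Agent.Lib.FieldFour.F4.rec.{1} @(fun (x1 : @Cfsg.Agent.Lib.FieldFour.F4) => @Cfsg.Agent.Lib.FieldFour.F4) @Cfsg.Agent.Lib.FieldFour.F4.o @Cfsg.Agent.Lib.FieldFour.F4.i @Cfsg.Agent.Lib.FieldFour.F4.v @Cfsg.Agent.Lib.FieldFour.F4.w (@Cfsg.Agent.ClassicalGeometry.SU32.M.f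 @x0))) (@Cfsg.Agent.KOf27f0f0.k3 (@Cfsg.Agent.ClassicalGeometry.SU32.M.h @x0) (@Cfsg.Agent.Lib.FieldFour.F4.rec.{1} @(fun (x1 : @Cfsg.Agent.Lib.FieldFour.F4) => @Cfsg.Agent.Lib.FieldFour.F4) @Cfsg.Agent.Lib.FieldFour.F4.o @Cfsg.Agent.Lib.FieldFour.F4.i @Cfsg.Agent.Lib.FieldFour.F4.v @Cfsg.Agent.Lib.FieldFour.F4.w (@Cfsg.Agent.ClassicalGeometry.SU32.M.k @x0))))) @Cfsg.Agent.Lib.FieldFour.F4.o)) (@Cfsg.Agent.KOf27f0f0.k1 (@Cfsg.Agent.KOf27f0f0.k2 (@Cfsg.Agent.KOf27f0f0.k3 (@Cfsg.Agent.ClassicalGeometry.SU32.M.a @x0) (@Cfsg.Agent.Lib.FieldFour.F4.rec.{1} @(fun (x1 : @Cfsg.Agent.Lib.FieldFour.F4) => @Cfsg.Agent.Lib.FieldFour.F4) @Cfsg.Agent.Lib.FieldFour.F4.o @Cfsg.Agent.Lib.FieldFour.F4.i @Cfsg.Agent.Lib.FieldFour.F4.v @Cfsg.Agent.Lib.FieldFour.F4.w (@Cfsg.Agent.ClassicalGeometry.SU32.M.c @x0))) (@Cfsg.Agent.KOf27f0f0.k2 (@Cfsg.Agent.KOf27f0f0.k3 (@Cfsg.Agent.ClassicalGeometry.SU32.M.d @x0) (@Cfsg.Agent.Lib.FieldFour.F4.rec.{1}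 @(fun (x1 : @Cfsg.Agent.Lib.FieldFour.F4) => @Cfsg.Agent.Lib.FieldFour.F4) @Cfsg.Agent.Lib.FieldFour.F4.o @Cfsg.Agent.Lib.FieldFour.F4.i @Cfsg.Agent.Lib.FieldFour.F4.v @Cfsg.Agent.Lib.FieldFour.F4.w (@Cfsg.Agent.ClassicalGeometry.SU32.M.f @x0))) (@Cfsg.Agent.KOf27f0f0.k3 (@Cfsg.Agent.ClassicalGeometry.SU32.M.g @x0) (@Cfsg.Agent.Lib.FieldFour.F4.rec.{1} @(fun (x1 : @Cfsg.Agent.Lib.FieldFour.F4) => @Cfsg.Agent.Lib.FieldFour.F4) @Cfsg.Agent.Lib.FieldFour.F4.o @Cfsg.Agent.Lib.FieldFour.F4.i @Cfsg.Agent.Lib.FieldFour.F4.v @Cfsg.Agent.Lib.FieldFour.F4.w (@Cfsg.Agent.ClassicalGeometry.SU32.M.k @x0))))) @Cfsg.Agent.Lib.FieldFour.F4.o)) (@Cfsg.Agent.KOf27f0f0.k1 (@Cfsg.Agent.KOf27f0f0.k2 (@Cfsg.Agent.KOf27f0f0.k3 (@Cfsg.Agent.ClassicalGeometry.SU32.M.a @x0) (@Cfsg.Agent.Lib.FieldFour.F4.rec.{1} @(fun (x1 : @Cfsg.Agent.Lib.FieldFour.F4) => @Cfsg.Agent.Lib.FieldFour.F4) @Cfsg.Agent.Lib.FieldFour.F4.o @Cfsg.Agent.Lib.FieldFour.F4.i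 @Cfsg.Agent.Lib.FieldFour.F4.v @Cfsg.Agent.Lib.FieldFour.F4.w (@Cfsg.Agent.ClassicalGeometry.SU32.M.b @x0))) (@Cfsg.Agent.KOf27f0f0.k2 (@Cfsg.Agent.KOf27f0f0.k3 (@Cfsg.Agent.ClassicalGeometry.SU32.M.d @x0) (@Cfsg.Agent.Lib.FieldFour.F4.rec.{1} @(fun (x1 : @Cfsg.Agent.Lib.FieldFour.F4) => @Cfsg.Agent.Lib.FieldFour.F4) @Cfsg.Agent.Lib.FieldFour.F4.o @Cfsg.Agent.Lib.FieldFour.F4.i @Cfsg.Agent.Lib.FieldFour.F4.v @Cfsg.Agent.Lib.FieldFour.F4.w (@Cfsg.Agent.ClassicalGeometry.SU32.M.e @x0))) (@Cfsg.Agent.KOf27f0f0.k3 (@Cfsg.Agent.ClassicalGeometry.SU32.M.g @x0) (@Cfsg.Agent.Lib.FieldFour.F4.rec.{1} @(fun (x1 : @Cfsg.Agent.Lib.FieldFour.F4) => @Cfsg.Agent.Lib.FieldFour.F4) @Cfsg.Agent.Lib.FieldFour.F4.o @Cfsg.Agent.Lib.FieldFour.F4.i @Cfsg.Agent.Lib.FieldFour.F4.v @Cfsg.Agent.Lib.FieldFour.F4.w (@Cfsg.Agent.ClassicalGeometry.SU32.M.h @x0))))) @Cfsg.Agent.Lib.FieldFour.F4.o)) (@Cfsg.Agent.KOf27f0f0.k1 (@Cfsg.Agent.KOf27f0f0.k2 (@Cfsg.Agent.KOf27f0f0.k3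 (@Cfsg.Agent.ClassicalGeometry.SU32.M.c @x0) (@Cfsg.Agent.Lib.FieldFour.F4.rec.{1} @(fun (x1 : @Cfsg.Agent.Lib.FieldFour.F4) => @Cfsg.Agent.Lib.FieldFour.F4) @Cfsg.Agent.Lib.FieldFour.F4.o @Cfsg.Agent.Lib.FieldFour.F4.i @Cfsg.Agent.Lib.FieldFour.F4.v @Cfsg.Agent.Lib.FieldFour.F4.w (@Cfsg.Agent.ClassicalGeometry.SU32.M.c @x0))) (@Cfsg.Agent.KOf27f0f0.k2 (@Cfsg.Agent.KOf27f0f0.k3 (@Cfsg.Agent.ClassicalGeometry.SU32.M.f @x0) (@Cfsg.Agent.Lib.FieldFour.F4.rec.{1} @(fun (x1 : @Cfsg.Agent.Lib.FieldFour.F4) => @Cfsg.Agent.Lib.FieldFour.F4) @Cfsg.Agent.Lib.FieldFour.F4.o @Cfsg.Agent.Lib.FieldFour.F4.i @Cfsg.Agent.Lib.FieldFour.F4.v @Cfsg.Agent.Lib.FieldFour.F4.w (@Cfsg.Agent.ClassicalGeometry.SU32.M.f @x0))) (@Cfsg.Agent.KOf27f0f0.k3 (@Cfsg.Agent.ClassicalGeometry.SU32.M.k @x0) (@Cfsg.Agent.Lib.FieldFour.F4.rec.{1} @(fun (x1 : @Cfsg.Agent.Lib.FieldFour.F4) => @Cfsg.Agent.Lib.FieldFour.F4) @Cfsg.Agent.Lib.FieldFour.F4.o @Cfsg.Agent.Lib.FieldFour.F4.i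 @Cfsg.Agent.Lib.FieldFour.F4.v @Cfsg.Agent.Lib.FieldFour.F4.w (@Cfsg.Agent.ClassicalGeometry.SU32.M.k @x0))))) @Cfsg.Agent.Lib.FieldFour.F4.i)) (@Cfsg.Agent.KOf27f0f0.k1 (@Cfsg.Agent.KOf27f0f0.k2 (@Cfsg.Agent.KOf27f0f0.k3 (@Cfsg.Agent.ClassicalGeometry.SU32.M.b @x0) (@Cfsg.Agent.Lib.FieldFour.F4.rec.{1} @(fun (x1 : @Cfsg.Agent.Lib.FieldFour.F4) => @Cfsg.Agent.Lib.FieldFour.F4) @Cfsg.Agent.Lib.FieldFour.F4.o @Cfsg.Agent.Lib.FieldFour.F4.i @Cfsg.Agent.Lib.FieldFour.F4.v @Cfsg.Agent.Lib.FieldFour.F4.w (@Cfsg.Agent.ClassicalGeometry.SU32.M.b @x0))) (@Cfsg.Agent.KOf27f0f0.k2 (@Cfsg.Agent.KOf27f0f0.k3 (@Cfsg.Agent.ClassicalGeometry.SU32.M.e @x0) (@Cfsg.Agent.Lib.FieldFour.F4.rec.{1} @(fun (x1 : @Cfsg.Agent.Lib.FieldFour.F4) => @Cfsg.Agent.Lib.FieldFour.F4) @Cfsg.Agent.Lib.FieldFour.F4.o @Cfsg.Agent.Lib.FieldFour.F4.i @Cfsg.Agent.Lib.FieldFour.F4.v @Cfsg.Agent.Lib.FieldFour.F4.w (@Cfsg.Agent.ClassicalGeometry.SU32.M.e @x0))) (@Cfsg.Agent.KOf27f0f0.k3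 (@Cfsg.Agent.ClassicalGeometry.SU32.M.h @x0) (@Cfsg.Agent.Lib.FieldFour.F4.rec.{1} @(fun (x1 : @Cfsg.Agent.Lib.FieldFour.F4) => @Cfsg.Agent.Lib.FieldFour.F4) @Cfsg.Agent.Lib.FieldFour.F4.o @Cfsg.Agent.Lib.FieldFour.F4.i @Cfsg.Agent.Lib.FieldFour.F4.v @Cfsg.Agent.Lib.FieldFour.F4.w (@Cfsg.Agent.ClassicalGeometry.SU32.M.h @x0))))) @Cfsg.Agent.Lib.FieldFour.F4.i)) (@Cfsg.Agent.KOf27f0f0.k1 (@Cfsg.Agent.KOf27f0f0.k2 (@Cfsg.Agent.KOf27f0f0.k3 (@Cfsg.Agent.ClassicalGeometry.SU32.M.a @x0) (@Cfsg.Agent.Lib.FieldFour.F4.rec.{1} @(fun (x1 : @Cfsg.Agent.Lib.FieldFour.F4) => @Cfsg.Agent.Lib.FieldFour.F4) @Cfsg.Agent.Lib.FieldFour.F4.o @Cfsg.Agent.Lib.FieldFour.F4.i @Cfsg.Agent.Lib.FieldFour.F4.v @Cfsg.Agent.Lib.FieldFour.F4.w (@Cfsg.Agent.ClassicalGeometry.SU32.M.a @x0))) (@Cfsg.Agent.KOf27f0f0.k2 (@Cfsg.Agent.KOf27f0f0.k3 (@Cfsg.Agent.ClassicalGeometry.SU32.M.d @x0) (@Cfsg.Agent.Lib.FieldFour.F4.rec.{1} @(fun (x1 : @Cfsg.Agent.Lib.FieldFour.F4)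 => @Cfsg.Agent.Lib.FieldFour.F4) @Cfsg.Agent.Lib.FieldFour.F4.o @Cfsg.Agent.Lib.FieldFour.F4.i @Cfsg.Agent.Lib.FieldFour.F4.v @Cfsg.Agent.Lib.FieldFour.F4.w (@Cfsg.Agent.ClassicalGeometry.SU32.M.d @x0))) (@Cfsg.Agent.KOf27f0f0.k3 (@Cfsg.Agent.ClassicalGeometry.SU32.M.g @x0) (@Cfsg.Agent.Lib.FieldFour.F4.rec.{1} @(fun (x1 : @Cfsg.Agent.Lib.FieldFour.F4) => @Cfsg.Agent.Lib.FieldFour.F4) @Cfsg.Agent.Lib.FieldFour.F4.o @Cfsg.Agent.Lib.FieldFour.F4.i @Cfsg.Agent.Lib.FieldFour.F4.v @Cfsg.Agent.Lib.FieldFour.F4.w (@Cfsg.Agent.ClassicalGeometry.SU32.M.g @x0))))) @Cfsg.Agent.Lib.FieldFour.F4.i))) ?_); rewrite [← Cfsg.Agent.KOf27f0f0.e3, ← Cfsg.Agent.KOf27f0f0.e2, ← Cfsg.Agent.KOf27f0f0.e8, ← Cfsg.Agent.KOf27f0f0.e1]; (try delta Cfsg.Agent.H968.EPU.GUThree.isUG Cfsg.Agent.ClassicalGeometry.SU32.h3 Cfsg.Agent.ClassicalGeometry.SU32.dot3 Cfsg.Agent.ClassicalGeometry.SU32.sq); (try generalize @Cfsg.Agent.ClassicalGeometry.SU32.beq =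 g0); (try generalize @Cfsg.Agent.ClassicalGeometry.SU32.detM = g1); (try generalize @Cfsg.Agent.Lib.FieldFour.F4.add = g2); (try generalize @Cfsg.Agent.Lib.FieldFour.F4.mul = g3); rfl') | exact @Cfsg.Agent.H968.EPU.GUThree.isUG | exact ()
private theorem _root_.Cfsg.Agent.KOf27f0f0.e9 : (by first | exact @Cfsg.Agent.H968.EPU.GUThree.isUG = @_root_.Cfsg.Agent.KOf27f0f0.k9 | exact True : Prop) := by first | (delta _root_.Cfsg.Agent.KOf27f0f0.k9; exact @Subtype.property _ (fun g => @Cfsg.Agent.H968.EPU.GUThree.isUG = @g) _) | rfl | trivial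

theorem ck_star' : checkG (fun A => isUG (starM A)) = true := by (first | (rewrite [Cfsg.Agent.KOf27f0f0.e4, Cfsg.Agent.KOf27f0f0.e9, Cfsg.Agent.KOf27f0f0.e7]; decide +kernel) | decide +kernel)

theorem tu_inv (g : G3) : tu g⁻¹ = starM (tu g) := by
  have h1 := (beqM_iff _ _).1 (forall_checkG ck_star g)
  have h2 : g * mkG (starM (tu g)) (forall_checkG ck_star' g) = 1 := by
    apply tu_inj
    rw [tu_mul, tu_mkG, h1, tu_one]
  rw [inv_eq_of_mul_eq_one_right h2, tu_mkG]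

theorem sc_isU : ∀ c : F4, c ^ 3 = 1 → isUG (smulM c oneM) = true := by decide

/-- the scalar elements -/
noncomputable def sc (c : F4) (hc : c ^ 3 = 1) : G3 := mkG (smulM c oneM) (sc_isU c hc)

theorem tu_sc (c : F4) (hc : c ^ 3 = 1) : tu (sc c hc) = smulM c oneM := rfl

theorem scal_mulM (A : M) (c : F4) : mulM (smulM c oneM) A = smulM c A := by
  rw [← toM_ofM A, ← ofM_smul_one, ← toM_mul, ← toM_smul, Matrix.smul_eq_diagonal_mul]

theorem sc_comm (c : F4) (hc : c ^ 3 = 1) (g : G3) : sc c hc * g = g * sc c hc := by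
  apply tu_inj
  rw [tu_mul, tu_mul, tu_sc, mulM_scal, scal_mulM]

theorem isScal_iff (g : G3) : isScal (tu g) = true ↔ ∃ (c : F4) (hc : c ^ 3 = 1), g = sc c hc := by
  rw [isScal, eqv_iff]
  constructor
  · rintro ⟨c, hc, h⟩
    exact ⟨c, hc, tu_inj h⟩
  · rintro ⟨c, hc, rfl⟩
    exact ⟨c, hc, tu_sc c hc⟩

/-- equality up to scalars -/
theorem eqv_tu_iff (g h : G3) : eqv (tu g) (tu h) = true ↔ isScal (tu (g * h⁻¹)) = true := by
  rw [isScal_iff, eqv_iff]
  constructor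
  · rintro ⟨c, hc, h1⟩
    refine ⟨c, hc, ?_⟩
    rw [mul_inv_eq_iff_eq_mul]
    apply tu_inj
    rw [tu_mul, tu_sc, scal_mulM, h1]
  · rintro ⟨c, hc, h1⟩
    rw [mul_inv_eq_iff_eq_mul] at h1
    refine ⟨c, hc, ?_⟩
    rw [h1, tu_mul, tu_sc, scal_mulM]

/-- the scalars -/
def Sc (g : G3) : Prop := isScal (tu g) = true

theorem Sc.comm {g : G3} (h : Sc g) (x : G3) : g * x = x * g := by
  obtain ⟨c, hc, rfl⟩ := (isScal_iff g).1 h
  exact sc_comm c hc x

theorem Sc.mul {a b : G3} (ha : Sc a) (hb : Sc b) : Sc (a * b) := by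
  obtain ⟨c, hc, rfl⟩ := (isScal_iff a).1 ha
  obtain ⟨d, hd, rfl⟩ := (isScal_iff b).1 hb
  refine (isScal_iff _).2 ⟨c * d, by rw [mul_pow, hc, hd, one_mul], ?_⟩
  apply tu_inj
  rw [tu_mul, tu_sc, tu_sc, tu_sc, mulM_scal]
  clear ha hb hc hd
  revert c d
  decide +kernel

theorem Sc.one : Sc 1 := by
  unfold Sc
  rw [tu_one]
  decide

theorem Sc.inv {a : G3} (ha : Sc a) : Sc a⁻¹ := by
  obtain ⟨c, hc, rfl⟩ := (isScal_iff a).1 ha
  unfold Sc
  rw [tu_inv, tu_sc]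
  clear ha
  revert c
  decide

theorem Sc.conj {a : G3} (ha : Sc a) (x : G3) : Sc (x * a * x⁻¹) := by
  rw [← ha.comm, mul_inv_cancel_right]
  exact ha

theorem Sc.dt {a : G3} (ha : Sc a) : dt a = 1 := by
  obtain ⟨c, hc, rfl⟩ := (isScal_iff a).1 ha
  rw [dt_eq_one_iff, tu_sc]
  clear ha
  revert c
  decide

theorem Sc.cube {a : G3} (ha : Sc a) : a ^ 3 = 1 := by
  obtain ⟨c, hc, rfl⟩ := (isScal_iff a).1 ha
  apply tu_inj
  rw [pow_succ, pow_two, tu_mul, tu_mul, tu_sc, tu_one]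
  clear ha
  revert c
  decide

/-! ### the normal subgroup of order 27 -/

/-- membership test -/
def inH (A : M) : Bool := beq (detM A) i && isScal (cube A)

/-- the 27 elements -/
def HL : List M :=
  [dp 0 0, dp 0 1, dp 0 2, dp 1 0, dp 1 1, dp 1 2, dp 2 0, dp 2 1, dp 2 2,
   smulM w (dp 0 0), smulM w (dp 0 1), smulM w (dp 0 2), smulM w (dp 1 0), smulM w (dp 1 1), smulM w (dp 1 2),
   smulM w (dp 2 0), smulM w (dp 2 1), smulM w (dp 2 2),
   smulM v (dp 0 0), smulM v (dp 0 1), smulM v (dp 0 2), smulM v (dp 1 0), smulM v (dp 1 1), smulM v (dp 1 2),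
   smulM v (dp 2 0), smulM v (dp 2 1), smulM v (dp 2 2)]

private noncomputable def _root_.Cfsg.Agent.KOf27f0f0.oB.{ku} (α : Sort ku) (c : Bool) (f t : α) : α := @Decidable.rec (c = true) (fun _ => α) (fun _ => f) (fun _ => t) (instDecidableEqBool c true)
private noncomputable def _root_.Cfsg.Agent.KOf27f0f0.k10.{ku} (α : Sort ku) (c : Bool) (f t : α) : α := @Bool.rec (fun _ => α) f t c
private theorem _root_.Cfsg.Agent.KOf27f0f0.e10.{ku} : @_root_.Cfsg.Agent.KOf27f0f0.oB.{ku} = @_root_.Cfsg.Agent.KOf27f0f0.k10.{ku} := funext fun α => funext fun c => funext fun f => funext fun t => by cases c <;> rfl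
private noncomputable def _root_.Cfsg.Agent.KOf27f0f0.k11 : (by first | exact type_of% @Cfsg.Agent.S0827.iffB | exact Unit : Sort _) := by first | (refine @Subtype.val _ (fun g => @Cfsg.Agent.S0827.iffB = @g) (@Subtype.mk _ _ (@(fun (x0 : @Bool) (x1 : @Bool) => @Cfsg.Agent.KOf27f0f0.k10.{1} @Bool @x0 (@Bool.rec.{1} @(fun (x2 : @Bool) => @Bool) @Bool.true @Bool.false @x1) @x1)) ?_); rewrite [← Cfsg.Agent.KOf27f0f0.e10.{1}]; rfl') | exact @Cfsg.Agent.S0827.iffB | exact ()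
private theorem _root_.Cfsg.Agent.KOf27f0f0.e11 : (by first | exact @Cfsg.Agent.S0827.iffB = @_root_.Cfsg.Agent.KOf27f0f0.k11 | exact True : Prop) := by first | (delta _root_.Cfsg.Agent.KOf27f0f0.k11; exact @Subtype.property _ (fun g => @Cfsg.Agent.S0827.iffB = @g) _) | rfl | trivial
private noncomputable def _root_.Cfsg.Agent.KOf27f0f0.k12 : (by first | exact type_of% @Cfsg.Agent.ClassicalGeometry.SU32.smulM | exact Unit : Sort _) := by first | (refine @Subtype.val _ (fun g => @Cfsg.Agent.ClassicalGeometry.SU32.smulM = @g) (@Subtype.mk _ _ (@(fun (x0 : @Cfsg.Agent.Lib.FieldFour.F4) (x1 : @Cfsg.Agent.ClassicalGeometry.SU32.M) => @Cfsg.Agent.ClassicalGeometry.SU32.M.mk (@Cfsg.Agent.KOf27f0f0.k3 @x0 (@Cfsg.Agent.ClassicalGeometry.SU32.M.a @x1)) (@Cfsg.Agent.KOf27f0f0.k3 @x0 (@Cfsg.Agent.ClassicalGeometry.SU32.M.b @x1)) (@Cfsg.Agent.KOf27f0f0.k3 @x0 (@Cfsg.Agent.ClassicalGeometry.SU32.M.c @x1)) (@Cfsg.Agent.KOf27f0f0.k3 @x0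 (@Cfsg.Agent.ClassicalGeometry.SU32.M.d @x1)) (@Cfsg.Agent.KOf27f0f0.k3 @x0 (@Cfsg.Agent.ClassicalGeometry.SU32.M.e @x1)) (@Cfsg.Agent.KOf27f0f0.k3 @x0 (@Cfsg.Agent.ClassicalGeometry.SU32.M.f @x1)) (@Cfsg.Agent.KOf27f0f0.k3 @x0 (@Cfsg.Agent.ClassicalGeometry.SU32.M.g @x1)) (@Cfsg.Agent.KOf27f0f0.k3 @x0 (@Cfsg.Agent.ClassicalGeometry.SU32.M.h @x1)) (@Cfsg.Agent.KOf27f0f0.k3 @x0 (@Cfsg.Agent.ClassicalGeometry.SU32.M.k @x1)))) ?_); rewrite [← Cfsg.Agent.KOf27f0f0.e3]; (try delta Cfsg.Agent.ClassicalGeometry.SU32.smulM); (try generalize @Cfsg.Agent.Lib.FieldFour.F4.mul = g0); rfl') | exact @Cfsg.Agent.ClassicalGeometry.SU32.smulM | exact ()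
private theorem _root_.Cfsg.Agent.KOf27f0f0.e12 : (by first | exact @Cfsg.Agent.ClassicalGeometry.SU32.smulM = @_root_.Cfsg.Agent.KOf27f0f0.k12 | exact True : Prop) := by first | (delta _root_.Cfsg.Agent.KOf27f0f0.k12; exact @Subtype.property _ (fun g => @Cfsg.Agent.ClassicalGeometry.SU32.smulM = @g) _) | rfl | trivial
private noncomputable def _root_.Cfsg.Agent.KOf27f0f0.k13 : (by first | exact type_of% @Cfsg.Agent.S0827.eqv | exact Unit : Sort _) := by first | (refine @Subtype.val _ (fun g => @Cfsg.Agent.S0827.eqv = @g) (@Subtype.mk _ _ (@(fun (x0 : @Cfsg.Agent.ClassicalGeometry.SU32.M) (x1 : @Cfsg.Agent.ClassicalGeometry.SU32.M) => @Bool.rec.{1} @(fun (x2 : @Bool) => @Bool) (@Bool.rec.{1} @(fun (x2 : @Bool) => @Bool) (@Cfsg.Agent.KOf27f0f0.k5 @x0 (@Cfsg.Agent.KOf27f0f0.k12 @Cfsg.Agent.Lib.FieldFour.F4.v @x1)) @Bool.true (@Cfsg.Agent.KOf27f0f0.k5 @x0 (@Cfsg.Agent.KOf27f0f0.k12 @Cfsg.Agent.Lib.FieldFour.F4.w @x1))) @Bool.true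 (@Cfsg.Agent.KOf27f0f0.k5 @x0 @x1))) ?_); rewrite [← Cfsg.Agent.KOf27f0f0.e12, ← Cfsg.Agent.KOf27f0f0.e5]; (try delta Cfsg.Agent.S0827.eqv); (try generalize @Cfsg.Agent.ClassicalGeometry.SU32.beqM = g0); (try generalize @Cfsg.Agent.ClassicalGeometry.SU32.smulM = g1); rfl') | exact @Cfsg.Agent.S0827.eqv | exact ()
private theorem _root_.Cfsg.Agent.KOf27f0f0.e13 : (by first | exact @Cfsg.Agent.S0827.eqv = @_root_.Cfsg.Agent.KOf27f0f0.k13 | exact True : Prop) := by first | (delta _root_.Cfsg.Agent.KOf27f0f0.k13; exact @Subtype.property _ (fun g => @Cfsg.Agent.S0827.eqv = @g) _) | rfl | trivial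
private noncomputable def _root_.Cfsg.Agent.KOf27f0f0.k14 : (by first | exact type_of% @Cfsg.Agent.S0827.cube | exact Unit : Sort _) := by first | (refine @Subtype.val _ (fun g => @Cfsg.Agent.S0827.cube = @g) (@Subtype.mk _ _ (@(fun (x0 : @Cfsg.Agent.ClassicalGeometry.SU32.M) => @Cfsg.Agent.KOf27f0f0.k6 @x0 (@Cfsg.Agent.KOf27f0f0.k6 @x0 @x0))) ?_); rewrite [← Cfsg.Agent.KOf27f0f0.e6]; (try delta Cfsg.Agent.S0827.cube); (try generalize @Cfsg.Agent.ClassicalGeometry.SU32.mulM = g0); rfl') | exact @Cfsg.Agent.S0827.cube | exact ()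
private theorem _root_.Cfsg.Agent.KOf27f0f0.e14 : (by first | exact @Cfsg.Agent.S0827.cube = @_root_.Cfsg.Agent.KOf27f0f0.k14 | exact True : Prop) := by first | (delta _root_.Cfsg.Agent.KOf27f0f0.k14; exact @Subtype.property _ (fun g => @Cfsg.Agent.S0827.cube = @g) _) | rfl | trivial
private noncomputable def _root_.Cfsg.Agent.KOf27f0f0.k15 : (by first | exact type_of% @Cfsg.Agent.H968.EPU.GUThree.inH | exact Unit : Sort _) := by first | (refine @Subtype.val _ (fun g => @Cfsg.Agent.H968.EPU.GUThree.inH = @g) (@Subtype.mk _ _ (@(fun (x0 : @Cfsg.Agent.ClassicalGeometry.SU32.M) => @Bool.rec.{1} @(fun (x1 : @Bool) => @Bool) @Bool.false (@Cfsg.Agent.KOf27f0f0.k13 (@Cfsg.Agent.KOf27f0f0.k14 @x0) @Cfsg.Agent.ClassicalGeometry.SU32.oneM) (@Cfsg.Agent.KOf27f0f0.k1 (@Cfsg.Agent.KOf27f0f0.k8 @x0) @Cfsg.Agent.Lib.FieldFour.F4.i))) ?_); rewrite [← Cfsg.Agent.KOf27f0f0.e8, ← Cfsg.Agent.KOf27f0f0.e1, ← Cfsg.Agent.KOf27f0f0.e14, ← Cfsg.Agent.KOf27f0f0.e13];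 (try delta Cfsg.Agent.H968.EPU.GUThree.inH Cfsg.Agent.S0827.isScal); (try generalize @Cfsg.Agent.S0827.eqv = g0); (try generalize @Cfsg.Agent.S0827.cube = g1); (try generalize @Cfsg.Agent.ClassicalGeometry.SU32.oneM = g2); (try generalize @Cfsg.Agent.ClassicalGeometry.SU32.beq = g3); (try generalize @Cfsg.Agent.ClassicalGeometry.SU32.detM = g4); rfl') | exact @Cfsg.Agent.H968.EPU.GUThree.inH | exact ()
private theorem _root_.Cfsg.Agent.KOf27f0f0.e15 : (by first | exact @Cfsg.Agent.H968.EPU.GUThree.inH = @_root_.Cfsg.Agent.KOf27f0f0.k15 | exact True : Prop) := by first | (delta _root_.Cfsg.Agent.KOf27f0f0.k15; exact @Subtype.property _ (fun g => @Cfsg.Agent.H968.EPU.GUThree.inH = @g) _) | rfl | trivial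
private theorem _root_.Cfsg.Agent.KOf27f0f0.e16.{ku, kv} {α : Type kv} {M : List α → Sort ku} (φ : ∀ l, M l) {z : M List.nil} {s : ∀ a l, M l → M (List.cons a l)} (h0 : φ List.nil = z) (hs : ∀ a l, φ (List.cons a l) = s a l (φ l)) (l : List α) : φ l = @List.rec α M z s l := List.rec h0 (fun a l ih => (hs a l).trans (congrArg (s a l) ih)) l
private noncomputable def _root_.Cfsg.Agent.KOf27f0f0.k17 : (by first | exact type_of% @Cfsg.Agent.S0827.anyL | exact Unit : Sort _) := by first | (refine @Subtype.val _ (fun g => @Cfsg.Agent.S0827.anyL = @g) (@Subtype.mk _ _ (@(fun (x0 : @List.{0} @Cfsg.Agent.ClassicalGeometry.SU32.M) (x1 : (@Cfsg.Agent.ClassicalGeometry.SU32.M → @Bool)) => @List.rec.{1, 0} @Cfsg.Agent.ClassicalGeometry.SU32.M @(fun (x2 : @List.{0} @Cfsg.Agent.ClassicalGeometry.SU32.M) => @Bool) @Bool.false @(fun (x2 : @Cfsg.Agent.ClassicalGeometry.SU32.M) (x3 : @List.{0} @Cfsg.Agent.ClassicalGeometry.SU32.M) (x4 : @Bool)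 => @Bool.rec.{1} @(fun (x5 : @Bool) => @Bool) @x4 @Bool.true (@x1 @x2)) @x0)) ?_); funext a0 a1; refine (_root_.Cfsg.Agent.KOf27f0f0.e16 (fun a0 => @Cfsg.Agent.S0827.anyL a0 a1) ?_ (fun c0 c1 => ?_) a0 :) <;> (rfl')) | exact @Cfsg.Agent.S0827.anyL | exact ()
private theorem _root_.Cfsg.Agent.KOf27f0f0.e17 : (by first | exact @Cfsg.Agent.S0827.anyL = @_root_.Cfsg.Agent.KOf27f0f0.k17 | exact True : Prop) := by first | (delta _root_.Cfsg.Agent.KOf27f0f0.k17; exact @Subtype.property _ (fun g => @Cfsg.Agent.S0827.anyL = @g) _) | rfl | trivial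

theorem ck_H : checkG (fun A => iffB (inH A) (anyL HL (fun B => beqM A B))) = true := by (first | (rewrite [Cfsg.Agent.KOf27f0f0.e4, Cfsg.Agent.KOf27f0f0.e11, Cfsg.Agent.KOf27f0f0.e15, Cfsg.Agent.KOf27f0f0.e17, Cfsg.Agent.KOf27f0f0.e5]; decide +kernel) | decide +kernel)

private noncomputable def _root_.Cfsg.Agent.KOf27f0f0.k18 : ((x0 : Prop) → ((@Decidable @x0) → @Bool)) := @(fun (x0 : Prop) (x1 : @Decidable @x0) => @Decidable.rec.{1} @x0 @(fun (x2 : @Decidable @x0) => @Bool) @(fun (x2 : @Not @x0) => @Bool.false) @(fun (x2 : x0) => @Bool.true) @x1)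
private theorem _root_.Cfsg.Agent.KOf27f0f0.e18 : @Decidable.decide = @_root_.Cfsg.Agent.KOf27f0f0.k18 := by delta _root_.Cfsg.Agent.KOf27f0f0.k18; rfl'
private noncomputable def _root_.Cfsg.Agent.KOf27f0f0.k19.{ku0} : ((x0 : Sort (ku0+1)) → ((x1 : (x0 → Prop)) → ((@DecidablePred.{(ku0+1)} @x0 @x1) → ((x3 : @List.{ku0} @x0) → @Decidable ((x4 : x0) → ((@Membership.mem.{ku0, ku0} @x0 (@List.{ku0} @x0) (@List.instMembership.{ku0} @x0) @x3 @x4) → @x1 @x4)))))) := @(fun (x0 : Sort (ku0+1)) (x1 : (x0 → Prop)) (x2 : @DecidablePred.{(ku0+1)} @x0 @x1) (x3 : @List.{ku0} @x0) => @List.rec.{1, ku0} @x0 @(fun (x4 : @List.{ku0} @x0) => @Decidable ((x5 : x0) → ((@Membership.mem.{ku0, ku0} @x0 (@List.{ku0} @x0) (@List.instMembership.{ku0} @x0) @x4 @x5) → @x1 @x5))) (@Decidable.isTrue ((x4 : x0) → ((@Membership.mem.{ku0, ku0} @x0 (@List.{ku0} @x0) (@List.instMembership.{ku0} @x0) (@List.nil.{ku0} @x0) @x4) → @x1 @x4)) (@List.decidableBAll._proof_1.{ku0}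 @x0 @x1)) @(fun (x4 : x0) (x5 : @List.{ku0} @x0) (x6 : @Decidable ((x6 : x0) → ((@Membership.mem.{ku0, ku0} @x0 (@List.{ku0} @x0) (@List.instMembership.{ku0} @x0) @x5 @x6) → @x1 @x6))) => @Decidable.rec.{1} (@x1 @x4) @(fun (x7 : @Decidable (@x1 @x4)) => @Decidable ((x8 : x0) → ((@Membership.mem.{ku0, ku0} @x0 (@List.{ku0} @x0) (@List.instMembership.{ku0} @x0) (@List.cons.{ku0} @x0 @x4 @x5) @x8) → @x1 @x8))) @(fun (x7 : @Not (@x1 @x4)) => @Decidable.isFalse ((x8 : x0) → ((@Membership.mem.{ku0, ku0} @x0 (@List.{ku0} @x0) (@List.instMembership.{ku0} @x0) (@List.cons.{ku0} @x0 @x4 @x5) @x8) → @x1 @x8)) (@List.decidableBAll._proof_4.{ku0} @x0 @x1 @x4 @x5 @x7)) @(fun (x7 : @x1 @x4) => @Decidable.rec.{1} ((x8 : x0) → ((@Membership.mem.{ku0, ku0} @x0 (@List.{ku0} @x0) (@List.instMembership.{ku0} @x0) @x5 @x8) → @x1 @x8)) @(fun (x8 : @Decidable ((x8 : x0) → ((@Membership.mem.{ku0, ku0} @x0 (@List.{ku0} @x0) (@List.instMembership.{ku0}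 @x0) @x5 @x8) → @x1 @x8))) => @Decidable ((x9 : x0) → ((@Membership.mem.{ku0, ku0} @x0 (@List.{ku0} @x0) (@List.instMembership.{ku0} @x0) (@List.cons.{ku0} @x0 @x4 @x5) @x9) → @x1 @x9))) @(fun (x8 : @Not ((x8 : x0) → ((@Membership.mem.{ku0, ku0} @x0 (@List.{ku0} @x0) (@List.instMembership.{ku0} @x0) @x5 @x8) → @x1 @x8))) => @Decidable.isFalse ((x9 : x0) → ((@Membership.mem.{ku0, ku0} @x0 (@List.{ku0} @x0) (@List.instMembership.{ku0} @x0) (@List.cons.{ku0} @x0 @x4 @x5) @x9) → @x1 @x9)) (@List.decidableBAll._proof_3.{ku0} @x0 @x1 @x4 @x5 @x8)) @(fun (x8 : ((x8 : x0) → ((@Membership.mem.{ku0, ku0} @x0 (@List.{ku0} @x0) (@List.instMembership.{ku0} @x0) @x5 @x8) → @x1 @x8))) => @Decidable.isTrue ((x9 : x0) → ((@Membership.mem.{ku0, ku0} @x0 (@List.{ku0} @x0) (@List.instMembership.{ku0} @x0) (@List.cons.{ku0} @x0 @x4 @x5) @x9) → @x1 @x9)) (@List.decidableBAll._proof_2.{ku0} @x0 @x1 @x4 @x5 @x7 @x8)) @x6) (@x2 @x4)) @x3)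
private theorem _root_.Cfsg.Agent.KOf27f0f0.e19.{ku0} : @List.decidableBAll.{ku0} = @_root_.Cfsg.Agent.KOf27f0f0.k19.{ku0} := by delta _root_.Cfsg.Agent.KOf27f0f0.k19; funext a0 a1 a2 a3; refine (_root_.Cfsg.Agent.KOf27f0f0.e16 (fun a3 => @List.decidableBAll.{ku0} a0 a1 a2 a3) ?_ (fun c0 c1 => ?_) a3 :) <;> (rfl')
private noncomputable def _root_.Cfsg.Agent.KOf27f0f0.k20 : ((x0 : @Bool) → ((x1 : @Bool) → @Decidable (@Eq.{1} @Bool @x0 @x1))) := @(fun (x0 : @Bool) (x1 : @Bool) => @Bool.rec.{1} @(fun (x2 : @Bool) => @Decidable (@Eq.{1} @Bool @x2 @x1)) (@Bool.rec.{1} @(fun (x2 : @Bool) => @Decidable (@Eq.{1} @Bool @Bool.false @x2)) (@Decidable.isTrue (@Eq.{1} @Bool @Bool.false @Bool.false) (@rfl.{1} @Bool @Bool.false)) (@Decidable.isFalse (@Eq.{1} @Bool @Bool.false @Bool.true) @(fun (x2 : @Eq.{1} @Bool @Bool.false @Bool.true) => @Bool.noConfusion.{0} @False @Bool.false @Bool.true @x2)) @x1) (@Bool.rec.{1} @(fun (x2 : @Bool)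 => @Decidable (@Eq.{1} @Bool @Bool.true @x2)) (@Decidable.isFalse (@Eq.{1} @Bool @Bool.true @Bool.false) @(fun (x2 : @Eq.{1} @Bool @Bool.true @Bool.false) => @Bool.noConfusion.{0} @False @Bool.true @Bool.false @x2)) (@Decidable.isTrue (@Eq.{1} @Bool @Bool.true @Bool.true) (@rfl.{1} @Bool @Bool.true)) @x1) @x0)
private theorem _root_.Cfsg.Agent.KOf27f0f0.e20 : @Bool.decEq = @_root_.Cfsg.Agent.KOf27f0f0.k20 := by delta _root_.Cfsg.Agent.KOf27f0f0.k20; rfl'
private noncomputable def _root_.Cfsg.Agent.KOf27f0f0.k21 : @DecidableEq.{1} @Bool := @Cfsg.Agent.KOf27f0f0.k20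
private theorem _root_.Cfsg.Agent.KOf27f0f0.e21 : @instDecidableEqBool = @_root_.Cfsg.Agent.KOf27f0f0.k21 := by delta _root_.Cfsg.Agent.KOf27f0f0.k21; rewrite [← Cfsg.Agent.KOf27f0f0.e20]; rfl'

theorem HL_mul : ∀ A ∈ HL, ∀ B ∈ HL, inH (mulM A B) = true := by (first | (refine of_decide_eq_true ?_; rewrite [Cfsg.Agent.KOf27f0f0.e18, Cfsg.Agent.KOf27f0f0.e19.{0}, Cfsg.Agent.KOf27f0f0.e21, Cfsg.Agent.KOf27f0f0.e15, Cfsg.Agent.KOf27f0f0.e6]; decide +kernel) | decide +kernel)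

theorem HL_cube : ∀ A ∈ HL, cube A = oneM := by decide +kernel

theorem HL_inH : ∀ A ∈ HL, inH A = true := by decide +kernel

theorem HL_isU : ∀ A ∈ HL, isUG A = true := by decide +kernel

theorem HL_nodup : HL.Nodup := by decide +kernel

theorem inH_iff (g : G3) : inH (tu g) = true ↔ tu g ∈ HL := by
  constructor
  · intro h
    obtain ⟨B, hB, h1⟩ := anyL_spec ((iffB_spec (forall_checkG ck_H g)).1 h)
    rw [(beqM_iff _ _).1 h1]
    exact hB
  · intro h
    exact HL_inH _ h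

theorem cube_eq (g : G3) : tu (g ^ 3) = cube (tu g) := by
  rw [pow_succ', pow_two, tu_mul, tu_mul]
  rfl

/-- the normal subgroup of order 27 -/
def HH : Subgroup G3 where
  carrier := {g | inH (tu g) = true}
  mul_mem' {a b} ha hb := by
    rw [Set.mem_ofPred_eq, inH_iff] at ha hb
    rw [Set.mem_ofPred_eq, tu_mul]
    exact HL_mul _ ha _ hb
  one_mem' := by
    rw [Set.mem_ofPred_eq, tu_one]
    decide
  inv_mem' {a} ha := by
    have h1 : a ^ 3 = 1 := by
      rw [Set.mem_ofPred_eq, inH_iff] at ha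
      apply tu_inj
      rw [cube_eq, tu_one, HL_cube _ ha]
    have h2 : a⁻¹ = a * a := by
      rw [inv_eq_iff_mul_eq_one]
      rw [← mul_assoc, ← pow_two, ← pow_succ]
      exact h1
    rw [h2, Set.mem_ofPred_eq, tu_mul]
    rw [Set.mem_ofPred_eq, inH_iff] at ha
    exact HL_mul _ ha _ ha

theorem mem_HH (g : G3) : g ∈ HH ↔ inH (tu g) = true := Iff.rfl

theorem mem_HH_iff (g : G3) : g ∈ HH ↔ dt g = 1 ∧ Sc (g ^ 3) := by
  rw [mem_HH, inH, Bool.and_eq_true, beq_iff, dt_eq_one_iff, Sc, cube_eq]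

theorem HH.cube {g : G3} (h : g ∈ HH) : g ^ 3 = 1 := by
  rw [mem_HH, inH_iff] at h
  apply tu_inj
  rw [cube_eq, tu_one, HL_cube _ h]

theorem HH.conj {g : G3} (h : g ∈ HH) (x : G3) : x * g * x⁻¹ ∈ HH := by
  rw [mem_HH_iff] at h ⊢
  refine ⟨?_, ?_⟩
  · rw [map_mul, map_mul, map_inv, mul_comm (dt x), mul_inv_cancel_right]
    exact h.1
  · rw [conj_pow]
    exact h.2.conj x

theorem HH.of_sc {g : G3} (h : Sc g) : g ∈ HH := by
  rw [mem_HH_iff]
  refine ⟨h.dt, ?_⟩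
  rw [h.cube]
  exact Sc.one

theorem card_HH : Nat.card HH = 27 := by
  have hb : Function.Bijective (fun x : HH => (⟨tu x.1, List.mem_toFinset.2 ((inH_iff x.1).1 x.2)⟩ : HL.toFinset)) := by
    constructor
    · intro x y h
      exact Subtype.ext (tu_inj (congrArg (fun z : HL.toFinset => z.1) h))
    · rintro ⟨A, hA⟩
      have hA' : A ∈ HL := List.mem_toFinset.1 hA
      refine ⟨⟨mkG A (HL_isU A hA'), ?_⟩, ?_⟩
      · rw [mem_HH, tu_mkG]
        exact HL_inH _ hA'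
      · apply Subtype.ext
        rfl
  rw [Nat.card_congr (Equiv.ofBijective _ hb), Nat.card_eq_fintype_card, Fintype.card_coe,
    List.toFinset_card_of_nodup HL_nodup]
  rfl

/-! ### explicit elements -/

/-- `diag(1, w, v)` -/
noncomputable def eD : G3 := mkG tD (by decide)
/-- cyclic permutation matrix -/
noncomputable def eP : G3 := mkG tP (by decide)
/-- the Fourier matrix -/
noncomputable def eF : G3 := mkG tA (by decide)
/-- 9-tuple of `diag(1, w, w)` -/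
def tT : M := ⟨i, o, o, o, w, o, o, o, w⟩
/-- `diag(1, w, w)` -/
noncomputable def eT : G3 := mkG tT (by decide)

theorem tu_D : tu eD = tD := rfl
theorem tu_P : tu eP = tP := rfl
theorem tu_F : tu eF = tA := rfl
theorem tu_T : tu eT = tT := rfl

theorem D_mem : eD ∈ HH := by rw [mem_HH, tu_D]; decide +kernel
theorem P_mem : eP ∈ HH := by rw [mem_HH, tu_P]; decide +kernel
theorem dt_F : dt eF = 1 := by rw [dt_eq_one_iff, tu_F]; decide +kernel
theorem dt_T_ne : dt eT ≠ 1 := by rw [Ne, dt_eq_one_iff, tu_T]; decide +kernel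
theorem T_cube : eT ^ 3 = 1 := by
  apply tu_inj
  rw [cube_eq, tu_T, tu_one]
  decide +kernel

private noncomputable def _root_.Cfsg.Agent.KOf27f0f0.k24 : (by first | exact type_of% @Cfsg.Agent.ClassicalGeometry.SU32.imp | exact Unit : Sort _) := by first | (refine @Subtype.val _ (fun g => @Cfsg.Agent.ClassicalGeometry.SU32.imp = @g) (@Subtype.mk _ _ (@(fun (x0 : @Bool) (x1 : @Bool) => @Bool.rec.{1} @(fun (x2 : @Bool) => @Bool) @x1 @Bool.true (@Bool.rec.{1} @(fun (x2 : @Bool) => @Bool) @Bool.true @Bool.false @x0))) ?_); rfl') | exact @Cfsg.Agent.ClassicalGeometry.SU32.imp | exact ()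
private theorem _root_.Cfsg.Agent.KOf27f0f0.e24 : (by first | exact @Cfsg.Agent.ClassicalGeometry.SU32.imp = @_root_.Cfsg.Agent.KOf27f0f0.k24 | exact True : Prop) := by first | (delta _root_.Cfsg.Agent.KOf27f0f0.k24; exact @Subtype.property _ (fun g => @Cfsg.Agent.ClassicalGeometry.SU32.imp = @g) _) | rfl | trivial
private noncomputable def _root_.Cfsg.Agent.KOf27f0f0.k25 : (@Bool → (@Bool → @Bool)) := @(fun (x0 : @Bool) (x1 : @Bool) => @Bool.rec.{1} @(fun (x2 : @Bool) => @Bool) @Bool.false @x1 @x0)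
private theorem _root_.Cfsg.Agent.KOf27f0f0.e25 : @Bool.and = @_root_.Cfsg.Agent.KOf27f0f0.k25 := by delta _root_.Cfsg.Agent.KOf27f0f0.k25; rfl'
private noncomputable def _root_.Cfsg.Agent.KOf27f0f0.k26 : (by first | exact type_of% @Cfsg.Agent.S0827.isScal | exact Unit : Sort _) := by first | (refine @Subtype.val _ (fun g => @Cfsg.Agent.S0827.isScal = @g) (@Subtype.mk _ _ (@(fun (x0 : @Cfsg.Agent.ClassicalGeometry.SU32.M) => @Cfsg.Agent.KOf27f0f0.k13 @x0 @Cfsg.Agent.ClassicalGeometry.SU32.oneM)) ?_); rewrite [← Cfsg.Agent.KOf27f0f0.e13]; (try delta Cfsg.Agent.S0827.isScal); (try generalize @Cfsg.Agent.S0827.eqv = g0); (try generalize @Cfsg.Agent.ClassicalGeometry.SU32.oneM = g1); rfl') | exact @Cfsg.Agent.S0827.isScal | exact ()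
private theorem _root_.Cfsg.Agent.KOf27f0f0.e26 : (by first | exact @Cfsg.Agent.S0827.isScal = @_root_.Cfsg.Agent.KOf27f0f0.k26 | exact True : Prop) := by first | (delta _root_.Cfsg.Agent.KOf27f0f0.k26; exact @Subtype.property _ (fun g => @Cfsg.Agent.S0827.isScal = @g) _) | rfl | trivial

theorem ck_comm : checkG (fun A => imp (beqM (mulM A tD) (mulM tD A) && beqM (mulM A tP) (mulM tP A)) (isScal A)) =
    true := by (first | (rewrite [Cfsg.Agent.KOf27f0f0.e4, Cfsg.Agent.KOf27f0f0.e24, Cfsg.Agent.KOf27f0f0.e25, Cfsg.Agent.KOf27f0f0.e5, Cfsg.Agent.KOf27f0f0.e6, Cfsg.Agent.KOf27f0f0.e26]; decide +kernel) | decide +kernel)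

/-- the centralizer of `HH` -/
theorem sc_of_comm {g : G3} (h1 : g * eD = eD * g) (h2 : g * eP = eP * g) : Sc g := by
  refine imp_spec (forall_checkG ck_comm g) ?_
  rw [Bool.and_eq_true, beqM_iff, beqM_iff]
  refine ⟨?_, ?_⟩
  · rw [← tu_D, ← tu_mul, ← tu_mul, h1]
  · rw [← tu_P, ← tu_mul, ← tu_mul, h2]

private noncomputable def _root_.Cfsg.Agent.KOf27f0f0.k27 : (@Bool → (@Bool → @Bool)) := @(fun (x0 : @Bool) (x1 : @Bool) => @Bool.rec.{1} @(fun (x2 : @Bool) => @Bool) @x1 @Bool.true @x0)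
private theorem _root_.Cfsg.Agent.KOf27f0f0.e27 : @Bool.or = @_root_.Cfsg.Agent.KOf27f0f0.k27 := by delta _root_.Cfsg.Agent.KOf27f0f0.k27; rfl'
private noncomputable def _root_.Cfsg.Agent.KOf27f0f0.k28 : (@Bool → @Bool) := @(fun (x0 : @Bool) => @Bool.rec.{1} @(fun (x1 : @Bool) => @Bool) @Bool.true @Bool.false @x0)
private theorem _root_.Cfsg.Agent.KOf27f0f0.e28 : @Bool.not = @_root_.Cfsg.Agent.KOf27f0f0.k28 := by delta _root_.Cfsg.Agent.KOf27f0f0.k28; rfl'

theorem ck_act : checkG (fun A => beq (detM A) i || !(eqv (mulM A tD) (mulM tD A) && eqv (mulM A tP) (mulM tP A))) =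
    true := by (first | (rewrite [Cfsg.Agent.KOf27f0f0.e4, Cfsg.Agent.KOf27f0f0.e27, Cfsg.Agent.KOf27f0f0.e1, Cfsg.Agent.KOf27f0f0.e8, Cfsg.Agent.KOf27f0f0.e28, Cfsg.Agent.KOf27f0f0.e25, Cfsg.Agent.KOf27f0f0.e13, Cfsg.Agent.KOf27f0f0.e6]; decide +kernel) | decide +kernel)

/-- elements of determinant `≠ 1` act nontrivially on `HH/Z` -/
theorem act {g : G3} (hg : dt g ≠ 1) : ∃ a ∈ HH, ¬ Sc (g * a * g⁻¹ * a⁻¹) := by
  have h := forall_checkG ck_act g
  rw [Bool.or_eq_true, beq_iff, ← dt_eq_one_iff] at h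
  have h := h.resolve_left hg
  by_contra hcon
  push Not at hcon
  have h1 : eqv (mulM (tu g) tD) (mulM tD (tu g)) = true := by
    rw [← tu_D, ← tu_mul, ← tu_mul, eqv_tu_iff]
    have e : g * eD * (eD * g)⁻¹ = g * eD * g⁻¹ * eD⁻¹ := by group
    rw [e]
    exact hcon _ D_mem
  have h2 : eqv (mulM (tu g) tP) (mulM tP (tu g)) = true := by
    rw [← tu_P, ← tu_mul, ← tu_mul, eqv_tu_iff]
    have e : g * eP * (eP * g)⁻¹ = g * eP * g⁻¹ * eP⁻¹ := by group
    rw [e]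
    exact hcon _ P_mem
  rw [h1, h2] at h
  exact absurd h (by decide)

/-- `F⁻¹ g F g⁻¹` -/
def cc (A : M) : M := mulM (mulM (starM tA) A) (mulM tA (starM A))

private noncomputable def _root_.Cfsg.Agent.KOf27f0f0.k29 : (by first | exact type_of% @Cfsg.Agent.H968.EPU.GUThree.cc | exact Unit : Sort _) := by first | (refine @Subtype.val _ (fun g => @Cfsg.Agent.H968.EPU.GUThree.cc = @g) (@Subtype.mk _ _ (@(fun (x0 : @Cfsg.Agent.ClassicalGeometry.SU32.M) => @Cfsg.Agent.KOf27f0f0.k6 (@Cfsg.Agent.KOf27f0f0.k6 (@Cfsg.Agent.KOf27f0f0.k7 @Cfsg.Agent.S0827.tA) @x0) (@Cfsg.Agent.KOf27f0f0.k6 @Cfsg.Agent.S0827.tA (@Cfsg.Agent.KOf27f0f0.k7 @x0)))) ?_); rewrite [← Cfsg.Agent.KOf27f0f0.e7, ← Cfsg.Agent.KOf27f0f0.e6]; (try delta Cfsg.Agent.H968.EPU.GUThree.cc); (try generalize @Cfsg.Agent.ClassicalGeometry.SU32.mulM = g0); (try generalize @Cfsg.Agent.H968.EPU.GUThree.starM = g1); (try generalize @Cfsg.Agent.S0827.tA = g2); rfl') | exact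 @Cfsg.Agent.H968.EPU.GUThree.cc | exact ()
private theorem _root_.Cfsg.Agent.KOf27f0f0.e29 : (by first | exact @Cfsg.Agent.H968.EPU.GUThree.cc = @_root_.Cfsg.Agent.KOf27f0f0.k29 | exact True : Prop) := by first | (delta _root_.Cfsg.Agent.KOf27f0f0.k29; exact @Subtype.property _ (fun g => @Cfsg.Agent.H968.EPU.GUThree.cc = @g) _) | rfl | trivial

theorem ck_cc : checkG (fun A => beq (detM A) i || !(inH (mulM (cc A) (cc A)))) = true := by
  (first | (rewrite [Cfsg.Agent.KOf27f0f0.e4, Cfsg.Agent.KOf27f0f0.e27, Cfsg.Agent.KOf27f0f0.e1, Cfsg.Agent.KOf27f0f0.e8, Cfsg.Agent.KOf27f0f0.e28, Cfsg.Agent.KOf27f0f0.e15, Cfsg.Agent.KOf27f0f0.e6, Cfsg.Agent.KOf27f0f0.e29]; decide +kernel) | decide +kernel)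

/-- the commutator with `F` -/
theorem cc_spec {g : G3} (hg : dt g ≠ 1) : eF⁻¹ * g * eF * g⁻¹ * (eF⁻¹ * g * eF * g⁻¹) ∉ HH := by
  have h := forall_checkG ck_cc g
  rw [Bool.or_eq_true, beq_iff, ← dt_eq_one_iff] at h
  have h := h.resolve_left hg
  rw [mem_HH, tu_mul]
  have e : tu (eF⁻¹ * g * eF * g⁻¹) = cc (tu g) := by
    rw [mul_assoc (eF⁻¹ * g), tu_mul, tu_mul, tu_mul, tu_inv, tu_inv, tu_F]
    rfl
  rw [e]
  intro h1
  rw [h1] at h
  exact absurd h (by decide)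

/-! ### the quaternion group -/

theorem q8t_isUG : ∀ x : QuaternionGroup 2, isUG (q8t x) = true := by decide +kernel

/-- the quaternion subgroup -/
noncomputable def qg : QuaternionGroup 2 →* G3 where
  toFun x := mkG (q8t x) (q8t_isUG x)
  map_one' := tu_inj (by rw [tu_mkG, S0827.q8t_one, tu_one])
  map_mul' x y := tu_inj (by rw [tu_mul, tu_mkG, tu_mkG, tu_mkG, q8t_mul])

theorem tu_qg (x : QuaternionGroup 2) : tu (qg x) = q8t x := rfl

private theorem _root_.Cfsg.Agent.KOf27f0f0.e30.{ku} {M : Nat → Sort ku} (φ : ∀ n, M n) {z : M Nat.zero} {s : ∀ n, M n → M (Nat.succ n)} (h0 : φ Nat.zero = z) (hs : ∀ n, φ (Nat.succ n) = s n (φ n)) (n : Nat) : φ n = @Nat.rec M z s n := Nat.rec h0 (fun n ih => (hs n).trans (congrArg (s n) ih)) n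
private noncomputable def _root_.Cfsg.Agent.KOf27f0f0.k31 : (by first | exact type_of% @Cfsg.Agent.S0827.powM | exact Unit : Sort _) := by first | (refine @Subtype.val _ (fun g => @Cfsg.Agent.S0827.powM = @g) (@Subtype.mk _ _ (@(fun (x0 : @Cfsg.Agent.ClassicalGeometry.SU32.M) (x1 : @Nat) => @Nat.rec.{1} @(fun (x2 : @Nat) => @Cfsg.Agent.ClassicalGeometry.SU32.M) @Cfsg.Agent.ClassicalGeometry.SU32.oneM @(fun (x2 : @Nat) (x3 : @Cfsg.Agent.ClassicalGeometry.SU32.M) => @Cfsg.Agent.KOf27f0f0.k6 @x0 @x3) @x1)) ?_); rewrite [← Cfsg.Agent.KOf27f0f0.e6]; funext a0 a1; refine (_root_.Cfsg.Agent.KOf27f0f0.e30 (fun a1 => @Cfsg.Agent.S0827.powM a0 a1) ?_ (fun c0 => ?_) a1 :) <;> ((try delta Cfsg.Agent.S0827.powM Cfsg.Agent.S0827.powM._f); (try generalize @Cfsg.Agent.ClassicalGeometry.SU32.oneM = g0); (try generalize @Cfsg.Agent.ClassicalGeometry.SU32.mulM = g1); rfl')) | exact @Cfsg.Agent.S0827.powM | exact ()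
private theorem _root_.Cfsg.Agent.KOf27f0f0.e31 : (by first | exact @Cfsg.Agent.S0827.powM = @_root_.Cfsg.Agent.KOf27f0f0.k31 | exact True : Prop) := by first | (delta _root_.Cfsg.Agent.KOf27f0f0.k31; exact @Subtype.property _ (fun g => @Cfsg.Agent.S0827.powM = @g) _) | rfl | trivial
private noncomputable def _root_.Cfsg.Agent.KOf27f0f0.k32 : ((@Int) → @Nat) := @(fun (x0 : @Int) => @Int.rec.{1} @(fun (x1 : @Int) => @Nat) @(fun (x1 : @Nat) => x1) @(fun (x1 : @Nat) => @Nat.succ @x1) @x0)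
private theorem _root_.Cfsg.Agent.KOf27f0f0.e32 : @Int.natAbs = @_root_.Cfsg.Agent.KOf27f0f0.k32 := by delta _root_.Cfsg.Agent.KOf27f0f0.k32; rfl'
private noncomputable def _root_.Cfsg.Agent.KOf27f0f0.k33 : (by first | exact type_of% @Cfsg.Agent.S0827.q8t | exact Unit : Sort _) := by first | (refine @Subtype.val _ (fun g => @Cfsg.Agent.S0827.q8t = @g) (@Subtype.mk _ _ (@(fun (x0 : @QuaternionGroup (@OfNat.ofNat.{0} @Nat (nat_lit 2) (@instOfNatNat (nat_lit 2)))) => @QuaternionGroup.rec.{1} (nat_lit 2) @(fun (x1 : @QuaternionGroup (@OfNat.ofNat.{0} @Nat (nat_lit 2) (@instOfNatNat (nat_lit 2)))) => @Cfsg.Agent.ClassicalGeometry.SU32.M) @(fun (x1 : @ZMod (@HMul.hMul.{0, 0, 0} @Nat @Nat @Nat (@instHMul.{0} @Nat @instMulNat) (@OfNat.ofNat.{0} @Nat (nat_lit 2) (@instOfNatNat (nat_lit 2))) (@OfNat.ofNat.{0} @Nat (nat_lit 2) (@instOfNatNat (nat_lit 2))))) => @Cfsg.Agent.KOf27f0f0.k31 @Cfsg.Agent.S0827.tA (@Nat.rec.{1} @(fun (x2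 : @Nat) => ((@ZMod @x2) → @Nat)) @Cfsg.Agent.KOf27f0f0.k32 @(fun (x2 : @Nat) (x3 : ((@ZMod @x2) → @Nat)) => @Fin.val (@Nat.add @x2 (nat_lit 1))) (@Nat.mul (nat_lit 2) (nat_lit 2)) @x1)) @(fun (x1 : @ZMod (@HMul.hMul.{0, 0, 0} @Nat @Nat @Nat (@instHMul.{0} @Nat @instMulNat) (@OfNat.ofNat.{0} @Nat (nat_lit 2) (@instOfNatNat (nat_lit 2))) (@OfNat.ofNat.{0} @Nat (nat_lit 2) (@instOfNatNat (nat_lit 2))))) => @Cfsg.Agent.KOf27f0f0.k6 @Cfsg.Agent.S0827.tX (@Cfsg.Agent.KOf27f0f0.k31 @Cfsg.Agent.S0827.tA (@Nat.rec.{1} @(fun (x2 : @Nat) => ((@ZMod @x2) → @Nat)) @Cfsg.Agent.KOf27f0f0.k32 @(fun (x2 : @Nat) (x3 : ((@ZMod @x2) → @Nat)) => @Fin.val (@Nat.add @x2 (nat_lit 1))) (@Nat.mul (nat_lit 2) (nat_lit 2)) @x1))) @x0)) ?_); rewrite [← Cfsg.Agent.KOf27f0f0.e6, ← Cfsg.Agent.KOf27f0f0.e32, ← Cfsg.Agent.KOf27f0f0.e31]; (try delta Cfsg.Agent.S0827.q8t); (try generalize @Cfsg.Agent.S0827.powM = g0); (try generalize @Cfsg.Agent.S0827.tA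 = g1); (try generalize @Cfsg.Agent.ClassicalGeometry.SU32.mulM = g2); (try generalize @Cfsg.Agent.S0827.tX = g3); rfl') | exact @Cfsg.Agent.S0827.q8t | exact ()
private theorem _root_.Cfsg.Agent.KOf27f0f0.e33 : (by first | exact @Cfsg.Agent.S0827.q8t = @_root_.Cfsg.Agent.KOf27f0f0.k33 | exact True : Prop) := by first | (delta _root_.Cfsg.Agent.KOf27f0f0.k33; exact @Subtype.property _ (fun g => @Cfsg.Agent.S0827.q8t = @g) _) | rfl | trivial

theorem ck_q8 : checkG (fun A => imp (beq (detM A) i) (anyL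
    [q8t (.a 0), q8t (.a 1), q8t (.a 2), q8t (.a 3), q8t (.xa 0), q8t (.xa 1), q8t (.xa 2),
      q8t (.xa 3)] (fun B => inH (mulM B A)))) = true := by
  (first | (rewrite [Cfsg.Agent.KOf27f0f0.e4, Cfsg.Agent.KOf27f0f0.e24, Cfsg.Agent.KOf27f0f0.e1, Cfsg.Agent.KOf27f0f0.e8, Cfsg.Agent.KOf27f0f0.e17, Cfsg.Agent.KOf27f0f0.e33, Cfsg.Agent.KOf27f0f0.e15, Cfsg.Agent.KOf27f0f0.e6]; decide +kernel) | decide +kernel)

theorem exists_q {g : G3} (hg : dt g = 1) : ∃ x : QuaternionGroup 2, qg x * g ∈ HH := by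
  obtain ⟨B, hB, hB'⟩ := anyL_spec (imp_spec (forall_checkG ck_q8 g) ((beq_iff _ _).2 ((dt_eq_one_iff g).1 hg)))
  have : ∃ x, B = q8t x := by
    simp only [List.mem_cons, List.not_mem_nil, or_false] at hB
    rcases hB with h | h | h | h | h | h | h | h <;> exact ⟨_, h⟩
  obtain ⟨x, rfl⟩ := this
  refine ⟨x, ?_⟩
  rw [mem_HH, tu_mul, tu_qg]
  exact hB'

/-- the action of `T` on the quaternion group, up to inverses -/
def sg : QuaternionGroup 2 → QuaternionGroup 2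
  | .a j => if j = 0 then .a 0 else if j = 1 then .xa 2 else if j = 2 then .a 2 else .xa 0
  | .xa j => if j = 0 then .xa 1 else if j = 1 then .a 1 else if j = 2 then .xa 3 else .a 3

theorem ck_sg : ∀ x : QuaternionGroup 2, inH (mulM (q8t (sg x)) (mulM (mulM tT (q8t x)) (starM tT))) = true := by
  decide +kernel

theorem sg_spec (x : QuaternionGroup 2) : qg (sg x) * (eT * qg x * eT⁻¹) ∈ HH := by
  rw [mem_HH, tu_mul, tu_mul, tu_mul, tu_inv, tu_T, tu_qg, tu_qg]
  exact ck_sg x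

theorem q_gen (S : Subgroup (QuaternionGroup 2)) (hS : ∀ x ∈ S, sg x ∈ S) {x : QuaternionGroup 2} (hx : x ∈ S)
    (hx2 : x * x ≠ 1) : S = ⊤ := by
  have h0 : ∀ x : QuaternionGroup 2, x * x ≠ 1 →
      (x = .a 1 ∨ x⁻¹ = .a 1 ∨ sg x = .a 1 ∨ (sg x)⁻¹ = .a 1 ∨ sg (sg x) = .a 1 ∨ (sg (sg x))⁻¹ = .a 1) ∧
      (x = .xa 0 ∨ x⁻¹ = .xa 0 ∨ sg x = .xa 0 ∨ (sg x)⁻¹ = .xa 0 ∨ sg (sg x) = .xa 0 ∨ (sg (sg x))⁻¹ = .xa 0) := by
    decide +kernel
  obtain ⟨h1, h2⟩ := h0 x hx2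
  have m1 := hS x hx
  have m2 := hS _ m1
  have a1 : (.a 1 : QuaternionGroup 2) ∈ S := by
    rcases h1 with h | h | h | h | h | h <;> rw [← h]
    · exact hx
    · exact S.inv_mem hx
    · exact m1
    · exact S.inv_mem m1
    · exact m2
    · exact S.inv_mem m2
  have x0 : (.xa 0 : QuaternionGroup 2) ∈ S := by
    rcases h2 with h | h | h | h | h | h <;> rw [← h]
    · exact hx
    · exact S.inv_mem hx
    · exact m1
    · exact S.inv_mem m1
    · exact m2
    · exact S.inv_mem m2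
  have h3 : ∀ y : QuaternionGroup 2, (∃ k : Fin 4, y = (.a 1) ^ (k : ℕ)) ∨ ∃ k : Fin 4, y = .xa 0 * (.a 1) ^ (k : ℕ) := by
    decide +kernel
  rw [Subgroup.eq_top_iff']
  intro y
  rcases h3 y with ⟨k, rfl⟩ | ⟨k, rfl⟩
  · exact S.pow_mem a1 _
  · exact S.mul_mem x0 (S.pow_mem a1 _)

/-- **Generation of the elements of determinant 1.** -/
theorem gen_of {L : Subgroup G3} (hH : HH ≤ L) (hT : ∀ l ∈ L, eT * l * eT⁻¹ ∈ L) {c : G3} (hc : c ∈ L)
    (hdet : dt c = 1) (hc2 : c * c ∉ HH) {s : G3} (hs : dt s = 1) : s ∈ L := by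
  have key : ∀ (x : QuaternionGroup 2) (g : G3), qg x * g ∈ HH → g ∈ L → qg x ∈ L := by
    intro x g h1 h2
    have h3 := L.mul_mem (hH h1) (L.inv_mem h2)
    rwa [mul_inv_cancel_right] at h3
  obtain ⟨x, hx⟩ := exists_q hdet
  have hxL : qg x ∈ L := key x c hx hc
  have hx2 : x * x ≠ 1 := by
    intro e
    apply hc2
    have h1 : qg x * qg x = 1 := by rw [← map_mul, e, map_one]
    have h2 := HH.mul_mem (HH.conj hx (qg x)⁻¹) hx
    have e2 : (qg x)⁻¹ * (qg x * c) * (qg x)⁻¹⁻¹ * (qg x * c) = c * (qg x * qg x) * c := by group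
    rw [e2, h1, mul_one] at h2
    exact h2
  have htop : L.comap qg = ⊤ := by
    apply q_gen _ _ (Subgroup.mem_comap.2 hxL) hx2
    intro y hy
    exact key _ _ (sg_spec y) (hT _ hy)
  obtain ⟨y, hy⟩ := exists_q hs
  have hyL : qg y ∈ L := by
    have : y ∈ L.comap qg := by rw [htop]; exact Subgroup.mem_top _
    exact this
  have h3 := L.mul_mem (L.inv_mem hyL) (hH hy)
  rwa [inv_mul_cancel_left] at h3

/-! ### orders -/

instance finite_G3 : Finite G3 := Cfsg.Agent.LieClassical.GUOrder.finite_GU 3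

theorem card_G3 : Nat.card G3 = 648 := by
  have h := S0277.result (F := F4) (q := 2) (by rw [F4.card]; norm_num) 3
  norm_num only [Finset.prod_range_succ, Nat.even_iff, _root_.Finset.range_one, _root_.Finset.prod_singleton, _root_.ite_true, _root_.ite_false] at h
  exact h

theorem dt_surj : Function.Surjective dt := by
  have h0 : ∀ u : F4ˣ, u = 1 ∨ (u : F4) = v ∨ (u : F4) = w := by
    intro u
    rcases h : (u : F4) with _ | _ | _ | _
    · exact absurd h u.ne_zero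
    · left; exact Units.ext h
    · right; right; rfl
    · right; left; rfl
  intro u
  rcases h0 u with rfl | h | h
  · exact ⟨1, map_one _⟩
  · refine ⟨eT, Units.ext ?_⟩
    rw [dt_val, tu_T, h]
    decide +kernel
  · refine ⟨eT * eT, Units.ext ?_⟩
    rw [dt_val, tu_mul, tu_T, h]
    decide +kernel

theorem card_ker : Nat.card dt.ker = 216 := by
  have h1 := Subgroup.card_mul_index dt.ker
  rw [Subgroup.index_ker, MonoidHom.range_eq_top.2 dt_surj, Subgroup.card_top, card_G3, Nat.card_eq_fintype_card (α := F4ˣ),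
    Fintype.card_units, F4.card] at h1
  omega

end Cfsg.Agent.H968.EPU.GUThree
end

-- part: H968/EPU/PsiSix
section
/-!
# `GU_3(2) × GU_3(2)` and `U_6(2)` (helper968, S3499)

`BB` : the pairs with product of determinants 1; `psi : BB →* PSU 6 F4 2` with kernel the scalars;
`cen` : the centralizer of `psi (1, w)` is the range; `conj_z` : every element of order 3 that centralizes a Sylow
3-subgroup is conjugate to `psi (1, w)`.
-/

set_option autoImplicit false
set_option maxRecDepth 100000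

namespace Cfsg.Agent.H968.EPU.PsiSix

open Cfsg Matrix Cfsg.Agent.Lib.FieldFour Cfsg.Agent.Lib.FieldFour.F4 Cfsg.Agent.ClassicalGeometry.SU32
open Cfsg.Agent.H968.EPU.GUThree Cfsg.Agent.H322.Cent
open Cfsg.Agent.ClassicalGeometry.PSUAutBasic (exists_scalar_of_mem_center mem_center_of_act)

theorem hF : Fintype.card F4 = 2 ^ 2 := rfl

theorem hF4 : Fintype.card F4 = 4 := rfl

/-- pairs of unitary matrices with product of determinants 1 -/
def BB : Subgroup (G3 × G3) where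
  carrier := {x | dt x.1 * dt x.2 = 1}
  mul_mem' {a b} ha hb := by
    have e : dt (a * b).1 * dt (a * b).2 = (dt a.1 * dt a.2) * (dt b.1 * dt b.2) := by
      rw [Prod.fst_mul, Prod.snd_mul, map_mul, map_mul]
      exact mul_mul_mul_comm _ _ _ _
    have ha' : dt a.1 * dt a.2 = 1 := ha
    have hb' : dt b.1 * dt b.2 = 1 := hb
    show dt (a * b).1 * dt (a * b).2 = 1
    rw [e, ha', hb', one_mul]
  one_mem' := by
    show dt 1 * dt 1 = 1
    rw [map_one, one_mul]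
  inv_mem' {a} ha := by
    have ha' : dt a.1 * dt a.2 = 1 := ha
    show dt (a⁻¹).1 * dt (a⁻¹).2 = 1
    rw [Prod.fst_inv, Prod.snd_inv, map_inv, map_inv, ← mul_inv, ha', inv_one]

theorem mem_BB {x : G3 × G3} : x ∈ BB ↔ dt x.1 * dt x.2 = 1 := Iff.rfl

theorem herm_split (x y : Fin (3 + 3) → F4) : hermForm (3 + 3) F4 2 x y =
    hermForm 3 F4 2 (fun j => x (Fin.castAdd 3 j)) (fun j => y (Fin.castAdd 3 j)) +
    hermForm 3 F4 2 (fun j => x (Fin.natAdd 3 j)) (fun j => y (Fin.natAdd 3 j)) := by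
  unfold hermForm
  rw [Fin.sum_univ_add]

theorem bdm_act (A B : Matrix (Fin 3) (Fin 3) F4) (x : Fin (3 + 3) → F4) (i : Fin 3) :
    (bdm A B *ᵥ x) (Fin.castAdd 3 i) = (A *ᵥ fun j => x (Fin.castAdd 3 j)) i ∧
      (bdm A B *ᵥ x) (Fin.natAdd 3 i) = (B *ᵥ fun j => x (Fin.natAdd 3 j)) i := by
  have key : ∀ i, (bdm A B *ᵥ x) (finSumFinEquiv i) =
      Sum.elim (A *ᵥ fun j => x (Fin.castAdd 3 j)) (B *ᵥ fun j => x (Fin.natAdd 3 j)) i := by
    intro i
    unfold bdm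
    rw [submatrix_mulVec_equiv]
    simp only [Function.comp_apply, Equiv.symm_symm, Equiv.symm_apply_apply]
    rw [fromBlocks_mulVec]
    rcases i with i | i <;> simp <;> rfl
  exact ⟨key (Sum.inl i), key (Sum.inr i)⟩

theorem bdm_inj {A B A' B' : Matrix (Fin 3) (Fin 3) F4} (h : bdm A B = bdm A' B') : A = A' ∧ B = B' := by
  constructor
  · ext i j
    rw [← bdm_castAdd A B, h, bdm_castAdd]
  · ext i j
    rw [← bdm_natAdd A B, h, bdm_natAdd]

theorem det_eq {x : G3 × G3} (hx : x ∈ BB) : (bdm (_root_.Cfsg.Agent.H968.EPU.GUThree.mt x.1) (_root_.Cfsg.Agent.H968.EPU.GUThree.mt x.2)).det = 1 := by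
  rw [bdm_det]
  have h := congrArg Units.val (mem_BB.1 hx)
  exact h

/-- the block diagonal embedding -/
noncomputable def ff : BB →* SU (3 + 3) F4 2 where
  toFun x := ⟨⟨bdm (_root_.Cfsg.Agent.H968.EPU.GUThree.mt x.1.1) (_root_.Cfsg.Agent.H968.EPU.GUThree.mt x.1.2), det_eq x.2⟩, by
    refine (Cfsg.Agent.LieClassical.SUBasic.mem_SU_iff _).2 fun u v => ?_
    change hermForm (3 + 3) F4 2 (bdm (_root_.Cfsg.Agent.H968.EPU.GUThree.mt x.1.1) (_root_.Cfsg.Agent.H968.EPU.GUThree.mt x.1.2) *ᵥ u) (bdm (_root_.Cfsg.Agent.H968.EPU.GUThree.mt x.1.1) (_root_.Cfsg.Agent.H968.EPU.GUThree.mt x.1.2) *ᵥ v) = _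
    rw [herm_split, herm_split u v]
    have e1 : ∀ z, (fun j => (bdm (_root_.Cfsg.Agent.H968.EPU.GUThree.mt x.1.1) (_root_.Cfsg.Agent.H968.EPU.GUThree.mt x.1.2) *ᵥ z) (Fin.castAdd 3 j)) =
        _root_.Cfsg.Agent.H968.EPU.GUThree.mt x.1.1 *ᵥ fun j => z (Fin.castAdd 3 j) := fun z => funext fun j => (bdm_act _ _ z j).1
    have e2 : ∀ z, (fun j => (bdm (_root_.Cfsg.Agent.H968.EPU.GUThree.mt x.1.1) (_root_.Cfsg.Agent.H968.EPU.GUThree.mt x.1.2) *ᵥ z) (Fin.natAdd 3 j)) =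
        _root_.Cfsg.Agent.H968.EPU.GUThree.mt x.1.2 *ᵥ fun j => z (Fin.natAdd 3 j) := fun z => funext fun j => (bdm_act _ _ z j).2
    rw [e1, e1, e2, e2]
    have h1 := x.1.1.2 (fun j => u (Fin.castAdd 3 j)) (fun j => v (Fin.castAdd 3 j))
    have h2 := x.1.2.2 (fun j => u (Fin.natAdd 3 j)) (fun j => v (Fin.natAdd 3 j))
    exact congrArg₂ (· + ·) h1 h2⟩
  map_one' := Subtype.ext (Subtype.ext bdm_one)
  map_mul' x y := Subtype.ext (Subtype.ext (bdm_mul _ _ _ _))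

theorem ff_mat (x : BB) : (ff x).1.1 = bdm (_root_.Cfsg.Agent.H968.EPU.GUThree.mt x.1.1) (_root_.Cfsg.Agent.H968.EPU.GUThree.mt x.1.2) := rfl

/-- the projection to `U_6(2)` -/
noncomputable def pr6 : SU 6 F4 2 →* PSU 6 F4 2 := QuotientGroup.mk' (Subgroup.center (SU 6 F4 2))

/-- the homomorphism -/
noncomputable def psi : BB →* PSU 6 F4 2 := pr6.comp ff

theorem mt_sc (c : F4) (hc : c ^ 3 = 1) : _root_.Cfsg.Agent.H968.EPU.GUThree.mt (sc c hc) = c • (1 : Matrix (Fin 3) (Fin 3) F4) := by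
  apply toM_injective
  rw [toM_smul, toM_one]
  rfl

theorem bdm_smul (c : F4) : bdm (c • (1 : Matrix (Fin 3) (Fin 3) F4)) (c • (1 : Matrix (Fin 3) (Fin 3) F4)) =
    c • (1 : Matrix (Fin (3 + 3)) (Fin (3 + 3)) F4) := by
  rw [← bdm_one]
  unfold bdm
  have h : (fromBlocks (c • (1 : Matrix (Fin 3) (Fin 3) F4)) 0 0 (c • (1 : Matrix (Fin 3) (Fin 3) F4))) =
      c • fromBlocks (1 : Matrix (Fin 3) (Fin 3) F4) 0 0 (1 : Matrix (Fin 3) (Fin 3) F4) := by
    rw [fromBlocks_smul, smul_zero]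
  rw [h]
  rfl

theorem psi_eq_one_iff (x : BB) : psi x = 1 ↔ Sc x.1.1 ∧ x.1.1 = x.1.2 := by
  constructor
  · intro h
    have h1 : ff x ∈ Subgroup.center (SU 6 F4 2) := (QuotientGroup.eq_one_iff _).1 h
    obtain ⟨c, hc0, hcq, hc⟩ := exists_scalar_of_mem_center hF (by norm_num) h1
    have hc3 : c ^ 3 = 1 := by
      rw [← hcq]
      ring
    have h2 : (ff x).1.1 = c • (1 : Matrix (Fin (3 + 3)) (Fin (3 + 3)) F4) := by
      apply Matrix.mulVec_injective
      funext v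
      have h3 : (ff x).1.1 *ᵥ v = c • v := hc v
      rw [h3, Matrix.smul_mulVec, Matrix.one_mulVec]
    rw [ff_mat, ← bdm_smul] at h2
    obtain ⟨h3, h4⟩ := bdm_inj h2
    have h5 : x.1.1 = sc c hc3 := mt_inj (by rw [h3, mt_sc])
    have h6 : x.1.2 = sc c hc3 := mt_inj (by rw [h4, mt_sc])
    refine ⟨(isScal_iff _).2 ⟨c, hc3, h5⟩, by rw [h5, h6]⟩
  · rintro ⟨h1, h2⟩
    obtain ⟨c, hc, h3⟩ := (isScal_iff _).1 h1
    refine (QuotientGroup.eq_one_iff _).2 (mem_center_of_act (c := c) fun v => ?_)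
    change (ff x).1.1 *ᵥ v = c • v
    rw [ff_mat, ← h2, h3, mt_sc, bdm_smul, Matrix.smul_mulVec, Matrix.one_mulVec]

/-- the element `(1, w)` -/
noncomputable def z1 : BB := ⟨(1, sc w (by decide)), by
  rw [mem_BB]
  have h1 : dt (sc w (by decide)) = 1 := Sc.dt ((isScal_iff _).2 ⟨w, by decide, rfl⟩)
  show dt 1 * dt (sc w (by decide)) = 1
  rw [map_one, h1, one_mul]⟩

theorem z1_comm (x : BB) : z1 * x = x * z1 := by
  apply Subtype.ext
  apply Prod.ext
  · show 1 * x.1.1 = x.1.1 * 1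
    rw [one_mul, mul_one]
  · exact sc_comm w (by decide) x.1.2

/-- the model element of helper18 -/
noncomputable def dg' : SU 6 F4 2 := H18.USix.dg 1 w (one_pow 3) (by decide)

theorem dg'_mat : dg'.1.1 = Matrix.diagonal (fun i : Fin 6 => if i < 3 then (1 : F4) else w) := rfl

theorem castAdd_lt (i : Fin 3) : (Fin.castAdd 3 i : Fin 6) < 3 := by
  revert i; decide

theorem natAdd_lt (i : Fin 3) : ¬ (Fin.natAdd 3 i : Fin 6) < 3 := by
  revert i; decide

theorem ff_z1 : ff z1 = dg' := by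
  apply Subtype.ext
  apply Subtype.ext
  rw [ff_mat, dg'_mat]
  apply Matrix.mulVec_injective
  funext x
  funext k
  have h1 : _root_.Cfsg.Agent.H968.EPU.GUThree.mt z1.1.1 = 1 := rfl
  have h2 : _root_.Cfsg.Agent.H968.EPU.GUThree.mt z1.1.2 = w • (1 : Matrix (Fin 3) (Fin 3) F4) := mt_sc w (by decide)
  rw [h1, h2]
  have e : ∀ k : Fin (3 + 3), (bdm (1 : Matrix (Fin 3) (Fin 3) F4) (w • (1 : Matrix (Fin 3) (Fin 3) F4)) *ᵥ x) k =
      (Matrix.diagonal (fun i : Fin (3 + 3) => if (i : Fin 6) < 3 then (1 : F4) else w) *ᵥ x) k := by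
    intro k
    induction k using Fin.addCases with
    | left i =>
      rw [(bdm_act _ _ x i).1, Matrix.one_mulVec, Matrix.mulVec_diagonal, if_pos (castAdd_lt i), one_mul]
    | right i =>
      rw [(bdm_act _ _ x i).2, Matrix.smul_mulVec, Matrix.one_mulVec, Matrix.mulVec_diagonal, if_neg (natAdd_lt i)]
      rfl
  exact e k

/-- matrices commuting with the model element are block diagonal -/
theorem block {X : SU (3 + 3) F4 2} (h : X * ff z1 = ff z1 * X) : ∃ x : BB, X = ff x := by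
  have hm : X.1.1 * (ff z1).1.1 = (ff z1).1.1 * X.1.1 := congrArg (fun Y : SU (3 + 3) F4 2 => Y.1.1) h
  rw [ff_z1, dg'_mat] at hm
  have he : ∀ k l : Fin 6, X.1.1 k l * (if l < 3 then (1 : F4) else w) = (if k < 3 then (1 : F4) else w) * X.1.1 k l := by
    intro k l
    have := congrFun (congrFun hm k) l
    rwa [Matrix.mul_diagonal, Matrix.diagonal_mul] at this
  have h0 : ∀ a : F4, a * w = 1 * a → a = 0 := by decide
  have h0' : ∀ a : F4, a * 1 = w * a → a = 0 := by decide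
  let g : Matrix (Fin 3) (Fin 3) F4 := fun i j => X.1.1 (Fin.castAdd 3 i) (Fin.castAdd 3 j)
  let g' : Matrix (Fin 3) (Fin 3) F4 := fun i j => X.1.1 (Fin.natAdd 3 i) (Fin.natAdd 3 j)
  have hX : X.1.1 = bdm g g' := by
    ext k l
    unfold bdm
    rw [Matrix.submatrix_apply]
    obtain ⟨k', rfl⟩ := (finSumFinEquiv (m := 3) (n := 3)).surjective k
    obtain ⟨l', rfl⟩ := (finSumFinEquiv (m := 3) (n := 3)).surjective l
    rw [Equiv.symm_apply_apply, Equiv.symm_apply_apply]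
    rcases k' with i | i <;> rcases l' with j | j
    · rfl
    · rw [Matrix.fromBlocks_apply₁₂]
      have := he (Fin.castAdd 3 i) (Fin.natAdd 3 j)
      rw [if_neg (natAdd_lt j), if_pos (castAdd_lt i)] at this
      exact h0 _ this
    · rw [Matrix.fromBlocks_apply₂₁]
      have := he (Fin.natAdd 3 i) (Fin.castAdd 3 j)
      rw [if_neg (natAdd_lt i), if_pos (castAdd_lt j)] at this
      exact h0' _ this
    · rfl
  have hdet : g.det * g'.det = 1 := by
    rw [← bdm_det, ← hX]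
    exact X.1.2
  have hg0 : g.det ≠ 0 := left_ne_zero_of_mul_eq_one hdet
  have hg0' : g'.det ≠ 0 := right_ne_zero_of_mul_eq_one hdet
  have hform : ∀ u v : Fin (3 + 3) → F4, hermForm (3 + 3) F4 2 (bdm g g' *ᵥ u) (bdm g g' *ᵥ v) =
      hermForm (3 + 3) F4 2 u v := by
    intro u v
    rw [← hX]
    exact (Cfsg.Agent.LieClassical.SUBasic.mem_SU_iff _).1 X.2 u v
  have e1 : ∀ z, (fun j => (bdm g g' *ᵥ z) (Fin.castAdd 3 j)) =
      g *ᵥ fun j => z (Fin.castAdd 3 j) := fun z => funext fun j => (bdm_act _ _ z j).1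
  have e2 : ∀ z, (fun j => (bdm g g' *ᵥ z) (Fin.natAdd 3 j)) =
      g' *ᵥ fun j => z (Fin.natAdd 3 j) := fun z => funext fun j => (bdm_act _ _ z j).2
  have hz : hermForm 3 F4 2 (fun _ => 0) (fun _ => 0) = 0 := by decide
  have hg : ∀ u v : Fin 3 → F4, hermForm 3 F4 2 (g *ᵥ u) (g *ᵥ v) = hermForm 3 F4 2 u v := by
    intro u v
    have h1 := hform (Fin.append u (fun _ => 0)) (Fin.append v (fun _ => 0))
    rw [herm_split, herm_split (Fin.append u _), e1, e1, e2, e2] at h1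
    simp only [Fin.append_left, Fin.append_right] at h1
    have h2 : g' *ᵥ (fun _ => (0 : F4)) = fun _ => 0 := Matrix.mulVec_zero g'
    rw [h2, hz, add_zero, add_zero] at h1
    exact h1
  have hg' : ∀ u v : Fin 3 → F4, hermForm 3 F4 2 (g' *ᵥ u) (g' *ᵥ v) = hermForm 3 F4 2 u v := by
    intro u v
    have h1 := hform (Fin.append (fun _ => 0) u) (Fin.append (fun _ => 0) v)
    rw [herm_split, herm_split (Fin.append _ u), e1, e1, e2, e2] at h1
    simp only [Fin.append_left, Fin.append_right] at h1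
    have h2 : g *ᵥ (fun _ => (0 : F4)) = fun _ => 0 := Matrix.mulVec_zero g
    rw [h2, hz, zero_add, zero_add] at h1
    exact h1
  let a : G3 := ⟨Matrix.GeneralLinearGroup.mkOfDetNeZero g hg0, hg⟩
  let b : G3 := ⟨Matrix.GeneralLinearGroup.mkOfDetNeZero g' hg0', hg'⟩
  have hab : (a, b) ∈ BB := by
    rw [mem_BB]
    apply Units.ext
    exact hdet
  refine ⟨⟨(a, b), hab⟩, ?_⟩
  apply Subtype.ext
  apply Subtype.ext
  rw [ff_mat]
  exact hX

theorem cen {y : PSU 6 F4 2} (h : y * psi z1 = psi z1 * y) : ∃ x : BB, y = psi x := by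
  obtain ⟨X, rfl⟩ := QuotientGroup.mk_surjective y
  have h1 : (X : SU 6 F4 2) * ff z1 * X⁻¹ * (ff z1)⁻¹ ∈ Subgroup.center (SU 6 F4 2) := by
    rw [← QuotientGroup.eq_one_iff]
    have h2 : pr6 X * pr6 (ff z1) = pr6 (ff z1) * pr6 X := h
    show pr6 (X * ff z1 * X⁻¹ * (ff z1)⁻¹) = 1
    rw [map_mul, map_mul, map_mul, map_inv, map_inv, h2]
    group
  have h2 : (ff z1 : SU 6 F4 2).1.1.trace ≠ 0 := by
    rw [ff_z1, dg'_mat, Matrix.trace_diagonal]
    decide
  have h3 := H18.USix.comm_of_trace hF4 h1 h2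
  obtain ⟨x, hx⟩ := block h3
  exact ⟨x, by rw [hx]; rfl⟩

theorem conj_z {z : PSU 6 F4 2} (hz : z ≠ 1)
    (h3 : 3 ^ 6 ∣ Nat.card ↥(Subgroup.centralizer ({z} : Set (PSU 6 F4 2)))) : IsConj z (psi z1) := by
  have h := H18.USix.conj_model hF4 (ω := w) (by decide) (by decide) hz h3
  have e : psi z1 = ((dg' : SU 6 F4 2) : PSU 6 F4 2) := by
    show pr6 (ff z1) = _
    rw [ff_z1]
    rfl
  rw [e]
  exact h

end Cfsg.Agent.H968.EPU.PsiSix
end

-- part: H968/EPU/QSide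
section
/-!
# `U_4(3)` in `U_6(2)`, the 3-local argument in `U_6(2)` (helper968, S3499)

`q_side` : `LocN A N P V` and `Q ≃* PSU 6 F4 2` are contradictory.
-/

set_option autoImplicit false
set_option linter.unusedVariables false

namespace Cfsg.Agent.H968.EPU.QSide

open Cfsg Subgroup Cfsg.Agent.Lib.FieldFour Cfsg.Agent.Lib.FieldFour.F4 Cfsg.Agent.ClassicalGeometry.SU32
open Cfsg.Agent.H968.EPU Cfsg.Agent.H968.EPU.GUThree Cfsg.Agent.H968.EPU.PsiSix

/-! ### general lemmas -/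

section gen

variable {G : Type*} [Group G]

theorem card_mul_rel {H K : Subgroup G} (h : H ≤ K) : Nat.card H * H.relIndex K = Nat.card K := by
  have h1 := relIndex_mul_relIndex ⊥ H K bot_le h
  rwa [relIndex_bot_left, relIndex_bot_left] at h1

theorem card_map {G' : Type*} [Group G'] (f : G →* G') {K : Subgroup G} (hK : f.ker ≤ K) :
    Nat.card f.ker * Nat.card (K.map f) = Nat.card K := by
  rw [← relIndex_ker]
  exact card_mul_rel hK

/-- a `p`-element in `C ≥ P` is conjugate in `C` into the Sylow subgroup `P` -/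
theorem exists_conj [Finite G] {p : ℕ} [Fact p.Prime] {P C : Subgroup G} (hP : IsPGroup p P)
    (hmax : ∀ S : Subgroup G, IsPGroup p S → P ≤ S → S = P) (hPC : P ≤ C) {t : G} (ht : t ∈ C)
    (htp : IsPGroup p (zpowers t)) : ∃ b ∈ C, b * t * b⁻¹ ∈ P := by
  have key : ∃ P' : Sylow p C, (P' : Subgroup C) = P.subgroupOf C := by
    refine ⟨⟨P.subgroupOf C, hP.comap_subtype, fun {Q} h1 h2 => ?_⟩, rfl⟩
    have h3 := hmax (Q.map C.subtype) (h1.map _) (by
      have := Subgroup.map_mono (f := C.subtype) h2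
      rwa [subgroupOf_map_subtype, inf_eq_left.2 hPC] at this)
    rw [← h3]
    ext y
    rw [mem_subgroupOf]
    exact (mem_map_iff_mem C.subtype_injective).symm
  obtain ⟨P', hP'⟩ := key
  have htC : zpowers t ≤ C := by rw [zpowers_le]; exact ht
  obtain ⟨S, hS⟩ := (htp.comap_subtype (K := C)).exists_le_sylow
  obtain ⟨b, hb⟩ := MulAction.exists_smul_eq C S P'
  refine ⟨b, b.2, ?_⟩
  have h1 : (⟨t, ht⟩ : C) ∈ (S : Subgroup C) := hS (show (⟨t, ht⟩ : C) ∈ (zpowers t).subgroupOf C from mem_zpowers t)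
  have h2 : b * ⟨t, ht⟩ * b⁻¹ ∈ (P' : Subgroup C) := by
    rw [← hb]
    exact smul_mem_pointwise_smul _ (MulAut.conj b) _ h1
  rw [hP'] at h2
  exact h2

end gen

/-! ### subgroups of `BB` -/

theorem dt_snd {x : BB} (h : dt x.1.1 = 1) : dt x.1.2 = 1 := by
  have := mem_BB.1 x.2
  rwa [h, one_mul] at this

theorem dt_snd_ne {x : BB} (h : dt x.1.1 ≠ 1) : dt x.1.2 ≠ 1 := by
  intro h2
  have := mem_BB.1 x.2
  rw [h2, mul_one] at this
  exact h this

/-- the elements of `BB` from two elements of determinant 1 -/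
def bb {a b : G3} (ha : dt a = 1) (hb : dt b = 1) : BB := ⟨(a, b), by
  rw [mem_BB]
  show dt a * dt b = 1
  rw [ha, hb, one_mul]⟩

/-- `3^{1+2} × 3^{1+2}` -/
def HB : Subgroup BB where
  carrier := {x | x.1.1 ∈ HH ∧ x.1.2 ∈ HH}
  mul_mem' {a b} ha hb := ⟨HH.mul_mem ha.1 hb.1, HH.mul_mem ha.2 hb.2⟩
  one_mem' := ⟨HH.one_mem, HH.one_mem⟩
  inv_mem' {a} ha := ⟨HH.inv_mem ha.1, HH.inv_mem ha.2⟩

/-- `SU_3(2) × SU_3(2)` -/
def SB : Subgroup BB where
  carrier := {x | dt x.1.1 = 1}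
  mul_mem' {a b} ha hb := by
    have ha' : dt a.1.1 = 1 := ha
    have hb' : dt b.1.1 = 1 := hb
    show dt (a.1.1 * b.1.1) = 1
    rw [map_mul, ha', hb', one_mul]
  one_mem' := map_one dt
  inv_mem' {a} ha := by
    have ha' : dt a.1.1 = 1 := ha
    show dt (a.1.1)⁻¹ = 1
    rw [map_inv, ha', inv_one]

theorem HB_le_SB : HB ≤ SB := fun _ hx => ((mem_HH_iff _).1 hx.1).1

theorem HB_conj {x : BB} (hx : x ∈ HB) (y : BB) : y * x * y⁻¹ ∈ HB :=
  ⟨HH.conj hx.1 y.1.1, HH.conj hx.2 y.1.2⟩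

theorem card_HB : Nat.card HB = 729 := by
  let e : HB ≃ HH × HH :=
    { toFun := fun x => (⟨x.1.1.1, x.2.1⟩, ⟨x.1.1.2, x.2.2⟩)
      invFun := fun y => ⟨bb ((mem_HH_iff _).1 y.1.2).1 ((mem_HH_iff _).1 y.2.2).1, y.1.2, y.2.2⟩
      left_inv := fun x => rfl
      right_inv := fun y => rfl }
  rw [Nat.card_congr e, Nat.card_prod, card_HH]

theorem card_SB : Nat.card SB = 46656 := by
  let e : SB ≃ dt.ker × dt.ker :=
    { toFun := fun x => (⟨x.1.1.1, x.2⟩, ⟨x.1.1.2, dt_snd x.2⟩)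
      invFun := fun y => ⟨bb y.1.2 y.2.2, y.1.2⟩
      left_inv := fun x => rfl
      right_inv := fun y => rfl }
  rw [Nat.card_congr e, Nat.card_prod, card_ker]

instance : Finite BB := inferInstance

/-- the swap -/
def sw : BB →* BB where
  toFun x := ⟨(x.1.2, x.1.1), by
    rw [mem_BB]
    show dt x.1.2 * dt x.1.1 = 1
    rw [mul_comm]
    exact x.2⟩
  map_one' := rfl
  map_mul' x y := rfl

theorem sw_sw (x : BB) : sw (sw x) = x := rfl

/-- `(T, T⁻¹)` -/
noncomputable def t0 : BB := ⟨(eT, eT⁻¹), by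
  rw [mem_BB]
  show dt eT * dt eT⁻¹ = 1
  rw [map_inv, mul_inv_cancel]⟩

theorem t0_cube : t0 ^ 3 = 1 := by
  apply Subtype.ext
  apply Prod.ext
  · exact T_cube
  · show (eT⁻¹) ^ 3 = 1
    rw [inv_pow, T_cube, inv_one]

theorem sw_t0 : sw t0 = t0⁻¹ := by
  apply Subtype.ext
  apply Prod.ext
  · rfl
  · show eT = (eT⁻¹)⁻¹
    rw [inv_inv]

/-! ### the data -/

/-- a homomorphism from `BB` onto the centralizer of an element of order 3 -/
structure Dat {Q : Type} [Group Q] (ψ : BB →* Q) : Prop where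
  ker : ∀ x, ψ x = 1 ↔ Sc x.1.1 ∧ x.1.1 = x.1.2
  cen : ∀ y : Q, y * ψ z1 = ψ z1 * y → ∃ x, y = ψ x

section dat

variable {Q : Type} [Group Q]

theorem Dat.of_equiv (e : PSU 6 F4 2 ≃* Q) : Dat (e.toMonoidHom.comp psi) := by
  constructor
  · intro x
    have h1 : (e.toMonoidHom.comp psi) x = e (psi x) := rfl
    rw [h1, map_eq_one_iff e e.injective]
    exact psi_eq_one_iff x
  · intro y hy
    have h1 : (e.toMonoidHom.comp psi) z1 = e (psi z1) := rfl
    rw [h1] at hy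
    obtain ⟨x, hx⟩ := PsiSix.cen (y := e.symm y) (by
      apply e.injective
      rw [map_mul, map_mul, e.apply_symm_apply, hy])
    refine ⟨x, ?_⟩
    show y = e (psi x)
    rw [← hx, e.apply_symm_apply]

variable {ψ : BB →* Q}

/-- the scalar `w` -/
noncomputable def ew : G3 := sc w (by decide)

theorem sc_ew : Sc ew := (isScal_iff _).2 ⟨w, by decide, rfl⟩

theorem tu_ew : tu ew = smulM w oneM := rfl

theorem z1_fst : z1.1.1 = 1 := rfl

theorem z1_snd : z1.1.2 = ew := rfl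

theorem z1_sw : z1 * sw z1 = bb sc_ew.dt sc_ew.dt := by
  apply Subtype.ext
  apply Prod.ext
  · exact one_mul ew
  · exact mul_one ew

theorem Dat.sw_z1 (D : Dat ψ) : ψ (sw z1) = (ψ z1)⁻¹ := by
  rw [eq_inv_iff_mul_eq_one]
  have h1 : ψ (z1 * sw z1) = 1 := by
    rw [z1_sw, D.ker]
    exact ⟨sc_ew, rfl⟩
  rw [z1_comm, map_mul] at h1
  exact h1

theorem Dat.swap (D : Dat ψ) : Dat (ψ.comp sw) := by
  constructor
  · intro x
    rw [MonoidHom.comp_apply, D.ker]
    show Sc x.1.2 ∧ x.1.2 = x.1.1 ↔ _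
    constructor
    · rintro ⟨h1, h2⟩
      exact ⟨h2 ▸ h1, h2.symm⟩
    · rintro ⟨h1, h2⟩
      exact ⟨h2 ▸ h1, h2.symm⟩
  · intro y hy
    rw [MonoidHom.comp_apply, D.sw_z1] at hy
    obtain ⟨x, hx⟩ := D.cen y (by
      calc y * ψ z1 = ψ z1 * ((ψ z1)⁻¹ * y) * ψ z1 := by group
        _ = ψ z1 * (y * (ψ z1)⁻¹) * ψ z1 := by rw [← hy]
        _ = ψ z1 * y := by group)
    exact ⟨sw x, by rw [MonoidHom.comp_apply, sw_sw, hx]⟩

theorem Dat.conj (D : Dat ψ) (b : Q) : Dat ((MulAut.conj b).toMonoidHom.comp ψ) := by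
  have hc : ∀ x, ((MulAut.conj b).toMonoidHom.comp ψ) x = b * ψ x * b⁻¹ := fun x => rfl
  constructor
  · intro x
    rw [hc, conj_eq_one_iff]
    exact D.ker x
  · intro y hy
    rw [hc] at hy
    obtain ⟨x, hx⟩ := D.cen (b⁻¹ * y * b) (by
      calc b⁻¹ * y * b * ψ z1 = b⁻¹ * (y * (b * ψ z1 * b⁻¹)) * b := by group
        _ = b⁻¹ * ((b * ψ z1 * b⁻¹) * y) * b := by rw [hy]
        _ = ψ z1 * (b⁻¹ * y * b) := by group)
    refine ⟨x, ?_⟩
    rw [hc, ← hx]
    group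

theorem Dat.ker_le_HB (D : Dat ψ) : ψ.ker ≤ HB := by
  intro x hx
  obtain ⟨h1, h2⟩ := (D.ker x).1 hx
  exact ⟨HH.of_sc h1, h2 ▸ HH.of_sc h1⟩

theorem Dat.card_ker (D : Dat ψ) : Nat.card ψ.ker = 3 := by
  have h0 : Nat.card {c : F4 // c ^ 3 = 1} = 3 := by
    rw [Nat.card_eq_fintype_card]
    decide
  have hs : ∀ (c : F4) (hc : c ^ 3 = 1), Sc (sc c hc) := fun c hc => (isScal_iff _).2 ⟨c, hc, rfl⟩
  refine Eq.trans ?_ h0
  let φ : {c : F4 // c ^ 3 = 1} → ψ.ker := fun c => ⟨bb (hs c.1 c.2).dt (hs c.1 c.2).dt, by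
    rw [MonoidHom.mem_ker, D.ker]
    exact ⟨hs c.1 c.2, rfl⟩⟩
  refine (Nat.card_congr (Equiv.ofBijective φ ⟨?_, ?_⟩)).symm
  · intro c d h
    have h1 : sc c.1 c.2 = sc d.1 d.2 := congrArg (fun z : ψ.ker => z.1.1.1) h
    have h2 := congrArg tu h1
    rw [tu_sc, tu_sc] at h2
    apply Subtype.ext
    have h3 : ∀ a b : F4, smulM a oneM = smulM b oneM → a = b := by decide
    exact h3 _ _ h2
  · rintro ⟨x, hx⟩
    obtain ⟨h1, h2⟩ := (D.ker x).1 hx
    obtain ⟨c, hc, h3⟩ := (isScal_iff _).1 h1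
    refine ⟨⟨c, hc⟩, ?_⟩
    apply Subtype.ext
    apply Subtype.ext
    apply Prod.ext
    · exact h3.symm
    · exact h3.symm.trans h2

theorem Dat.card_V (D : Dat ψ) : Nat.card (HB.map ψ) = 243 := by
  have h := card_map ψ D.ker_le_HB
  rw [D.card_ker, card_HB] at h
  omega

theorem Dat.card_W (D : Dat ψ) : Nat.card (SB.map ψ) = 15552 := by
  have h := card_map ψ (D.ker_le_HB.trans HB_le_SB)
  rw [D.card_ker, card_SB] at h
  omega

/-- elements of `3^{1+2} ∘ 3^{1+2}` that commute with everything -/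
theorem Dat.sc_of (D : Dat ψ) {x : BB} (h : ∀ v ∈ HB.map ψ, ψ x * v = v * ψ x) : Sc x.1.1 ∧ Sc x.1.2 := by
  have dD : dt eD = 1 := ((mem_HH_iff _).1 D_mem).1
  have dP : dt eP = 1 := ((mem_HH_iff _).1 P_mem).1
  have key : ∀ (a b : G3) (ha : dt a = 1) (hb : dt b = 1), a ∈ HH → b ∈ HH →
      Sc (x.1.1 * a * x.1.1⁻¹ * a⁻¹) ∧ x.1.1 * a * x.1.1⁻¹ * a⁻¹ = x.1.2 * b * x.1.2⁻¹ * b⁻¹ := by
    intro a b ha hb ha' hb'
    have h1 := h (ψ (bb ha hb)) ⟨bb ha hb, ⟨ha', hb'⟩, rfl⟩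
    have h2 : ψ (x * bb ha hb * x⁻¹ * (bb ha hb)⁻¹) = 1 := by
      rw [map_mul, map_mul, map_mul, map_inv, map_inv, h1]
      group
    obtain ⟨h3, h4⟩ := (D.ker _).1 h2
    have e1 : (x * bb ha hb * x⁻¹ * (bb ha hb)⁻¹).1.1 = x.1.1 * a * x.1.1⁻¹ * a⁻¹ := rfl
    have e2 : (x * bb ha hb * x⁻¹ * (bb ha hb)⁻¹).1.2 = x.1.2 * b * x.1.2⁻¹ * b⁻¹ := rfl
    rw [e1] at h3 h4
    rw [e2] at h4
    exact ⟨h3, h4⟩
  have hc : ∀ (g a : G3), g * a * g⁻¹ * a⁻¹ = 1 → g * a = a * g := by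
    intro g a h1
    rw [mul_inv_eq_one, mul_inv_eq_iff_eq_mul] at h1
    exact h1
  have one1 : ∀ g : G3, g * 1 * g⁻¹ * 1⁻¹ = 1 := by
    intro g
    group
  constructor
  · apply sc_of_comm
    · apply hc
      rw [(key eD 1 dD (map_one dt) D_mem HH.one_mem).2, one1]
    · apply hc
      rw [(key eP 1 dP (map_one dt) P_mem HH.one_mem).2, one1]
  · apply sc_of_comm
    · apply hc
      rw [← (key 1 eD (map_one dt) dD HH.one_mem D_mem).2, one1]
    · apply hc
      rw [← (key 1 eP (map_one dt) dP HH.one_mem P_mem).2, one1]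

/-- scalar pairs are powers of `z` -/
theorem Dat.pow_z (D : Dat ψ) {x : BB} (h1 : Sc x.1.1) (h2 : Sc x.1.2) :
    ψ x = 1 ∨ ψ x = ψ z1 ∨ ψ x = ψ z1 * ψ z1 := by
  obtain ⟨c, hc, h3⟩ := (isScal_iff _).1 h1
  obtain ⟨d, hd, h4⟩ := (isScal_iff _).1 h2
  have key : ∀ k : ℕ, tu (x.1.1 * x.1.2⁻¹ * ew ^ k) = oneM → ψ x = ψ z1 ^ k := by
    intro k hk
    rw [← map_pow]
    have h5 : ψ (x * (z1 ^ k)⁻¹) = 1 := by
      rw [D.ker]
      have e1 : (x * (z1 ^ k)⁻¹).1.1 = x.1.1 := by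
        show x.1.1 * ((1 : G3) ^ k)⁻¹ = x.1.1
        rw [one_pow, inv_one, mul_one]
      have e2 : (x * (z1 ^ k)⁻¹).1.2 = x.1.2 * (ew ^ k)⁻¹ := rfl
      rw [e1, e2]
      refine ⟨h1, ?_⟩
      have h6 : x.1.1 * x.1.2⁻¹ * ew ^ k = 1 := tu_inj (by rw [hk, tu_one])
      rw [eq_mul_inv_iff_mul_eq]
      have h7 : x.1.1 * x.1.2⁻¹ * ew ^ k * x.1.2 = x.1.2 := by rw [h6, one_mul]
      have h8 : ew ^ k * x.1.2 = x.1.2 * ew ^ k := (Commute.pow_left (sc_ew.comm x.1.2) k)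
      rw [mul_assoc, h8] at h7
      rw [← h7]
      group
    rw [map_mul, map_inv, mul_inv_eq_one] at h5
    exact h5
  have h5 : ∀ c d : F4, c ^ 3 = 1 → d ^ 3 = 1 → mulM (smulM c oneM) (starM (smulM d oneM)) = oneM ∨
      mulM (mulM (smulM c oneM) (starM (smulM d oneM))) (smulM w oneM) = oneM ∨
      mulM (mulM (smulM c oneM) (starM (smulM d oneM))) (mulM (smulM w oneM) (smulM w oneM)) = oneM := by
    decide +kernel
  rcases h5 c d hc hd with h | h | h
  · left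
    rw [key 0, pow_zero]
    rw [pow_zero, mul_one, tu_mul, tu_inv, h3, h4, tu_sc, tu_sc, h]
  · right; left
    rw [key 1, pow_one]
    rw [pow_one, tu_mul, tu_mul, tu_inv, h3, h4, tu_sc, tu_sc, tu_ew, h]
  · right; right
    rw [key 2, pow_two]
    rw [pow_two, tu_mul, tu_mul, tu_mul, tu_inv, h3, h4, tu_sc, tu_sc, tu_ew, h]

theorem Dat.z_ne (D : Dat ψ) : ψ z1 ≠ 1 := by
  intro h
  obtain ⟨-, h1⟩ := (D.ker _).1 h
  rw [z1_fst, z1_snd] at h1
  have h3 := congrArg tu h1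
  rw [tu_one, tu_ew] at h3
  exact absurd h3 (by decide)

theorem z1_mem : z1 ∈ HB := by
  refine ⟨HH.one_mem, ?_⟩
  exact HH.of_sc sc_ew

theorem z_comm (x : BB) : ψ x * ψ z1 = ψ z1 * ψ x := by
  rw [← map_mul, ← map_mul, z1_comm]

theorem Dat.z_cube (_ : Dat ψ) : ψ z1 ^ 3 = 1 := by
  rw [← map_pow]
  have : z1 ^ 3 = 1 := by
    apply Subtype.ext
    apply Prod.ext
    · show (1 : G3) ^ 3 = 1
      rw [one_pow]
    · exact sc_ew.cube
  rw [this, map_one]

end dat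

end Cfsg.Agent.H968.EPU.QSide
end

-- part: H968/EPU/QEnd
section
/-!
# `U_4(3)` in `U_6(2)`, the end of the 3-local argument (helper968, S3499)
-/

set_option autoImplicit false
set_option linter.unusedVariables false

namespace Cfsg.Agent.H968.EPU.QEnd

open Cfsg Subgroup Cfsg.Agent.Lib.FieldFour Cfsg.Agent.Lib.FieldFour.F4
open Cfsg.Agent.H968.EPU Cfsg.Agent.H968.EPU.GUThree Cfsg.Agent.H968.EPU.PsiSix Cfsg.Agent.H968.EPU.QSide
open Cfsg.Agent.H284 (cj mem_cj)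

/-- the elements of `HH` that commute with `g` modulo scalars -/
def SG (g : G3) : Subgroup G3 where
  carrier := {a | a ∈ HH ∧ Sc (g * a * g⁻¹ * a⁻¹)}
  mul_mem' {a b} ha hb := by
    refine ⟨HH.mul_mem ha.1 hb.1, ?_⟩
    have e : g * (a * b) * g⁻¹ * (a * b)⁻¹ = (g * a * g⁻¹ * a⁻¹) * (a * (g * b * g⁻¹ * b⁻¹) * a⁻¹) := by group
    rw [e]
    exact ha.2.mul (hb.2.conj a)
  one_mem' := by
    refine ⟨HH.one_mem, ?_⟩
    have e : g * 1 * g⁻¹ * 1⁻¹ = 1 := by group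
    rw [e]
    exact Sc.one
  inv_mem' {a} ha := by
    refine ⟨HH.inv_mem ha.1, ?_⟩
    have e : g * a⁻¹ * g⁻¹ * a⁻¹⁻¹ = a⁻¹ * (a * g * a⁻¹ * g⁻¹) * a⁻¹⁻¹ := by group
    have e2 : a * g * a⁻¹ * g⁻¹ = (g * a * g⁻¹ * a⁻¹)⁻¹ := by group
    rw [e, e2]
    exact (ha.2.inv).conj _

theorem SG_le (g : G3) : SG g ≤ HH := fun _ h => h.1

theorem card_SG {g : G3} (hg : dt g ≠ 1) : Nat.card (SG g) ≤ 9 := by
  obtain ⟨a, ha, hna⟩ := act hg
  have h1 := card_mul_rel (SG_le g)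
  rw [card_HH] at h1
  have h2 : (SG g).relIndex HH ≠ 1 := by
    intro h
    rw [relIndex_eq_one] at h
    exact hna (h ha).2
  have h3 : (SG g).relIndex HH ≠ 0 := by
    intro h
    rw [h, mul_zero] at h1
    exact absurd h1 (by norm_num)
  have h4 : (SG g).relIndex HH ≠ 2 := by
    intro h
    rw [h] at h1
    omega
  by_contra hcon
  push Not at hcon
  have h5 : 3 ≤ (SG g).relIndex HH := by omega
  have h6 : 10 * 3 ≤ Nat.card (SG g) * (SG g).relIndex HH := Nat.mul_le_mul hcon h5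
  rw [h1] at h6
  omega

/-- standing hypotheses -/
structure Stp {Q : Type} [Group Q] (A N P V : Subgroup Q) (ψ : BB →* Q) : Prop where
  L : LocN A N P V
  cQ : Nat.card Q = 9196830720
  D : Dat ψ
  zP : ∀ p ∈ P, p * ψ z1 = ψ z1 * p
  tP : ψ t0 ∈ P

variable {Q : Type} [Group Q] [Finite Q] {A N P V : Subgroup Q} {ψ : BB →* Q}

theorem pmax (cQ : Nat.card Q = 9196830720) (cP : Nat.card P = 729) (S : Subgroup Q) (hS : IsPGroup 3 S) (hPS : P ≤ S) :
    S = P := by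
  have h3 : Fact (Nat.Prime 3) := ⟨Nat.prime_three⟩
  symm
  apply eq_of_le_of_card_ge hPS
  obtain ⟨k, hk⟩ := IsPGroup.iff_card.1 hS
  have h1 : 3 ^ k ∣ 9196830720 := by
    rw [← hk, ← cQ]
    exact card_subgroup_dvd_card S
  have h2 : k ≤ 6 := by
    by_contra hcon
    push Not at hcon
    have h4 : 3 ^ 7 ∣ 9196830720 := (pow_dvd_pow 3 hcon).trans h1
    exact absurd h4 (by norm_num)
  rw [hk, cP]
  calc 3 ^ k ≤ 3 ^ 6 := Nat.pow_le_pow_right (by norm_num) h2
    _ = 729 := by norm_num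

theorem conj_V (x : BB) {v : Q} (hv : v ∈ HB.map ψ) : ψ x * v * (ψ x)⁻¹ ∈ HB.map ψ := by
  obtain ⟨y, hy, rfl⟩ := hv
  refine ⟨x * y * x⁻¹, HB_conj hy x, ?_⟩
  rw [map_mul, map_mul, map_inv]

theorem conj_V' (x : BB) {v : Q} (hv : v ∈ HB.map ψ) : (ψ x)⁻¹ * v * ψ x ∈ HB.map ψ := by
  have h := conj_V x⁻¹ hv
  rwa [map_inv, inv_inv] at h

namespace Stp

variable (S : Stp A N P V ψ)

include S

theorem VP : HB.map ψ ≤ P := by
  have h3 : Fact (Nat.Prime 3) := ⟨Nat.prime_three⟩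
  have h1 : IsPGroup 3 (HB.map ψ) := IsPGroup.of_card (n := 5) (by rw [S.D.card_V]; norm_num)
  have h2 : IsPGroup 3 P := IsPGroup.of_card (n := 6) (by rw [S.L.cP]; norm_num)
  have h4 : P ≤ normalizer (HB.map ψ : Set Q) := by
    intro p hp
    obtain ⟨x, rfl⟩ := S.D.cen p (S.zP p hp)
    rw [mem_normalizer_iff]
    intro h
    constructor
    · exact fun hh => conj_V x hh
    · intro hh
      have h5 := conj_V' x hh
      have e : (ψ x)⁻¹ * (ψ x * h * (ψ x)⁻¹) * ψ x = h := by group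
      rwa [e] at h5
  have h5 := IsPGroup.to_sup_of_normal_left' h1 h2 h4
  have h6 := pmax S.cQ S.L.cP _ h5 le_sup_right
  calc HB.map ψ ≤ HB.map ψ ⊔ P := le_sup_left
    _ = P := h6

theorem PSB {x : BB} (hx : ψ x ∈ P) (hd : dt x.1.1 = 1) : ψ x ∈ HB.map ψ := by
  have h3 : Fact (Nat.Prime 3) := ⟨Nat.prime_three⟩
  have h2 : IsPGroup 3 P := IsPGroup.of_card (n := 6) (by rw [S.L.cP]; norm_num)
  have h4 : IsPGroup 3 (P ⊓ SB.map ψ : Subgroup Q) := h2.to_le inf_le_left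
  obtain ⟨k, hk⟩ := IsPGroup.iff_card.1 h4
  have h5 : 3 ^ k ∣ 15552 := by
    rw [← hk, ← S.D.card_W]
    exact card_dvd_of_le inf_le_right
  have h6 : k ≤ 5 := by
    by_contra hcon
    push Not at hcon
    have h7 : 3 ^ 6 ∣ 15552 := (pow_dvd_pow 3 hcon).trans h5
    exact absurd h7 (by norm_num)
  have h7 : HB.map ψ ≤ P ⊓ SB.map ψ := le_inf S.VP (map_mono HB_le_SB)
  have h8 : HB.map ψ = P ⊓ SB.map ψ := by
    apply eq_of_le_of_card_ge h7
    rw [hk, S.D.card_V]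
    calc 3 ^ k ≤ 3 ^ 5 := Nat.pow_le_pow_right (by norm_num) h6
      _ = 243 := by norm_num
  rw [h8]
  exact ⟨hx, x, hd, rfl⟩

/-- **identification of the radical** -/
theorem VV : V = HB.map ψ := by
  by_contra hne
  have hVV : ¬ V ≤ HB.map ψ := fun h => hne (eq_of_le_of_card_ge h (by rw [S.D.card_V, S.L.cV]))
  obtain ⟨v, hv, hv'⟩ := SetLike.not_le_iff_exists.1 hVV
  obtain ⟨x, rfl⟩ := S.D.cen v (S.zP v (S.L.VP hv))
  have hd : dt x.1.1 ≠ 1 := fun h => hv' (S.PSB (S.L.VP hv) h)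
  have hd' := dt_snd_ne hd
  have h1 := card_mul_rel S.VP
  rw [S.D.card_V, S.L.cP] at h1
  have h1' : (HB.map ψ).relIndex P = 3 := by omega
  have h2 : (HB.map ψ).relIndex V ≤ 3 :=
    (relIndex_le_of_le_right S.L.VP (by rw [h1']; norm_num)).trans h1'.le
  have h3 := card_mul_rel (inf_le_left : V ⊓ HB.map ψ ≤ V)
  rw [inf_relIndex_left, S.L.cV] at h3
  have h4 : 81 ≤ Nat.card (V ⊓ HB.map ψ : Subgroup Q) := by
    by_contra hcon
    push Not at hcon
    have h5 : Nat.card (V ⊓ HB.map ψ : Subgroup Q) * (HB.map ψ).relIndex V ≤ 80 * 3 :=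
      Nat.mul_le_mul (by omega) h2
    rw [h3] at h5
    omega
  -- the preimage
  have hr : V ⊓ HB.map ψ ≤ ψ.range := by
    rintro _ ⟨-, y, -, rfl⟩
    exact ⟨y, rfl⟩
  have h5 := card_map ψ (K := (V ⊓ HB.map ψ).comap ψ) (by
    intro y hy
    rw [mem_comap, (MonoidHom.mem_ker).1 hy]
    exact one_mem _)
  rw [map_comap_eq_self hr, S.D.card_ker] at h5
  have key : ∀ y ∈ (V ⊓ HB.map ψ).comap ψ, y.1.1 ∈ SG x.1.1 ∧ y.1.2 ∈ SG x.1.2 := by
    intro y hy
    obtain ⟨hyV, hyH⟩ := mem_inf.1 (mem_comap.1 hy)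
    have hyB : y ∈ HB := by
      have h6 : y ∈ (HB.map ψ).comap ψ := hyH
      rwa [comap_map_eq_self S.D.ker_le_HB] at h6
    have h6 : ∀ u ∈ HB.map ψ, ψ (x * y * x⁻¹ * y⁻¹) * u = u * ψ (x * y * x⁻¹ * y⁻¹) := by
      intro u hu
      have h7 := S.L.comm (ψ x) hv (ψ y) hyV u (S.VP hu)
      rw [map_mul, map_mul, map_mul, map_inv, map_inv]
      exact h7.symm
    obtain ⟨h7, h8⟩ := S.D.sc_of h6
    exact ⟨⟨hyB.1, h7⟩, ⟨hyB.2, h8⟩⟩
  have h6 : Nat.card ((V ⊓ HB.map ψ).comap ψ) ≤ Nat.card (SG x.1.1 × SG x.1.2) := by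
    refine Nat.card_le_card_of_injective
      (fun y : (V ⊓ HB.map ψ).comap ψ => (⟨y.1.1.1, (key y.1 y.2).1⟩, ⟨y.1.1.2, (key y.1 y.2).2⟩)) ?_
    intro y z h
    have h7 := congrArg (fun t : SG x.1.1 × SG x.1.2 => (t.1 : G3)) h
    have h8 := congrArg (fun t : SG x.1.1 × SG x.1.2 => (t.2 : G3)) h
    exact Subtype.ext (Subtype.ext (Prod.ext h7 h8))
  rw [Nat.card_prod] at h6
  have h7 := Nat.mul_le_mul (card_SG hd) (card_SG hd')
  omega

/-- Sylow subgroups over `V` centralize `z` -/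
theorem comm_z {P' : Subgroup Q} (hV : V ≤ P') (hc : Nat.card P' = 729) {p : Q} (hp : p ∈ P') :
    p * ψ z1 = ψ z1 * p := by
  have hVV := S.VV
  have h1 := card_mul_rel hV
  rw [S.L.cV, hc] at h1
  have h2 : V.relIndex P' = 3 := by omega
  have hn : (V.subgroupOf P').Normal := by
    apply normal_of_index_eq_minFac_card
    rw [hc]
    show V.relIndex P' = Nat.minFac 729
    rw [h2]
    norm_num
  have hnorm : ∀ p ∈ P', ∀ v ∈ V, p * v * p⁻¹ ∈ V := by
    intro p hp v hv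
    exact hn.conj_mem ⟨v, hV hv⟩ hv ⟨p, hp⟩
  have hz : ψ z1 ∈ V := by
    rw [hVV]
    exact ⟨z1, z1_mem, rfl⟩
  have h3 := hnorm p hp _ hz
  have h3' := h3
  rw [hVV] at h3'
  obtain ⟨y, hy, hyz⟩ := h3'
  have h4 : ∀ u ∈ HB.map ψ, ψ y * u = u * ψ y := by
    intro u hu
    have hu' : u ∈ V := by rw [hVV]; exact hu
    have h5 := hnorm _ (P'.inv_mem hp) u hu'
    rw [hVV] at h5
    obtain ⟨u', hu1, hu2⟩ := h5
    have h6 : ψ u' * ψ z1 = ψ z1 * ψ u' := z_comm u'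
    rw [hu2, inv_inv] at h6
    rw [hyz]
    calc p * ψ z1 * p⁻¹ * u = p * (ψ z1 * (p⁻¹ * u * p)) * p⁻¹ := by group
      _ = p * ((p⁻¹ * u * p) * ψ z1) * p⁻¹ := by rw [h6]
      _ = u * (p * ψ z1 * p⁻¹) := by group
  obtain ⟨h5, h6⟩ := S.D.sc_of h4
  rcases S.D.pow_z h5 h6 with h7 | h7 | h7
  · exfalso
    rw [hyz, conj_eq_one_iff] at h7
    exact S.D.z_ne h7
  · rw [hyz, mul_inv_eq_iff_eq_mul] at h7
    exact h7
  · exfalso
    rw [hyz] at h7
    have h8 : p * ψ z1 = ψ z1 * ψ z1 * p := by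
      rw [← h7]
      group
    have hz3 : ψ z1 * ψ z1 * ψ z1 = 1 := by
      have := S.D.z_cube
      rwa [pow_succ, pow_two] at this
    have h9 : (p * p) * ψ z1 = ψ z1 * (p * p) := by
      calc (p * p) * ψ z1 = p * (p * ψ z1) := by group
        _ = p * (ψ z1 * ψ z1 * p) := by rw [h8]
        _ = (p * ψ z1) * ψ z1 * p := by group
        _ = (ψ z1 * ψ z1 * p) * ψ z1 * p := by rw [h8]
        _ = ψ z1 * ψ z1 * (p * ψ z1) * p := by group
        _ = ψ z1 * ψ z1 * (ψ z1 * ψ z1 * p) * p := by rw [h8]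
        _ = (ψ z1 * ψ z1 * ψ z1) * ψ z1 * (p * p) := by group
        _ = ψ z1 * (p * p) := by rw [hz3, one_mul]
    have h10 : p ^ 729 = 1 := by
      have h11 := pow_card_eq_one' (G := P') (x := ⟨p, hp⟩)
      rw [hc] at h11
      exact congrArg Subtype.val h11
    have h11 : p = (p * p) ^ 365 := by
      rw [← pow_two, ← pow_mul]
      show p = p ^ (729 + 1)
      rw [pow_succ, h10, one_mul]
    have h12 : Commute (p * p) (ψ z1) := h9
    have h13 : Commute p (ψ z1) := by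
      rw [h11]
      exact h12.pow_left 365
    have h14 : ψ z1 * p = ψ z1 * ψ z1 * p := by rw [← h8]; exact h13.symm
    have h15 := mul_right_cancel h14
    exact S.D.z_ne (left_eq_mul.1 h15)

/-- **the first factor** -/
theorem comp1 {s : G3} (hs : dt s = 1) : ψ (bb hs (map_one dt)) ∈ N := by
  have hVV := S.VV
  have h1t : dt (1 : G3) = 1 := map_one dt
  let j1 : dt.ker →* BB :=
    { toFun := fun s => bb s.2 h1t
      map_one' := rfl
      map_mul' := fun a b => Subtype.ext (Prod.ext rfl (one_mul (1 : G3)).symm) }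
  let LL : Subgroup Q → Subgroup G3 := fun B => (B.comap (ψ.comp j1)).map dt.ker.subtype
  have memLL : ∀ (B : Subgroup Q) (s : G3), s ∈ LL B ↔ ∃ hs : dt s = 1, ψ (bb hs h1t) ∈ B := by
    intro B s
    constructor
    · rintro ⟨y, hy, rfl⟩
      exact ⟨y.2, hy⟩
    · rintro ⟨hs, h⟩
      exact ⟨⟨s, hs⟩, h, rfl⟩
  have hHL : ∀ B : Subgroup Q, V ≤ B → HH ≤ LL B := by
    intro B hB a ha
    rw [memLL]
    refine ⟨((mem_HH_iff _).1 ha).1, hB ?_⟩
    rw [hVV]
    exact ⟨_, ⟨ha, HH.one_mem⟩, rfl⟩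
  have hTL : ∀ B : Subgroup Q, P ≤ B → ∀ l ∈ LL B, eT * l * eT⁻¹ ∈ LL B := by
    intro B hB l hl
    rw [memLL] at hl ⊢
    obtain ⟨hl1, hl2⟩ := hl
    have hd : dt (eT * l * eT⁻¹) = 1 := by
      rw [map_mul, map_mul, map_inv, mul_comm (dt eT), mul_inv_cancel_right, hl1]
    refine ⟨hd, ?_⟩
    have e : bb hd h1t = t0 * bb hl1 h1t * t0⁻¹ := by
      apply Subtype.ext
      apply Prod.ext
      · rfl
      · show (1 : G3) = eT⁻¹ * 1 * (eT⁻¹)⁻¹
        group
    rw [e, map_mul, map_mul, map_inv]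
    exact B.mul_mem (B.mul_mem (hB S.tP) hl2) (B.inv_mem (hB S.tP))
  have hVA : V ≤ A := (S.L.VP.trans S.L.PN).trans S.L.NA
  have hPA : P ≤ A := S.L.PN.trans S.L.NA
  have F2 : eF * eF ∉ HH := by
    rw [mem_HH, tu_mul, tu_F]
    decide +kernel
  -- in `A`
  have hA : ∀ {s : G3} (hs : dt s = 1), ψ (bb hs h1t) ∈ A := by
    intro s hs
    by_cases hx : ψ (bb dt_F h1t) ∈ A
    · have h2 : eF ∈ LL A := (memLL _ _).2 ⟨dt_F, hx⟩
      obtain ⟨_, h3⟩ := (memLL _ _).1 (gen_of (hHL A hVA) (hTL A hPA) h2 dt_F F2 hs)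
      exact h3
    · have hVx : V ≤ cj (ψ (bb dt_F h1t)) A := by
        intro v hv
        rw [mem_cj]
        apply hVA
        rw [hVV] at hv ⊢
        exact conj_V' _ hv
      obtain ⟨P', hP'N, hP'x, hVP', cP'⟩ := S.L.par _ hx hVx
      have hex : ∃ u ∈ P', ∃ y : BB, u = ψ y ∧ dt y.1.1 ≠ 1 := by
        by_contra hcon
        push Not at hcon
        have h2 : P' ≤ SB.map ψ := by
          intro u hu
          obtain ⟨y, hy⟩ := S.D.cen u (S.comm_z hVP' cP' hu)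
          exact ⟨y, hcon u hu y hy, hy.symm⟩
        have h3 := card_dvd_of_le h2
        rw [cP', S.D.card_W] at h3
        exact absurd h3 (by norm_num)
      obtain ⟨u, hu, y, rfl, hy⟩ := hex
      have h2 : ψ y ∈ A := S.L.NA (hP'N hu)
      have h3 : (ψ (bb dt_F h1t))⁻¹ * ψ y * ψ (bb dt_F h1t) ∈ A := mem_cj.1 (hP'x hu)
      have h4 := A.mul_mem h3 (A.inv_mem h2)
      have hd : dt (eF⁻¹ * y.1.1 * eF * y.1.1⁻¹) = 1 := by
        rw [map_mul, map_mul, map_mul, map_inv, map_inv, dt_F, inv_one, one_mul, mul_one, mul_inv_cancel]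
      have e : bb hd h1t = (bb dt_F h1t)⁻¹ * y * bb dt_F h1t * y⁻¹ := by
        apply Subtype.ext
        apply Prod.ext
        · rfl
        · show (1 : G3) = 1⁻¹ * y.1.2 * 1 * y.1.2⁻¹
          group
      have h5 : eF⁻¹ * y.1.1 * eF * y.1.1⁻¹ ∈ LL A := by
        rw [memLL]
        refine ⟨hd, ?_⟩
        rw [e, map_mul, map_mul, map_mul, map_inv, map_inv]
        exact h4
      obtain ⟨_, h6⟩ := (memLL _ _).1 (gen_of (hHL A hVA) (hTL A hPA) h5 hd (cc_spec hy) hs)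
      exact h6
  -- in `N`
  have htN : ψ t0 ∈ N := S.L.PN S.tP
  have hxA := hA dt_F
  have h3 : (ψ (bb dt_F h1t))⁻¹ * ψ t0 * ψ (bb dt_F h1t) ∈ N := by
    have := S.L.nrm _ (A.inv_mem hxA) _ htN
    rwa [inv_inv] at this
  have h4 := N.mul_mem h3 (N.inv_mem htN)
  have hd : dt (eF⁻¹ * eT * eF * eT⁻¹) = 1 := by
    rw [map_mul, map_mul, map_mul, map_inv, map_inv, dt_F, inv_one, one_mul, mul_one, mul_inv_cancel]
  have e : bb hd h1t = (bb dt_F h1t)⁻¹ * t0 * bb dt_F h1t * t0⁻¹ := by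
    apply Subtype.ext
    apply Prod.ext
    · rfl
    · show (1 : G3) = 1⁻¹ * eT⁻¹ * 1 * (eT⁻¹)⁻¹
      group
  have h5 : eF⁻¹ * eT * eF * eT⁻¹ ∈ LL N := by
    rw [memLL]
    refine ⟨hd, ?_⟩
    rw [e, map_mul, map_mul, map_mul, map_inv, map_inv]
    exact h4
  obtain ⟨_, h6⟩ := (memLL _ _).1
    (gen_of (hHL N (S.L.VP.trans S.L.PN)) (hTL N S.L.PN) h5 hd (cc_spec dt_T_ne) hs)
  exact h6

theorem swap : Stp A N P V (ψ.comp sw) where
  L := S.L
  cQ := S.cQ
  D := S.D.swap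
  zP := by
    intro p hp
    rw [MonoidHom.comp_apply, S.D.sw_z1]
    have h := S.zP p hp
    rw [mul_inv_eq_iff_eq_mul, mul_assoc, h]
    group
  tP := by
    rw [MonoidHom.comp_apply, sw_t0, map_inv]
    exact P.inv_mem S.tP

/-- **the contradiction** -/
theorem false : False := by
  have hVV := S.VV
  have hW : SB.map ψ ≤ N := by
    rintro _ ⟨x, hx, rfl⟩
    have hx1 : dt x.1.1 = 1 := hx
    have hx2 := dt_snd hx1
    have h1 := S.comp1 hx1
    have h2 := S.swap.comp1 hx2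
    rw [MonoidHom.comp_apply] at h2
    have h3 := N.mul_mem h1 h2
    rw [← map_mul] at h3
    have e : bb hx1 (map_one dt) * sw (bb hx2 (map_one dt)) = x := by
      apply Subtype.ext
      apply Prod.ext
      · exact mul_one x.1.1
      · exact one_mul x.1.2
    rwa [e] at h3
  have h1 := S.L.small (SB.map ψ) hW (by
    rintro _ ⟨x, -, rfl⟩ v hv
    rw [hVV] at hv ⊢
    exact conj_V x hv)
  rw [S.D.card_W] at h1
  omega

end Stp

/-- **The Q side.** -/
theorem q_side (L : LocN A N P V) (e : Q ≃* PSU 6 F4 2) : False := by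
  have h3 : Fact (Nat.Prime 3) := ⟨Nat.prime_three⟩
  have cQ : Nat.card Q = 9196830720 := by
    rw [Nat.card_congr e.toEquiv]
    exact H18.USix.card_psu hF4
  have hP3 : IsPGroup 3 P := IsPGroup.of_card (n := 6) (by rw [L.cP]; norm_num)
  have hPn : Nontrivial P := by
    rw [← Finite.one_lt_card_iff_nontrivial, L.cP]
    norm_num
  -- a central element
  obtain ⟨z, hz, hz1⟩ : ∃ z ∈ center P, z ≠ 1 := by
    have h1 := hP3.bot_lt_center
    obtain ⟨z, hz, hz1⟩ := SetLike.exists_of_lt h1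
    exact ⟨z, hz, fun h => hz1 (by rw [h]; exact one_mem _)⟩
  have hzc : ∀ p ∈ P, p * (z : Q) = z * p := by
    intro p hp
    exact congrArg Subtype.val (mem_center_iff.1 hz ⟨p, hp⟩)
  have hz1' : e (z : Q) ≠ 1 := by
    rw [Ne, map_eq_one_iff e e.injective]
    intro h
    exact hz1 (Subtype.ext h)
  have hdv : 3 ^ 6 ∣ Nat.card ↥(centralizer ({e (z : Q)} : Set (PSU 6 F4 2))) := by
    rw [← H18.USix.card_centralizer_equiv e (z : Q)]
    have h1 : P ≤ centralizer ({(z : Q)} : Set Q) := by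
      intro p hp
      rw [mem_centralizer_singleton_iff]
      exact hzc p hp
    have h2 := card_dvd_of_le h1
    rw [L.cP] at h2
    exact (by norm_num : (3 : ℕ) ^ 6 = 729) ▸ h2
  obtain ⟨c, hc⟩ := isConj_iff.1 (conj_z hz1' hdv)
  -- the first homomorphism
  let ψ0 : BB →* Q := e.symm.toMonoidHom.comp psi
  have D0 : Dat ψ0 := Dat.of_equiv e.symm
  let ψ1 : BB →* Q := (MulAut.conj (e.symm c)⁻¹).toMonoidHom.comp ψ0
  have D1 : Dat ψ1 := D0.conj _
  have hz1z : ψ1 z1 = z := by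
    show (e.symm c)⁻¹ * e.symm (psi z1) * (e.symm c)⁻¹⁻¹ = z
    rw [← hc, map_mul, map_mul, map_inv, e.symm_apply_apply]
    group
  -- conjugate `t` into `P`
  have htc : ψ1 t0 ∈ centralizer ({(z : Q)} : Set Q) := by
    rw [mem_centralizer_singleton_iff, ← hz1z]
    exact z_comm t0
  have htp : IsPGroup 3 (zpowers (ψ1 t0)) := by
    rw [IsPGroup.iff_orderOf]
    rintro ⟨g, hg⟩
    obtain ⟨k, rfl⟩ := hg
    have h1 : (⟨(fun n : ℤ => ψ1 t0 ^ n) k, ⟨k, rfl⟩⟩ : zpowers (ψ1 t0)) ^ 3 = 1 := by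
      apply Subtype.ext
      show (ψ1 t0 ^ k) ^ 3 = 1
      rw [← zpow_natCast, ← zpow_mul, mul_comm, zpow_mul, zpow_natCast, ← map_pow, t0_cube, map_one, one_zpow]
    have h2 := orderOf_dvd_of_pow_eq_one h1
    rcases (Nat.dvd_prime Nat.prime_three).1 h2 with h | h
    · exact ⟨0, by rw [h, pow_zero]⟩
    · exact ⟨1, by rw [h, pow_one]⟩
  obtain ⟨b, hb, hbt⟩ := exists_conj hP3 (pmax cQ L.cP) (C := centralizer ({(z : Q)} : Set Q)) (by
    intro p hp
    rw [mem_centralizer_singleton_iff]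
    exact hzc p hp) htc htp
  have hbz : b * (z : Q) = z * b := mem_centralizer_singleton_iff.1 hb
  have hz2 : ((MulAut.conj b).toMonoidHom.comp ψ1) z1 = z := by
    show b * ψ1 z1 * b⁻¹ = z
    rw [hz1z, hbz, mul_inv_cancel_right]
  exact Stp.false (ψ := (MulAut.conj b).toMonoidHom.comp ψ1) (A := A) (N := N) (P := P) (V := V)
    ⟨L, cQ, D1.conj b, by rw [hz2]; exact hzc, hbt⟩

end Cfsg.Agent.H968.EPU.QEnd
end

-- part: H781/EPU/C2
section
/-!
# Root group data of type `C₂` (helper781, S3499)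

* `Comm` facts of `V_J`, `J = {1}`, when the long root groups have prime order;
* orders of `U`, `V_J`, `V_{N,J}`;
* `HasC2` and the instance `PSU 4 K q`.
-/

set_option autoImplicit false
set_option linter.unusedSectionVars false

open scoped commutatorElement

namespace Cfsg.Agent.H781.EPU

open CoxeterSystem Cfsg.Agent.ChevalleyStructure.CoxeterGeom Cfsg.Agent.Tits.Roots Cfsg.Agent.Tits.Core
  Cfsg.Agent.Tits.RootComb Cfsg.Agent.Nodes.Comb Cfsg.Agent.Nodes.Reps Cfsg.Agent.Nodes.BNOf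
  Cfsg.Agent.Nodes.CardSup Cfsg.Agent.Nodes.TypeC Cfsg.Agent.Nodes.CardVV
  Cfsg.Agent.Nodes.StabComb Cfsg.Agent.Nodes.Bruhat Cfsg.Agent.Nodes.OppDec Cfsg.Agent.Nodes.LeviDec

/-! ### generalities -/

/-- commutators of a join -/
theorem comm_mem_of_gen {G : Type*} [Group G] {ι : Type*} (X : ι → Subgroup G) (Z : Subgroup G)
    (hZ : ∀ i, ∀ g ∈ X i, ∀ z ∈ Z, g * z = z * g) (hc : ∀ i j, ∀ g ∈ X i, ∀ k ∈ X j, ⁅g, k⁆ ∈ Z) :
    ∀ g ∈ (⨆ i, X i), ∀ k ∈ (⨆ i, X i), ⁅g, k⁆ ∈ Z := by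
  -- `H` centralises `Z`
  have h0 : (⨆ i, X i) ≤ Subgroup.centralizer (Z : Set G) := by
    refine iSup_le fun i g hg => ?_
    rw [Subgroup.mem_centralizer_iff]
    intro z hz
    exact (hZ i g hg z hz).symm
  have h0' : ∀ g ∈ (⨆ i, X i), ∀ z ∈ Z, g * z * g⁻¹ = z := by
    intro g hg z hz
    rw [mul_inv_eq_iff_eq_mul]
    exact (Subgroup.mem_centralizer_iff.1 (h0 hg) z hz).symm
  have h1 : ∀ i, ∀ g ∈ X i, ∀ k ∈ (⨆ i, X i), ⁅g, k⁆ ∈ Z := by
    intro i g hg k hk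
    refine Subgroup.iSup_induction' (S := X) (C := fun k _ => ⁅g, k⁆ ∈ Z) (fun j k hk => hc i j g hg k hk) ?_ ?_ hk
    · rw [commutatorElement_one_right]
      exact Z.one_mem
    · intro a b ha hb h2 h3
      have e : ⁅g, a * b⁆ = ⁅g, a⁆ * (a * ⁅g, b⁆ * a⁻¹) := by
        simp only [commutatorElement_def]
        group
      rw [e, h0' a ha _ h3]
      exact Z.mul_mem h2 h3
  intro g hg k hk
  refine Subgroup.iSup_induction' (S := X) (C := fun g _ => ⁅g, k⁆ ∈ Z) (fun i g hg => h1 i g hg k hk) ?_ ?_ hg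
  · rw [commutatorElement_one_left]
    exact Z.one_mem
  · intro a b ha hb h2 h3
    have e : ⁅a * b, k⁆ = (a * ⁅b, k⁆ * a⁻¹) * ⁅a, k⁆ := by
      simp only [commutatorElement_def]
      group
    rw [e, h0' a ha _ h3]
    exact Z.mul_mem h3 h2

/-- a normalised subgroup of order `p` of a `p`-group is central -/
theorem central_of_card {G : Type*} [Group G] [Finite G] {p : ℕ} [hp : Fact p.Prime] {U Z : Subgroup G} (hU : IsPGroup p U)
    (hn : ∀ u ∈ U, ∀ z ∈ Z, u * z * u⁻¹ ∈ Z) (hZ : Nat.card Z = p) : ∀ u ∈ U, ∀ z ∈ Z, u * z = z * u := by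
  let : MulAction U Z :=
    { smul := fun u z => ⟨u * z * (u : G)⁻¹, hn u u.2 z z.2⟩
      one_smul := fun z => Subtype.ext (by
        change ((1 : U) : G) * z * ((1 : U) : G)⁻¹ = z
        simp)
      mul_smul := fun u v z => Subtype.ext (by
        change ((u * v : U) : G) * z * ((u * v : U) : G)⁻¹ = u * (v * z * (v : G)⁻¹) * (u : G)⁻¹
        push_cast
        group) }
  have hs : ∀ (u : U) (z : Z), ((u • z : Z) : G) = u * z * (u : G)⁻¹ := fun _ _ => rfl
  have h1 := hU.card_modEq_card_fixedPoints Z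
  rw [hZ] at h1
  have h2 : p ∣ Nat.card (MulAction.fixedPoints U Z) := (Nat.modEq_zero_iff_dvd.1 (h1.symm.trans (by
    rw [Nat.modEq_zero_iff_dvd])))
  have h3 : (1 : Z) ∈ MulAction.fixedPoints U Z := by
    intro u
    apply Subtype.ext
    rw [hs]
    simp
  have h4 : Nat.card Z ≤ Nat.card (MulAction.fixedPoints U Z) := by
    rw [hZ]
    have : Nonempty (MulAction.fixedPoints U Z) := ⟨⟨1, h3⟩⟩
    exact Nat.le_of_dvd Nat.card_pos h2
  have h5 : MulAction.fixedPoints U Z = Set.univ := by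
    apply Set.eq_of_subset_of_ncard_le (Set.subset_univ _)
    rw [Set.ncard_univ]
    exact h4
  intro u hu z hz
  have h6 : (⟨z, hz⟩ : Z) ∈ MulAction.fixedPoints U Z := by rw [h5]; trivial
  have h7 := congrArg Subtype.val (h6 ⟨u, hu⟩)
  rw [hs] at h7
  exact mul_inv_eq_iff_eq_mul.1 h7

/-! ### roots of type `C₂` -/

section comb

variable {W : Type*} [Group W] {cs : CoxeterSystem (CoxeterMatrix.B 2) W}

/-- the positive roots -/
def sP : Finset (Fin 2 → ℤ) := {![1, 0], ![0, 1], ![1, 1], ![2, 1]}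

/-- the positive roots different from `α₁` -/
def sV : Finset (Fin 2 → ℤ) := {![1, 0], ![1, 1], ![2, 1]}

theorem eq_vec {y : Fin 2 → ℤ} {u v : ℤ} (h1 : y 0 = u) (h2 : y 1 = v) : y = ![u, v] := by
  funext k
  fin_cases k
  · exact h1
  · exact h2

theorem sr_zero : (sr 0 : Fin 2 → ℤ) = ![1, 0] := by
  funext k
  fin_cases k <;> simp [sr]

theorem sr_one : (sr 1 : Fin 2 → ℤ) = ![0, 1] := by
  funext k
  fin_cases k <;> simp [sr]

theorem root_cases {y : Fin 2 → ℤ} (hy : IsRoot cs (Nodes.TypeC.isCartan 2) y) :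
    (y 0 = 1 ∧ y 1 = 0) ∨ (y 0 = 0 ∧ y 1 = 1) ∨ (y 0 = 1 ∧ y 1 = 1) ∨ (y 0 = 2 ∧ y 1 = 1) ∨
    (y 0 = -1 ∧ y 1 = 0) ∨ (y 0 = 0 ∧ y 1 = -1) ∨ (y 0 = -1 ∧ y 1 = -1) ∨ (y 0 = -2 ∧ y 1 = -1) := by
  rw [isRoot_iff] at hy
  obtain ⟨a, b, hab, e⟩ := hy
  have e1 : ee y 0 = y 0 := by rw [ee_two]; rfl
  have e2 : ee y 1 = -y 0 + 2 * y 1 := by rw [ee_two]; rfl
  have e4 := congrFun e 0
  have e5 := congrFun e 1
  rw [e1, Pi.add_apply, wt_apply, wt_apply] at e4
  rw [e2, Pi.add_apply, wt_apply, wt_apply] at e5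
  obtain ⟨i, s⟩ := a
  obtain ⟨j, t⟩ := b
  fin_cases i <;> fin_cases j <;> cases s <;> cases t <;> simp [Nodes.TypeC.Ok] at hab e4 e5 <;> (clear * - e2 e4 e5; omega)

theorem isRoot_sP {y : Fin 2 → ℤ} (hy : y ∈ sP) : IsRoot cs (Nodes.TypeC.isCartan 2) y := by
  unfold sP at hy
  simp only [Finset.mem_insert, Finset.mem_singleton] at hy
  rcases hy with rfl | rfl | rfl | rfl
  · rw [← sr_zero]; exact isRoot_sr cs _ 0
  · rw [← sr_one]; exact isRoot_sr cs _ 1
  · rw [isRoot_iff]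
    refine ⟨((0 : Fin 2), true), ((1 : Fin 2), true), Or.inl (by decide), ?_⟩
    rw [ee_two]
    funext k
    (revert k; simp only [wt_apply, _root_.Fin.forall_fin_succ, _root_.Nat.succ_eq_add_one, Nat.reduceAdd, Fin.isValue, _root_.Matrix.cons_val_zero, Int.reduceNeg, _root_.Matrix.cons_val_one, _root_.Matrix.cons_val_fin_one, _root_.mul_one, Int.reduceAdd, _root_.Pi.add_apply, ↓reduceIte, _root_.zero_ne_one, _root_.add_zero, _root_.Matrix.cons_val_succ, _root_.Fin.succ_ne_zero, _root_.zero_add, _root_.left_eq_ite_iff, _root_.one_ne_zero, _root_.imp_false, _root_.Decidable.not_not, _root_.Fin.succ_zero_eq_one, _root_.IsEmpty.forall_iff, _root_.and_self])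
  · rw [isRoot_iff]
    exact ⟨_, _, Or.inr rfl, ee_long⟩

theorem sP_nonneg {y : Fin 2 → ℤ} (hy : y ∈ sP) : 0 ≤ y := by
  unfold sP at hy
  simp only [Finset.mem_insert, Finset.mem_singleton] at hy
  rcases hy with rfl | rfl | rfl | rfl <;> intro k <;> (revert k; simp only [_root_.Fin.forall_fin_succ, _root_.Pi.zero_apply, _root_.Nat.succ_eq_add_one, Nat.reduceAdd, Fin.isValue, _root_.Matrix.cons_val_zero, _root_.zero_le_one, _root_.Matrix.cons_val_succ, _root_.Matrix.cons_val_fin_one, _root_.Std.le_refl, _root_.implies_true, _root_.and_self, _root_.Nat.ofNat_nonneg])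

theorem mem_sP {y : Fin 2 → ℤ} : y ∈ sP ↔ y ∈ RGD.Pos cs (Nodes.TypeC.isCartan 2) := by
  refine ⟨fun h => ⟨isRoot_sP h, sP_nonneg h⟩, fun h => ?_⟩
  have h0 : 0 ≤ y 0 := h.2 0
  have h1 : 0 ≤ y 1 := h.2 1
  unfold sP
  simp only [Finset.mem_insert, Finset.mem_singleton]
  rcases root_cases h.1 with h | h | h | h | h | h | h | h
  · left; exact eq_vec h.1 h.2
  · right; left; exact eq_vec h.1 h.2
  · right; right; left; exact eq_vec h.1 h.2
  · right; right; right; exact eq_vec h.1 h.2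
  all_goals (exfalso; omega)

theorem pos_eq : RGD.Pos cs (Nodes.TypeC.isCartan 2) = (sP : Set (Fin 2 → ℤ)) := by
  ext y
  rw [Finset.mem_coe, mem_sP (cs := cs)]

theorem mem_sV {y : Fin 2 → ℤ} : y ∈ sV ↔ y ∈ NotJ cs (Nodes.TypeC.isCartan 2) ({1} : Set (Fin 2)) := by
  constructor
  · intro hy
    have h1 : y ∈ sP := by
      unfold sV at hy
      unfold sP
      simp only [Finset.mem_insert, Finset.mem_singleton] at hy ⊢
      tauto
    refine ⟨isRoot_sP h1, sP_nonneg h1, 0, by simp, ?_⟩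
    unfold sV at hy
    simp only [Finset.mem_insert, Finset.mem_singleton] at hy
    rcases hy with rfl | rfl | rfl <;> simp only [_root_.Nat.succ_eq_add_one, _root_.Nat.reduceAdd, _root_.Fin.isValue, _root_.Matrix.cons_val_zero, _root_.zero_lt_one, _root_.Order.lt_two_iff, _root_.zero_le_one]
  · rintro ⟨h1, h2, k, hk, h3⟩
    have hk0 : k = 0 := by
      fin_cases k
      · rfl
      · simp at hk
    subst hk0
    have h4 : y ∈ sP := mem_sP.2 ⟨h1, h2⟩
    unfold sP at h4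
    unfold sV
    simp only [Finset.mem_insert, Finset.mem_singleton] at h4 ⊢
    rcases h4 with rfl | rfl | rfl | rfl
    · left; rfl
    · simp at h3
    · right; left; rfl
    · right; right; rfl

theorem notJ_eq : NotJ cs (Nodes.TypeC.isCartan 2) ({1} : Set (Fin 2)) = (sV : Set (Fin 2 → ℤ)) := by
  ext y
  rw [Finset.mem_coe, mem_sV (cs := cs)]

/-- between two roots of `V_J` -/
theorem btwn_V {x y z : Fin 2 → ℤ} (hx : x ∈ sV) (hy : y ∈ sV) (hxy : x ≠ y)
    (hz : Btwn cs (Nodes.TypeC.isCartan 2) x y z) : z = ![2, 1] ∧ x ≠ ![2, 1] ∧ y ≠ ![2, 1] := by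
  obtain ⟨h1, m, a, b, hm, ha, hb, e⟩ := hz
  have e0 := congrFun e 0
  have e1 := congrFun e 1
  simp only [Pi.smul_apply, Pi.add_apply, smul_eq_mul] at e0 e1
  unfold sV at hx hy
  simp only [Finset.mem_insert, Finset.mem_singleton] at hx hy
  have hr := root_cases h1
  rcases hx with rfl | rfl | rfl <;> rcases hy with rfl | rfl | rfl <;>
    first
    | exact absurd rfl hxy
    | (simp at e0 e1
       rcases hr with h | h | h | h | h | h | h | h <;> rw [h.1] at e0 <;> rw [h.2] at e1 <;>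
        first
        | (exfalso; linarith only [hb, e1, ha, e0, hm])
        | exact ⟨eq_vec h.1 h.2, by decide, by decide⟩)

/-! ### reflections -/

theorem rep_zero (x : Fin 2 → ℤ) : rep cs (Nodes.TypeC.isCartan 2) (cs.simple 0) x = ![-x 0 + 2 * x 1, x 1] := by
  rw [rep_simple, refl_apply]
  have e0 : Nodes.TypeC.A 2 0 0 = 2 := by rw [A_apply]; rfl
  have e1 : Nodes.TypeC.A 2 0 1 = -2 := by rw [A_apply]; rfl
  have e : pairing (Nodes.TypeC.A 2) 0 x = 2 * x 0 - 2 * x 1 := by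
    unfold pairing
    rw [Fin.sum_univ_two, e0, e1]
    ring
  rw [e]
  apply eq_vec
  · simp
    ring
  · simp

theorem rep_one' (x : Fin 2 → ℤ) : rep cs (Nodes.TypeC.isCartan 2) (cs.simple 1) x = ![x 0, x 0 - x 1] := by
  rw [rep_simple, refl_apply]
  have e0 : Nodes.TypeC.A 2 1 0 = -1 := by rw [A_apply]; rfl
  have e1 : Nodes.TypeC.A 2 1 1 = 2 := by rw [A_apply]; rfl
  have e : pairing (Nodes.TypeC.A 2) 1 x = -x 0 + 2 * x 1 := by
    unfold pairing
    rw [Fin.sum_univ_two, e0, e1]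
    ring
  rw [e]
  apply eq_vec
  · simp
  · simp
    ring

theorem rep_neg (x : Fin 2 → ℤ) :
    rep cs (Nodes.TypeC.isCartan 2) (cs.simple 0 * cs.simple 1 * cs.simple 0 * cs.simple 1) x = -x := by
  rw [rep_mul_apply, rep_mul_apply, rep_mul_apply, rep_one', rep_zero, rep_one', rep_zero]
  funext k
  fin_cases k
  · simp only [_root_.Nat.succ_eq_add_one, _root_.Nat.reduceAdd, _root_.Fin.isValue, _root_.Matrix.cons_val_zero, _root_.Matrix.cons_val_one, _root_.Matrix.cons_val_fin_one, _root_.neg_add_rev, _root_.neg_neg, _root_.Fin.zero_eta, _root_.Pi.neg_apply]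
    ring
  · simp only [_root_.Nat.succ_eq_add_one, _root_.Nat.reduceAdd, _root_.Fin.isValue, _root_.Matrix.cons_val_zero, _root_.Matrix.cons_val_one, _root_.Matrix.cons_val_fin_one, _root_.neg_add_rev, _root_.neg_neg, _root_.Fin.mk_one, _root_.Pi.neg_apply]
    ring

theorem rep_neg_inv (x : Fin 2 → ℤ) :
    rep cs (Nodes.TypeC.isCartan 2) (cs.simple 0 * cs.simple 1 * cs.simple 0 * cs.simple 1)⁻¹ x = -x := by
  have h1 := rep_inv_apply (cs := cs) (h := Nodes.TypeC.isCartan 2)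
    (cs.simple 0 * cs.simple 1 * cs.simple 0 * cs.simple 1) (-x)
  rw [rep_neg, neg_neg] at h1
  exact h1

end comb

/-! ### orders -/

section rgd

variable {W Y : Type*} [Group W] [Finite W] [Group Y] [Finite Y] {cs : CoxeterSystem (CoxeterMatrix.B 2) W} {p : ℕ}
  {T : Subgroup Y} {n : Fin 2 → Y} {X : (Fin 2 → ℤ) → Subgroup Y}
  (R : RGD cs (Nodes.TypeC.isCartan 2) p T n X)

include R

theorem card_short : Nat.card (X ![1, 1]) = Nat.card (X (sr 0)) := by
  rw [← card_X_rep R (cs.simple 1) (isRoot_sr cs _ 0), rep_one', sr_zero]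
  rfl

theorem card_long : Nat.card (X ![2, 1]) = Nat.card (X (sr 1)) := by
  rw [← card_X_rep R (cs.simple 0) (isRoot_sr cs _ 1), rep_zero, sr_one]
  rfl

theorem card_Up : Nat.card (RGD.Sup X (RGD.Pos cs (Nodes.TypeC.isCartan 2))) =
    Nat.card (X (sr 0)) ^ 2 * Nat.card (X (sr 1)) ^ 2 := by
  rw [pos_eq, card_sup R (s := sP) (by rw [← pos_eq (cs := cs)]) (by
    rw [← pos_eq (cs := cs)]
    exact Nodes.Unique.closed_pos)]
  unfold sP
  rw [Finset.prod_insert (by decide), Finset.prod_insert (by decide), Finset.prod_insert (by decide),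
    Finset.prod_singleton, card_short R, card_long R, ← sr_zero, ← sr_one]
  ring

omit [Finite W] [Finite Y] R in
theorem closed_V : Nodes.Unique.Closed cs (Nodes.TypeC.isCartan 2) (NotJ cs (Nodes.TypeC.isCartan 2) ({1} : Set (Fin 2))) := by
  rintro x ⟨hx, hx0, k, hk, hx1⟩ y ⟨hy, hy0, l, hl, hy1⟩ z hz
  have hk0 : k = 0 := by
    fin_cases k
    · rfl
    · simp at hk
  have hl0 : l = 0 := by
    fin_cases l
    · rfl
    · simp at hl
  subst hk0
  subst hl0
  refine ⟨hz.1, RGD.nonneg_of_btwn hx0 hy0 hz, 0, hk, ?_⟩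
  obtain ⟨-, m, a, b, hm, ha, hb, e⟩ := hz
  have e0 := congrFun e 0
  simp only [Pi.smul_apply, Pi.add_apply, smul_eq_mul] at e0
  have h1 : 0 < m * z 0 := by
    rw [e0]
    exact add_pos (mul_pos ha hx1) (mul_pos hb hy1)
  exact pos_of_mul_pos_right h1 hm.le

theorem card_V : Nat.card (VJ cs (Nodes.TypeC.isCartan 2) X ({1} : Set (Fin 2))) =
    Nat.card (X (sr 0)) ^ 2 * Nat.card (X (sr 1)) := by
  unfold VJ
  rw [notJ_eq, card_sup R (s := sV) (by
      rw [← notJ_eq (cs := cs)]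
      exact fun x hx => ⟨hx.1, hx.2.1⟩) (by
    rw [← notJ_eq (cs := cs)]
    exact closed_V)]
  unfold sV
  rw [Finset.prod_insert (by decide), Finset.prod_insert (by decide),
    Finset.prod_singleton, card_short R, card_long R, ← sr_zero]
  ring

theorem card_VN : Nat.card (VNJ cs (Nodes.TypeC.isCartan 2) X ({1} : Set (Fin 2))) =
    Nat.card (VJ cs (Nodes.TypeC.isCartan 2) X ({1} : Set (Fin 2))) := by
  obtain ⟨g, hg⟩ := exists_rp cs R.nsys (cs.simple 0 * cs.simple 1 * cs.simple 0 * cs.simple 1)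
  have h1 := KFacts.RgdPar.cj_Sup_eq R hg (Ω := NotJ cs (Nodes.TypeC.isCartan 2) ({1} : Set (Fin 2))) fun x hx => hx.1
  have h2 : VNJ cs (Nodes.TypeC.isCartan 2) X ({1} : Set (Fin 2)) =
      cj g (VJ cs (Nodes.TypeC.isCartan 2) X ({1} : Set (Fin 2))) := by
    unfold VNJ VJ
    rw [h1]
    congr 1
    ext x
    simp only [Set.mem_ofPred_eq, rep_neg_inv]
    rfl
  rw [h2]
  exact card_cj _

theorem card_PJ_mul : Nat.card (PJ cs (Nodes.TypeC.isCartan 2) T X ({1} : Set (Fin 2))) *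
    Nat.card (VJ cs (Nodes.TypeC.isCartan 2) X ({1} : Set (Fin 2))) ≤ Nat.card Y := by
  rw [← card_VN R, mul_comm, ← Nat.card_prod]
  refine Nat.card_le_card_of_injective (fun x => (x.1 : Y) * x.2) ?_
  rintro ⟨⟨a, ha⟩, ⟨b, hb⟩⟩ ⟨⟨a', ha'⟩, ⟨b', hb'⟩⟩ e
  have e1 : a * b = a' * b' := e
  have e2 : a'⁻¹ * a = b' * b⁻¹ := by
    rw [inv_mul_eq_iff_eq_mul, ← mul_assoc, ← e1, mul_inv_cancel_right]
  have e3 : a'⁻¹ * a ∈ VNJ cs (Nodes.TypeC.isCartan 2) X ({1} : Set (Fin 2)) ⊓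
      PJ cs (Nodes.TypeC.isCartan 2) T X ({1} : Set (Fin 2)) :=
    Subgroup.mem_inf.2 ⟨mul_mem (inv_mem ha') ha, by rw [e2]; exact mul_mem hb' (inv_mem hb)⟩
  rw [VNJ_inf_PJ R, Subgroup.mem_bot] at e3
  have e4 : a = a' := (inv_mul_eq_one.1 e3).symm
  subst e4
  have e5 : b = b' := mul_left_cancel e1
  subst e5
  rfl

end rgd

/-! ### commutators -/

section comm

variable {W Y : Type*} [Group W] [Finite W] [Group Y] [Finite Y] {cs : CoxeterSystem (CoxeterMatrix.B 2) W} {p : ℕ}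
  [hp : Fact p.Prime] {T : Subgroup Y} {n : Fin 2 → Y} {X : (Fin 2 → ℤ) → Subgroup Y}
  (R : RGD cs (Nodes.TypeC.isCartan 2) p T n X)

include R

/-- `[V, V] ≤ X_{2,1}` -/
theorem comm_mem (ha : Nat.card (X (sr 0)) = p ^ 2) (hb : Nat.card (X (sr 1)) = p) :
    ∀ v ∈ VJ cs (Nodes.TypeC.isCartan 2) X ({1} : Set (Fin 2)),
      ∀ w ∈ VJ cs (Nodes.TypeC.isCartan 2) X ({1} : Set (Fin 2)), ⁅v, w⁆ ∈ X ![2, 1] := by
  have hab : ∀ x ∈ sV, ∀ g ∈ X x, ∀ k ∈ X x, ⁅g, k⁆ = 1 := by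
    intro x hx
    have h1 : Nat.card (X x) = p ^ 2 ∨ Nat.card (X x) = p := by
      unfold sV at hx
      simp only [Finset.mem_insert, Finset.mem_singleton] at hx
      rcases hx with rfl | rfl | rfl
      · left; rw [← sr_zero]; exact ha
      · left; rw [card_short R]; exact ha
      · right; rw [card_long R]; exact hb
    intro g hg k hk
    rw [commutatorElement_eq_one_iff_mul_comm]
    have h2 : (⟨g, hg⟩ : X x) * ⟨k, hk⟩ = ⟨k, hk⟩ * ⟨g, hg⟩ := by
      rcases h1 with h1 | h1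
      · exact (IsPGroup.isMulCommutative_of_card_eq_prime_sq h1).is_comm.comm _ _
      · have := isCyclic_of_prime_card h1
        exact IsCyclic.commGroup.mul_comm _ _
    exact congrArg Subtype.val h2
  have hc : ∀ x ∈ sV, ∀ y ∈ sV, ∀ g ∈ X x, ∀ k ∈ X y, ⁅g, k⁆ ∈ X ![2, 1] := by
    intro x hx y hy g hg k hk
    by_cases hxy : x = y
    · subst hxy
      rw [hab x hx g hg k hk]
      exact one_mem _
    · have hx' := mem_sV (cs := cs).1 hx
      have hy' := mem_sV (cs := cs).1 hy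
      have hne : x ≠ -y := by
        rintro rfl
        have h1 : 0 ≤ y 0 := hy'.2.1 0
        have h2 : 0 ≤ (-y) 0 := hx'.2.1 0
        obtain ⟨l, hl, hy1⟩ := hy'.2.2
        have h3 : 0 ≤ (-y) l := hx'.2.1 l
        rw [Pi.neg_apply] at h3
        omega
      refine (iSup_le fun z => ?_ : _root_.Cfsg.Agent.Nodes.Reps.btw cs (Nodes.TypeC.isCartan 2) X x y ≤ X ![2, 1]) (R.comm x y hx'.1 hy'.1 hxy hne g hg k hk)
      rw [(btwn_V hx hy hxy z.2).1]
  have hz : ∀ x ∈ sV, ∀ g ∈ X x, ∀ k ∈ X ![2, 1], g * k = k * g := by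
    intro x hx g hg k hk
    have hr : (![2, 1] : Fin 2 → ℤ) ∈ sV := by decide
    rw [← commutatorElement_eq_one_iff_mul_comm]
    by_cases hxy : x = ![2, 1]
    · subst hxy
      exact hab _ hx g hg k hk
    · have hx' := mem_sV (cs := cs).1 hx
      have hy' := mem_sV (cs := cs).1 hr
      have hne : x ≠ -![2, 1] := by
        rintro rfl
        have h2 : 0 ≤ (-![2, 1] : Fin 2 → ℤ) 0 := hx'.2.1 0
        simp at h2
      have h1 : _root_.Cfsg.Agent.Nodes.Reps.btw cs (Nodes.TypeC.isCartan 2) X x ![2, 1] ≤ ⊥ :=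
        iSup_le fun z => absurd rfl (btwn_V hx hr hxy z.2).2.2
      exact h1 (R.comm x ![2, 1] hx'.1 hy'.1 hxy hne g hg k hk)
  unfold VJ RGD.Sup
  refine comm_mem_of_gen (fun z : (NotJ cs (Nodes.TypeC.isCartan 2) ({1} : Set (Fin 2))) => X z.1) (X ![2, 1]) ?_ ?_
  · intro i g hg z hz'
    exact hz i.1 (mem_sV.2 i.2) g hg z hz'
  · intro i j g hg k hk
    exact hc i.1 (mem_sV.2 i.2) j.1 (mem_sV.2 j.2) g hg k hk

/-- `[V, V] ≤ Z(U)` -/
theorem comm_central (ha : Nat.card (X (sr 0)) = p ^ 2) (hb : Nat.card (X (sr 1)) = p) :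
    ∀ v ∈ VJ cs (Nodes.TypeC.isCartan 2) X ({1} : Set (Fin 2)),
      ∀ w ∈ VJ cs (Nodes.TypeC.isCartan 2) X ({1} : Set (Fin 2)),
        ∀ u ∈ RGD.Sup X (RGD.Pos cs (Nodes.TypeC.isCartan 2)), u * ⁅v, w⁆ = ⁅v, w⁆ * u := by
  set V := VJ cs (Nodes.TypeC.isCartan 2) X ({1} : Set (Fin 2)) with hV
  set U := RGD.Sup X (RGD.Pos cs (Nodes.TypeC.isCartan 2)) with hU
  have h1 : ⁅V, V⁆ ≤ X ![2, 1] := by
    rw [Subgroup.commutator_le]
    exact comm_mem R ha hb
  have h2 : Nat.card (⁅V, V⁆ : Subgroup Y) ∣ p := by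
    rw [← hb, ← card_long R]
    exact Subgroup.card_dvd_of_le h1
  have h3 : ∀ u ∈ U, ∀ z ∈ ⁅V, V⁆, u * z * u⁻¹ ∈ ⁅V, V⁆ := by
    intro u hu z hz
    have h4 : u ∈ Subgroup.normalizer (V : Set Y) :=
      (le_trans (le_trans RGD.U_le_B B_le_PJ) (PJ_le_normalizer_VJ R ({1} : Set (Fin 2)))) hu
    have h5 : cj u V = V := mem_normalizer_iff_cj.1 h4
    have h6 : cj u ⁅V, V⁆ = ⁅V, V⁆ := by
      unfold cj at h5 ⊢
      rw [Subgroup.map_commutator, h5]
    rw [← h6]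
    exact ⟨z, hz, rfl⟩
  intro v hv w hw u hu
  have h4 : ⁅v, w⁆ ∈ ⁅V, V⁆ := Subgroup.commutator_mem_commutator hv hw
  rcases (Nat.dvd_prime hp.out).1 h2 with h5 | h5
  · rw [Subgroup.card_eq_one] at h5
    rw [h5, Subgroup.mem_bot] at h4
    rw [h4, mul_one, one_mul]
  · exact central_of_card R.isPGroup_Upos h3 h5 u hu _ h4

end comm

end Cfsg.Agent.H781.EPU
end

-- part: H781/EPU/NSide
section
/-!
# `U₄(3)` in `U₆(2)`: the facts on the socle (helper781, S3499)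

`n_side : EPT A Γ → HasSoc A (PSU 4 K 3) → ∃ N P V, LocN A N P V`.
-/

set_option autoImplicit false
set_option linter.unusedSectionVars false

open scoped commutatorElement

namespace Cfsg.Agent.H781.EPU

open CoxeterSystem Cfsg.Agent.ChevalleyStructure.CoxeterGeom Cfsg.Agent.Tits.Roots Cfsg.Agent.Tits.Core
  Cfsg.Agent.Tits.RootComb Cfsg.Agent.Nodes.Comb Cfsg.Agent.Nodes.Reps Cfsg.Agent.Nodes.BNOf
  Cfsg.Agent.Nodes.CardSup Cfsg.Agent.Nodes.TypeC Cfsg.Agent.Nodes.CardVV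
  Cfsg.Agent.Nodes.StabComb Cfsg.Agent.Nodes.Bruhat Cfsg.Agent.Nodes.OppDec Cfsg.Agent.Nodes.LeviDec
  Cfsg.Agent.KFacts.RgdFilt Cfsg.Agent.KFacts.RgdBorelTits

/-- root group data of type `C₂` with a filtration; the short root groups have order `a` -/
def HasC2 (p a : ℕ) (G : Type*) [Group G] : Prop :=
  ∃ (T : Subgroup G) (n : Fin 2 → G) (X : (Fin 2 → ℤ) → Subgroup G)
    (R : RGD (CoxeterMatrix.B 2).toCoxeterSystem (Nodes.TypeC.isCartan 2) p T n X)
    (F : (Fin 2 → ℤ) → ℝ → Subgroup G),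
    Nodes.RGDLib.G1 (CoxeterMatrix.B 2).toCoxeterSystem (Nodes.TypeC.isCartan 2) X = ⊤ ∧ Filt R F ∧
      Nat.card (X (sr 0)) = a

theorem HasC2.of_equiv {p a : ℕ} {G H : Type*} [Group G] [Group H] [Finite G] (e : G ≃* H) (hG : HasC2 p a G) :
    HasC2 p a H := by
  obtain ⟨T, n, X, R, F, hX, hF, ha⟩ := hG
  refine ⟨T.map e.toMonoidHom, fun i => e (n i), fun x => (X x).map e.toMonoidHom,
    Nodes.RGDLib.rgd_map_of_injective R e.toMonoidHom e.injective, fun x s => (F x s).map e.toMonoidHom, ?_,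
    filt_map hF e.toMonoidHom _, ?_⟩
  · have h1 : (Nodes.RGDLib.G1 (CoxeterMatrix.B 2).toCoxeterSystem (Nodes.TypeC.isCartan 2) X).map e.toMonoidHom =
        Nodes.RGDLib.G1 (CoxeterMatrix.B 2).toCoxeterSystem (Nodes.TypeC.isCartan 2)
          (fun x => (X x).map e.toMonoidHom) := by
      unfold Nodes.RGDLib.G1 RGD.Sup
      rw [Subgroup.map_iSup]
    rw [← h1, hX, Subgroup.map_top_of_surjective _ e.surjective]
  · rw [Subgroup.card_map_of_injective e.injective]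
    exact ha

section

open Cfsg.Agent.TitsThree.WBridge Cfsg.Agent.Nodes.WittRoot Cfsg.Agent.Nodes.RGDLib Cfsg.Agent.Nodes.WittAll Cfsg.Agent.Nodes.WittU
  Cfsg.Agent.TitsThree Cfsg.Agent.TitsThree.Siegel Cfsg.Agent.TitsThree.WittFrame
  Cfsg.Agent.TitsThree.WittWeyl Cfsg.Agent.TitsThree.FrameCN Cfsg.Agent.KFacts.RgdFiltWitt
  Cfsg.Agent.KFacts.RgdBorelTits

theorem hasC2_PSU {F : Type*} [Field F] [Fintype F] {q : ℕ} (hF : Fintype.card F = q ^ 2) {p : ℕ}
    [Fact p.Prime] [CharP F p] (hp : Odd p) : HasC2 p (q ^ 2) (Cfsg.PSU 4 F q) := by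
  obtain ⟨W, -⟩ := exists_wframe (m := 2) hF (N := 4) (Or.inl rfl)
  obtain ⟨p0, hp0, -⟩ := exists_adm hF W
  have hA := AmbT.of_amb (amb_U hF W) p
  set M := KInstU.model hF (by norm_num : 3 ≤ 4) W with hM
  have : Finite ((Fin 4 → F) ≃ₗ[F] (Fin 4 → F)) :=
    Finite.of_injective (fun g : (Fin 4 → F) ≃ₗ[F] (Fin 4 → F) => (g : (Fin 4 → F) → (Fin 4 → F)))
      DFunLike.coe_injective
  have hF0 : Filt (rgdC hA hp0 (CoxeterMatrix.B 2).toCoxeterSystem) (F2 (zr (toFrame W)) (rg (toFrame W))) :=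
    (two hA (T := Nodes.WittRGD.Tor (toFrame W) M.I) (fun i => ⟨nn_mem hA p0 i, Nodes.WittRGD.mono_nn hp0 i⟩)
      (fun _ ht => ⟨ht.1, ht.2⟩) _).filt
  have hF1 := filt_restrict hF0 M.I (fun x _ => hA.rg_le x)
    (n' := fun i => (⟨Nodes.WittRGD.nn (toFrame W) p0 i, nn_mem hA p0 i⟩ : M.I)) (fun _ => rfl)
    (rgd_restrict (rgdC hA hp0 _) M.I (fun x _ => hA.rg_le x) (fun i => nn_mem hA p0 i))
  have hF2 := filt_map hF1 M.φ (rgdC_model M hA hp0 (CoxeterMatrix.B 2).toCoxeterSystem)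
  refine ⟨_, _, _, rgdC_model M hA hp0 _, _, Nodes.WittModel.G1_eq_top _ (by norm_num) _, hF2, ?_⟩
  rw [Nodes.CardWitt.card_X_model M (amb_U hF W) hp0 hp (x := sr 0) (a := ((0 : Fin 2), true))
    (b := ((1 : Fin 2), false)) (by decide) (by
      rw [sr_zero, ee_two]
      funext k
      (revert k; simp only [wt_apply, _root_.Fin.forall_fin_succ, _root_.Nat.succ_eq_add_one, Nat.reduceAdd, Fin.isValue, _root_.Matrix.cons_val_zero, Int.reduceNeg, _root_.Matrix.cons_val_one, _root_.Matrix.cons_val_fin_one, _root_.MulZeroClass.mul_zero, _root_.add_zero, _root_.Pi.add_apply, ↓reduceIte, _root_.Bool.false_eq_true, _root_.zero_ne_one, _root_.Matrix.cons_val_succ, _root_.Fin.succ_ne_zero, _root_.zero_add, _root_.left_eq_ite_iff, _root_.neg_eq_zero, _root_.one_ne_zero, _root_.imp_false, _root_.Decidable.not_not, _root_.Fin.succ_zero_eq_one, _root_.IsEmpty.forall_iff, _root_.and_self])), Nat.card_eq_fintype_card, hF]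

end

theorem card_psu_four_three {K : Type*} [Field K] [Fintype K] (hK : Fintype.card K = 3 ^ 2) :
    Nat.card (Cfsg.PSU 4 K 3) = 3265920 := by
  have h1 := S0280.result hK 4 (by norm_num)
  simp only [Finset.prod_range_succ, Nat.even_iff, _root_.Nat.reduceAdd, _root_.Nat.gcd_self, _root_.Nat.add_one_sub_one, _root_.Nat.reduceMul, _root_.Nat.reduceDiv, _root_.Nat.reducePow, _root_.Finset.range_one, _root_.Finset.prod_singleton, _root_.Nat.zero_mod, ↓ _root_.reduceIte, _root_.zero_add, _root_.pow_one, _root_.Nat.mod_succ, _root_.one_ne_zero, _root_.Nat.mod_self, _root_.Nat.reduceMod] at h1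
  omega

/-- the order of a Sylow 3-subgroup -/
theorem card_sylow_three {G : Type*} [Group G] [Finite G] [Fact (Nat.Prime 3)] (hG : Nat.card G = 3265920)
    (P : Sylow 3 G) : Nat.card P = 729 := by
  obtain ⟨k, hk⟩ := IsPGroup.iff_card.1 P.2
  have h1 : Nat.card P * P.index = 3265920 := by
    rw [← hG]
    exact Subgroup.card_mul_index _
  have h2 : ¬ 3 ∣ P.index := P.not_dvd_index
  rw [hk] at h1 ⊢
  have h3 : k ≤ 6 := by
    by_contra hcon
    push Not at hcon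
    have h4 : 3 ^ 7 ∣ 3265920 := (pow_dvd_pow 3 hcon).trans (Dvd.intro _ h1)
    norm_num at h4
  have h5 : k = 6 := by
    by_contra hcon
    apply h2
    interval_cases k <;> (clear * - h2 h1 hcon; omega)
  subst h5
  norm_num

/-- **the facts on the socle** -/
theorem n_side {Q : Type} [Group Q] [Finite Q] {A : Subgroup Q} {Γ : Subgroup (MulAut Q)}
    (h : H284.EPT A Γ) {K : Type} [Field K] [Fintype K] (hK : Fintype.card K = 9)
    (hsoc : H419.EP.HasSoc A (Cfsg.PSU 4 K 3)) : ∃ N P V : Subgroup Q, H968.EPU.LocN A N P V := by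
  obtain ⟨N, hNA, hN, hC, ⟨e⟩⟩ := hsoc
  have h3 : Fact (Nat.Prime 3) := ⟨Nat.prime_three⟩
  have hK' : Fintype.card K = 3 ^ 2 := by rw [hK]; norm_num
  have hsL : IsSimpleGroup (Cfsg.PSU 4 K 3) := S0283.result hK' 4 (by norm_num) (by norm_num)
  have hNs : IsSimpleGroup N := e.isSimpleGroup
  have hcL : Nat.card (Cfsg.PSU 4 K 3) = 3265920 := card_psu_four_three hK'
  have hcN : Nat.card N = 3265920 := (Nat.card_congr e.toEquiv).trans hcL
  have hNΓ := H587.UF.inv_of_soc h hNA hN hC hNs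
  have hch : CharP K 3 := by
    obtain ⟨q, hq⟩ := CharP.exists K
    obtain ⟨n, hp, hn⟩ := FiniteField.card K q
    rw [hK'] at hn
    have h4 : (3 : ℕ) = q := by
      have h5 : (3 : ℕ) ∣ q ^ (n : ℕ) := by rw [← hn]; exact dvd_pow_self 3 (by norm_num)
      exact (Nat.prime_dvd_prime_iff_eq Nat.prime_three hp).1 (Nat.prime_three.dvd_of_dvd_pow h5)
    rw [h4]
    exact hq
  have hfinL : Finite (Cfsg.PSU 4 K 3) := Nat.finite_of_card_ne_zero (by rw [hcL]; norm_num)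
  obtain ⟨T, n, X, R, F, hX, hF, ha⟩ := (hasC2_PSU hK' (p := 3) (by decide)).of_equiv e.symm
  have hW : Finite (CoxeterMatrix.B 2).Group := finite_W (CoxeterMatrix.B 2).toCoxeterSystem
  have hc : ∃ a b : N, a * b ≠ b * a := by
    by_contra hcon
    push Not at hcon
    have h4 : (X (sr 0)).Normal := ⟨fun x hx g => by rw [hcon g x, mul_inv_cancel_right]; exact hx⟩
    rcases h4.eq_bot_or_eq_top with h5 | h5
    · rw [h5, Subgroup.card_bot] at ha
      norm_num at ha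
    · rw [h5, Subgroup.card_top, hcN] at ha
      norm_num at ha
  have hGG := GG_eq_top (T := T) hX
  have hBT : KFacts.RgdCharP.BT (CoxeterMatrix.B 2).toCoxeterSystem (Nodes.TypeC.isCartan 2) 3 T X :=
    fun K hK h1 => borel_tits_of_filt hF hX hK h1
  have hconn : KFacts.RgdCharP.Conn (CoxeterMatrix.B 2) :=
    KFacts.RgdLieCharP.conn_of_simple R hX (KFacts.RgdLieCharP.center_eq_bot hc)
  -- orders
  set U : Subgroup N := RGD.Sup X (RGD.Pos (CoxeterMatrix.B 2).toCoxeterSystem (Nodes.TypeC.isCartan 2)) with hU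
  set V : Subgroup N := VJ (CoxeterMatrix.B 2).toCoxeterSystem (Nodes.TypeC.isCartan 2) X ({1} : Set (Fin 2)) with hV
  have hUM : H833.TenFive.MaxP 3 U :=
    ⟨R.isPGroup_Upos, fun P hP h1 => KFacts.RgdEx.eq_U R h1 (by rw [hGG]; exact le_top) hP⟩
  have hcU : Nat.card U = 729 := by
    obtain ⟨P, hP⟩ := hUM.exists_sylow
    rw [← hP]
    exact card_sylow_three hcN P
  have hb : Nat.card (X (sr 1)) = 3 := by
    have h4 := card_Up R
    rw [← hU, hcU, ha] at h4
    have h5 : Nat.card (X (sr 1)) ≤ 3 := by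
      by_contra hcon
      push Not at hcon
      have h6 : 4 ^ 2 ≤ Nat.card (X (sr 1)) ^ 2 := Nat.pow_le_pow_left hcon 2
      omega
    interval_cases Nat.card (X (sr 1)) <;> omega
  have hcV : Nat.card V = 243 := by
    rw [hV, card_V R, ha, hb]
    norm_num
  have hcomm := comm_central R ha hb
  rw [← hV, ← hU] at hcomm
  refine ⟨N, U.map N.subtype, V.map N.subtype, ?_⟩
  refine ⟨hNA, hN, hcN, Subgroup.map_mono (VJ_le_U _), Subgroup.map_subtype_le _, ?_, ?_, ?_, ?_, ?_⟩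
  · rw [Subgroup.card_map_of_injective N.subtype_injective, hcV]
  · rw [Subgroup.card_map_of_injective N.subtype_injective, hcU]
  · rintro _ ⟨v, hv, rfl⟩ _ ⟨w, hw, rfl⟩ _ ⟨u, hu, rfl⟩
    exact congrArg Subtype.val (hcomm v hv w hw u hu)
  · intro S hS hSn
    have h4 : S.subgroupOf N ≤ PJ (CoxeterMatrix.B 2).toCoxeterSystem (Nodes.TypeC.isCartan 2) T X ({1} : Set (Fin 2)) := by
      have h5 := KFacts.RgdVJ.normalizer_VJ R ({1} : Set (Fin 2))
      rw [hGG, inf_top_eq] at h5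
      rw [← h5]
      intro w hw
      rw [mem_normalizer_iff_cj]
      apply Subgroup.eq_of_le_of_card_ge
      · rintro _ ⟨v, hv, rfl⟩
        obtain ⟨v', hv', e1⟩ := hSn w hw v ⟨v, hv, rfl⟩
        have e2 : v' = w * v * w⁻¹ := Subtype.ext e1
        change w * v * w⁻¹ ∈ _
        rw [← e2]
        exact hv'
      · rw [card_cj]
    have h6 : Nat.card (S.subgroupOf N) = Nat.card S := Nat.card_congr (Subgroup.subgroupOfEquivOfLe hS).toEquiv
    rw [← h6, ← hcN, ← hcV]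
    exact (Nat.mul_le_mul_right _ (Subgroup.card_le_of_le h4)).trans (card_PJ_mul R)
  · intro x hx hVx
    have hJ : ({1} : Set (Fin 2)) ≠ Set.univ := by
      intro e1
      have h4 : (0 : Fin 2) ∈ ({1} : Set (Fin 2)) := by rw [e1]; trivial
      simp at h4
    have h5 : Nodes.Reps.cj (1 : N) V ≤ (H284.cj x A).subgroupOf N := by
      rw [cj_one]
      intro v hv
      exact hVx ⟨v, hv, rfl⟩
    obtain ⟨g, h6, h7⟩ := H833.TenFive.exists_sylow_cj h hNs hNA hNΓ hc R hBT hGG hX hconn hJ hx h5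
    rw [cj_one] at h6
    refine ⟨(Nodes.Reps.cj g U).map N.subtype, Subgroup.map_subtype_le _, ?_, Subgroup.map_mono h6, ?_⟩
    · rintro _ ⟨u, hu, rfl⟩
      exact h7 hu
    · rw [Subgroup.card_map_of_injective N.subtype_injective, card_cj, hcU]

end Cfsg.Agent.H781.EPU
end

-- part: H968/EPU/Tight
section
/-!
# S3499: the tight row `U_4(3) < U_6(2)` (helper968 and helper781)
-/

set_option autoImplicit false

namespace Cfsg.Agent.H968.EPU

open Cfsg Subgroup Cfsg.Agent.H284 Cfsg.Agent.H419.EP Cfsg.Agent.Lib.FieldFour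
open scoped MatrixGroups

/-- **The tight row `U_4(3) < U_6(2)`.** -/
theorem u43_u62 {Q : Type} [Group Q] [Finite Q] (_ : IsSimpleGroup Q) {A : Subgroup Q} {Γ : Subgroup (MulAut Q)}
    (h : EPT A Γ) {F : Type} [Field F] [Fintype F] (hF : Fintype.card F = 2 ^ 2)
    (m : Model Q (Cfsg.GU 6 F 2 ⊓ Cfsg.Geo.specialLinear (Fin 6) F)) (_ : Nat.card Q = 9196830720)
    {K : Type} [Field K] [Fintype K] (hK : Fintype.card K = 9) (hsoc : HasSoc A (Cfsg.PSU 4 K 3)) : False := by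
  obtain ⟨m'⟩ := H117.EP.model_PSU (n := 6) hF (by norm_num)
  have hk : m.π.ker = m'.π.ker := by
    ext s
    rw [MonoidHom.mem_ker, MonoidHom.mem_ker, m.ker, m'.ker]
  have e : Q ≃* Cfsg.PSU 6 F 2 := (QuotientGroup.quotientKerEquivOfSurjective m.π m.surj).symm.trans
    ((QuotientGroup.quotientMulEquivOfEq hk).trans (QuotientGroup.quotientKerEquivOfSurjective m'.π m'.surj))
  have e2 : Cfsg.PSU 6 F 2 ≃* Cfsg.PSU 6 F4 2 :=
    Cfsg.Agent.LieClassical.FieldTransfer.psuCongr 6 2 (equivOfCard (by rw [hF]; norm_num))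
  obtain ⟨N, P, V, L⟩ := H781.EPU.n_side h hK hsoc
  exact QEnd.q_side L (e.trans e2)

end Cfsg.Agent.H968.EPU
end

private theorem dce_bcadbea5372b : _root_.True := by
  try have : _root_.True := by simp only [_root_.Cfsg.Agent.H968.EPU.GUThree.tu.eq_1]
  try have : _root_.True := by simp only [_root_.Cfsg.Agent.H968.EPU.GUThree.isUG.eq_1]
  try have : _root_.True := by simp only [_root_.Cfsg.Agent.Nodes.LeviDec.NotNJ.congr_simp]
  try have : _root_.True := by simp only [_root_.Cfsg.Agent.H968.EPU.GUThree.inH.eq_1]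
  try have : _root_.True := by simp only [_root_.Cfsg.Agent.H968.EPU.QSide.bb.congr_simp]
  try have : _root_.True := by simp only [_root_.Cfsg.Agent.H968.EPU.GUThree.Sc.eq_1]
  exact _root_.True.intro
end

-- part: H396/EP/OwnThree
section
prune_inst 0x100041001d20000000008000000002207800000000000800000008000201a002048208000000000018200000000400081044002000000000000000000000010000001004a0480000800090000000000000000000000000000000000000000000000000000
set_option linter.all false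
open scoped Cfsg.Agent.FastGrp

-- part: H957/EP/RankTwo
section
/-!
# S3499, own characteristic: elementary abelian subgroups of prime-to-characteristic order (helper957)
-/

set_option autoImplicit false

namespace Cfsg.Agent.H957.EP

open Module Polynomial

/-- commuting operators with scalar `s`-th powers, pairwise not proportional: at most `s ^ (dim - 1)` of them -/
theorem card_le_of_ratio {k V T : Type*} [Field k] [IsAlgClosed k] [AddCommGroup V] [Module k V]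
    [FiniteDimensional k V] [Nontrivial V] [Finite T] (A : T → Module.End k V)
    (hcomm : ∀ a b, Commute (A a) (A b)) {s : ℕ} (hs : (s : k) ≠ 0) (c : T → k) (hc : ∀ a, c a ≠ 0)
    (hpow : ∀ a, A a ^ s = algebraMap k (Module.End k V) (c a))
    (hinj : ∀ a b (t : k), A a = t • A b → a = b) :
    Nat.card T ≤ s ^ (finrank k V - 1) := by
  classical
  have hs0 : s ≠ 0 := fun e => hs (by rw [e]; exact Nat.cast_zero)
  have hss : ∀ a, (A a).IsSemisimple := by
    intro a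
    have hsep : (X ^ s - C (c a) : k[X]).Separable := separable_X_pow_sub_C (c a) hs (hc a)
    refine Module.End.isSemisimple_of_squarefree_aeval_eq_zero hsep.squarefree ?_
    rw [map_sub, aeval_C, map_pow, aeval_X, hpow a, sub_self]
  have hev : ∀ a (μ : k), (A a).maxGenEigenspace μ = (A a).eigenspace μ := fun a μ =>
    (Module.End.isFinitelySemisimple_iff_isSemisimple.2 (hss a)).maxGenEigenspace_eq_eigenspace μ
  set W : (T → k) → Submodule k V := fun χ => ⨅ a, (A a).maxGenEigenspace (χ a) with hW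
  have hmem : ∀ χ v, v ∈ W χ → ∀ a, A a v = χ a • v := by
    intro χ v hv a
    have h1 := (Submodule.mem_iInf _).1 hv a
    rw [hev a] at h1
    exact Module.End.mem_eigenspace_iff.1 h1
  have htop : (⨆ χ, W χ) = ⊤ :=
    Module.End.iSup_iInf_maxGenEigenspace_eq_top_of_iSup_maxGenEigenspace_eq_top_of_commute A
      (fun a b _ => hcomm a b) (fun a => Module.End.iSup_maxGenEigenspace_eq_top (A a))
  have hind : iSupIndep W :=
    Module.End.independent_iInf_maxGenEigenspace_of_forall_mapsTo A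
      (fun a b μ => Module.End.mapsTo_maxGenEigenspace_of_comm (hcomm b a) μ)
  have hfin : Set.Finite {χ | W χ ≠ ⊥} := WellFoundedGT.finite_ne_bot_of_iSupIndep hind
  have hfin' : Finite {χ // W χ ≠ ⊥} := hfin.to_subtype
  have _hft : Fintype {χ // W χ ≠ ⊥} := Fintype.ofFinite _
  have hcard : Fintype.card {χ // W χ ≠ ⊥} ≤ finrank k V := hind.subtype_ne_bot_le_finrank
  obtain ⟨χ0, hχ0⟩ : ∃ χ, W χ ≠ ⊥ := by
    by_contra hcon
    push Not at hcon
    rw [iSup_congr hcon, iSup_bot] at htop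
    exact bot_ne_top htop
  have hval : ∀ χ, W χ ≠ ⊥ → ∀ a, χ a ^ s = c a := by
    intro χ hχ a
    obtain ⟨v, hv, hv0⟩ := Submodule.exists_mem_ne_zero_of_ne_bot hχ
    have h1 : ∀ n : ℕ, (A a ^ n) v = χ a ^ n • v := by
      intro n
      induction n with
      | zero => simp
      | succ n ih => rw [pow_succ', Module.End.mul_apply, ih, map_smul, hmem χ v hv a, smul_smul, pow_succ]
    have h2 := h1 s
    rw [hpow a, Module.algebraMap_end_apply] at h2
    exact (smul_left_injective k hv0 h2).symm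
  have hχ0' : ∀ a, χ0 a ≠ 0 := fun a e => hc a (by rw [← hval χ0 hχ0 a, e, zero_pow hs0])
  let Φ : T → ({χ : {χ // W χ ≠ ⊥} // χ ≠ ⟨χ0, hχ0⟩} → {y : k // y ∈ (nthRoots s (1 : k)).toFinset}) :=
    fun a χ => ⟨χ.1.1 a / χ0 a, by
      rw [Multiset.mem_toFinset, mem_nthRoots (Nat.pos_of_ne_zero hs0), div_pow, hval _ χ.1.2, hval _ hχ0,
        div_self (hc a)]⟩
  have hΦ : Function.Injective Φ := by
    intro a b hab
    refine hinj a b (χ0 a / χ0 b) ?_
    have h1 : ∀ χ, W χ ≠ ⊥ → χ a = χ0 a / χ0 b * χ b := by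
      intro χ hχ
      by_cases e : (⟨χ, hχ⟩ : {χ // W χ ≠ ⊥}) = ⟨χ0, hχ0⟩
      · have : χ = χ0 := congrArg Subtype.val e
        rw [this, div_mul_cancel₀ _ (hχ0' b)]
      · have h2 := congrArg Subtype.val (congrFun hab ⟨⟨χ, hχ⟩, e⟩)
        have h3 : χ a / χ0 a = χ b / χ0 b := h2
        rw [div_eq_div_iff (hχ0' a) (hχ0' b)] at h3
        field_simp [hχ0' a, hχ0' b]
        linear_combination h3
    have h2 : ∀ χ, W χ ≤ LinearMap.eqLocus (A a) ((χ0 a / χ0 b) • A b) := by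
      intro χ v hv
      rw [LinearMap.mem_eqLocus, LinearMap.smul_apply, hmem χ v hv a, hmem χ v hv b, smul_smul]
      by_cases hv0 : v = 0
      · rw [hv0, smul_zero, smul_zero]
      · rw [h1 χ (fun e => hv0 (by rw [e] at hv; exact (Submodule.mem_bot k).1 hv))]
    have h3 : (⊤ : Submodule k V) ≤ LinearMap.eqLocus (A a) ((χ0 a / χ0 b) • A b) := by
      rw [← htop]
      exact iSup_le h2
    ext v
    exact h3 Submodule.mem_top
  have h4 := Nat.card_le_card_of_injective Φ hΦ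
  refine h4.trans ?_
  rw [Nat.card_fun]
  have h5 : Nat.card {y : k // y ∈ (nthRoots s (1 : k)).toFinset} ≤ s := by
    rw [Nat.card_eq_fintype_card, Fintype.card_coe]
    exact (Multiset.toFinset_card_le _).trans (card_nthRoots s 1)
  have h6 : Nat.card {χ : {χ // W χ ≠ ⊥} // χ ≠ ⟨χ0, hχ0⟩} ≤ finrank k V - 1 := by
    rw [Nat.card_eq_fintype_card, Fintype.card_subtype_compl, Fintype.card_subtype_eq]
    omega
  exact (Nat.pow_le_pow_left h5 _).trans (Nat.pow_le_pow_right (Nat.pos_of_ne_zero hs0) h6)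

/-- two operators with `X Y = ζ Y X` in prime dimension have scalar centraliser -/
theorem scalar_of_comm {k V : Type*} [Field k] [IsAlgClosed k] [AddCommGroup V] [Module k V]
    [FiniteDimensional k V] {n : ℕ} (hn : n.Prime) (hV : finrank k V = n) {ζ : k} (h1 : ζ ≠ 1) (h2 : ζ ^ n = 1)
    {X Y C : Module.End k V} (hX : ∀ v, X v = 0 → v = 0) (hY : ∀ v, Y v = 0 → v = 0) (hXY : X * Y = ζ • (Y * X))
    (hCX : C * X = X * C) (hCY : C * Y = Y * C) : ∃ μ : k, C = μ • (1 : Module.End k V) := by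
  classical
  have hnt : Nontrivial V := Module.nontrivial_of_finrank_pos (R := k) (by rw [hV]; exact hn.pos)
  have hfact : Fact n.Prime := ⟨hn⟩
  obtain ⟨μ, hμ⟩ := Module.End.exists_eigenvalue C
  refine ⟨μ, ?_⟩
  have hne : C.eigenspace μ ≠ ⊥ := hμ
  have hXW : ∀ v ∈ C.eigenspace μ, X v ∈ C.eigenspace μ := by
    intro v hv
    rw [Module.End.mem_eigenspace_iff] at hv ⊢
    have := LinearMap.congr_fun hCX v
    rw [Module.End.mul_apply, Module.End.mul_apply, hv, map_smul] at this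
    exact this
  have hYW : ∀ v ∈ C.eigenspace μ, Y v ∈ C.eigenspace μ := by
    intro v hv
    rw [Module.End.mem_eigenspace_iff] at hv ⊢
    have := LinearMap.congr_fun hCY v
    rw [Module.End.mul_apply, Module.End.mul_apply, hv, map_smul] at this
    exact this
  have hntW : Nontrivial (C.eigenspace μ) := (Submodule.nontrivial_iff_ne_bot).2 hne
  obtain ⟨l, hl⟩ := Module.End.exists_eigenvalue (X.restrict hXW)
  obtain ⟨w, hw⟩ := hl.exists_hasEigenvector
  have hw1 : X w.1 = l • w.1 := by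
    have := congrArg Subtype.val hw.apply_eq_smul
    simpa only [_root_.LinearMap.coe_restrict_apply, _root_.SetLike.val_smul] using this
  have hw0 : w.1 ≠ 0 := fun e => hw.2 (Subtype.ext e)
  have hl0 : l ≠ 0 := by
    rintro rfl
    rw [zero_smul] at hw1
    exact hw0 (hX _ hw1)
  have hYn : ∀ i : ℕ, (Y ^ i) w.1 ≠ 0 := by
    intro i
    induction i with
    | zero => simpa using hw0
    | succ i ih =>
      rw [pow_succ', Module.End.mul_apply]
      exact fun e => ih (hY _ e)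
  have hYi : ∀ i : ℕ, X ((Y ^ i) w.1) = (l * ζ ^ i) • (Y ^ i) w.1 := by
    intro i
    induction i with
    | zero => simpa only [_root_.pow_zero, _root_.Module.End.one_apply, _root_.mul_one] using hw1
    | succ i ih =>
      have h3 := LinearMap.congr_fun hXY ((Y ^ i) w.1)
      rw [Module.End.mul_apply, LinearMap.smul_apply, Module.End.mul_apply, ih, map_smul] at h3
      rw [pow_succ', Module.End.mul_apply, h3, smul_smul]
      congr 1
      ring
  have hYm : ∀ i : ℕ, (Y ^ i) w.1 ∈ C.eigenspace μ := by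
    intro i
    induction i with
    | zero => simp only [_root_.pow_zero, _root_.Module.End.one_apply, _root_.SetLike.coe_mem]
    | succ i ih =>
      rw [pow_succ', Module.End.mul_apply]
      exact hYW _ ih
  have hord : orderOf ζ = n := orderOf_eq_prime h2 h1
  have hlin : LinearIndependent k (fun i : Fin n => (Y ^ (i : ℕ)) w.1) := by
    refine Module.End.eigenvectors_linearIndependent' X (fun i : Fin n => l * ζ ^ (i : ℕ)) ?_ _ ?_
    · intro i j hij
      have h3 : ζ ^ (i : ℕ) = ζ ^ (j : ℕ) := mul_left_cancel₀ hl0 hij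
      exact Fin.ext (pow_injOn_Iio_orderOf (by rw [hord]; exact i.2) (by rw [hord]; exact j.2) h3)
    · intro i
      exact ⟨Module.End.mem_eigenspace_iff.2 (hYi i), hYn i⟩
  have hspan := hlin.span_eq_top_of_card_eq_finrank' (by rw [Fintype.card_fin, hV])
  have hle : (⊤ : Submodule k V) ≤ C.eigenspace μ := by
    rw [← hspan, Submodule.span_le]
    rintro _ ⟨i, rfl⟩
    exact hYm i
  ext v
  have := Module.End.mem_eigenspace_iff.1 (hle (Submodule.mem_top (x := v)))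
  rw [this, LinearMap.smul_apply, Module.End.one_apply]

section mat

variable {K : Type*} [Field K] {ι : Type*} [Fintype ι] [DecidableEq ι]

/-- matrices over `K` as operators over the algebraic closure -/
noncomputable def op : Matrix ι ι K →+* Module.End (AlgebraicClosure K) (ι → AlgebraicClosure K) :=
  (Matrix.toLinAlgEquiv' (R := AlgebraicClosure K) (n := ι)).toRingEquiv.toRingHom.comp
    (algebraMap K (AlgebraicClosure K)).mapMatrix

theorem op_apply (M : Matrix ι ι K) : op M = Matrix.toLin' (M.map (algebraMap K (AlgebraicClosure K))) := rfl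

theorem op_smul (c : K) (M : Matrix ι ι K) : op (c • M) = algebraMap K (AlgebraicClosure K) c • op M := by
  rw [op_apply, op_apply, ← map_smul]
  congr 1
  ext i j
  simp

theorem entry_of_op {M N : Matrix ι ι K} {t : AlgebraicClosure K} (h : op M = t • op N) (i j : ι) :
    algebraMap K (AlgebraicClosure K) (M i j) = t * algebraMap K (AlgebraicClosure K) (N i j) := by
  rw [op_apply, op_apply, ← map_smul] at h
  have h1 := Matrix.toLin'.injective h
  have h2 := congrFun (congrFun h1 i) j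
  simpa using h2

/-- proportional over the closure: proportional over the field -/
theorem prop_of_op {M N : Matrix ι ι K} {t : AlgebraicClosure K} (hN : N ≠ 0) (h : op M = t • op N) :
    ∃ c : K, M = c • N := by
  obtain ⟨i, j, hij⟩ : ∃ i j, N i j ≠ 0 := by
    by_contra hcon
    push Not at hcon
    exact hN (by ext i j; exact hcon i j)
  have hinj := FaithfulSMul.algebraMap_injective K (AlgebraicClosure K)
  have ht : t = algebraMap K (AlgebraicClosure K) (M i j / N i j) := by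
    have h1 := entry_of_op h i j
    have h2 : algebraMap K (AlgebraicClosure K) (N i j) ≠ 0 := fun e => hij (hinj (by rw [e, map_zero]))
    rw [map_div₀, eq_div_iff h2, h1]
  refine ⟨M i j / N i j, ?_⟩
  ext a b
  have h1 := entry_of_op h a b
  rw [ht, ← map_mul] at h1
  exact hinj h1

theorem op_inj {M : Matrix ι ι K} (hM : IsUnit M) (v : ι → AlgebraicClosure K) (hv : op M v = 0) : v = 0 := by
  obtain ⟨u, rfl⟩ := hM
  have h1 : op ((u⁻¹ : (Matrix ι ι K)ˣ) : Matrix ι ι K) * op (u : Matrix ι ι K) = 1 := by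
    rw [← map_mul, Units.inv_mul, map_one]
  have h2 := LinearMap.congr_fun h1 v
  rw [Module.End.mul_apply, hv, map_zero, Module.End.one_apply] at h2
  exact h2.symm

/-- the commuting case for matrices -/
theorem card_le_comm [Nonempty ι] {T : Type*} [Finite T] (x : T → Matrix ι ι K) (hu : ∀ a, IsUnit (x a))
    (hcomm : ∀ a b, x a * x b = x b * x a) {s : ℕ} (hs : (s : K) ≠ 0) (hpow : ∀ a, ∃ c : K, x a ^ s = c • 1)
    (hinj : ∀ a b (c : K), x a = c • x b → a = b) : Nat.card T ≤ s ^ (Fintype.card ι - 1) := by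
  choose c hc using hpow
  have hinj' := FaithfulSMul.algebraMap_injective K (AlgebraicClosure K)
  have hne : ∀ a, x a ≠ 0 := by
    intro a e
    have := hu a
    rw [e] at this
    exact not_isUnit_zero this
  have h1 := card_le_of_ratio (k := AlgebraicClosure K) (V := ι → AlgebraicClosure K) (T := T) (fun a => op (x a))
    (fun a b => by
      show op (x a) * op (x b) = op (x b) * op (x a)
      rw [← map_mul, hcomm a b, map_mul])
    (s := s) (fun e => hs (hinj' (by rw [map_natCast, e, map_zero])))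
    (fun a => algebraMap K (AlgebraicClosure K) (c a))
    (fun a e => by
      have h2 : c a = 0 := hinj' (by rw [e, map_zero])
      have h3 := (hu a).pow s
      rw [hc a, h2, zero_smul] at h3
      exact not_isUnit_zero h3)
    (fun a => by
      show op (x a) ^ s = _
      rw [← map_pow, hc a, op_smul, map_one]
      rfl)
    (fun a b t ht => by
      obtain ⟨d, hd⟩ := prop_of_op (hne b) ht
      exact hinj a b d hd)
  rwa [Module.finrank_fintype_fun_eq_card] at h1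

/-- the noncommuting case for matrices in prime degree -/
theorem card_le_noncomm {T : Type*} [Finite T] (x : T → Matrix ι ι K) (hu : ∀ a, IsUnit (x a))
    (hprime : (Fintype.card ι).Prime)
    (hcomm : ∀ a b, ∃ c : K, x a * x b = c • (x b * x a)) {a0 b0 : T} (h0 : x a0 * x b0 ≠ x b0 * x a0)
    (hinj : ∀ a b (c : K), x a = c • x b → a = b) : Nat.card T ≤ Fintype.card ι ^ 2 := by
  classical
  set n := Fintype.card ι with hn
  have hne : Nonempty ι := Fintype.card_pos_iff.1 hprime.pos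
  have hinj' := FaithfulSMul.algebraMap_injective K (AlgebraicClosure K)
  have hroot : ∀ a b (c : K), x a * x b = c • (x b * x a) → c ^ n = 1 := by
    intro a b c h
    have h1 := congrArg Matrix.det h
    rw [Matrix.det_smul, Matrix.det_mul, Matrix.det_mul, mul_comm (x b).det] at h1
    have h2 : (x a).det * (x b).det ≠ 0 :=
      mul_ne_zero ((Matrix.isUnit_iff_isUnit_det _).1 (hu a)).ne_zero ((Matrix.isUnit_iff_isUnit_det _).1 (hu b)).ne_zero
    exact (mul_right_cancel₀ h2 (by rw [one_mul]; exact h1)).symm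
  choose f hf using hcomm
  have hζ1 : f a0 b0 ≠ 1 := by
    intro e
    have := hf a0 b0
    rw [e, one_smul] at this
    exact h0 this
  have hcent : ∀ C : Matrix ι ι K, C * x a0 = x a0 * C → C * x b0 = x b0 * C → ∃ c : K, C = c • 1 := by
    intro C hCa hCb
    obtain ⟨μ, hμ⟩ := scalar_of_comm (k := AlgebraicClosure K) (V := ι → AlgebraicClosure K) hprime
      (by rw [Module.finrank_fintype_fun_eq_card]) (ζ := algebraMap K _ (f a0 b0))
      (fun e => hζ1 (hinj' (by rw [e, map_one])))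
      (by rw [← map_pow, hroot a0 b0 _ (hf a0 b0), map_one])
      (X := op (x a0)) (Y := op (x b0)) (C := op C) (fun v hv => op_inj (hu a0) v hv) (fun v hv => op_inj (hu b0) v hv)
      (by rw [← map_mul, hf a0 b0, op_smul, map_mul])
      (by rw [← map_mul, hCa, map_mul]) (by rw [← map_mul, hCb, map_mul])
    rw [← map_one (op (K := K) (ι := ι))] at hμ
    exact prop_of_op one_ne_zero hμ
  let R := {y : K // y ∈ (nthRoots n (1 : K)).toFinset}
  let Φ : T → R × R := fun g =>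
    (⟨f g a0, by rw [Multiset.mem_toFinset, mem_nthRoots hprime.pos]; exact hroot _ _ _ (hf g a0)⟩,
     ⟨f g b0, by rw [Multiset.mem_toFinset, mem_nthRoots hprime.pos]; exact hroot _ _ _ (hf g b0)⟩)
  have hΦ : Function.Injective Φ := by
    intro g h hgh
    have e1 : f g a0 = f h a0 := congrArg (fun p => (p.1 : K)) hgh
    have e2 : f g b0 = f h b0 := congrArg (fun p => (p.2 : K)) hgh
    obtain ⟨u, hu'⟩ := hu h
    have key : ∀ y : Matrix ι ι K, (∃ c : K, c ≠ 0 ∧ x g * y = c • (y * x g) ∧ x h * y = c • (y * x h)) →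
        ((u⁻¹ : (Matrix ι ι K)ˣ) : Matrix ι ι K) * x g * y = y * (((u⁻¹ : (Matrix ι ι K)ˣ) : Matrix ι ι K) * x g) := by
      rintro y ⟨c, hc, h1, h2⟩
      rw [← hu'] at h2
      have h3 : ((u⁻¹ : (Matrix ι ι K)ˣ) : Matrix ι ι K) * y = c⁻¹ • (y * ((u⁻¹ : (Matrix ι ι K)ˣ) : Matrix ι ι K)) := by
        have h4 : ((u⁻¹ : (Matrix ι ι K)ˣ) : Matrix ι ι K) * ((u : Matrix ι ι K) * y) *
            ((u⁻¹ : (Matrix ι ι K)ˣ) : Matrix ι ι K) =
            ((u⁻¹ : (Matrix ι ι K)ˣ) : Matrix ι ι K) * (c • (y * (u : Matrix ι ι K))) *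
            ((u⁻¹ : (Matrix ι ι K)ˣ) : Matrix ι ι K) := by rw [h2]
        rw [← mul_assoc, Units.inv_mul, one_mul, mul_smul_comm, smul_mul_assoc, ← mul_assoc, mul_assoc _ (u : Matrix ι ι K),
          Units.mul_inv, mul_one] at h4
        rw [h4, smul_smul, inv_mul_cancel₀ hc, one_smul]
      rw [mul_assoc, h1, mul_smul_comm, ← mul_assoc, h3, smul_mul_assoc, smul_smul, mul_inv_cancel₀ hc, one_smul,
        mul_assoc]
    have hn0 : ∀ a b, f a b ≠ 0 := by
      intro a b e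
      have := hroot a b _ (hf a b)
      rw [e, zero_pow hprime.ne_zero] at this
      exact zero_ne_one this
    obtain ⟨c, hc⟩ := hcent (((u⁻¹ : (Matrix ι ι K)ˣ) : Matrix ι ι K) * x g)
      (key _ ⟨f g a0, hn0 _ _, hf g a0, by rw [e1]; exact hf h a0⟩)
      (key _ ⟨f g b0, hn0 _ _, hf g b0, by rw [e2]; exact hf h b0⟩)
    refine hinj g h c ?_
    have h5 : x g = (u : Matrix ι ι K) * (((u⁻¹ : (Matrix ι ι K)ˣ) : Matrix ι ι K) * x g) := by
      rw [← mul_assoc, Units.mul_inv, one_mul]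
    rw [h5, hc, mul_smul_comm, mul_one, hu']
  have h4 := Nat.card_le_card_of_injective Φ hΦ
  refine h4.trans ?_
  rw [Nat.card_prod, sq]
  have h5 : Nat.card R ≤ n := by
    rw [Nat.card_eq_fintype_card, Fintype.card_coe]
    exact (Multiset.toFinset_card_le _).trans (card_nthRoots n 1)
  exact Nat.mul_le_mul h5 h5

end mat

/-- a group of order at most `s ^ 2` and exponent `s` is generated by two elements -/
theorem two_gen_of_card {B : Type*} [Group B] [Finite B] {s : ℕ} (hs : s.Prime) {E : Subgroup B}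
    (hexp : ∀ a ∈ E, a ^ s = 1) (hE : Nat.card E ≤ s ^ 2) :
    ∃ a ∈ E, ∃ b ∈ E, E = Subgroup.closure {a, b} := by
  classical
  have hfact : Fact s.Prime := ⟨hs⟩
  by_cases h1 : E = ⊥
  · refine ⟨1, one_mem _, 1, one_mem _, ?_⟩
    rw [h1]
    symm
    rw [Subgroup.closure_eq_bot_iff]
    simp
  obtain ⟨a, ha, ha1⟩ : ∃ a ∈ E, a ≠ 1 := by
    by_contra hcon
    push Not at hcon
    exact h1 ((Subgroup.eq_bot_iff_forall _).2 hcon)
  have hoa : orderOf a = s := orderOf_eq_prime (hexp a ha) ha1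
  by_cases h2 : E ≤ Subgroup.zpowers a
  · refine ⟨a, ha, a, ha, le_antisymm ?_ ?_⟩
    · rw [Set.pair_eq_singleton, ← Subgroup.zpowers_eq_closure]
      exact h2
    · rw [Subgroup.closure_le]
      rintro x (rfl | rfl)
      · exact ha
      · exact ha
  obtain ⟨b, hb, hba⟩ := Set.not_subset.1 h2
  refine ⟨a, ha, b, hb, ?_⟩
  have hle : Subgroup.closure {a, b} ≤ E := by
    rw [Subgroup.closure_le]
    rintro x (rfl | rfl)
    · exact ha
    · exact hb
  symm
  refine Subgroup.eq_of_le_of_card_ge hle (hE.trans ?_)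
  have hp : IsPGroup s (Subgroup.closure {a, b}) := by
    intro x
    exact ⟨1, Subtype.ext (by rw [pow_one]; exact hexp _ (hle x.2))⟩
  obtain ⟨k, hk⟩ := IsPGroup.iff_card.1 hp
  rw [hk]
  refine Nat.pow_le_pow_right hs.pos ?_
  by_contra hcon
  have hza : Subgroup.zpowers a ≤ Subgroup.closure {a, b} := by
    rw [Subgroup.zpowers_le]
    exact Subgroup.subset_closure (Set.mem_insert _ _)
  have h3 : Nat.card (Subgroup.closure {a, b}) ≤ Nat.card (Subgroup.zpowers a) := by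
    rw [hk, Nat.card_zpowers, hoa]
    calc s ^ k ≤ s ^ 1 := Nat.pow_le_pow_right hs.pos (by omega)
      _ = s := pow_one s
  have h4 := Subgroup.eq_of_le_of_card_ge hza h3
  apply hba
  rw [h4]
  exact Subgroup.subset_closure (Set.mem_insert_of_mem _ rfl)

section model

open Cfsg.Agent.H419.EP

variable {L : Type*} [Group L] [Finite L] {ι : Type} [Fintype ι] [DecidableEq ι] {K : Type*} [Field K]
  {S : Subgroup (GL ι K)}

/-- **RANK**: an abelian subgroup `E` of `L = S/scalars`, `S ≤ GL(n, K)`, `n` prime, of exponent `s`, `s` a prime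
different from the characteristic, has order at most `s ^ (n - 1)`, or `n = s` and `|E| ≤ n ^ 2` -/
theorem card_elab (m : Model L S) (hprime : (Fintype.card ι).Prime) {s : ℕ} (hsp : s.Prime) (hs : (s : K) ≠ 0)
    {E : Subgroup L} (hcomm : ∀ a ∈ E, ∀ b ∈ E, a * b = b * a) (hexp : ∀ a ∈ E, a ^ s = 1) :
    Nat.card E ≤ s ^ (Fintype.card ι - 1) ∨ (Fintype.card ι = s ∧ Nat.card E ≤ s ^ 2) := by
  classical
  have hne : Nonempty ι := Fintype.card_pos_iff.1 hprime.pos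
  choose l hl using m.surj
  let x : E → Matrix ι ι K := fun a => ((l a.1 : GL ι K) : Matrix ι ι K)
  have hu : ∀ a, IsUnit (x a) := fun a => ⟨(l a.1 : GL ι K), rfl⟩
  have hsc : ∀ t u : S, m.π t = m.π u → ∃ c : K, ((t : GL ι K) : Matrix ι ι K) = c • ((u : GL ι K) : Matrix ι ι K) := by
    intro t u h
    obtain ⟨z, hz, e⟩ := (m.π_eq_iff t u).1 h
    obtain ⟨c, hc⟩ := (Cfsg.Geo.mem_scalars_iff z).1 hz
    refine ⟨c, ?_⟩
    rw [e, Units.val_mul, hc, mul_smul_comm, mul_one]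
  have hc1 : ∀ a b : E, ∃ c : K, x a * x b = c • (x b * x a) := by
    intro a b
    obtain ⟨c, hc⟩ := hsc (l a.1 * l b.1) (l b.1 * l a.1)
      (by rw [map_mul, map_mul, hl, hl]; exact hcomm _ a.2 _ b.2)
    refine ⟨c, ?_⟩
    simpa only [_root_.Subgroup.coe_mul, _root_.Units.val_mul] using hc
  have hp1 : ∀ a : E, ∃ c : K, x a ^ s = c • 1 := by
    intro a
    obtain ⟨c, hc⟩ := hsc (l a.1 ^ s) 1 (by rw [map_pow, hl, map_one]; exact hexp _ a.2)
    refine ⟨c, ?_⟩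
    simpa only [_root_.SubmonoidClass.coe_pow, _root_.Units.val_pow_eq_pow_val, _root_.OneMemClass.coe_one, _root_.Units.val_one] using hc
  have hinj : ∀ (a b : E) (c : K), x a = c • x b → a = b := by
    intro a b c h
    have hc0 : c ≠ 0 := by
      rintro rfl
      have := hu a
      rw [h, zero_smul] at this
      exact not_isUnit_zero this
    refine Subtype.ext ?_
    rw [← hl a.1, ← hl b.1]
    refine (m.π_eq_iff _ _).2 ⟨((l b.1 : GL ι K))⁻¹ * (l a.1 : GL ι K), ?_, by group⟩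
    rw [Cfsg.Geo.mem_scalars_iff]
    refine ⟨Units.mk0 c hc0, ?_⟩
    have h1 : ((l a.1 : GL ι K) : Matrix ι ι K) = c • ((l b.1 : GL ι K) : Matrix ι ι K) := h
    rw [Units.val_mul, h1, mul_smul_comm, ← Units.val_mul, inv_mul_cancel, Units.val_one, Units.val_mk0]
  by_cases hab : ∀ a b, x a * x b = x b * x a
  · left
    exact card_le_comm x hu hab hs hp1 hinj
  · right
    push Not at hab
    obtain ⟨a0, b0, h0⟩ := hab
    have h1 := card_le_noncomm x hu hprime hc1 h0 hinj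
    have h2 : Fintype.card ι = s := by
      obtain ⟨c, hc⟩ := hc1 a0 b0
      have hc1' : c ≠ 1 := by
        rintro rfl
        rw [one_smul] at hc
        exact h0 hc
      have hroot : c ^ Fintype.card ι = 1 := by
        have h1 := congrArg Matrix.det hc
        rw [Matrix.det_smul, Matrix.det_mul, Matrix.det_mul, mul_comm (x b0).det] at h1
        have h2 : (x a0).det * (x b0).det ≠ 0 :=
          mul_ne_zero ((Matrix.isUnit_iff_isUnit_det _).1 (hu a0)).ne_zero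
            ((Matrix.isUnit_iff_isUnit_det _).1 (hu b0)).ne_zero
        exact (mul_right_cancel₀ h2 (by rw [one_mul]; exact h1)).symm
      have hroot2 : c ^ s = 1 := by
        have h3 : ∀ k : ℕ, x a0 ^ k * x b0 = c ^ k • (x b0 * x a0 ^ k) := by
          intro k
          induction k with
          | zero => simp
          | succ k ih =>
            rw [pow_succ', mul_assoc, ih, mul_smul_comm, ← mul_assoc, hc, smul_mul_assoc, smul_smul, mul_assoc,
              ← pow_succ]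
        obtain ⟨d, hd⟩ := hp1 a0
        have h4 := h3 s
        rw [hd, smul_mul_assoc, one_mul, mul_smul_comm, mul_one, smul_smul] at h4
        have hd0 : d ≠ 0 := by
          rintro rfl
          have := (hu a0).pow s
          rw [hd, zero_smul] at this
          exact not_isUnit_zero this
        have hb0 : x b0 ≠ 0 := (hu b0).ne_zero
        have h5 : d = c ^ s * d := smul_left_injective K hb0 h4
        exact (mul_right_cancel₀ hd0 (by rw [one_mul]; exact h5)).symm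
      have h6 : orderOf c = Fintype.card ι := by
        have hf : Fact (Fintype.card ι).Prime := ⟨hprime⟩
        exact orderOf_eq_prime hroot hc1'
      have h7 : orderOf c = s := by
        have hf : Fact s.Prime := ⟨hsp⟩
        exact orderOf_eq_prime hroot2 hc1'
      rw [← h6, h7]
    exact ⟨h2, by rw [← h2]; exact h1⟩

/-- **RANK2**: degree 3 -/
theorem card_elab_three (m : Model L S) (h3 : Fintype.card ι = 3) {s : ℕ} (hsp : s.Prime) (hs : (s : K) ≠ 0)
    {E : Subgroup L} (hE : Cfsg.Agent.H59.EP.ElAb s E) : Nat.card E ≤ s ^ 2 := by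
  rcases card_elab m (by rw [h3]; norm_num) hsp hs hE.comm hE.exp with h | h
  · rw [h3] at h
    exact h
  · exact h.2

/-- **RANK2**: degree 3, generated by two elements -/
theorem two_gen_three (m : Model L S) (h3 : Fintype.card ι = 3) {s : ℕ} (hsp : s.Prime) (hs : (s : K) ≠ 0)
    {E : Subgroup L} (hE : Cfsg.Agent.H59.EP.ElAb s E) : ∃ a ∈ E, ∃ b ∈ E, E = Subgroup.closure {a, b} :=
  two_gen_of_card hsp hE.exp (card_elab_three m h3 hsp hs hE)

end model

end Cfsg.Agent.H957.EP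
end

-- part: H35/EP/CommThree
section
/-!
# Commuting perfect groups in dimension three (helper35, for S3499)

`comm_three` : two commuting perfect groups of automorphisms of a three-dimensional vector space over a finite field:
one of them is trivial.
-/

set_option autoImplicit false

namespace Cfsg.Agent.H35.EP

open Module Subgroup
open scoped commutatorElement

variable {K V : Type*} [Field K] [AddCommGroup V] [Module K V]

/-- Schur + Wedderburn, linear form -/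
theorem comm_of_irred [Finite V] (X : Set (V →ₗ[K] V))
    (hirr : ∀ W : Submodule K V, (∀ x ∈ X, ∀ w ∈ W, x w ∈ W) → W = ⊥ ∨ W = ⊤) {f g : V →ₗ[K] V}
    (hf : ∀ x ∈ X, ∀ v, x (f v) = f (x v)) (hg : ∀ x ∈ X, ∀ v, x (g v) = g (x v)) (v : V) : f (g v) = g (f v) := by
  let Y : Set (AddMonoid.End V) := {y | (∃ x ∈ X, ∀ v, y v = x v) ∨ ∃ c : K, ∀ v, y v = c • v}
  have h1 := Cfsg.Agent.Schreier.IrrMod.comm_of_irreducible Y ?_ (f.toAddMonoidHom : AddMonoid.End V)
    (g.toAddMonoidHom : AddMonoid.End V) ?_ ?_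
  · exact DFunLike.congr_fun h1 v
  · intro N hN
    let W : Submodule K V := { N with
      smul_mem' := by
        intro c n hn
        have h2 := hN ((DistribSMul.toAddMonoidHom V c : V →+ V) : AddMonoid.End V) (Or.inr ⟨c, fun v => rfl⟩) n hn
        exact h2 }
    have hW : ∀ n, n ∈ W ↔ n ∈ N := fun n => Iff.rfl
    rcases hirr W (by
      intro x hx w hw
      have h2 := hN (x.toAddMonoidHom : AddMonoid.End V) (Or.inl ⟨x, hx, fun v => rfl⟩) w hw
      exact h2) with h | h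
    · left
      rw [AddSubgroup.eq_bot_iff_forall]
      intro n hn
      have : n ∈ W := hn
      rw [h, Submodule.mem_bot] at this
      exact this
    · right
      rw [AddSubgroup.eq_top_iff']
      intro n
      have : n ∈ W := by rw [h]; trivial
      exact this
  · rintro y (⟨x, hx, hy⟩ | ⟨c, hy⟩)
    · ext v
      show y (f v) = f (y v)
      rw [hy, hy, hf x hx]
    · ext v
      show y (f v) = f (y v)
      rw [hy, hy, map_smul]
  · rintro y (⟨x, hx, hy⟩ | ⟨c, hy⟩)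
    · ext v
      show y (g v) = g (y v)
      rw [hy, hy, hg x hx]
    · ext v
      show y (g v) = g (y v)
      rw [hy, hy, map_smul]

/-- the automorphisms trivial on `W₁` and on `W₂` modulo `W₁` -/
def HH (W₁ W₂ : Submodule K V) : Subgroup (V ≃ₗ[K] V) where
  carrier := {g | (∀ w ∈ W₁, g w = w) ∧ ∀ w ∈ W₂, g w - w ∈ W₁}
  one_mem' := ⟨fun w _ => rfl, fun w _ => by
    show w - w ∈ W₁
    rw [sub_self]
    exact W₁.zero_mem⟩
  mul_mem' := by
    rintro g h ⟨hg1, hg2⟩ ⟨hh1, hh2⟩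
    refine ⟨fun w hw => ?_, fun w hw => ?_⟩
    · show g (h w) = w
      rw [hh1 w hw, hg1 w hw]
    · show g (h w) - w ∈ W₁
      have e : g (h w) - w = (h w - w) + (g w - w) := by
        have e1 := hg1 _ (hh2 w hw)
        rw [map_sub] at e1
        rw [← e1]
        abel
      rw [e]
      exact W₁.add_mem (hh2 w hw) (hg2 w hw)
  inv_mem' := by
    rintro g ⟨hg1, hg2⟩
    have h1 : ∀ w ∈ W₁, g⁻¹ w = w := by
      intro w hw
      show g.symm w = w
      rw [LinearEquiv.symm_apply_eq, hg1 w hw]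
    refine ⟨h1, fun w hw => ?_⟩
    have e : g⁻¹ w - w = - (g w - w) := by
      have e1 := h1 _ (hg2 w hw)
      rw [map_sub] at e1
      have e2 : g⁻¹ (g w) = w := g.symm_apply_apply w
      rw [e2] at e1
      rw [← e1]
      abel
    rw [e]
    exact W₁.neg_mem (hg2 w hw)

/-- the key step -/
theorem comm_mem_HH {G : Subgroup (V ≃ₗ[K] V)} {W₁ W₂ : Submodule K V} (h1 : ∀ g ∈ G, ∀ w ∈ W₁, g w = w)
    (h2 : ∀ g ∈ G, ∀ w ∈ W₂, g w ∈ W₂) (hc : ∀ a ∈ G, ∀ b ∈ G, ∀ w ∈ W₂, a (b w) - b (a w) ∈ W₁) : ⁅G, G⁆ ≤ HH W₁ W₂ := by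
  rw [commutator_le]
  intro a ha b hb
  refine ⟨h1 _ ?_, ?_⟩
  · exact G.mul_mem (G.mul_mem (G.mul_mem ha hb) (G.inv_mem ha)) (G.inv_mem hb)
  · intro w hw
    have h3 : (a⁻¹ * b⁻¹ : V ≃ₗ[K] V) w ∈ W₂ := h2 _ (G.mul_mem (G.inv_mem ha) (G.inv_mem hb)) w hw
    have h4 := hc a ha b hb _ h3
    have e1 : b (a ((a⁻¹ * b⁻¹ : V ≃ₗ[K] V) w)) = w := by
      show b (a (a.symm (b.symm w))) = w
      rw [LinearEquiv.apply_symm_apply, LinearEquiv.apply_symm_apply]
    rw [e1] at h4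
    exact h4

/-- perfect groups: a two-step trivial action is trivial -/
theorem fix_two {G : Subgroup (V ≃ₗ[K] V)} (hG : G ≤ ⁅G, G⁆) {W₁ W₂ : Submodule K V} (hW : W₁ ≤ W₂)
    (h : G ≤ HH W₁ W₂) : ∀ g ∈ G, ∀ w ∈ W₂, g w = w := by
  have h0 : ∀ g ∈ G, ∀ w ∈ W₂, g w ∈ W₂ := by
    intro g hg w hw
    have := W₂.add_mem (hW ((h hg).2 w hw)) hw
    rwa [sub_add_cancel] at this
  have h1 : ⁅G, G⁆ ≤ HH ⊥ W₂ := by
    refine comm_mem_HH (fun g _ w hw => ?_) h0 ?_
    · rw [Submodule.mem_bot] at hw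
      rw [hw, map_zero]
    · intro a ha b hb w hw
      rw [Submodule.mem_bot, sub_eq_zero]
      have ea := (h ha).1 _ ((h hb).2 w hw)
      have eb := (h hb).1 _ ((h ha).2 w hw)
      rw [map_sub] at ea eb
      have e1 : a (b w) = b w - w + a w := by rw [← ea]; abel
      have e2 : b (a w) = a w - w + b w := by rw [← eb]; abel
      rw [e1, e2]
      abel
  intro g hg w hw
  have h2 := (h1 (hG hg)).2 w hw
  rw [Submodule.mem_bot, sub_eq_zero] at h2
  exact h2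

/-- invertible maps commute modulo a hyperplane -/
theorem hyper {W₁ W₂ : Submodule K V} [FiniteDimensional K V] (hW : W₁ ≤ W₂) (hd : finrank K W₂ = finrank K W₁ + 1)
    {a b : V →ₗ[K] V} (ha1 : ∀ w ∈ W₁, a w ∈ W₁) (ha2 : ∀ w ∈ W₂, a w ∈ W₂) (hb1 : ∀ w ∈ W₁, b w ∈ W₁)
    (hb2 : ∀ w ∈ W₂, b w ∈ W₂) (w : V) (hw : w ∈ W₂) : a (b w) - b (a w) ∈ W₁ := by
  have hne : W₁ ≠ W₂ := by
    intro e
    rw [e] at hd
    omega
  obtain ⟨w₀, hw₀, hw₀'⟩ := SetLike.exists_of_lt (lt_of_le_of_ne hW hne)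
  have hle : W₁ ⊔ Submodule.span K {w₀} ≤ W₂ := sup_le hW ((Submodule.span_singleton_le_iff_mem _ _).2 hw₀)
  have hlt : W₁ < W₁ ⊔ Submodule.span K {w₀} := by
    refine lt_of_le_of_ne le_sup_left fun e => hw₀' ?_
    rw [e]
    exact le_sup_right (a := W₁) (Submodule.mem_span_singleton_self w₀)
  have hfin := Submodule.finrank_lt_finrank_of_lt hlt
  have heq : W₁ ⊔ Submodule.span K {w₀} = W₂ :=
    Submodule.eq_of_le_of_finrank_le hle (by omega)
  have key : ∀ c : V →ₗ[K] V, (∀ w ∈ W₁, c w ∈ W₁) → (∀ w ∈ W₂, c w ∈ W₂) → ∃ α : K, ∀ w ∈ W₂, c w - α • w ∈ W₁ := by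
    intro c hc1 hc2
    have h1 := hc2 w₀ hw₀
    rw [← heq, Submodule.mem_sup] at h1
    obtain ⟨y, hy, z, hz, e⟩ := h1
    obtain ⟨α, rfl⟩ := Submodule.mem_span_singleton.1 hz
    refine ⟨α, fun w hw => ?_⟩
    rw [← heq, Submodule.mem_sup] at hw
    obtain ⟨u, hu, z, hz, rfl⟩ := hw
    obtain ⟨β, rfl⟩ := Submodule.mem_span_singleton.1 hz
    have e2 : c (u + β • w₀) - α • (u + β • w₀) = (c u - α • u) + β • y := by
      rw [map_add, map_smul, ← e]
      module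
    rw [e2]
    exact W₁.add_mem (W₁.sub_mem (hc1 u hu) (W₁.smul_mem _ hu)) (W₁.smul_mem _ hy)
  obtain ⟨α, hα⟩ := key a ha1 ha2
  obtain ⟨β, hβ⟩ := key b hb1 hb2
  have h1 := hα _ (hb2 w hw)
  have h2 := hβ _ (ha2 w hw)
  have h3 := W₁.smul_mem α (hβ w hw)
  have h4 := W₁.smul_mem β (hα w hw)
  have e : a (b w) - b (a w) = (a (b w) - α • b w) - (b (a w) - β • a w) + (α • (b w - β • w)) - (β • (a w - α • w)) := by
    module
  rw [e]
  exact W₁.sub_mem (W₁.add_mem (W₁.sub_mem h1 h2) h3) h4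

/-- perfect groups act trivially on one-dimensional sections above the fixed points -/
theorem fix_succ [FiniteDimensional K V] {G : Subgroup (V ≃ₗ[K] V)} (hG : G ≤ ⁅G, G⁆) {W₁ W₂ : Submodule K V}
    (hW : W₁ ≤ W₂) (hd : finrank K W₂ = finrank K W₁ + 1) (h1 : ∀ g ∈ G, ∀ w ∈ W₁, g w = w)
    (h2 : ∀ g ∈ G, ∀ w ∈ W₂, g w ∈ W₂) : ∀ g ∈ G, ∀ w ∈ W₂, g w = w := by
  refine fix_two hG hW (hG.trans (comm_mem_HH h1 h2 fun a ha b hb w hw => ?_))
  exact hyper hW hd (a := a.toLinearMap) (b := b.toLinearMap) (fun w hw => by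
      show a w ∈ W₁
      rw [h1 a ha w hw]
      exact hw) (h2 a ha) (fun w hw => by
      show b w ∈ W₁
      rw [h1 b hb w hw]
      exact hw) (h2 b hb) w hw

/-- the fixed points -/
def Fx (G : Subgroup (V ≃ₗ[K] V)) : Submodule K V where
  carrier := {v | ∀ g ∈ G, g v = v}
  zero_mem' := fun g _ => map_zero g
  add_mem' := fun {a b} ha hb g hg => by rw [map_add, ha g hg, hb g hg]
  smul_mem' := fun c v hv g hg => by rw [map_smul, hv g hg]

theorem eq_bot_of_Fx {G : Subgroup (V ≃ₗ[K] V)} (h : ∀ v, v ∈ Fx G) : G = ⊥ := by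
  rw [Subgroup.eq_bot_iff_forall]
  intro g hg
  ext v
  exact h v g hg

/-- step 1: the fixed points have dimension one -/
theorem finrank_Fx [FiniteDimensional K V] (hV : finrank K V = 3) {D : Subgroup (V ≃ₗ[K] V)}
    (hD : D ≤ ⁅D, D⁆) (hD1 : D ≠ ⊥) (hF : Fx D ≠ ⊥) : finrank K (Fx D) = 1 := by
  have h0 : finrank K (Fx D) ≠ 0 := by
    rw [Ne, Submodule.finrank_eq_zero]
    exact hF
  have h3 : finrank K (Fx D) ≤ 3 := by
    rw [← hV]
    exact Submodule.finrank_le _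
  have h3' : finrank K (Fx D) ≠ 3 := by
    intro e
    apply hD1
    apply eq_bot_of_Fx
    have : Fx D = ⊤ := Submodule.eq_top_of_finrank_eq (by rw [e, hV])
    intro v
    rw [this]
    trivial
  have h2' : finrank K (Fx D) ≠ 2 := by
    intro e
    apply hD1
    apply eq_bot_of_Fx
    intro v g hg
    exact fix_succ hD (W₁ := Fx D) (W₂ := ⊤) le_top (by rw [finrank_top, e, hV]) (fun g hg w hw => hw g hg)
      (fun _ _ _ _ => trivial) g hg v trivial
  omega

/-- commuting groups preserve the fixed points -/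
theorem Fx_le [FiniteDimensional K V] {D E : Subgroup (V ≃ₗ[K] V)} (hE : E ≤ ⁅E, E⁆)
    (hc : ∀ d ∈ D, ∀ e ∈ E, d * e = e * d) (h1 : finrank K (Fx D) = 1) : Fx D ≤ Fx E := by
  have h := fix_succ hE (W₁ := ⊥) (W₂ := Fx D) bot_le (by rw [h1, finrank_bot]) (fun g _ w hw => by
    rw [Submodule.mem_bot] at hw
    rw [hw, map_zero]) (fun e he w hw d hd => by
      have h2 := LinearEquiv.congr_fun (hc d hd e he) w
      have h3 : d (e w) = e (d w) := h2
      rw [h3, hw d hd])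
  intro w hw e he
  exact h e he w hw

/-- **no fixed vectors** -/
theorem Fx_eq_bot [Finite V] [FiniteDimensional K V] (hV : finrank K V = 3) {D E : Subgroup (V ≃ₗ[K] V)}
    (hD : D ≤ ⁅D, D⁆) (hE : E ≤ ⁅E, E⁆) (hc : ∀ d ∈ D, ∀ e ∈ E, d * e = e * d) (hD1 : D ≠ ⊥) (hE1 : E ≠ ⊥) :
    Fx D = ⊥ := by
  by_contra hF
  have h1 := finrank_Fx hV hD hD1 hF
  have h2 : Fx D ≤ Fx E := Fx_le hE hc h1
  have hFE : Fx E ≠ ⊥ := by
    intro e
    rw [e, le_bot_iff] at h2
    exact hF h2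
  have h3 := finrank_Fx hV hE hE1 hFE
  set ℓ := Fx D with hℓ
  have hDℓ : ∀ d ∈ D, ∀ w ∈ ℓ, d w = w := fun d hd w hw => hw d hd
  have hEℓ : ∀ e ∈ E, ∀ w ∈ ℓ, e w = w := fun e he w hw => h2 hw e he
  -- irreducible on the quotient
  have hirr : ∀ W : Submodule K V, ℓ ≤ W → (∀ d ∈ D, ∀ w ∈ W, d w ∈ W) → W = ℓ ∨ W = ⊤ := by
    intro W hW hDW
    have h4 : finrank K W ≤ 3 := by
      rw [← hV]
      exact Submodule.finrank_le _
    have h5 : finrank K ℓ ≤ finrank K W := Submodule.finrank_mono hW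
    have h6 : finrank K W ≠ 2 := by
      intro e
      have h7 := fix_succ hD hW (by rw [h1, e]) hDℓ hDW
      have h8 : W ≤ ℓ := fun w hw d hd => h7 d hd w hw
      have h9 := Submodule.finrank_mono h8
      omega
    rcases (by omega : finrank K W = 1 ∨ finrank K W = 3) with e | e
    · left
      exact (Submodule.eq_of_le_of_finrank_eq hW (by rw [h1, e])).symm
    · right
      exact Submodule.eq_top_of_finrank_eq (by rw [e, hV])
  have hfinq : Finite (V ⧸ ℓ) := Finite.of_surjective ℓ.mkQ ℓ.mkQ_surjective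
  have hmap : ∀ g : V ≃ₗ[K] V, (∀ w ∈ ℓ, g w = w) → ℓ ≤ ℓ.comap g.toLinearMap := by
    intro g hg w hw
    show g w ∈ ℓ
    rw [hg w hw]
    exact hw
  let X : Set ((V ⧸ ℓ) →ₗ[K] (V ⧸ ℓ)) := {x | ∃ d ∈ D, ∀ v, x (ℓ.mkQ v) = ℓ.mkQ (d v)}
  have hcomm : ∀ a ∈ E, ∀ b ∈ E, ∀ w : V, a (b w) - b (a w) ∈ ℓ := by
    intro a ha b hb w
    have h4 := comm_of_irred X ?_ (f := ℓ.mapQ ℓ a.toLinearMap (hmap a (hEℓ a ha)))
      (g := ℓ.mapQ ℓ b.toLinearMap (hmap b (hEℓ b hb))) ?_ ?_ (ℓ.mkQ w)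
    · have h5 : ℓ.mkQ (a (b w)) = ℓ.mkQ (b (a w)) := h4
      rw [← sub_eq_zero, ← map_sub, Submodule.mkQ_apply, Submodule.Quotient.mk_eq_zero] at h5
      exact h5
    · intro W hW
      have h5 := hirr (W.comap ℓ.mkQ) (fun w hw => by
        rw [Submodule.mem_comap, Submodule.mkQ_apply, (Submodule.Quotient.mk_eq_zero ℓ).2 hw]
        exact W.zero_mem) (fun d hd w hw => by
          rw [Submodule.mem_comap] at hw ⊢
          exact hW (ℓ.mapQ ℓ d.toLinearMap (hmap d (hDℓ d hd))) ⟨d, hd, fun v => rfl⟩ _ hw)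
      rcases h5 with h5 | h5
      · left
        rw [Submodule.eq_bot_iff]
        intro y hy
        obtain ⟨v, rfl⟩ := ℓ.mkQ_surjective y
        have h6 : v ∈ W.comap ℓ.mkQ := hy
        rw [h5] at h6
        rw [Submodule.mkQ_apply, (Submodule.Quotient.mk_eq_zero ℓ).2 h6]
      · right
        rw [Submodule.eq_top_iff']
        intro y
        obtain ⟨v, rfl⟩ := ℓ.mkQ_surjective y
        have h6 : v ∈ W.comap ℓ.mkQ := by rw [h5]; trivial
        exact h6
    · rintro x ⟨d, hd, hx⟩ y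
      obtain ⟨v, rfl⟩ := ℓ.mkQ_surjective y
      have h5 : d (a v) = a (d v) := LinearEquiv.congr_fun (hc d hd a ha) v
      show x (ℓ.mkQ (a v)) = ℓ.mapQ ℓ a.toLinearMap _ (x (ℓ.mkQ v))
      rw [hx, hx, h5]
      rfl
    · rintro x ⟨d, hd, hx⟩ y
      obtain ⟨v, rfl⟩ := ℓ.mkQ_surjective y
      have h5 : d (b v) = b (d v) := LinearEquiv.congr_fun (hc d hd b hb) v
      show x (ℓ.mkQ (b v)) = ℓ.mapQ ℓ b.toLinearMap _ (x (ℓ.mkQ v))
      rw [hx, hx, h5]
      rfl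
  apply hE1
  apply eq_bot_of_Fx
  intro v e he
  exact fix_two hE (W₁ := ℓ) (W₂ := ⊤) le_top (hE.trans (comm_mem_HH hEℓ (fun _ _ _ _ => trivial)
    fun a ha b hb w _ => hcomm a ha b hb w)) e he v trivial

/-- the contragredient -/
noncomputable def contra : (V ≃ₗ[K] V) →* (Dual K V ≃ₗ[K] Dual K V) where
  toFun g := g.symm.dualMap
  map_one' := by
    ext f v
    rfl
  map_mul' := by
    intro g h
    ext f v
    rfl

theorem contra_apply (g : V ≃ₗ[K] V) (f : Dual K V) (v : V) : contra g f v = f (g.symm v) := rfl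

theorem contra_injective [FiniteDimensional K V] : Function.Injective (contra : (V ≃ₗ[K] V) →* _) := by
  rw [injective_iff_map_eq_one]
  intro g hg
  ext v
  show g v = v
  have h1 : ∀ f : Dual K V, f (g.symm v) = f v := by
    intro f
    have := LinearMap.congr_fun (LinearEquiv.congr_fun hg f) v
    exact this
  have h2 : g.symm v = v := by
    rw [← sub_eq_zero, ← Module.forall_dual_apply_eq_zero_iff K]
    intro f
    rw [map_sub, h1, sub_self]
  rw [LinearEquiv.symm_apply_eq] at h2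
  exact h2.symm

/-- **Two commuting perfect groups in dimension three.** -/
theorem comm_three [Finite K] [FiniteDimensional K V] (hV : finrank K V = 3) {D E : Subgroup (V ≃ₗ[K] V)}
    (hD : D ≤ ⁅D, D⁆) (hE : E ≤ ⁅E, E⁆) (hc : ∀ d ∈ D, ∀ e ∈ E, d * e = e * d) (hD1 : D ≠ ⊥) : E = ⊥ := by
  by_contra hE1
  have hfV : Finite V := Module.finite_of_finite K
  have hfD : Finite (Dual K V) := Module.finite_of_finite K
  have h1 := Fx_eq_bot hV hD hE hc hD1 hE1
  have h2 := Fx_eq_bot (V := Dual K V) (by rw [Subspace.dual_finrank_eq, hV]) (D := D.map contra) (E := E.map contra) (by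
    rw [← map_commutator]
    exact map_mono hD) (by
    rw [← map_commutator]
    exact map_mono hE) (by
    rintro _ ⟨d, hd, rfl⟩ _ ⟨e, he, rfl⟩
    rw [← map_mul, ← map_mul, hc d hd e he]) (by
    rwa [Ne, map_eq_bot_iff_of_injective _ contra_injective]) (by
    rwa [Ne, map_eq_bot_iff_of_injective _ contra_injective])
  have hirr : ∀ W : Submodule K V, (∀ d ∈ D, ∀ w ∈ W, d w ∈ W) → W = ⊥ ∨ W = ⊤ := by
    intro W hW
    have h4 : finrank K W ≤ 3 := by
      rw [← hV]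
      exact Submodule.finrank_le _
    rcases (by omega : finrank K W = 0 ∨ finrank K W = 1 ∨ finrank K W = 2 ∨ finrank K W = 3) with e | e | e | e
    · left
      exact Submodule.finrank_eq_zero.1 e
    · left
      rw [eq_bot_iff, ← h1]
      have h5 := fix_succ hD (W₁ := ⊥) (W₂ := W) bot_le (by rw [e, finrank_bot]) (fun g _ w hw => by
        rw [Submodule.mem_bot] at hw
        rw [hw, map_zero]) hW
      intro w hw d hd
      exact h5 d hd w hw
    · exfalso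
      have h5 : finrank K W.dualAnnihilator = 1 := by
        have := Subspace.finrank_add_finrank_dualAnnihilator_eq W
        omega
      have h6 := fix_succ (V := Dual K V) (G := D.map contra) (by
        rw [← map_commutator]
        exact map_mono hD) (W₁ := ⊥) (W₂ := W.dualAnnihilator) bot_le (by rw [h5, finrank_bot]) (fun g _ w hw => by
        rw [Submodule.mem_bot] at hw
        rw [hw, map_zero]) (by
        rintro _ ⟨d, hd, rfl⟩ f hf
        rw [Submodule.mem_dualAnnihilator] at hf ⊢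
        intro w hw
        rw [contra_apply]
        exact hf _ (hW d⁻¹ (D.inv_mem hd) w hw))
      have h7 : W.dualAnnihilator ≤ Fx (D.map contra) := fun w hw d hd => h6 d hd w hw
      rw [h2, le_bot_iff] at h7
      rw [h7, finrank_bot] at h5
      omega
    · right
      exact Submodule.eq_top_of_finrank_eq (by rw [e, hV])
  apply hE1
  rw [eq_bot_iff]
  refine hE.trans ?_
  rw [commutator_le]
  intro a ha b hb
  rw [mem_bot, commutatorElement_eq_one_iff_mul_comm]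
  ext v
  refine comm_of_irred {x | ∃ d ∈ D, ∀ v, x v = d v} ?_ (f := a.toLinearMap) (g := b.toLinearMap) ?_ ?_ v
  · intro W hW
    exact hirr W fun d hd w hw => hW d.toLinearMap ⟨d, hd, fun _ => rfl⟩ w hw
  · rintro x ⟨d, hd, hx⟩ v
    show x (a v) = a (x v)
    rw [hx, hx]
    exact LinearEquiv.congr_fun (hc d hd a ha) v
  · rintro x ⟨d, hd, hx⟩ v
    show x (b v) = b (x v)
    rw [hx, hx]
    exact LinearEquiv.congr_fun (hc d hd b hb) v

end Cfsg.Agent.H35.EP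
end

-- part: H35/EP/CommPSL
section
/-!
# Commuting perfect subgroups of `PSL₃(K)` (helper35, for S3499)

* `psl_comm` : two commuting perfect subgroups of `PSL₃(K)`, `K` finite: one of them is trivial;
* `no_pi` : `T ^ ι`, `T` nonabelian simple, `|ι| ≥ 2`, does not embed in `PSL₃(K)`.
-/

set_option autoImplicit false

namespace Cfsg.Agent.H35.EP

open Module Subgroup
open scoped commutatorElement MatrixGroups

variable {K : Type*} [Field K]

theorem commutator_le_self' {S : Type*} [Group S] (X : Subgroup S) : ⁅X, X⁆ ≤ X := by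
  rw [commutator_le]
  intro a ha b hb
  exact X.mul_mem (X.mul_mem (X.mul_mem ha hb) (X.inv_mem ha)) (X.inv_mem hb)

end Cfsg.Agent.H35.EP
end

-- part: H35/EP/CommModel
section
/-!
# Commuting perfect subgroups of groups with a three-dimensional model (helper35, for S3499)
-/

set_option autoImplicit false

namespace Cfsg.Agent.H35.EP

open Module Subgroup Cfsg.Agent.H419.EP
open scoped commutatorElement MatrixGroups

variable {L : Type*} [Group L] {K : Type*} [Field K]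

section central

variable {S Q : Type*} [Group S] [Group Q] {π : S →* Q} (hsurj : Function.Surjective π)
  (hker : ∀ s, π s = 1 → ∀ t, s * t = t * s)

include hsurj hker

/-- perfect subgroups lift along central extensions -/
theorem lift_perfect' (X : Subgroup Q) (hX : X ≤ ⁅X, X⁆) :
    (⁅X.comap π, X.comap π⁆ : Subgroup S).map π = X ∧
      ⁅X.comap π, X.comap π⁆ ≤ ⁅(⁅X.comap π, X.comap π⁆ : Subgroup S), (⁅X.comap π, X.comap π⁆ : Subgroup S)⁆ := by
  set H := X.comap π with hH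
  have h1 : (⁅H, H⁆ : Subgroup S).map π = X := by
    rw [map_commutator, hH, Subgroup.map_comap_eq_self_of_surjective hsurj]
    exact le_antisymm (commutator_le_self' X) hX
  refine ⟨h1, ?_⟩
  have h2 : ∀ a ∈ H, ∃ d ∈ (⁅H, H⁆ : Subgroup S), ∃ z, π z = 1 ∧ a = d * z := by
    intro a ha
    have h3 : π a ∈ (⁅H, H⁆ : Subgroup S).map π := by
      rw [h1]
      exact ha
    obtain ⟨d, hd, e⟩ := h3
    refine ⟨d, hd, d⁻¹ * a, ?_, by group⟩
    rw [map_mul, map_inv, e, inv_mul_cancel]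
  rw [commutator_le]
  intro a ha b hb
  obtain ⟨d, hd, z, hz, rfl⟩ := h2 a ha
  obtain ⟨d', hd', z', hz', rfl⟩ := h2 b hb
  have e : ⁅d * z, d' * z'⁆ = ⁅d, d'⁆ := by
    rw [commutatorElement_def, commutatorElement_def]
    have e1 : z * (d' * z') = d' * z' * z := hker z hz (d' * z')
    have e2 : z' * d⁻¹ = d⁻¹ * z' := hker z' hz' d⁻¹
    calc d * z * (d' * z') * (d * z)⁻¹ * (d' * z')⁻¹ = d * (z * (d' * z')) * z⁻¹ * d⁻¹ * z'⁻¹ * d'⁻¹ := by group
      _ = d * d' * (z' * d⁻¹) * z'⁻¹ * d'⁻¹ := by rw [e1]; group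
      _ = d * d' * d⁻¹ * d'⁻¹ := by rw [e2]; group
  rw [e]
  exact commutator_mem_commutator hd hd'

omit hsurj in
theorem lift_comm' {X Y : Subgroup Q} (hc : ∀ x ∈ X, ∀ y ∈ Y, x * y = y * x)
    {d y : S} (hd : d ∈ (⁅X.comap π, X.comap π⁆ : Subgroup S)) (hy : y ∈ Y.comap π) : d * y = y * d := by
  have h1 : (⁅X.comap π, X.comap π⁆ : Subgroup S) ≤ centralizer ({y} : Set S) := by
    rw [commutator_le]
    intro a ha b hb
    have key : ∀ a ∈ X.comap π, ∃ z, π z = 1 ∧ y * a * y⁻¹ = a * z := by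
      intro a ha
      refine ⟨a⁻¹ * (y * a * y⁻¹), ?_, by group⟩
      rw [map_mul, map_inv, map_mul, map_mul, map_inv, ← hc _ ha _ hy, mul_inv_cancel_right, inv_mul_cancel]
    obtain ⟨z, hz, e1⟩ := key a ha
    obtain ⟨z', hz', e2⟩ := key b hb
    rw [mem_centralizer_singleton_iff]
    have e3 : y * ⁅a, b⁆ * y⁻¹ = ⁅a, b⁆ := by
      have e4 : y * ⁅a, b⁆ * y⁻¹ = ⁅y * a * y⁻¹, y * b * y⁻¹⁆ := by
        rw [commutatorElement_def, commutatorElement_def]
        group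
      rw [e4, e1, e2]
      rw [commutatorElement_def, commutatorElement_def]
      have e1 : z * (b * z') = b * z' * z := hker z hz (b * z')
      have e2 : z' * a⁻¹ = a⁻¹ * z' := hker z' hz' a⁻¹
      calc a * z * (b * z') * (a * z)⁻¹ * (b * z')⁻¹ = a * (z * (b * z')) * z⁻¹ * a⁻¹ * z'⁻¹ * b⁻¹ := by group
        _ = a * b * (z' * a⁻¹) * z'⁻¹ * b⁻¹ := by rw [e1]; group
        _ = a * b * a⁻¹ * b⁻¹ := by rw [e2]; group
    rw [mul_inv_eq_iff_eq_mul] at e3
    exact e3.symm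
  exact mem_centralizer_singleton_iff.1 (h1 hd)

end central

/-- **Two commuting perfect subgroups of a group with a three-dimensional model: one is trivial.** -/
theorem comm_model [Finite K] {S : Subgroup (GL (Fin 3) K)} (m : Model L S) {X Y : Subgroup L} (hX : X ≤ ⁅X, X⁆)
    (hY : Y ≤ ⁅Y, Y⁆) (hc : ∀ x ∈ X, ∀ y ∈ Y, x * y = y * x) (hX1 : X ≠ ⊥) : Y = ⊥ := by
  classical
  have hker : ∀ s : S, m.π s = 1 → ∀ t : S, s * t = t * s := by
    intro s hs t
    obtain ⟨c, hc⟩ := (Cfsg.Geo.mem_scalars_iff _).1 ((m.ker s).1 hs)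
    apply Subtype.ext
    apply Units.ext
    show ((s : GL (Fin 3) K) : Matrix (Fin 3) (Fin 3) K) * ((t : GL (Fin 3) K) : Matrix (Fin 3) (Fin 3) K) =
      ((t : GL (Fin 3) K) : Matrix (Fin 3) (Fin 3) K) * ((s : GL (Fin 3) K) : Matrix (Fin 3) (Fin 3) K)
    rw [hc]
    simp
  obtain ⟨hD1, hD2⟩ := lift_perfect' m.surj hker X hX
  obtain ⟨hE1, hE2⟩ := lift_perfect' m.surj hker Y hY
  set D : Subgroup S := ⁅X.comap m.π, X.comap m.π⁆ with hD
  set E : Subgroup S := ⁅Y.comap m.π, Y.comap m.π⁆ with hE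
  let φ : S →* ((Fin 3 → K) ≃ₗ[K] (Fin 3 → K)) :=
    ((LinearMap.GeneralLinearGroup.generalLinearEquiv K (Fin 3 → K)).toMonoidHom.comp
      (Matrix.GeneralLinearGroup.toLin (n := Fin 3) (R := K)).toMonoidHom).comp S.subtype
  have hφ : Function.Injective φ := by
    intro s t hst
    have h1 := (LinearMap.GeneralLinearGroup.generalLinearEquiv K (Fin 3 → K)).injective hst
    exact S.subtype_injective ((Matrix.GeneralLinearGroup.toLin (n := Fin 3) (R := K)).injective h1)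
  have h1 := comm_three (K := K) (V := Fin 3 → K) (by rw [Module.finrank_fin_fun]) (D := D.map φ) (E := E.map φ) (by
    rw [← map_commutator]
    exact map_mono hD2) (by
    rw [← map_commutator]
    exact map_mono hE2) (by
    rintro _ ⟨d, hd, rfl⟩ _ ⟨e, he, rfl⟩
    have he' : e ∈ Y.comap m.π := commutator_le_self' _ he
    rw [← map_mul, ← map_mul, lift_comm' hker hc hd he']) (by
    rw [Ne, map_eq_bot_iff_of_injective _ hφ]
    intro e
    rw [e, Subgroup.map_bot] at hD1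
    exact hX1 hD1.symm)
  rw [map_eq_bot_iff_of_injective _ hφ] at h1
  rw [← hE1, h1, Subgroup.map_bot]

/-- `T × T ≤ T ^ ι` does not embed -/
theorem no_pi_model [Finite K] {S : Subgroup (GL (Fin 3) K)} (m : Model L S) {ι T : Type*} [DecidableEq ι] [Group T]
    (hT : ∀ a : T, a ∈ (⁅(⊤ : Subgroup T), ⊤⁆ : Subgroup T)) (hT1 : Nontrivial T) {i j : ι} (hij : i ≠ j)
    (f : (ι → T) →* L) (hf : Function.Injective f) : False := by
  have key : ∀ i : ι, ((⊤ : Subgroup T).map (f.comp (MonoidHom.mulSingle (fun _ : ι => T) i))) ≤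
      ⁅((⊤ : Subgroup T).map (f.comp (MonoidHom.mulSingle (fun _ : ι => T) i))),
        ((⊤ : Subgroup T).map (f.comp (MonoidHom.mulSingle (fun _ : ι => T) i)))⁆ := by
    intro i
    rw [← map_commutator]
    exact map_mono fun a _ => hT a
  have hinj : ∀ i : ι, Function.Injective (f.comp (MonoidHom.mulSingle (fun _ : ι => T) i)) := fun i =>
    hf.comp (Pi.mulSingle_injective (M := fun _ : ι => T) i)
  have h1 := comm_model m (key i) (key j) (by
    rintro _ ⟨a, _, rfl⟩ _ ⟨b, _, rfl⟩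
    show f _ * f _ = f _ * f _
    rw [← map_mul, ← map_mul]
    congr 1
    exact Pi.mulSingle_commute (f := fun _ : ι => T) hij a b) (by
    rw [Ne, map_eq_bot_iff_of_injective _ (hinj i)]
    exact top_ne_bot)
  rw [map_eq_bot_iff_of_injective _ (hinj j)] at h1
  exact top_ne_bot h1

end Cfsg.Agent.H35.EP
end

-- part: H396/EP/LocThree
section
/-!
# S3499, own characteristic, degree three: `|LocK L| ≤ 2 |L| ^ 2` (helper396)

`L` a group with a model `S ≤ GL₃(K)`, `char K = p`, of Lie type in characteristic `p` (`HasFilt p L`).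
-/

set_option autoImplicit false

namespace Cfsg.Agent.H396.EP

open Subgroup Cfsg.Agent.H59.EP Cfsg.Agent.H273.EPU Cfsg.Agent.H419.EP
open scoped commutatorElement MatrixGroups

/-- a nonabelian simple group is perfect -/
theorem perfect_of_simple {T : Type*} [Group T] (hT : IsSimpleGroup T) (hc : ¬ ∀ a b : T, a * b = b * a) (a : T) :
    a ∈ (⁅(⊤ : Subgroup T), ⊤⁆ : Subgroup T) := by
  have hn : (⁅(⊤ : Subgroup T), ⊤⁆ : Subgroup T).Normal := inferInstance
  rcases hT.eq_bot_or_eq_top_of_normal _ hn with h | h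
  · exfalso
    apply hc
    intro a b
    have h1 : ⁅a, b⁆ ∈ (⁅(⊤ : Subgroup T), ⊤⁆ : Subgroup T) := commutator_mem_commutator (mem_top _) (mem_top _)
    rw [h, mem_bot, commutatorElement_eq_one_iff_mul_comm] at h1
    exact h1
  · rw [h]
    exact mem_top _

/-- characteristically simple groups which embed in a group with a model of degree three are elementary abelian or
generated by two elements -/
theorem two_gen_of_charSimple (hg : ∀ (X : Type) [Group X] [Finite X] [IsSimpleGroup X], ∃ x y : X,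
      closure ({x, y} : Set X) = ⊤) {L : Type*} [Group L] {K : Type*} [Field K] [Finite K]
    {S : Subgroup (GL (Fin 3) K)} (m : Model L S) {X : Subgroup L} [Finite X] (hX : X ≠ ⊥)
    (hc : ∀ Y : Subgroup X, Y.Characteristic → Y = ⊥ ∨ Y = ⊤) :
    (∃ s : ℕ, s.Prime ∧ s ∣ Nat.card X ∧ ElAb s X) ∨ ∃ a b : L, X = closure {a, b} := by
  have hXn : Nontrivial X := (Subgroup.nontrivial_iff_ne_bot X).2 hX
  by_cases hcomm : ∀ a b : X, a * b = b * a
  · left
    obtain ⟨s, hs, hsd, hE⟩ := elab_of_comm hc hcomm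
    exact ⟨s, hs, hsd, fun a ha b hb => congrArg Subtype.val (hcomm ⟨a, ha⟩ ⟨b, hb⟩),
      fun a ha => congrArg Subtype.val (hE.exp ⟨a, ha⟩ (mem_top _))⟩
  right
  obtain ⟨T, hT1, hT2, n, hn, ⟨e⟩⟩ := Cfsg.Agent.S5914.result.1 hc
  have h0 : 0 < n := by omega
  have hTf : Finite T := Finite.of_injective (fun t : T => e.symm (Pi.mulSingle ⟨0, h0⟩ t)) fun t s h =>
    Pi.mulSingle_injective _ (e.symm.injective h)
  have hTc : ¬ ∀ a b : T, a * b = b * a := by
    intro h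
    apply hcomm
    intro a b
    apply e.injective
    rw [map_mul, map_mul]
    ext i
    exact h _ _
  rcases Nat.lt_or_ge n 2 with h2 | h2
  · obtain rfl : n = 1 := by omega
    let E : T ≃* X := (MulEquiv.piUnique (fun _ : Fin 1 => T)).symm.trans e.symm
    obtain ⟨a, b, hab⟩ := hg T
    refine ⟨(E a : X), (E b : X), ?_⟩
    have h1 : (closure ({a, b} : Set T)).map (X.subtype.comp E.toMonoidHom) = X := by
      rw [hab, ← MonoidHom.range_eq_map, MonoidHom.range_comp, MonoidHom.range_eq_top.2 E.surjective,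
        ← MonoidHom.range_eq_map, X.range_subtype]
    rw [MonoidHom.map_closure, Set.image_pair] at h1
    exact h1.symm
  · exfalso
    exact Cfsg.Agent.H35.EP.no_pi_model m (perfect_of_simple hT2 hTc) hT2.toNontrivial
      (i := (⟨0, by omega⟩ : Fin n)) (j := ⟨1, by omega⟩) (by simp) (X.subtype.comp e.symm.toMonoidHom)
      (X.subtype_injective.comp e.symm.injective)

/-- the members of `LocK L` with `O_p = 1` -/
theorem ncard_core_one_le (hg : ∀ (X : Type) [Group X] [Finite X] [IsSimpleGroup X], ∃ x y : X,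
      closure ({x, y} : Set X) = ⊤) {L : Type*} [Group L] [Finite L] {K : Type*} [Field K] [Finite K] {p : ℕ}
    [Fact p.Prime] [CharP K p] {S : Subgroup (GL (Fin 3) K)} (m : Model L S) :
    {M ∈ LocK L | pCore p M = ⊥}.ncard ≤ Nat.card L ^ 2 := by
  have h1 : {M ∈ LocK L | pCore p M = ⊥} ⊆ Set.range fun z : L × L =>
      (normalizer ((closure {z.1, z.2} : Subgroup L) : Set L)) := by
    rintro M ⟨hM, hMp⟩
    obtain ⟨X, hXM, hXle, hX, hXc⟩ := exists_key hM.1 (fun Y hY hY0 b hb => hM.2 Y hY hY0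
      (Subgroup.mem_normalizer_fintype hb))
    have key : ∃ a b : L, X = closure {a, b} := by
      rcases two_gen_of_charSimple hg m hX hXc with ⟨s, hs, hsd, hE⟩ | h
      · have hsp : s ≠ p := by
          rintro rfl
          -- `X` is a normal `p`-subgroup of `M`
          apply hX
          have hn : (X.subgroupOf M).Normal := by
            constructor
            intro y hy k
            rw [mem_subgroupOf] at hy ⊢
            have hk : (k : L) ∈ normalizer (X : Set L) := by rw [hXM]; exact k.2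
            exact (mem_normalizer_iff.1 hk _).1 hy
          have hpg : IsPGroup s (X.subgroupOf M) := by
            intro y
            refine ⟨1, Subtype.ext (Subtype.ext ?_)⟩
            rw [pow_one]
            exact hE.exp _ y.2
          have h3 : X.subgroupOf M ≤ pCore s M := by
            rw [Cfsg.Agent.Lib.Cores.pCore_def]
            exact le_sSup ⟨hn, hpg⟩
          rw [hMp, le_bot_iff, Subgroup.subgroupOf_eq_bot, disjoint_iff, inf_eq_left.2 hXle] at h3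
          exact h3
        have hs0 : (s : K) ≠ 0 := by
          rw [Ne, CharP.cast_eq_zero_iff K p]
          intro h
          exact hsp ((Nat.prime_dvd_prime_iff_eq (Fact.out) hs).1 h).symm
        obtain ⟨a, -, b, -, e⟩ := Cfsg.Agent.H957.EP.two_gen_three m (by simp) hs hs0 hE
        exact ⟨a, b, e⟩
      · exact h
    obtain ⟨a, b, e⟩ := key
    exact ⟨(a, b), by rw [← hXM, e]⟩
  refine (Set.ncard_le_ncard h1 (Set.toFinite _)).trans ?_
  rw [← Set.image_univ]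
  refine (Set.ncard_image_le (Set.toFinite _)).trans ?_
  rw [Set.ncard_univ, Nat.card_prod, pow_two]

/-- **`|LocK L| ≤ 2 |L| ^ 2`** in degree three -/
theorem ncard_locK_three (hg : ∀ (X : Type) [Group X] [Finite X] [IsSimpleGroup X], ∃ x y : X,
      closure ({x, y} : Set X) = ⊤) {L : Type*} [Group L] [Finite L] {K : Type*} [Field K] [Finite K] {p : ℕ}
    [Fact p.Prime] [CharP K p] {S : Subgroup (GL (Fin 3) K)} (m : Model L S) (hL : KFacts.RgdFilt.HasFilt p L) :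
    (LocK L).ncard ≤ 2 * Nat.card L ^ 2 := by
  have h1 : LocK L = {M ∈ LocK L | pCore p M ≠ ⊥} ∪ {M ∈ LocK L | pCore p M = ⊥} := by
    ext M
    constructor
    · intro h
      by_cases h2 : pCore p M = ⊥
      · exact Or.inr ⟨h, h2⟩
      · exact Or.inl ⟨h, h2⟩
    · rintro (h | h) <;> exact h.1
  rw [h1]
  refine (Set.ncard_union_le _ _).trans ?_
  rw [two_mul]
  exact Nat.add_le_add (ncard_p_le hL) (ncard_core_one_le hg m)

end Cfsg.Agent.H396.EP
end

-- part: H835/EP/RowSU6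
section
/-!
# S3499, row S5803: `U_6(q)`, residual class (helper835, task 5971)

`row_of`: from the list S5803 (`R5803`), the bounds `A.index ≤ …` for the socles `L_2(11)`, `A_7`, `L_3(4)`, `U_4(3)`,
and the three special cases `M_22 < U_6(2)`, `U_4(3) < U_6(2)`, `U_3(q) < U_6(q)`.
-/

set_option autoImplicit false

namespace Cfsg.Agent.H835.EP

open Subgroup Cfsg.Agent.H284 Cfsg.Agent.H419.EP
open scoped MatrixGroups

section

variable {Q Q' : Type*} [Group Q] [Group Q'] {ι : Type} [Fintype ι] [DecidableEq ι] {F : Type*} [Field F]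
  {S : Subgroup (GL ι F)}

/-- Two groups with a model on the same `S` are isomorphic. -/
theorem equiv_of_models (m : Model Q S) (m' : Model Q' S) : Nonempty (Q ≃* Q') := by
  have hk : m.π.ker = m'.π.ker := by
    ext s
    rw [MonoidHom.mem_ker, MonoidHom.mem_ker, m.ker, m'.ker]
  exact ⟨(QuotientGroup.quotientKerEquivOfSurjective m.π m.surj).symm.trans
    ((QuotientGroup.quotientMulEquivOfEq hk).trans (QuotientGroup.quotientKerEquivOfSurjective m'.π m'.surj))⟩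

end

section

variable {F : Type} [Field F] [Fintype F] {q : ℕ}

/-- order formula -/
theorem card_six (hF : Fintype.card F = q ^ 2) {Q : Type} [Group Q]
    (m : Model Q (Cfsg.GU 6 F q ⊓ Cfsg.Geo.specialLinear (Fin 6) F)) :
    Nat.gcd 6 (q + 1) * Nat.card Q =
      q ^ 15 * ((q ^ 2 - 1) * (q ^ 3 + 1) * (q ^ 4 - 1) * (q ^ 5 + 1) * (q ^ 6 - 1)) := by
  obtain ⟨m'⟩ := Cfsg.Agent.H117.EP.model_PSU (n := 6) hF (by norm_num)
  obtain ⟨e⟩ := equiv_of_models m m'
  have h := S0280.result hF 6 (by norm_num)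
  rw [← Nat.card_congr e.toEquiv] at h
  simp only [Finset.prod_range_succ, Finset.prod_range_zero, one_mul, Nat.even_iff] at h
  norm_num only [_root_.pow_one, _root_.ite_true, _root_.ite_false] at h
  apply Nat.eq_of_mul_eq_mul_left (show 0 < q + 1 by omega)
  calc (q + 1) * (Nat.gcd 6 (q + 1) * Nat.card Q) = Nat.gcd 6 (q + 1) * ((q + 1) * Nat.card Q) := by ring
    _ = _ := h
    _ = _ := by ring

theorem card_six_two (hF : Fintype.card F = 2 ^ 2) {Q : Type} [Group Q]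
    (m : Model Q (Cfsg.GU 6 F 2 ⊓ Cfsg.Geo.specialLinear (Fin 6) F)) : Nat.card Q = 9196830720 := by
  have h := card_six hF m
  norm_num at h
  omega

theorem card_six_le (hF : Fintype.card F = q ^ 2) (hq : 5 ≤ q) {Q : Type} [Group Q]
    (m : Model Q (Cfsg.GU 6 F q ⊓ Cfsg.Geo.specialLinear (Fin 6) F)) :
    2812533121125000000000000 ≤ 6 * Nat.card Q := by
  have h := card_six hF m
  have h1 : Nat.gcd 6 (q + 1) ≤ 6 := Nat.gcd_le_left _ (by norm_num)
  have hp : ∀ k : ℕ, 5 ^ k ≤ q ^ k := fun k => Nat.pow_le_pow_left hq k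
  have h2 : 5 ^ 15 * ((5 ^ 2 - 1) * (5 ^ 3 + 1) * (5 ^ 4 - 1) * (5 ^ 5 + 1) * (5 ^ 6 - 1)) ≤
      q ^ 15 * ((q ^ 2 - 1) * (q ^ 3 + 1) * (q ^ 4 - 1) * (q ^ 5 + 1) * (q ^ 6 - 1)) := by
    refine Nat.mul_le_mul (hp _) (Nat.mul_le_mul (Nat.mul_le_mul (Nat.mul_le_mul (Nat.mul_le_mul ?_ ?_) ?_) ?_) ?_)
    · exact Nat.sub_le_sub_right (hp _) _
    · exact Nat.add_le_add_right (hp _) _
    · exact Nat.sub_le_sub_right (hp _) _
    · exact Nat.add_le_add_right (hp _) _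
    · exact Nat.sub_le_sub_right (hp _) _
  rw [← h] at h2
  refine le_trans ?_ (h2.trans (Nat.mul_le_mul_right _ h1))
  norm_num

theorem aut_u43 {K : Type} [Field K] [Fintype K] (hK : Fintype.card K = 9) :
    Nat.card (MulAut (Cfsg.PSU 4 K 3)) = 26127360 := by
  have h3 : Fact (Nat.Prime 3) := ⟨Nat.prime_three⟩
  have hK' : Fintype.card K = 3 ^ 2 := by rw [hK]; norm_num
  have h := S0815.result 3 1 le_rfl (by norm_num) hK' 4 (by norm_num) (by norm_num)
  have h1 := S0280.result hK' 4 (by norm_num)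
  simp only [Finset.prod_range_succ, Nat.even_iff, _root_.Nat.reduceAdd, _root_.Nat.gcd_self, _root_.Nat.add_one_sub_one, _root_.Nat.reduceMul, _root_.Nat.reduceDiv, _root_.Nat.reducePow, _root_.Nat.even_iff, _root_.Finset.prod_range_succ, _root_.Finset.range_one, _root_.Finset.prod_singleton, _root_.Nat.zero_mod, ↓ _root_.reduceIte, _root_.zero_add, _root_.pow_one, _root_.Nat.mod_succ, _root_.one_ne_zero, _root_.Nat.mod_self, _root_.Nat.reduceMod] at h1
  have h2 : Nat.card (Cfsg.PSU 4 K 3) = 3265920 := by omega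
  rw [h, h2]
  norm_num

theorem aut_l34 {K : Type} [Field K] [Fintype K] (hK : Fintype.card K = 4) :
    Nat.card (MulAut (Matrix.ProjectiveSpecialLinearGroup (Fin 3) K)) ≤ 725760 := by
  have h2 : Fact (Nat.Prime 2) := ⟨Nat.prime_two⟩
  have h1 := S0813.result (F := K) 2 2 (by norm_num) (by rw [hK]; norm_num) 3 (by norm_num) (by norm_num)
  rw [h1]
  have h3 : Nat.card (Matrix.ProjGenLinGroup (Fin 3) K) ∣ 181440 := by
    have h4 : Nat.card (Matrix.ProjGenLinGroup (Fin 3) K) ∣ Nat.card (GL (Fin 3) K) := Subgroup.card_quotient_dvd_card _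
    refine h4.trans ?_
    rw [Matrix.card_GL_field, hK, Fin.prod_univ_three]
    norm_num
  rw [if_neg (by norm_num)]
  have h4 := Nat.le_of_dvd (by norm_num) h3
  omega

theorem aut_a7 : Nat.card (MulAut (alternatingGroup (Fin 7))) ≤ 5040 :=
  Nat.le_of_dvd (by norm_num) H900.SU4.card_mulAut_alt_seven

theorem index_ge {Q : Type} [Group Q] [Finite Q] {A : Subgroup Q} {L : Type*} [Group L] [Finite L] (h : HasSoc A L)
    {c : ℕ} (hc : Nat.card (MulAut L) ≤ c) {B : ℕ} (hB : A.index ≤ B) {N : ℕ} (hN : N ≤ 6 * Nat.card Q)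
    (hlt : 6 * (c * B) < N) : False := by
  have h1 : Nat.card Q = Nat.card A * A.index := (Subgroup.card_mul_index A).symm
  have h2 : Nat.card Q ≤ c * B := by
    rw [h1]
    exact Nat.mul_le_mul (h.card_le.trans hc) hB
  omega

end

/-- `A` has no abelian normal subgroup `≠ 1` -/
abbrev NoAb {Q : Type} [Group Q] (A : Subgroup Q) : Prop :=
  ∀ K : Subgroup Q, K ≤ A → (∀ a ∈ A, ∀ k ∈ K, a * k * a⁻¹ ∈ K) → (∀ a ∈ K, ∀ b ∈ K, a * b = b * a) → K = ⊥

theorem noAb_of_core {Q : Type} [Group Q] {A : Subgroup Q} {ι : Type} [Fintype ι] [DecidableEq ι] {F : Type} [Field F]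
    {S : Subgroup (GL ι F)} (m : Model Q S) {P : Subgroup (GL ι F)} (hP : Cfsg.Geo.IsResidualCore (m.hat A) P) :
    NoAb A := fun _ hK hKn hKab =>
  (hasSoc_of_core m hP).no_abelian hP.simple (fun h => hP.nonabelian ⟨⟨h⟩⟩) hK hKn hKab

/-- **Row S5803.** -/
theorem row_of
    (hL211 : ∀ {Q : Type} [Group Q] [Finite Q], IsSimpleGroup Q → ∀ {A : Subgroup Q} {Γ : Subgroup (MulAut Q)},
      EPT A Γ → NoAb A → HasSoc A (Matrix.ProjectiveSpecialLinearGroup (Fin 2) (ZMod 11)) → A.index ≤ 10 ^ 20)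
    (hA7 : ∀ {Q : Type} [Group Q] [Finite Q], IsSimpleGroup Q → ∀ {A : Subgroup Q} {Γ : Subgroup (MulAut Q)},
      EPT A Γ → NoAb A → HasSoc A (alternatingGroup (Fin 7)) → A.index ≤ 9 * 10 ^ 19)
    (hL34 : ∀ {Q : Type} [Group Q] [Finite Q], IsSimpleGroup Q → ∀ {A : Subgroup Q} {Γ : Subgroup (MulAut Q)},
      EPT A Γ → NoAb A → ∀ {K : Type} [Field K] [Fintype K], Fintype.card K = 4 →
      HasSoc A (Matrix.ProjectiveSpecialLinearGroup (Fin 3) K) → A.index ≤ 6 * 10 ^ 17)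
    (hU43 : ∀ {Q : Type} [Group Q] [Finite Q], IsSimpleGroup Q → ∀ {A : Subgroup Q} {Γ : Subgroup (MulAut Q)},
      EPT A Γ → ∀ {K : Type} [Field K] [Fintype K], Fintype.card K = 9 →
      HasSoc A (Cfsg.PSU 4 K 3) → A.index ≤ 174 * 10 ^ 14)
    (hU43' : ∀ {Q : Type} [Group Q] [Finite Q], IsSimpleGroup Q → ∀ {A : Subgroup Q} {Γ : Subgroup (MulAut Q)},
      EPT A Γ → ∀ {F : Type} [Field F] [Fintype F], Fintype.card F = 2 ^ 2 →
      Model Q (Cfsg.GU 6 F 2 ⊓ Cfsg.Geo.specialLinear (Fin 6) F) → Nat.card Q = 9196830720 →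
      ∀ {K : Type} [Field K] [Fintype K], Fintype.card K = 9 → HasSoc A (Cfsg.PSU 4 K 3) → False)
    (hM22 : ∀ {Q : Type} [Group Q] [Finite Q], IsSimpleGroup Q → ∀ {A : Subgroup Q} {Γ : Subgroup (MulAut Q)},
      EPT A Γ → ∀ {F : Type} [Field F] [Fintype F], Fintype.card F = 2 ^ 2 →
      Model Q (Cfsg.GU 6 F 2 ⊓ Cfsg.Geo.specialLinear (Fin 6) F) → Nat.card Q = 9196830720 →
      HasSoc A ↥Cfsg.Spor.M22 → False)
    (hown : ∀ {Q : Type} [Group Q] [Finite Q], IsSimpleGroup Q → ∀ {A : Subgroup Q} {Γ : Subgroup (MulAut Q)},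
      EPT A Γ → ∀ {F : Type} [Field F] [Fintype F] {q : ℕ}, Fintype.card F = q ^ 2 → Odd q →
      Model Q (Cfsg.GU 6 F q ⊓ Cfsg.Geo.specialLinear (Fin 6) F) → HasSoc A (Cfsg.PSU 3 F q) → False)
    {F : Type} [Field F] [Fintype F] {q : ℕ} (hR : H680.Cov.SU6.R5803 F q)
    {Q : Type} [Group Q] [Finite Q] (hs : IsSimpleGroup Q) {A : Subgroup Q} {Γ : Subgroup (MulAut Q)} (h : EPT A Γ)
    (m : Model Q (Cfsg.GU 6 F q ⊓ Cfsg.Geo.specialLinear (Fin 6) F)) (hF : Fintype.card F = q ^ 2)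
    (hres : Cfsg.Geo.InUnitaryResidualClass (m.hat A)) : False := by
  obtain ⟨P, hP, hcase⟩ := hR _ (m.isMaximalIn h.max) hres
  have hsoc := hasSoc_of_core m hP
  have hab := noAb_of_core m hP
  rcases hcase with ⟨⟨e⟩, hqp, hq2, hq⟩ | ⟨⟨e⟩, hqp, hq⟩ | ⟨⟨K, _, _, hK, ⟨e⟩⟩, hqp, hq⟩ | ⟨⟨e⟩, rfl⟩ |
    ⟨⟨K, _, _, hK, ⟨e⟩⟩, rfl | ⟨hqp, hq⟩⟩ | ⟨⟨e⟩, hq⟩
  · have hq5 : 5 ≤ q := by
      have := hqp.two_le
      omega
    exact index_ge (hsoc.congr e) (H852.NCPsl11.card_aut.le) (hL211 hs h hab (hsoc.congr e)) (card_six_le hF hq5 m)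
      (by norm_num)
  · exact index_ge (hsoc.congr e) aut_a7 (hA7 hs h hab (hsoc.congr e)) (card_six_le hF (by omega) m) (by norm_num)
  · have hf : Finite (Matrix.ProjectiveSpecialLinearGroup (Fin 3) K) := inferInstance
    exact index_ge (hsoc.congr e) (aut_l34 hK) (hL34 hs h hab hK (hsoc.congr e)) (card_six_le hF (by omega) m)
      (by norm_num)
  · exact hM22 hs h hF m (card_six_two hF m) (hsoc.congr e)
  · exact hU43' hs h hF m (card_six_two hF m) hK (hsoc.congr e)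
  · exact index_ge (hsoc.congr e) (aut_u43 hK).le (hU43 hs h hK (hsoc.congr e)) (card_six_le hF (by omega) m)
      (by norm_num)
  · exact hown hs h hF hq m (hsoc.congr e)

end Cfsg.Agent.H835.EP
end

-- part: H396/EP/OwnSix
section
/-!
# S3499, own characteristic: `L₃(q) < L₆(q)` and `U₃(q) < U₆(q)`, `q` odd (helper396, task 6152)

The numbers: a contradiction from `r ≤ 2 |L| ^ 2`, `r` the number of two-point stabilisers.
-/

set_option autoImplicit false

namespace Cfsg.Agent.H396.EP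

open Subgroup Cfsg.Agent.H284 Cfsg.Agent.H419.EP Cfsg.Agent.H59.EP
open scoped MatrixGroups

/-- the numbers -/
theorem num {q f a l g3 g6 P K n : ℕ} (hq : 3 ≤ q) (hf : f ^ 2 ≤ q) (ha : a ≤ 2 * f * P)
    (hl : g3 * l = P) (h36 : g6 ≤ 2 * g3) (h6 : g6 ≤ 6) (hP : P ≤ q ^ 8) (hP0 : 0 < P) (hg3 : 0 < g3)
    (hK : q ^ 12 * ((q ^ 4 - 1) * (q ^ 5 - 1) * (q ^ 6 - 1)) ≤ K) (hn : g6 * n = P * K)
    (hi : n ≤ a * (1 + 2 * l ^ 2 * (2 * (a / 6)))) : False := by
  have h1 : 3 * n ≤ 3 * a + 2 * l ^ 2 * a ^ 2 := by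
    have h2 : 6 * (a / 6) ≤ a := Nat.mul_div_le a 6
    calc 3 * n ≤ 3 * (a * (1 + 2 * l ^ 2 * (2 * (a / 6)))) := Nat.mul_le_mul_left _ hi
      _ = 3 * a + 2 * l ^ 2 * a * (6 * (a / 6)) := by ring
      _ ≤ 3 * a + 2 * l ^ 2 * a * a := Nat.add_le_add_left (Nat.mul_le_mul_left _ h2) _
      _ = _ := by ring
  have h2 : g6 * l ^ 2 ≤ 2 * P ^ 2 := by
    calc g6 * l ^ 2 ≤ (2 * g3) * l ^ 2 := Nat.mul_le_mul_right _ h36
      _ ≤ (2 * g3) * l ^ 2 * g3 := Nat.le_mul_of_pos_right _ hg3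
      _ = 2 * (g3 * l) ^ 2 := by ring
      _ = _ := by rw [hl]
  have h3 : 3 * K ≤ 36 * f + 16 * f ^ 2 * P ^ 3 := by
    have h4 : P * (3 * K) ≤ P * (36 * f + 16 * f ^ 2 * P ^ 3) := by
      calc P * (3 * K) = g6 * (3 * n) := by
            have : P * (3 * K) = 3 * (P * K) := by ring
            rw [this, ← hn]; ring
        _ ≤ g6 * (3 * a + 2 * l ^ 2 * a ^ 2) := Nat.mul_le_mul_left _ h1
        _ = 3 * (g6 * a) + 2 * (g6 * l ^ 2) * a ^ 2 := by ring
        _ ≤ 3 * (6 * (2 * f * P)) + 2 * (2 * P ^ 2) * (2 * f * P) ^ 2 := by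
            refine Nat.add_le_add (Nat.mul_le_mul_left _ (Nat.mul_le_mul h6 ha))
              (Nat.mul_le_mul (Nat.mul_le_mul_left _ h2) ?_)
            exact Nat.pow_le_pow_left ha 2
        _ = P * (36 * f + 16 * f ^ 2 * P ^ 3) := by ring
    exact Nat.le_of_mul_le_mul_left h4 hP0
  -- the lower bound
  have e4 : 80 * q ^ 4 ≤ 81 * (q ^ 4 - 1) := by
    have : 3 ^ 4 ≤ q ^ 4 := Nat.pow_le_pow_left hq 4
    norm_num at this
    omega
  have e5 : 242 * q ^ 5 ≤ 243 * (q ^ 5 - 1) := by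
    have : 3 ^ 5 ≤ q ^ 5 := Nat.pow_le_pow_left hq 5
    norm_num at this
    omega
  have e6 : 728 * q ^ 6 ≤ 729 * (q ^ 6 - 1) := by
    have : 3 ^ 6 ≤ q ^ 6 := Nat.pow_le_pow_left hq 6
    norm_num at this
    omega
  have h5 : (80 * 242 * 728) * q ^ 27 ≤ (81 * 243 * 729) * K := by
    calc (80 * 242 * 728) * q ^ 27 = q ^ 12 * ((80 * q ^ 4) * (242 * q ^ 5) * (728 * q ^ 6)) := by ring
      _ ≤ q ^ 12 * ((81 * (q ^ 4 - 1)) * (243 * (q ^ 5 - 1)) * (729 * (q ^ 6 - 1))) :=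
          Nat.mul_le_mul_left _ (Nat.mul_le_mul (Nat.mul_le_mul e4 e5) e6)
      _ = (81 * 243 * 729) * (q ^ 12 * ((q ^ 4 - 1) * (q ^ 5 - 1) * (q ^ 6 - 1))) := by ring
      _ ≤ _ := Nat.mul_le_mul_left _ hK
  have h6' : 9 * q ^ 25 ≤ q ^ 27 := by
    calc 9 * q ^ 25 = 3 ^ 2 * q ^ 25 := by norm_num
      _ ≤ q ^ 2 * q ^ 25 := Nat.mul_le_mul_right _ (Nat.pow_le_pow_left hq 2)
      _ = _ := by ring
  have h7 : 16 * f ^ 2 * P ^ 3 ≤ 16 * q ^ 25 := by
    calc 16 * f ^ 2 * P ^ 3 ≤ 16 * q * (q ^ 8) ^ 3 :=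
          Nat.mul_le_mul (Nat.mul_le_mul_left _ hf) (Nat.pow_le_pow_left hP 3)
      _ = _ := by ring
  have h8 : 36 * f ≤ q ^ 25 := by
    have h9 : f ≤ q := by nlinarith only [hf]
    have h10 : 3 ^ 24 ≤ q ^ 24 := Nat.pow_le_pow_left hq 24
    have h11 : q ^ 25 = q ^ 24 * q := by ring
    rw [h11]
    norm_num at h10
    nlinarith only [h9, h10]
  have h12 : 0 < q ^ 25 := by positivity
  norm_num at h5
  omega

/-- `f ^ 2 ≤ p ^ f`, `p ≥ 3` -/
theorem sq_le {p f : ℕ} (hp : 3 ≤ p) : f ^ 2 ≤ p ^ f := by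
  refine le_trans ?_ (Nat.pow_le_pow_left hp f)
  induction f with
  | zero => norm_num
  | succ f ih =>
    have e : 3 ^ (f + 1) = 3 ^ f * 3 := pow_succ 3 f
    rw [e]
    rcases Nat.lt_or_ge f 2 with h | h
    · interval_cases f <;> norm_num
    · nlinarith only [ih, h]

theorem exists_prime_pow {q : ℕ} (hq : IsPrimePow q) (hodd : Odd q) :
    ∃ p f : ℕ, p.Prime ∧ 1 ≤ f ∧ q = p ^ f ∧ f ^ 2 ≤ q ∧ 3 ≤ q := by
  obtain ⟨p, f, hp, hf, rfl⟩ := (isPrimePow_nat_iff q).1 hq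
  have hp3 : 3 ≤ p := by
    have h2 := hp.two_le
    rcases Nat.lt_or_ge 2 p with h | h
    · exact h
    · have : p = 2 := by omega
      rw [this] at hodd
      exact absurd hodd (Nat.not_odd_iff_even.2 ((Nat.even_pow.2 ⟨even_two, hf.ne'⟩)))
  refine ⟨p, f, hp, hf, rfl, sq_le hp3, ?_⟩
  calc 3 ≤ p := hp3
    _ = p ^ 1 := (pow_one p).symm
    _ ≤ p ^ f := Nat.pow_le_pow_right (by omega) hf

theorem ncomm_of_not_prime {S : Type*} [Group S] [Finite S] (hS : IsSimpleGroup S) (h : ¬ (Nat.card S).Prime) :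
    ¬ ∀ a b : S, a * b = b * a := by
  intro hc
  apply h
  let _ : CommGroup S := { (inferInstance : Group S) with mul_comm := hc }
  exact IsSimpleGroup.prime_card

/-- `index ≤ ...` from `r ≤ 2 |L| ^ 2` -/
theorem card_le_of_r {Q : Type} [Group Q] [Finite Q] (hs : IsSimpleGroup Q) {A : Subgroup Q} {Γ : Subgroup (MulAut Q)}
    (h : EPT A Γ) {L : Type*} [Group L] [Finite L] (hS : HasSoc A L) (hL : IsSimpleGroup L)
    (hp : ¬ (Nat.card L).Prime)
    (hr : {M : Subgroup Q | ∃ x, x ∉ A ∧ M = A ⊓ cj x A}.ncard ≤ 2 * Nat.card L ^ 2) :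
    Nat.card Q ≤ Nat.card A * (1 + 2 * Nat.card L ^ 2 * (2 * (Nat.card A / 6))) := by
  have hab : ∀ K : Subgroup Q, K ≤ A → (∀ a ∈ A, ∀ k ∈ K, a * k * a⁻¹ ∈ K) → (∀ a ∈ K, ∀ b ∈ K, a * b = b * a) →
      K = ⊥ := fun K hK hn hc => HasSoc.no_abelian hS hL (ncomm_of_not_prime hL hp) hK hn hc
  have h1 := Cfsg.Agent.H173.EP.ub1 hs h (by norm_num) (fun _ hx => EPT.six_le h hab hx)
  rw [← A.card_mul_index]
  refine Nat.mul_le_mul_left _ (h1.trans (Nat.add_le_add_left ?_ _))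
  exact Nat.mul_le_mul_right _ hr

/-- `gcd 6 m ≤ 2 gcd 3 m` -/
theorem gcd_le (m : ℕ) : Nat.gcd 6 m ≤ 2 * Nat.gcd 3 m := by
  have h := Nat.Coprime.gcd_mul m (show Nat.Coprime 2 3 by norm_num)
  rw [Nat.gcd_comm 6, show (6 : ℕ) = 2 * 3 by norm_num, h, Nat.gcd_comm m 3]
  exact Nat.mul_le_mul_right _ (Nat.gcd_le_right _ (by norm_num))

theorem coprime_of {q g : ℕ} (hq : 3 ≤ q) (hg : g ∣ q - 1 ∨ g ∣ q + 1) : Nat.Coprime q g := by
  rcases hg with hg | hg
  · refine Nat.Coprime.coprime_dvd_right hg ?_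
    obtain ⟨t, rfl⟩ : ∃ t, q = t + 1 := ⟨q - 1, by omega⟩
    simp
  · refine Nat.Coprime.coprime_dvd_right hg ?_
    simp

theorem not_prime_of {q g l X : ℕ} (hq : 3 ≤ q) (hg : g ∣ q - 1 ∨ g ∣ q + 1) (hg3 : g ≤ 3) (hX : 0 < X)
    (h : g * l = q ^ 3 * X) : ¬ l.Prime := by
  intro hl
  have h1 : q ∣ l := by
    refine (coprime_of hq hg).dvd_of_dvd_mul_left ?_
    rw [h]
    exact (dvd_pow_self q (by norm_num)).mul_right _
  rcases (Nat.dvd_prime hl).1 h1 with h2 | h2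
  · omega
  · rw [← h2] at h
    have h3 : q * (q ^ 2 * X) ≤ q * 3 := by
      calc q * (q ^ 2 * X) = g * q := by rw [h]; ring
        _ ≤ 3 * q := Nat.mul_le_mul_right _ hg3
        _ = _ := by ring
    have h4 := Nat.le_of_mul_le_mul_left h3 (by omega)
    have h5 : 9 ≤ q ^ 2 := by nlinarith only [hq]
    nlinarith only [hX, h4, h5]

/-- **`L₃(q) < L₆(q)`**, `q` odd. -/
theorem l3_six {Q : Type} [Group Q] [Finite Q] (hs : IsSimpleGroup Q) {A : Subgroup Q} {Γ : Subgroup (MulAut Q)}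
    (h : EPT A Γ) {F : Type} [Field F] [Fintype F] (m : Model Q (Cfsg.Geo.specialLinear (Fin 6) F))
    (hodd : Odd (Fintype.card F)) (hS : HasSoc A (Matrix.ProjectiveSpecialLinearGroup (Fin 3) F))
    (hr : {M : Subgroup Q | ∃ x, x ∉ A ∧ M = A ⊓ cj x A}.ncard ≤
      2 * Nat.card (Matrix.ProjectiveSpecialLinearGroup (Fin 3) F) ^ 2) : False := by
  obtain ⟨p, f, hp, hf, hq, hf2, hq3⟩ := exists_prime_pow (FiniteField.isPrimePow_card F) hodd
  have : Fact p.Prime := ⟨hp⟩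
  set q := Fintype.card F with hqd
  -- |Aut L|
  have h1 := S0813.result (F := F) p f hf (hqd.symm.trans hq) 3 (by norm_num) (by norm_num)
  have h2 := S0265.result (F := F) 3
  have h3 := S0242.result (F := F) hqd.symm 3 (by norm_num)
  have h4 := S0243.result (F := F) hqd.symm 3 (by norm_num)
  have h5 := S0243.result (F := F) hqd.symm 6 (by norm_num)
  rw [if_neg (by norm_num)] at h1
  rw [Fin.prod_univ_three] at h3 h4
  rw [Fin.prod_univ_six] at h5
  simp only [Fin.val_zero, Fin.val_one, Fin.val_two] at h3 h4 h5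
  rw [show ((3 : Fin 6) : ℕ) = 3 from rfl, show ((4 : Fin 6) : ℕ) = 4 from rfl,
    show ((5 : Fin 6) : ℕ) = 5 from rfl] at h5
  obtain ⟨m'⟩ := Cfsg.Agent.H117.EP.model_PSL (F := F) (n := 6) (by norm_num)
  rw [← H957.EP.model_card m m'] at h5
  have hLs : IsSimpleGroup (Matrix.ProjectiveSpecialLinearGroup (Fin 3) F) := S0249.result 3 (by norm_num)
  have hA := HasSoc.card_le hS
  rw [h1] at hA
  have key := fun hp => card_le_of_r hs h hS hLs hp hr
  clear h1 hr hS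
  generalize Nat.card (Matrix.ProjectiveSpecialLinearGroup (Fin 3) F) = l at *
  generalize Nat.card (Matrix.SpecialLinearGroup (Fin 3) F) = P at *
  generalize Nat.card (Matrix.ProjGenLinGroup (Fin 3) F) = P' at *
  generalize Nat.card Q = n at *
  generalize Nat.card A = a at *
  subst h2
  clear_value q
  have hq0 : 0 < q - 1 := by omega
  have e0 : q ^ 3 - q ^ 0 = q ^ 3 - 1 := by rw [pow_zero]
  have e1 : q ^ 3 - q ^ 1 = q * (q ^ 2 - 1) := by rw [Nat.mul_sub]; ring_nf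
  have e2 : q ^ 3 - q ^ 2 = q ^ 2 * (q - 1) := by rw [Nat.mul_sub]; ring_nf
  have e3 : q ^ 6 - q ^ 0 = q ^ 6 - 1 := by rw [pow_zero]
  have e4 : q ^ 6 - q ^ 1 = q * (q ^ 5 - 1) := by rw [Nat.mul_sub]; ring_nf
  have e5 : q ^ 6 - q ^ 2 = q ^ 2 * (q ^ 4 - 1) := by rw [Nat.mul_sub]; ring_nf
  have e6 : q ^ 6 - q ^ 3 = q ^ 3 * (q ^ 3 - 1) := by rw [Nat.mul_sub]; ring_nf
  have e7 : q ^ 6 - q ^ 4 = q ^ 4 * (q ^ 2 - 1) := by rw [Nat.mul_sub]; ring_nf
  have e8 : q ^ 6 - q ^ 5 = q ^ 5 * (q - 1) := by rw [Nat.mul_sub]; ring_nf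
  rw [e0, e1, e2] at h3 h4
  rw [e3, e4, e5, e6, e7, e8] at h5
  have hP : P' = q ^ 3 * ((q ^ 2 - 1) * (q ^ 3 - 1)) := by
    apply Nat.eq_of_mul_eq_mul_left hq0
    rw [h3]; ring
  have hl : Nat.gcd 3 (q - 1) * l = P' := by
    apply Nat.eq_of_mul_eq_mul_left hq0
    rw [h3, ← h4]; ring
  have hn : Nat.gcd 6 (q - 1) * n = P' * (q ^ 12 * ((q ^ 4 - 1) * (q ^ 5 - 1) * (q ^ 6 - 1))) := by
    apply Nat.eq_of_mul_eq_mul_left hq0
    calc (q - 1) * (Nat.gcd 6 (q - 1) * n) = Nat.gcd 6 (q - 1) * ((q - 1) * n) := by ring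
      _ = _ := by rw [h5, hP]; ring
  have hq2 : 0 < q ^ 2 - 1 := Nat.sub_pos_of_lt (Nat.one_lt_pow (by norm_num) (by omega))
  have hq3' : 0 < q ^ 3 - 1 := Nat.sub_pos_of_lt (Nat.one_lt_pow (by norm_num) (by omega))
  have hP8 : P' ≤ q ^ 8 := by
    rw [hP]
    calc q ^ 3 * ((q ^ 2 - 1) * (q ^ 3 - 1)) ≤ q ^ 3 * (q ^ 2 * q ^ 3) :=
          Nat.mul_le_mul_left _ (Nat.mul_le_mul (Nat.sub_le _ _) (Nat.sub_le _ _))
      _ = _ := by ring
  have hP0 : 0 < P' := by
    rw [hP]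
    exact Nat.mul_pos (by positivity) (Nat.mul_pos hq2 hq3')
  have hkey := key (not_prime_of hq3 (Or.inl (Nat.gcd_dvd_right 3 (q - 1))) (Nat.gcd_le_left _ (by norm_num))
    (Nat.mul_pos hq2 hq3') (hl.trans hP))
  exact num hq3 hf2 hA hl (gcd_le _) (Nat.gcd_le_left _ (by norm_num)) hP8 hP0
    (Nat.gcd_pos_of_pos_left _ (by norm_num)) le_rfl hn hkey

/-- **`U₃(q) < U₆(q)`**, `q` odd. -/
theorem u3_six {Q : Type} [Group Q] [Finite Q] (hs : IsSimpleGroup Q) {A : Subgroup Q} {Γ : Subgroup (MulAut Q)}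
    (h : EPT A Γ) {F : Type} [Field F] [Fintype F] {q : ℕ} (hF : Fintype.card F = q ^ 2) (hodd : Odd q)
    (m : Model Q (Cfsg.GU 6 F q ⊓ Cfsg.Geo.specialLinear (Fin 6) F)) (hS : HasSoc A (Cfsg.PSU 3 F q))
    (hr : {M : Subgroup Q | ∃ x, x ∉ A ∧ M = A ⊓ cj x A}.ncard ≤ 2 * Nat.card (Cfsg.PSU 3 F q) ^ 2) : False := by
  have hqp : IsPrimePow q := by
    have h1 := FiniteField.isPrimePow_card F
    rw [hF] at h1
    exact (isPrimePow_pow_iff (by norm_num)).1 h1
  obtain ⟨p, f, hp, hf, hq, hf2, hq3⟩ := exists_prime_pow hqp hodd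
  have : Fact p.Prime := ⟨hp⟩
  have h1 := S0815.result p f hf hq hF 3 (by norm_num) (by omega)
  have h4 := S0280.result hF 3 (by norm_num)
  have h5 := Cfsg.Agent.H835.EP.card_six hF m
  simp only [Finset.prod_range_succ, Finset.prod_range_zero, one_mul, Nat.even_iff] at h4
  norm_num only [_root_.pow_one, _root_.ite_true, _root_.ite_false] at h4
  have hLs : IsSimpleGroup (Cfsg.PSU 3 F q) := S0283.result hF 3 (by norm_num) (by omega)
  have hA := HasSoc.card_le hS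
  rw [h1] at hA
  have key := fun hp => card_le_of_r hs h hS hLs hp hr
  clear h1 hr hS
  generalize Nat.card (Cfsg.PSU 3 F q) = l at *
  generalize Nat.card Q = n at *
  generalize Nat.card A = a at *
  have hq0 : 0 < q + 1 := by omega
  have hq2 : 0 < q ^ 2 - 1 := Nat.sub_pos_of_lt (Nat.one_lt_pow (by norm_num) (by omega))
  have hl : Nat.gcd 3 (q + 1) * l = q ^ 3 * ((q ^ 2 - 1) * (q ^ 3 + 1)) := by
    apply Nat.eq_of_mul_eq_mul_left hq0
    calc (q + 1) * (Nat.gcd 3 (q + 1) * l) = Nat.gcd 3 (q + 1) * ((q + 1) * l) := by ring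
      _ = _ := by rw [h4]; ring
  have hn : Nat.gcd 6 (q + 1) * n = (q ^ 3 * ((q ^ 2 - 1) * (q ^ 3 + 1))) *
      (q ^ 12 * ((q ^ 4 - 1) * (q ^ 5 + 1) * (q ^ 6 - 1))) := by rw [h5]; ring
  have hA' : a ≤ 2 * f * (q ^ 3 * ((q ^ 2 - 1) * (q ^ 3 + 1))) := by
    rw [← hl]
    refine hA.trans (le_of_eq (by ring))
  have hP8 : q ^ 3 * ((q ^ 2 - 1) * (q ^ 3 + 1)) ≤ q ^ 8 := by
    have h6 : (q ^ 2 - 1) * (q ^ 3 + 1) ≤ q ^ 5 := by
      obtain ⟨t, ht⟩ : ∃ t, q ^ 2 = t + 1 := ⟨q ^ 2 - 1, by omega⟩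
      have h7 : q ^ 5 = (t + 1) * q ^ 3 := by rw [← ht]; ring
      rw [h7, ht, Nat.add_sub_cancel]
      have h8 : t + 1 ≤ q ^ 3 := by
        rw [← ht]
        exact Nat.pow_le_pow_right (by omega) (by norm_num)
      linarith only [h8]
    calc q ^ 3 * ((q ^ 2 - 1) * (q ^ 3 + 1)) ≤ q ^ 3 * q ^ 5 := Nat.mul_le_mul_left _ h6
      _ = _ := by ring
  have hX : 0 < (q ^ 2 - 1) * (q ^ 3 + 1) := Nat.mul_pos hq2 (by omega)
  have hK : q ^ 12 * ((q ^ 4 - 1) * (q ^ 5 - 1) * (q ^ 6 - 1)) ≤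
      q ^ 12 * ((q ^ 4 - 1) * (q ^ 5 + 1) * (q ^ 6 - 1)) := by
    refine Nat.mul_le_mul_left _ (Nat.mul_le_mul_right _ (Nat.mul_le_mul_left _ ?_))
    omega
  have hkey := key (not_prime_of hq3 (Or.inr (Nat.gcd_dvd_right 3 (q + 1))) (Nat.gcd_le_left _ (by norm_num)) hX hl)
  exact num hq3 hf2 hA' hl (gcd_le _) (Nat.gcd_le_left _ (by norm_num)) hP8 (Nat.mul_pos (by positivity) hX)
    (Nat.gcd_pos_of_pos_left _ (by norm_num)) hK hn hkey

end Cfsg.Agent.H396.EP
end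

-- part: H396/EP/OwnThree
section
/-!
# S3499, own characteristic, socles `L₃(q)` and `U₃(q)` (helper396, task 6152)

* `r_psl3`, `r_psu3` : at most `2 |L| ^ 2` two-point stabilisers;
* `l3_six_own`, `u3_six_own` : `L₃(q) < L₆(q)` and `U₃(q) < U₆(q)` (`q` odd) do not occur.

`hg : TwoGen.{0}` is S3948 (`H59.EP.twoGen`).
-/

set_option autoImplicit false

namespace Cfsg.Agent.H396.EP

open Subgroup Cfsg.Agent.H284 Cfsg.Agent.H419.EP
open scoped MatrixGroups

theorem not_prime_of' {q g l X : ℕ} (hq : 2 ≤ q) (hg : g ∣ q - 1 ∨ g ∣ q + 1) (hg3 : g ≤ 3) (hX : 0 < X)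
    (h : g * l = q ^ 3 * X) : ¬ l.Prime := by
  intro hl
  have hco : Nat.Coprime q g := by
    rcases hg with hg | hg
    · refine Nat.Coprime.coprime_dvd_right hg ?_
      obtain ⟨t, rfl⟩ : ∃ t, q = t + 1 := ⟨q - 1, by omega⟩
      simp
    · refine Nat.Coprime.coprime_dvd_right hg ?_
      simp
  have h1 : q ∣ l := by
    refine hco.dvd_of_dvd_mul_left ?_
    rw [h]
    exact (dvd_pow_self q (by norm_num)).mul_right _
  rcases (Nat.dvd_prime hl).1 h1 with h2 | h2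
  · omega
  · rw [← h2] at h
    have h3 : q * (q ^ 2 * X) ≤ q * 3 := by
      calc q * (q ^ 2 * X) = g * q := by rw [h]; ring
        _ ≤ 3 * q := Nat.mul_le_mul_right _ hg3
        _ = _ := by ring
    have h4 := Nat.le_of_mul_le_mul_left h3 (by omega)
    have h5 : 4 ≤ q ^ 2 := by nlinarith only [hq]
    nlinarith only [hX, h4, h5]

theorem not_prime_psl3 {F : Type*} [Field F] [Finite F] :
    ¬ (Nat.card (Matrix.ProjectiveSpecialLinearGroup (Fin 3) F)).Prime := by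
  have := Fintype.ofFinite F
  have hq : 2 ≤ Fintype.card F := Fintype.one_lt_card
  have h4 := S0243.result (F := F) rfl 3 (by norm_num)
  rw [Fin.prod_univ_three] at h4
  simp only [Fin.val_zero, Fin.val_one, Fin.val_two] at h4
  generalize Nat.card (Matrix.ProjectiveSpecialLinearGroup (Fin 3) F) = l at *
  generalize Fintype.card F = q at *
  have e0 : q ^ 3 - q ^ 0 = q ^ 3 - 1 := by rw [pow_zero]
  have e1 : q ^ 3 - q ^ 1 = q * (q ^ 2 - 1) := by rw [Nat.mul_sub]; ring_nf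
  have e2 : q ^ 3 - q ^ 2 = q ^ 2 * (q - 1) := by rw [Nat.mul_sub]; ring_nf
  rw [e0, e1, e2] at h4
  have hq2 : 0 < q ^ 2 - 1 := Nat.sub_pos_of_lt (Nat.one_lt_pow (by norm_num) (by omega))
  have hq3' : 0 < q ^ 3 - 1 := Nat.sub_pos_of_lt (Nat.one_lt_pow (by norm_num) (by omega))
  refine not_prime_of' (X := (q ^ 2 - 1) * (q ^ 3 - 1)) hq (Or.inl (Nat.gcd_dvd_right 3 (q - 1)))
    (Nat.gcd_le_left _ (by norm_num)) (Nat.mul_pos hq2 hq3') ?_
  apply Nat.eq_of_mul_eq_mul_left (show 0 < q - 1 by omega)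
  calc (q - 1) * (Nat.gcd 3 (q - 1) * l) = Nat.gcd 3 (q - 1) * ((q - 1) * l) := by ring
    _ = _ := by rw [h4]; ring

theorem not_prime_psu3 {F : Type*} [Field F] [Fintype F] {q : ℕ} (hF : Fintype.card F = q ^ 2) :
    ¬ (Nat.card (Cfsg.PSU 3 F q)).Prime := by
  have hq : 2 ≤ q := by
    have h1 : 1 < Fintype.card F := Fintype.one_lt_card
    rw [hF] at h1
    by_contra h2
    have h3 : q = 0 ∨ q = 1 := by omega
    rcases h3 with rfl | rfl <;> norm_num at h1
  have h4 := S0280.result hF 3 (by norm_num)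
  simp only [Finset.prod_range_succ, Finset.prod_range_zero, one_mul, Nat.even_iff] at h4
  norm_num only [_root_.pow_one, _root_.ite_true, _root_.ite_false] at h4
  have hq2 : 0 < q ^ 2 - 1 := Nat.sub_pos_of_lt (Nat.one_lt_pow (by norm_num) (by omega))
  refine not_prime_of' (X := (q ^ 2 - 1) * (q ^ 3 + 1)) hq (Or.inr (Nat.gcd_dvd_right 3 (q + 1)))
    (Nat.gcd_le_left _ (by norm_num)) (Nat.mul_pos hq2 (by omega)) ?_
  apply Nat.eq_of_mul_eq_mul_left (show 0 < q + 1 by omega)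
  calc (q + 1) * (Nat.gcd 3 (q + 1) * Nat.card (Cfsg.PSU 3 F q)) =
      Nat.gcd 3 (q + 1) * ((q + 1) * Nat.card (Cfsg.PSU 3 F q)) := by ring
    _ = _ := by rw [h4]; ring

/-- the number of two-point stabilisers, socle `L₃(q)` -/
theorem r_psl3 (hg : Cfsg.Agent.H59.EP.TwoGen.{0}) {Q : Type*} [Group Q] [Finite Q] {A : Subgroup Q} {Γ : Subgroup (MulAut Q)} (h : EPT A Γ) {F : Type*}
    [Field F] [Finite F] (hS : HasSoc A (Matrix.ProjectiveSpecialLinearGroup (Fin 3) F)) :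
    {M : Subgroup Q | ∃ x, x ∉ A ∧ M = A ⊓ cj x A}.ncard ≤
      2 * Nat.card (Matrix.ProjectiveSpecialLinearGroup (Fin 3) F) ^ 2 := by
  obtain ⟨p, hp⟩ := CharP.exists F
  have hprime : Fact p.Prime := ⟨CharP.char_is_prime F p⟩
  obtain ⟨m⟩ := Cfsg.Agent.H117.EP.model_PSL (F := F) (n := 3) (by norm_num)
  have hL : IsSimpleGroup (Matrix.ProjectiveSpecialLinearGroup (Fin 3) F) := S0249.result 3 le_rfl
  exact (Cfsg.Agent.H957.EP.ncard_le_locK_hasSoc h hS hL (ncomm_of_not_prime hL not_prime_psl3)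
    (Cfsg.Agent.H936.ds_psl (by norm_num))).trans (ncard_locK_three hg m (KFacts.RgdFiltClass.hasFilt_PSL 2))

/-- the number of two-point stabilisers, socle `U₃(q)` -/
theorem r_psu3 (hg : Cfsg.Agent.H59.EP.TwoGen.{0}) {Q : Type*} [Group Q] [Finite Q] {A : Subgroup Q} {Γ : Subgroup (MulAut Q)} (h : EPT A Γ) {F : Type*}
    [Field F] [Fintype F] {q : ℕ} (hF : Fintype.card F = q ^ 2) (hq : q ≠ 2) (hS : HasSoc A (Cfsg.PSU 3 F q)) :
    {M : Subgroup Q | ∃ x, x ∉ A ∧ M = A ⊓ cj x A}.ncard ≤ 2 * Nat.card (Cfsg.PSU 3 F q) ^ 2 := by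
  obtain ⟨p, hp⟩ := CharP.exists F
  have hprime : Fact p.Prime := ⟨CharP.char_is_prime F p⟩
  obtain ⟨m⟩ := Cfsg.Agent.H117.EP.model_PSU (n := 3) hF le_rfl
  have hL : IsSimpleGroup (Cfsg.PSU 3 F q) := S0283.result hF 3 le_rfl (fun h => hq h.2)
  exact (Cfsg.Agent.H957.EP.ncard_le_locK_hasSoc h hS hL (ncomm_of_not_prime hL (not_prime_psu3 hF))
    (Cfsg.Agent.H936.ds_psu hF le_rfl (fun h => hq h.2))).trans
    (ncard_locK_three hg m (KFacts.RgdFiltClass.hasFilt_PSU hF le_rfl))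

/-- **`L₃(q) < L₆(q)`**, `q` odd: `hown` of `H957.EP.row` -/
theorem l3_six_own (hg : Cfsg.Agent.H59.EP.TwoGen.{0}) {Q : Type} [Group Q] [Finite Q] (hs : IsSimpleGroup Q) {A : Subgroup Q} {Γ : Subgroup (MulAut Q)}
    (h : EPT A Γ) {F : Type} [Field F] [Fintype F] (m : Model Q (Cfsg.Geo.specialLinear (Fin 6) F))
    (hodd : Odd (Fintype.card F)) (hS : HasSoc A (Matrix.ProjectiveSpecialLinearGroup (Fin 3) F)) : False :=
  l3_six hs h m hodd hS (r_psl3 hg h hS)

/-- **`U₃(q) < U₆(q)`**, `q` odd: `hown` of `H835.EP.row_of` -/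
theorem u3_six_own (hg : Cfsg.Agent.H59.EP.TwoGen.{0}) {Q : Type} [Group Q] [Finite Q] (hs : IsSimpleGroup Q) {A : Subgroup Q} {Γ : Subgroup (MulAut Q)}
    (h : EPT A Γ) {F : Type} [Field F] [Fintype F] {q : ℕ} (hF : Fintype.card F = q ^ 2) (hodd : Odd q)
    (m : Model Q (Cfsg.GU 6 F q ⊓ Cfsg.Geo.specialLinear (Fin 6) F)) (hS : HasSoc A (Cfsg.PSU 3 F q)) : False :=
  u3_six hs h hF hodd m hS (r_psu3 hg h hF (by rintro rfl; exact absurd hodd (by decide)) hS)

end Cfsg.Agent.H396.EP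
end
end
end
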